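import Mathlib
import Cfsg.Prelude.Def_Blocks

set_option autoImplicit false
set_option linter.unusedSectionVars false

namespace Cfsg.Agent.Helper77

open Cfsg

/-! ### The local ring at `M` inside `ℂ` -/

section basic

variable {M : Ideal AlgInt}

theorem one_notMem (hM : M ≠ ⊤) : (1 : AlgInt) ∉ M := (Ideal.ne_top_iff_one M).mp hM

theorem coe_ne_zero_of_notMem {b : AlgInt} (hb : b ∉ M) : (b : ℂ) ≠ 0 := by
  intro h
  apply hb
  have : b = 0 := Subtype.ext h
  rw [this]
  exact M.zero_mem

theorem memLocalRing_algInt (hM : M ≠ ⊤) (a : AlgInt) : MemLocalRing M (a : ℂ) :=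
  ⟨a, 1, one_notMem hM, by simp⟩

theorem memLocalIdeal_algInt_of_mem (hM : M ≠ ⊤) {a : AlgInt} (ha : a ∈ M) :
    MemLocalIdeal M (a : ℂ) :=
  ⟨a, 1, ha, one_notMem hM, by simp⟩

theorem memLocalRing_of_memLocalIdeal {z : ℂ} (h : MemLocalIdeal M z) : MemLocalRing M z := by
  obtain ⟨a, b, _, hb, rfl⟩ := h
  exact ⟨a, b, hb, rfl⟩

theorem memLocalRing_zero (hM : M ≠ ⊤) : MemLocalRing M 0 := by
  simpa using memLocalRing_algInt hM (0 : AlgInt)

theorem memLocalRing_one (hM : M ≠ ⊤) : MemLocalRing M 1 := by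
  simpa using memLocalRing_algInt hM (1 : AlgInt)

theorem memLocalIdeal_zero (hM : M ≠ ⊤) : MemLocalIdeal M 0 := by
  simpa using memLocalIdeal_algInt_of_mem hM M.zero_mem

end basic

section prime

variable {M : Ideal AlgInt} [hp : M.IsPrime]

theorem memLocalRing_add {z w : ℂ} (hz : MemLocalRing M z) (hw : MemLocalRing M w) :
    MemLocalRing M (z + w) := by
  obtain ⟨a, b, hb, rfl⟩ := hz
  obtain ⟨c, d, hd, rfl⟩ := hw
  refine ⟨a * d + c * b, b * d, fun h => ?_, ?_⟩
  · rcases hp.mem_or_mem h with h | h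
    · exact hb h
    · exact hd h
  · have hb' := coe_ne_zero_of_notMem hb
    have hd' := coe_ne_zero_of_notMem hd
    push_cast
    field_simp

theorem memLocalRing_mul {z w : ℂ} (hz : MemLocalRing M z) (hw : MemLocalRing M w) :
    MemLocalRing M (z * w) := by
  obtain ⟨a, b, hb, rfl⟩ := hz
  obtain ⟨c, d, hd, rfl⟩ := hw
  refine ⟨a * c, b * d, fun h => ?_, ?_⟩
  · rcases hp.mem_or_mem h with h | h
    · exact hb h
    · exact hd h
  · have hb' := coe_ne_zero_of_notMem hb
    have hd' := coe_ne_zero_of_notMem hd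
    push_cast
    field_simp

theorem memLocalRing_neg {z : ℂ} (hz : MemLocalRing M z) : MemLocalRing M (-z) := by
  obtain ⟨a, b, hb, rfl⟩ := hz
  exact ⟨-a, b, hb, by push_cast; ring⟩

theorem memLocalRing_sub {z w : ℂ} (hz : MemLocalRing M z) (hw : MemLocalRing M w) :
    MemLocalRing M (z - w) := by
  rw [sub_eq_add_neg]
  exact memLocalRing_add hz (memLocalRing_neg hw)

theorem memLocalIdeal_add {z w : ℂ} (hz : MemLocalIdeal M z) (hw : MemLocalIdeal M w) :
    MemLocalIdeal M (z + w) := by
  obtain ⟨a, b, ha, hb, rfl⟩ := hz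
  obtain ⟨c, d, hc, hd, rfl⟩ := hw
  refine ⟨a * d + c * b, b * d, ?_, fun h => ?_, ?_⟩
  · exact M.add_mem (M.mul_mem_right _ ha) (M.mul_mem_right _ hc)
  · rcases hp.mem_or_mem h with h | h
    · exact hb h
    · exact hd h
  · have hb' := coe_ne_zero_of_notMem hb
    have hd' := coe_ne_zero_of_notMem hd
    push_cast
    field_simp

theorem memLocalIdeal_neg {z : ℂ} (hz : MemLocalIdeal M z) : MemLocalIdeal M (-z) := by
  obtain ⟨a, b, ha, hb, rfl⟩ := hz
  exact ⟨-a, b, M.neg_mem ha, hb, by push_cast; ring⟩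

theorem memLocalIdeal_sub {z w : ℂ} (hz : MemLocalIdeal M z) (hw : MemLocalIdeal M w) :
    MemLocalIdeal M (z - w) := by
  rw [sub_eq_add_neg]
  exact memLocalIdeal_add hz (memLocalIdeal_neg hw)

theorem memLocalIdeal_mul_left {z w : ℂ} (hz : MemLocalRing M z) (hw : MemLocalIdeal M w) :
    MemLocalIdeal M (z * w) := by
  obtain ⟨a, b, hb, rfl⟩ := hz
  obtain ⟨c, d, hc, hd, rfl⟩ := hw
  refine ⟨a * c, b * d, M.mul_mem_left _ hc, fun h => ?_, ?_⟩
  · rcases hp.mem_or_mem h with h | h
    · exact hb h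
    · exact hd h
  · have hb' := coe_ne_zero_of_notMem hb
    have hd' := coe_ne_zero_of_notMem hd
    push_cast
    field_simp

theorem memLocalIdeal_mul_right {z w : ℂ} (hz : MemLocalIdeal M z) (hw : MemLocalRing M w) :
    MemLocalIdeal M (z * w) := by
  rw [mul_comm]
  exact memLocalIdeal_mul_left hw hz

/-- The local ideal is prime in the local ring. -/
theorem memLocalIdeal_or_of_mul {z w : ℂ} (hz : MemLocalRing M z) (hw : MemLocalRing M w)
    (h : MemLocalIdeal M (z * w)) : MemLocalIdeal M z ∨ MemLocalIdeal M w := by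
  obtain ⟨a, b, hb, rfl⟩ := hz
  obtain ⟨c, d, hd, rfl⟩ := hw
  obtain ⟨x, y, hx, hy, hxy⟩ := h
  have hb' := coe_ne_zero_of_notMem hb
  have hd' := coe_ne_zero_of_notMem hd
  have hy' := coe_ne_zero_of_notMem hy
  have key : (a * c * y : AlgInt) = x * (b * d) := by
    apply Subtype.ext
    push_cast
    field_simp at hxy
    linear_combination -hxy
  have hmem : a * c * y ∈ M := by
    rw [key]
    exact M.mul_mem_right _ hx
  rcases hp.mem_or_mem hmem with h | h
  · rcases hp.mem_or_mem h with h | h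
    · exact Or.inl ⟨a, b, h, hb, rfl⟩
    · exact Or.inr ⟨c, d, h, hd, rfl⟩
  · exact absurd h hy

theorem memLocalIdeal_algInt_iff {a : AlgInt} : MemLocalIdeal M (a : ℂ) ↔ a ∈ M := by
  constructor
  · rintro ⟨x, y, hx, hy, hxy⟩
    have hy' := coe_ne_zero_of_notMem hy
    have key : (a * y : AlgInt) = x := by
      apply Subtype.ext
      push_cast
      field_simp at hxy
      linear_combination -hxy
    have hmem : a * y ∈ M := by rw [key]; exact hx
    rcases hp.mem_or_mem hmem with h | h
    · exact h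
    · exact absurd h hy
  · exact memLocalIdeal_algInt_of_mem hp.ne_top

theorem not_memLocalIdeal_one : ¬ MemLocalIdeal M 1 := by
  intro h
  have : MemLocalIdeal M ((1 : AlgInt) : ℂ) := by simpa using h
  exact one_notMem hp.ne_top (memLocalIdeal_algInt_iff.mp this)

/-- Elements of the local ring outside the local ideal are units of the local ring. -/
theorem memLocalRing_inv {z : ℂ} (hz : MemLocalRing M z) (hz' : ¬ MemLocalIdeal M z) :
    MemLocalRing M z⁻¹ := by
  obtain ⟨a, b, hb, rfl⟩ := hz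
  have ha : a ∉ M := fun ha => hz' ⟨a, b, ha, hb, rfl⟩
  exact ⟨b, a, ha, by rw [inv_div]⟩

theorem not_memLocalIdeal_inv {z : ℂ} (hz : MemLocalRing M z) (hz' : ¬ MemLocalIdeal M z) :
    ¬ MemLocalIdeal M z⁻¹ := by
  intro h
  have hne : z ≠ 0 := by
    rintro rfl
    exact hz' (memLocalIdeal_zero hp.ne_top)
  have : MemLocalIdeal M (z * z⁻¹) := memLocalIdeal_mul_left hz h
  rw [mul_inv_cancel₀ hne] at this
  exact not_memLocalIdeal_one this

theorem not_memLocalIdeal_mul {z w : ℂ} (hz : MemLocalRing M z) (hw : MemLocalRing M w)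
    (hz' : ¬ MemLocalIdeal M z) (hw' : ¬ MemLocalIdeal M w) : ¬ MemLocalIdeal M (z * w) :=
  fun h => (memLocalIdeal_or_of_mul hz hw h).elim hz' hw'

theorem memLocalRing_sum {ι : Type*} (s : Finset ι) (f : ι → ℂ)
    (h : ∀ i ∈ s, MemLocalRing M (f i)) : MemLocalRing M (∑ i ∈ s, f i) := by
  classical
  induction s using Finset.induction_on with
  | empty => simpa using memLocalRing_zero hp.ne_top
  | insert a s ha ih =>
    rw [Finset.sum_insert ha]
    exact memLocalRing_add (h a (Finset.mem_insert_self a s))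
      (ih fun i hi => h i (Finset.mem_insert_of_mem hi))

theorem memLocalIdeal_sum {ι : Type*} (s : Finset ι) (f : ι → ℂ)
    (h : ∀ i ∈ s, MemLocalIdeal M (f i)) : MemLocalIdeal M (∑ i ∈ s, f i) := by
  classical
  induction s using Finset.induction_on with
  | empty => simpa using memLocalIdeal_zero hp.ne_top
  | insert a s ha ih =>
    rw [Finset.sum_insert ha]
    exact memLocalIdeal_add (h a (Finset.mem_insert_self a s))
      (ih fun i hi => h i (Finset.mem_insert_of_mem hi))

theorem memLocalRing_prod {ι : Type*} (s : Finset ι) (f : ι → ℂ)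
    (h : ∀ i ∈ s, MemLocalRing M (f i)) : MemLocalRing M (∏ i ∈ s, f i) := by
  classical
  induction s using Finset.induction_on with
  | empty => simpa using memLocalRing_one hp.ne_top
  | insert a s ha ih =>
    rw [Finset.prod_insert ha]
    exact memLocalRing_mul (h a (Finset.mem_insert_self a s))
      (ih fun i hi => h i (Finset.mem_insert_of_mem hi))

theorem memLocalRing_pow {z : ℂ} (hz : MemLocalRing M z) (n : ℕ) : MemLocalRing M (z ^ n) := by
  induction n with
  | zero => simpa using memLocalRing_one hp.ne_top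
  | succ n ih => rw [pow_succ]; exact memLocalRing_mul ih hz

theorem memLocalRing_natCast (n : ℕ) : MemLocalRing M (n : ℂ) := by
  simpa using memLocalRing_algInt hp.ne_top (n : AlgInt)

theorem memLocalRing_intCast (n : ℤ) : MemLocalRing M (n : ℂ) := by
  simpa using memLocalRing_algInt hp.ne_top (n : AlgInt)

end prime

section modular

variable {p : ℕ} {M : Ideal AlgInt}

theorem isPrime_of_isPModular (hM : IsPModular p M) : M.IsPrime := hM.2.1.isPrime

theorem ne_top_of_isPModular (hM : IsPModular p M) : M ≠ ⊤ := hM.2.1.ne_top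

theorem natCast_mem_iff (hM : IsPModular p M) (n : ℕ) : (n : AlgInt) ∈ M ↔ p ∣ n := by
  constructor
  · intro hn
    by_contra hpn
    have hcop : Nat.Coprime p n := (Nat.Prime.coprime_iff_not_dvd hM.1).mpr hpn
    have h1 : (1 : AlgInt) ∈ M := by
      have hb := Nat.gcd_eq_gcd_ab p n
      rw [hcop] at hb
      have : ((1 : ℕ) : AlgInt) = (p : AlgInt) * ((Nat.gcdA p n : ℤ) : AlgInt) +
          (n : AlgInt) * ((Nat.gcdB p n : ℤ) : AlgInt) := by
        have := congrArg (fun z : ℤ => (z : AlgInt)) hb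
        push_cast at this
        exact_mod_cast this
      rw [Nat.cast_one] at this
      rw [this]
      exact M.add_mem (M.mul_mem_right _ hM.2.2) (M.mul_mem_right _ hn)
    exact one_notMem (ne_top_of_isPModular hM) h1
  · rintro ⟨k, rfl⟩
    push_cast
    exact M.mul_mem_right _ hM.2.2

theorem memLocalIdeal_natCast_iff (hM : IsPModular p M) (n : ℕ) :
    MemLocalIdeal M (n : ℂ) ↔ p ∣ n := by
  have := isPrime_of_isPModular hM
  rw [← natCast_mem_iff hM n, ← memLocalIdeal_algInt_iff]
  simp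

end modular

end Cfsg.Agent.Helper77
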