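import Mathlib
import Cfsg.Prelude.Def_Blocks
import Cfsg.Agent.Lib.Helper77.LocalRing

set_option autoImplicit false
set_option linter.unusedSectionVars false

namespace Cfsg.Agent.Helper77

open Cfsg

section conv

variable {G : Type*} [Group G] [Fintype G]

/-- Convolution of two functions on a finite group (the product of the group algebra). -/
noncomputable def conv (a b : G → ℂ) : G → ℂ := fun g => ∑ x, a x * b (x⁻¹ * g)

/-- The identity of the group algebra. -/
noncomputable def delta : G → ℂ := fun g => by classical exact if g = 1 then 1 else 0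

/-- The class sum of `g` as a function. -/
noncomputable def classInd (g : G) : G → ℂ := fun h => by classical exact if IsConj g h then 1 else 0

theorem isClassFunction_conv {a b : G → ℂ} (ha : IsClassFunction G a) (hb : IsClassFunction G b) :
    IsClassFunction G (conv a b) := by
  intro g h
  unfold conv
  rw [← Equiv.sum_comp (MulAut.conj h).toEquiv]
  refine Finset.sum_congr rfl fun y _ => ?_
  have h1 : a ((MulAut.conj h).toEquiv y) = a y := by
    simpa [MulAut.conj_apply] using ha y h
  have h2 : b (((MulAut.conj h).toEquiv y)⁻¹ * (h * g * h⁻¹)) = b (y⁻¹ * g) := by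
    have : ((MulAut.conj h).toEquiv y)⁻¹ * (h * g * h⁻¹) = h * (y⁻¹ * g) * h⁻¹ := by
      simp [MulAut.conj_apply]; group
    rw [this]
    exact hb _ h
  rw [h1, h2]

theorem isClassFunction_delta : IsClassFunction G (delta : G → ℂ) := by
  classical
  intro g h
  unfold delta
  simp only [conj_eq_one_iff]

theorem isClassFunction_classInd (g : G) : IsClassFunction G (classInd g) := by
  classical
  intro x h
  unfold classInd
  have : IsConj g (h * x * h⁻¹) ↔ IsConj g x := by
    constructor
    · intro hh
      exact hh.trans (isConj_iff.mpr ⟨h, rfl⟩).symm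
    · intro hh
      exact hh.trans (isConj_iff.mpr ⟨h, rfl⟩)
  simp only [this]

theorem isClassFunction_add {a b : G → ℂ} (ha : IsClassFunction G a) (hb : IsClassFunction G b) :
    IsClassFunction G (a + b) := fun g h => by simp [ha g h, hb g h]

theorem isClassFunction_sub {a b : G → ℂ} (ha : IsClassFunction G a) (hb : IsClassFunction G b) :
    IsClassFunction G (a - b) := fun g h => by simp [ha g h, hb g h]

theorem isClassFunction_smul {a : G → ℂ} (c : ℂ) (ha : IsClassFunction G a) :
    IsClassFunction G (c • a) := fun g h => by simp [ha g h]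

end conv

section op

variable {G : Type*} [Group G] [Fintype G] {V : Type*} [AddCommGroup V] [Module ℂ V]

/-- The operator by which the group algebra element with coefficient function `a` acts. -/
noncomputable def opOf (ρ : Representation ℂ G V) (a : G → ℂ) : Module.End ℂ V := ∑ g, a g • ρ g

theorem opOf_conv (ρ : Representation ℂ G V) (a b : G → ℂ) :
    opOf ρ (conv a b) = opOf ρ a * opOf ρ b := by
  unfold opOf conv
  rw [Finset.sum_mul_sum]
  simp_rw [Finset.sum_smul]
  rw [Finset.sum_comm]
  refine Finset.sum_congr rfl fun x _ => ?_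
  rw [← Equiv.sum_comp (Equiv.mulLeft x)]
  refine Finset.sum_congr rfl fun y _ => ?_
  simp only [Equiv.coe_mulLeft, inv_mul_cancel_left, map_mul, mul_smul, smul_mul_assoc,
    mul_smul_comm]
  rw [smul_comm]

theorem opOf_add (ρ : Representation ℂ G V) (a b : G → ℂ) :
    opOf ρ (a + b) = opOf ρ a + opOf ρ b := by
  unfold opOf
  simp [add_smul, Finset.sum_add_distrib]

theorem opOf_sub (ρ : Representation ℂ G V) (a b : G → ℂ) :
    opOf ρ (a - b) = opOf ρ a - opOf ρ b := by
  unfold opOf
  simp [sub_smul, Finset.sum_sub_distrib]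

theorem opOf_smul (ρ : Representation ℂ G V) (c : ℂ) (a : G → ℂ) :
    opOf ρ (c • a) = c • opOf ρ a := by
  unfold opOf
  simp [mul_smul, Finset.smul_sum]

theorem opOf_delta (ρ : Representation ℂ G V) : opOf ρ (delta : G → ℂ) = 1 := by
  classical
  unfold opOf delta
  simp [ite_smul]

theorem opOf_comm (ρ : Representation ℂ G V) {a : G → ℂ} (ha : IsClassFunction G a) (x : G) :
    opOf ρ a ∘ₗ ρ x = ρ x ∘ₗ opOf ρ a := by
  unfold opOf
  ext v
  simp only [LinearMap.coe_comp, Function.comp_apply, LinearMap.coe_sum, Finset.sum_apply,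
    LinearMap.smul_apply, map_sum, map_smul]
  rw [← Equiv.sum_comp (MulAut.conj x).toEquiv]
  refine Finset.sum_congr rfl fun y _ => ?_
  have h1 : a ((MulAut.conj x).toEquiv y) = a y := by
    simpa [MulAut.conj_apply] using ha y x
  rw [h1]
  simp [MulAut.conj_apply, map_mul]

theorem trace_opOf [FiniteDimensional ℂ V] (ρ : Representation ℂ G V) (a : G → ℂ) :
    LinearMap.trace ℂ V (opOf ρ a) = ∑ g, a g * ρ.character g := by
  unfold opOf
  simp [map_sum, Representation.character]

end op

section omegadef

variable {G : Type*} [Group G] [Fintype G] {V : Type*} [AddCommGroup V] [Module ℂ V]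
  [FiniteDimensional ℂ V]

/-- The central character of `χ` evaluated at the central element with coefficient function `a`. -/
noncomputable def omega (χ a : G → ℂ) : ℂ := (∑ g, a g * χ g) / χ 1

theorem omega_add (χ a b : G → ℂ) : omega χ (a + b) = omega χ a + omega χ b := by
  unfold omega
  simp [add_mul, Finset.sum_add_distrib, add_div]

theorem omega_sub (χ a b : G → ℂ) : omega χ (a - b) = omega χ a - omega χ b := by
  unfold omega
  simp [sub_mul, Finset.sum_sub_distrib, sub_div]

theorem omega_smul (χ : G → ℂ) (c : ℂ) (a : G → ℂ) : omega χ (c • a) = c * omega χ a := by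
  unfold omega
  simp [mul_assoc, ← Finset.mul_sum, mul_div_assoc]

theorem omega_delta {χ : G → ℂ} (hχ : χ 1 ≠ 0) : omega χ (delta : G → ℂ) = 1 := by
  classical
  unfold omega delta
  simp [hχ]

theorem card_isConj_eq_index (g : G) :
    Nat.card {h : G // IsConj g h} = (Subgroup.centralizer ({g} : Set G)).index := by
  have h1 := MulAction.index_stabilizer (ConjAct G) g
  have h2 : (Subgroup.centralizer ({g} : Set G)).index
      = (MulAction.stabilizer (ConjAct G) g).index := by
    rw [Subgroup.centralizer_eq_comap_stabilizer]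
    exact Subgroup.index_comap_of_surjective _ (ConjAct.toConjAct (G := G)).surjective
  rw [h2, h1, ← Nat.card_coe_set_eq]
  apply Nat.card_congr
  refine Equiv.subtypeEquivRight fun h => ?_
  rw [ConjAct.mem_orbit_conjAct, isConj_comm]

theorem omega_classInd {χ : G → ℂ} (hχ : IsClassFunction G χ) (g : G) :
    omega χ (classInd g) = centralChar χ g := by
  classical
  unfold omega centralChar classInd
  congr 1
  simp only [ite_mul, one_mul, zero_mul]
  rw [← Finset.sum_filter]
  have : ∀ h ∈ Finset.univ.filter (fun h => IsConj g h), χ h = χ g := by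
    intro h hh
    obtain ⟨c, hc⟩ := isConj_iff.mp (Finset.mem_filter.mp hh).2
    rw [← hc]
    exact hχ g c
  rw [Finset.sum_congr rfl this, Finset.sum_const, nsmul_eq_mul]
  congr 2
  rw [← card_isConj_eq_index, Nat.card_eq_fintype_card, Fintype.card_subtype]

end omegadef

section schur

variable {G : Type*} [Group G] [Fintype G] {V : Type*} [AddCommGroup V] [Module ℂ V]
  [FiniteDimensional ℂ V]

theorem exists_scalar_of_commute (ρ : Representation ℂ G V) [ρ.IsIrreducible]
    (T : Module.End ℂ V) (hT : ∀ g, T ∘ₗ ρ g = ρ g ∘ₗ T) :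
    ∃ c : ℂ, T = c • (1 : Module.End ℂ V) := by
  obtain ⟨c, hc⟩ :=
    (Representation.IsIrreducible.algebraMap_intertwiningMap_bijective_of_isAlgClosed (ρ := ρ)).2
      ⟨T, hT⟩
  refine ⟨c, ?_⟩
  have := congrArg Representation.IntertwiningMap.toLinearMap hc
  simp at this
  rw [← this]
  rfl

theorem nontrivial_of_irreducible (ρ : Representation ℂ G V) [ρ.IsIrreducible] : Nontrivial V := by
  have : IsSimpleModule (MonoidAlgebra ℂ G) ρ.asModule := inferInstance
  exact IsSimpleModule.nontrivial (MonoidAlgebra ℂ G) ρ.asModule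

theorem character_one_ne_zero (ρ : Representation ℂ G V) [ρ.IsIrreducible] :
    ρ.character 1 ≠ 0 := by
  have := nontrivial_of_irreducible ρ
  rw [Representation.char_one]
  have : 0 < Module.finrank ℂ V := Module.finrank_pos
  exact_mod_cast this.ne'

theorem opOf_eq_omega_smul (ρ : Representation ℂ G V) [ρ.IsIrreducible] {a : G → ℂ}
    (ha : IsClassFunction G a) : opOf ρ a = omega ρ.character a • (1 : Module.End ℂ V) := by
  obtain ⟨c, hc⟩ := exists_scalar_of_commute ρ (opOf ρ a) (opOf_comm ρ ha)
  have htr := trace_opOf ρ a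
  rw [hc] at htr
  simp only [map_smul, LinearMap.trace_one, smul_eq_mul] at htr
  have h1 := character_one_ne_zero ρ
  rw [hc]
  congr 1
  unfold omega
  rw [← htr, Representation.char_one]
  rw [Representation.char_one] at h1
  field_simp

theorem omega_conv_of_rep (ρ : Representation ℂ G V) [ρ.IsIrreducible] {a b : G → ℂ}
    (ha : IsClassFunction G a) (hb : IsClassFunction G b) :
    omega ρ.character (conv a b) = omega ρ.character a * omega ρ.character b := by
  have := nontrivial_of_irreducible ρ
  have h := opOf_conv ρ a b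
  rw [opOf_eq_omega_smul ρ (isClassFunction_conv ha hb), opOf_eq_omega_smul ρ ha,
    opOf_eq_omega_smul ρ hb] at h
  simp only [smul_mul_smul_comm, mul_one] at h
  have hinj : Function.Injective (fun c : ℂ => c • (1 : Module.End ℂ V)) := by
    intro c d hcd
    have := (algebraMap ℂ (Module.End ℂ V)).injective
    apply this
    simpa [Algebra.algebraMap_eq_smul_one] using hcd
  exact hinj h

end schur

section integrality

variable {G : Type*} [Group G] [Fintype G] {V : Type*} [AddCommGroup V] [Module ℂ V]
  [FiniteDimensional ℂ V]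

theorem isIntegral_sum_rho (ρ : Representation ℂ G V) (s : Finset G) :
    IsIntegral ℤ (∑ h ∈ s, ρ h) := by
  let S : Subalgebra ℤ (Module.End ℂ V) := Algebra.adjoin ℤ (Set.range ρ)
  have hfg : S.toSubmodule.FG := by
    rw [Algebra.adjoin_eq_span]
    have : (Submonoid.closure (Set.range ρ) : Set (Module.End ℂ V)) = Set.range ρ := by
      rw [← MonoidHom.coe_mrange, Submonoid.closure_eq]
    rw [this]
    exact Submodule.fg_span (Set.finite_range ρ)
  exact IsIntegral.of_mem_of_fg S hfg _
    (Subalgebra.sum_mem _ fun h _ => Algebra.subset_adjoin ⟨h, rfl⟩)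

theorem isIntegral_of_smul_one [Nontrivial V] {c : ℂ}
    (h : IsIntegral ℤ (c • (1 : Module.End ℂ V))) : IsIntegral ℤ c := by
  have hinj : Function.Injective (algebraMap ℂ (Module.End ℂ V)) :=
    (algebraMap ℂ (Module.End ℂ V)).injective
  rw [← isIntegral_algebraMap_iff hinj]
  simpa [Algebra.algebraMap_eq_smul_one] using h

end integrality

section irr

variable {G : Type*} [Group G] [Fintype G]

theorem isClassFunction_of_isIrrCharacter {χ : G → ℂ} (hχ : IsIrrCharacter G χ) :
    IsClassFunction G χ := by
  obtain ⟨n, ρ, _, rfl⟩ := hχ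
  intro g h
  exact Representation.char_conj ρ g h

theorem irrChar_one_ne_zero {χ : G → ℂ} (hχ : IsIrrCharacter G χ) : χ 1 ≠ 0 := by
  obtain ⟨n, ρ, hirr, rfl⟩ := hχ
  have := hirr
  exact character_one_ne_zero ρ

theorem omega_conv {χ : G → ℂ} (hχ : IsIrrCharacter G χ) {a b : G → ℂ}
    (ha : IsClassFunction G a) (hb : IsClassFunction G b) :
    omega χ (conv a b) = omega χ a * omega χ b := by
  obtain ⟨n, ρ, hirr, rfl⟩ := hχ
  have := hirr
  exact omega_conv_of_rep ρ ha hb

theorem omega_delta_of_irr {χ : G → ℂ} (hχ : IsIrrCharacter G χ) :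
    omega χ (delta : G → ℂ) = 1 := omega_delta (irrChar_one_ne_zero hχ)

theorem omega_classInd_of_irr {χ : G → ℂ} (hχ : IsIrrCharacter G χ) (g : G) :
    omega χ (classInd g) = centralChar χ g :=
  omega_classInd (isClassFunction_of_isIrrCharacter hχ) g

/-- The values of the central character of an irreducible character are algebraic integers. -/
theorem centralChar_isIntegral {χ : G → ℂ} (hχ : IsIrrCharacter G χ) (g : G) :
    IsIntegral ℤ (centralChar χ g) := by
  classical
  have hcl := isClassFunction_of_isIrrCharacter hχ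
  obtain ⟨n, ρ, hirr, rfl⟩ := hχ
  have := hirr
  have := nontrivial_of_irreducible ρ
  have h1 := opOf_eq_omega_smul ρ (isClassFunction_classInd g)
  rw [omega_classInd hcl g] at h1
  apply isIntegral_of_smul_one (V := Fin n → ℂ)
  rw [← h1]
  have : opOf ρ (classInd g) = ∑ h ∈ Finset.univ.filter (fun h => IsConj g h), ρ h := by
    unfold opOf classInd
    rw [Finset.sum_filter]
    refine Finset.sum_congr rfl fun h _ => ?_
    split_ifs <;> simp
  rw [this]
  exact isIntegral_sum_rho ρ _

theorem centralChar_mem_algInt {χ : G → ℂ} (hχ : IsIrrCharacter G χ) (g : G) :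
    centralChar χ g ∈ AlgInt := centralChar_isIntegral hχ g

end irr

end Cfsg.Agent.Helper77
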