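import Mathlib
import Cfsg.Prelude.Def_Blocks
import Cfsg.Agent.Lib.Helper77.LocalRing
import Cfsg.Agent.Lib.Helper77.CentralChar
import Cfsg.Agent.Lib.Helper79.Orthogonality

set_option autoImplicit false
set_option linter.unusedSectionVars false
set_option linter.style.haveILetI false

namespace Cfsg.Agent.Helper77

open Cfsg
open Cfsg.Agent.Helper79
open scoped ComplexConjugate

universe u

/-! ### `SameBlock` is an equivalence relation -/

section sameblock

variable {G : Type u} [Group G] {M : Ideal AlgInt} [hp : M.IsPrime]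

theorem sameBlock_refl (χ : G → ℂ) : SameBlock M χ χ := fun g => by
  simpa using memLocalIdeal_zero (M := M) hp.ne_top

theorem sameBlock_symm {χ ψ : G → ℂ} (h : SameBlock M χ ψ) : SameBlock M ψ χ := fun g => by
  have := memLocalIdeal_neg (h g)
  simpa using this

theorem sameBlock_trans {χ ψ φ : G → ℂ} (h1 : SameBlock M χ ψ) (h2 : SameBlock M ψ φ) :
    SameBlock M χ φ := fun g => by
  have := memLocalIdeal_add (h1 g) (h2 g)
  simpa using this

theorem mem_blockOf_self (χ : IrrCharacter G) : χ ∈ blockOf M (χ : G → ℂ) :=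
  sameBlock_refl _

theorem blockOf_eq_of_sameBlock {χ ψ : G → ℂ} (h : SameBlock M χ ψ) :
    blockOf M ψ = blockOf M χ := by
  ext φ
  exact ⟨fun h' => sameBlock_trans h h', fun h' => sameBlock_trans (sameBlock_symm h) h'⟩

theorem eq_blockOf_of_mem {B : Set (IrrCharacter G)} (hB : IsPBlock M B) {χ : IrrCharacter G}
    (hχ : χ ∈ B) : B = blockOf M (χ : G → ℂ) := by
  obtain ⟨χ₀, rfl⟩ := hB
  exact (blockOf_eq_of_sameBlock hχ).symm

theorem sameBlock_of_mem {B : Set (IrrCharacter G)} (hB : IsPBlock M B) {χ ψ : IrrCharacter G}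
    (hχ : χ ∈ B) (hψ : ψ ∈ B) : SameBlock M (χ : G → ℂ) (ψ : G → ℂ) := by
  rw [eq_blockOf_of_mem hB hχ] at hψ
  exact hψ

theorem mem_of_sameBlock {B : Set (IrrCharacter G)} (hB : IsPBlock M B) {χ ψ : IrrCharacter G}
    (hχ : χ ∈ B) (h : SameBlock M (χ : G → ℂ) (ψ : G → ℂ)) : ψ ∈ B := by
  rw [eq_blockOf_of_mem hB hχ]
  exact h

theorem nonempty_of_isPBlock {B : Set (IrrCharacter G)} (hB : IsPBlock M B) : B.Nonempty := by
  obtain ⟨χ₀, rfl⟩ := hB
  exact ⟨χ₀, mem_blockOf_self χ₀⟩

theorem isPBlock_blockOf (χ : IrrCharacter G) : IsPBlock M (blockOf M (χ : G → ℂ)) := ⟨χ, rfl⟩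

theorem eq_of_isPBlock_of_mem {B B' : Set (IrrCharacter G)} (hB : IsPBlock M B)
    (hB' : IsPBlock M B') {χ : IrrCharacter G} (hχ : χ ∈ B) (hχ' : χ ∈ B') : B = B' := by
  rw [eq_blockOf_of_mem hB hχ, eq_blockOf_of_mem hB' hχ']

end sameblock



section rvalued

variable {G : Type u} [Group G] [Fintype G] {M : Ideal AlgInt} [hp : M.IsPrime]

/-- All values of `a` lie in the local ring at `M`. -/
def IsRValued (M : Ideal AlgInt) (a : G → ℂ) : Prop := ∀ g, MemLocalRing M (a g)

theorem isRValued_conv {a b : G → ℂ} (ha : IsRValued M a) (hb : IsRValued M b) :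
    IsRValued M (conv a b) := fun g =>
  memLocalRing_sum _ _ fun x _ => memLocalRing_mul (ha x) (hb _)

theorem isRValued_add {a b : G → ℂ} (ha : IsRValued M a) (hb : IsRValued M b) :
    IsRValued M (a + b) := fun g => memLocalRing_add (ha g) (hb g)

theorem isRValued_sub {a b : G → ℂ} (ha : IsRValued M a) (hb : IsRValued M b) :
    IsRValued M (a - b) := fun g => memLocalRing_sub (ha g) (hb g)

theorem isRValued_smul {c : ℂ} {a : G → ℂ} (hc : MemLocalRing M c) (ha : IsRValued M a) :
    IsRValued M (c • a) := fun g => memLocalRing_mul hc (ha g)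

theorem isRValued_delta : IsRValued M (delta : G → ℂ) := fun g => by
  classical
  unfold delta
  split_ifs
  · exact memLocalRing_one hp.ne_top
  · exact memLocalRing_zero hp.ne_top

theorem isRValued_classInd (x : G) : IsRValued M (classInd x) := fun g => by
  classical
  unfold classInd
  split_ifs
  · exact memLocalRing_one hp.ne_top
  · exact memLocalRing_zero hp.ne_top

/-- Iterated convolution of a list of functions. -/
noncomputable def convList : List (G → ℂ) → (G → ℂ)
  | [] => delta
  | a :: l => conv a (convList l)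

theorem isClassFunction_convList (l : List (G → ℂ)) (h : ∀ a ∈ l, IsClassFunction G a) :
    IsClassFunction G (convList l) := by
  induction l with
  | nil => exact isClassFunction_delta
  | cons a l ih =>
    exact isClassFunction_conv (h a (List.mem_cons_self)) (ih fun b hb => h b (List.mem_cons_of_mem _ hb))

theorem isRValued_convList (l : List (G → ℂ)) (h : ∀ a ∈ l, IsRValued M a) :
    IsRValued M (convList l) := by
  induction l with
  | nil => exact isRValued_delta
  | cons a l ih =>
    exact isRValued_conv (h a (List.mem_cons_self)) (ih fun b hb => h b (List.mem_cons_of_mem _ hb))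

theorem omega_convList {χ : G → ℂ} (hχ : IsIrrCharacter G χ) (l : List (G → ℂ))
    (h : ∀ a ∈ l, IsClassFunction G a) :
    omega χ (convList l) = (l.map (omega χ)).prod := by
  induction l with
  | nil => simpa [convList] using omega_delta_of_irr hχ
  | cons a l ih =>
    have hl : ∀ b ∈ l, IsClassFunction G b := fun b hb => h b (List.mem_cons_of_mem _ hb)
    simp only [convList, List.map_cons, List.prod_cons]
    rw [omega_conv hχ (h a (List.mem_cons_self)) (isClassFunction_convList l hl), ih hl]

end rvalued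



section classes

variable {G : Type u} [Group G] [Fintype G]

theorem mk_out_conjClasses (K : ConjClasses G) : ConjClasses.mk (Quotient.out K) = K := by
  rw [← ConjClasses.quotient_mk_eq_mk]
  exact Quotient.out_eq K

theorem sum_eq_sum_conjClasses [Fintype (ConjClasses G)] (f : G → ℂ)
    (hf : IsClassFunction G f) :
    ∑ g, f g = ∑ K : ConjClasses G,
      ((Subgroup.centralizer ({Quotient.out K} : Set G)).index : ℂ) * f (Quotient.out K) := by
  classical
  rw [← Finset.sum_fiberwise (s := Finset.univ) (g := ConjClasses.mk) (f := f)]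
  refine Finset.sum_congr rfl fun K _ => ?_
  have hconst : ∀ i ∈ Finset.univ.filter (fun i : G => ConjClasses.mk i = K),
      f i = f (Quotient.out K) := by
    intro i hi
    have h1 : ConjClasses.mk i = ConjClasses.mk (Quotient.out K) := by
      rw [mk_out_conjClasses]; exact (Finset.mem_filter.mp hi).2
    obtain ⟨c, hc⟩ := isConj_iff.mp (ConjClasses.mk_eq_mk_iff_isConj.mp h1)
    rw [← hc]
    exact (hf i c).symm
  rw [Finset.sum_congr rfl hconst, Finset.sum_const, nsmul_eq_mul]
  congr 2
  rw [← card_isConj_eq_index, Nat.card_eq_fintype_card, Fintype.card_subtype]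
  congr 1
  ext i
  simp only [Finset.mem_filter, Finset.mem_univ, true_and]
  rw [← ConjClasses.mk_eq_mk_iff_isConj, mk_out_conjClasses, eq_comm]

theorem omega_eq_sum_conjClasses [Fintype (ConjClasses G)] {χ a : G → ℂ}
    (hχ : IsClassFunction G χ) (ha : IsClassFunction G a) :
    omega χ a = ∑ K : ConjClasses G, a (Quotient.out K) * centralChar χ (Quotient.out K) := by
  unfold omega
  rw [sum_eq_sum_conjClasses (fun g => a g * χ g) (fun g h => by simp only [ha g h, hχ g h]),
    Finset.sum_div]
  refine Finset.sum_congr rfl fun K _ => ?_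
  unfold centralChar
  ring

end classes



section bc

variable {G : Type u} [Group G] [Fintype G]

/-- `blockCoeff` as a finite sum over a finset version of `B`. -/
theorem blockCoeff_eq_sum (B : Set (IrrCharacter G)) (g : G) :
    blockCoeff B g = (Nat.card G : ℂ)⁻¹ *
      ∑ ψ ∈ (Set.toFinite B).toFinset, (ψ : G → ℂ) 1 * conj ((ψ : G → ℂ) g) := by
  unfold blockCoeff
  rw [finsum_mem_eq_finite_toFinset_sum _ (Set.toFinite B)]

theorem isClassFunction_blockCoeff (B : Set (IrrCharacter G)) :
    IsClassFunction G (blockCoeff B) := by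
  intro g h
  rw [blockCoeff_eq_sum, blockCoeff_eq_sum]
  congr 1
  refine Finset.sum_congr rfl fun ψ _ => ?_
  rw [irr_class]

theorem omega_blockCoeff (B : Set (IrrCharacter G)) (χ : IrrCharacter G) :
    omega (χ : G → ℂ) (blockCoeff B) = by classical exact if χ ∈ B then 1 else 0 := by
  classical
  unfold omega
  have h1 : ∑ g, blockCoeff B g * (χ : G → ℂ) g =
      ∑ ψ ∈ (Set.toFinite B).toFinset, (ψ : G → ℂ) 1 * pair (χ : G → ℂ) (ψ : G → ℂ) := by
    simp_rw [blockCoeff_eq_sum, pair, Finset.mul_sum, Finset.sum_mul]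
    rw [Finset.sum_comm]
    refine Finset.sum_congr rfl fun ψ _ => ?_
    refine Finset.sum_congr rfl fun g _ => ?_
    rw [irr_inv]
    ring
  rw [h1]
  simp_rw [irr_orthonormal]
  have hχ := irr_one_ne_zero χ
  by_cases hB : χ ∈ B
  · rw [if_pos hB, Finset.sum_eq_single χ]
    · simp [hχ]
    · intro ψ _ hne
      rw [if_neg (Ne.symm hne), mul_zero]
    · intro hn
      exact absurd ((Set.Finite.mem_toFinset _).mpr hB) hn
  · rw [if_neg hB, Finset.sum_eq_zero, zero_div]
    intro ψ hψ
    have : χ ≠ ψ := by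
      rintro rfl
      exact hB ((Set.Finite.mem_toFinset _).mp hψ)
    rw [if_neg this, mul_zero]

/-- A class function is determined by its central character values. -/
theorem eq_of_omega_eq {a b : G → ℂ} (ha : IsClassFunction G a) (hb : IsClassFunction G b)
    (h : ∀ χ : IrrCharacter G, omega (χ : G → ℂ) a = omega (χ : G → ℂ) b) : a = b := by
  rw [← sub_eq_zero]
  apply classfun_eq_zero
  · exact isClassFunction_sub ha hb
  · intro χ
    have := h χ
    unfold omega at this
    have hχ := irr_one_ne_zero χ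
    rw [div_left_inj' hχ] at this
    simp only [Pi.sub_apply, sub_mul, Finset.sum_sub_distrib, this, sub_self]

end bc




section integral

variable {G : Type u} [Group G] [Fintype G] {M : Ideal AlgInt} [hp : M.IsPrime]

theorem memLocalRing_centralChar {χ : G → ℂ} (hχ : IsIrrCharacter G χ) (g : G) :
    MemLocalRing M (centralChar χ g) := by
  have := centralChar_mem_algInt hχ g
  simpa using memLocalRing_algInt hp.ne_top (⟨_, this⟩ : AlgInt)

theorem memLocalRing_omega {χ a : G → ℂ} (hχ : IsIrrCharacter G χ) (ha : IsClassFunction G a)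
    (hR : IsRValued M a) : MemLocalRing M (omega χ a) := by
  classical
  haveI : Fintype (ConjClasses G) := Fintype.ofFinite _
  rw [omega_eq_sum_conjClasses (isClassFunction_of_isIrrCharacter hχ) ha]
  exact memLocalRing_sum _ _ fun K _ => memLocalRing_mul (hR _) (memLocalRing_centralChar hχ _)

theorem memLocalIdeal_omega_sub {χ ψ a : G → ℂ} (hχ : IsIrrCharacter G χ)
    (hψ : IsIrrCharacter G ψ) (h : SameBlock M χ ψ) (ha : IsClassFunction G a)
    (hR : IsRValued M a) : MemLocalIdeal M (omega χ a - omega ψ a) := by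
  classical
  haveI : Fintype (ConjClasses G) := Fintype.ofFinite _
  rw [omega_eq_sum_conjClasses (isClassFunction_of_isIrrCharacter hχ) ha,
    omega_eq_sum_conjClasses (isClassFunction_of_isIrrCharacter hψ) ha, ← Finset.sum_sub_distrib]
  refine memLocalIdeal_sum _ _ fun K _ => ?_
  rw [← mul_sub]
  exact memLocalIdeal_mul_left (hR _) (h _)

theorem exists_of_not_memLocalIdeal_omega {χ a : G → ℂ} (hχ : IsIrrCharacter G χ)
    (ha : IsClassFunction G a) (hR : IsRValued M a) (h : ¬ MemLocalIdeal M (omega χ a)) :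
    ∃ g, ¬ MemLocalIdeal M (a g) ∧ ¬ MemLocalIdeal M (centralChar χ g) := by
  classical
  haveI : Fintype (ConjClasses G) := Fintype.ofFinite _
  by_contra hcon
  push Not at hcon
  apply h
  rw [omega_eq_sum_conjClasses (isClassFunction_of_isIrrCharacter hχ) ha]
  refine memLocalIdeal_sum _ _ fun K _ => ?_
  by_cases h1 : MemLocalIdeal M (a (Quotient.out K))
  · exact memLocalIdeal_mul_right h1 (memLocalRing_centralChar hχ _)
  · exact memLocalIdeal_mul_left (hR _) (hcon _ h1)

theorem not_memLocalIdeal_prod {ι : Type*} (s : Finset ι) (f : ι → ℂ)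
    (h : ∀ i ∈ s, MemLocalRing M (f i) ∧ ¬ MemLocalIdeal M (f i)) :
    ¬ MemLocalIdeal M (∏ i ∈ s, f i) := by
  classical
  induction s using Finset.induction_on with
  | empty => simpa using not_memLocalIdeal_one (M := M)
  | insert a s ha ih =>
    rw [Finset.prod_insert ha]
    have hs : ∀ i ∈ s, MemLocalRing M (f i) ∧ ¬ MemLocalIdeal M (f i) :=
      fun i hi => h i (Finset.mem_insert_of_mem hi)
    exact not_memLocalIdeal_mul (h a (Finset.mem_insert_self a s)).1
      (memLocalRing_prod _ _ fun i hi => (hs i hi).1)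
      (h a (Finset.mem_insert_self a s)).2 (ih hs)

end integral




section ft1

variable {G : Type u} [Group G] [Fintype G] {M : Ideal AlgInt} [hp : M.IsPrime]

/-- Key separation fact: for `χ ∈ B` and `ψ ∉ B` with `g` separating `χ₀ ∈ B` from `ψ`. -/
theorem sep_factor {B : Set (IrrCharacter G)} (hB : IsPBlock M B) {χ₀ χ ψ : IrrCharacter G}
    (hχ₀ : χ₀ ∈ B) (hχ : χ ∈ B) {g : G}
    (hg : ¬ MemLocalIdeal M (centralChar (χ₀ : G → ℂ) g - centralChar (ψ : G → ℂ) g)) :
    MemLocalRing M (centralChar (χ : G → ℂ) g - centralChar (ψ : G → ℂ) g) ∧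
      ¬ MemLocalIdeal M (centralChar (χ : G → ℂ) g - centralChar (ψ : G → ℂ) g) := by
  refine ⟨memLocalRing_sub (memLocalRing_centralChar χ.2 g) (memLocalRing_centralChar ψ.2 g), ?_⟩
  intro h
  apply hg
  have h1 : MemLocalIdeal M (centralChar (χ₀ : G → ℂ) g - centralChar (χ : G → ℂ) g) :=
    sameBlock_of_mem hB hχ₀ hχ g
  have := memLocalIdeal_add h1 h
  simpa using this

/-- **Fundamental theorem**: the idempotent of a block has coefficients in the local ring. -/
theorem exists_blockIdem {B : Set (IrrCharacter G)} (hB : IsPBlock M B) :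
    ∃ w : G → ℂ, IsClassFunction G w ∧ IsRValued M w ∧
      ∀ χ : IrrCharacter G, omega (χ : G → ℂ) w = by classical exact if χ ∈ B then 1 else 0 := by
  classical
  obtain ⟨χ₀, hχ₀⟩ := nonempty_of_isPBlock hB
  -- separating elements
  have hsep : ∀ ψ : IrrCharacter G, ψ ∉ B →
      ∃ g : G, ¬ MemLocalIdeal M (centralChar (χ₀ : G → ℂ) g - centralChar (ψ : G → ℂ) g) := by
    intro ψ hψ
    by_contra hcon
    push Not at hcon
    exact hψ (mem_of_sameBlock hB hχ₀ hcon)
  choose! gsel hgsel using hsep
  let S : Finset (IrrCharacter G) := Finset.univ.filter (fun ψ => ψ ∉ B)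
  let fac : IrrCharacter G → (G → ℂ) := fun ψ =>
    classInd (gsel ψ) - (centralChar (ψ : G → ℂ) (gsel ψ)) • (delta : G → ℂ)
  let z₀ : G → ℂ := convList (S.toList.map fac)
  have hfac_cl : ∀ ψ, IsClassFunction G (fac ψ) := fun ψ =>
    isClassFunction_sub (isClassFunction_classInd _) (isClassFunction_smul _ isClassFunction_delta)
  have hfac_R : ∀ ψ, IsRValued M (fac ψ) := fun ψ =>
    isRValued_sub (isRValued_classInd _)
      (isRValued_smul (memLocalRing_centralChar ψ.2 _) isRValued_delta)
  have hz₀_cl : IsClassFunction G z₀ := isClassFunction_convList _ (by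
    intro a ha
    obtain ⟨ψ, _, rfl⟩ := List.mem_map.mp ha
    exact hfac_cl ψ)
  have hz₀_R : IsRValued M z₀ := isRValued_convList _ (by
    intro a ha
    obtain ⟨ψ, _, rfl⟩ := List.mem_map.mp ha
    exact hfac_R ψ)
  have homega_fac : ∀ (χ ψ : IrrCharacter G), omega (χ : G → ℂ) (fac ψ) =
      centralChar (χ : G → ℂ) (gsel ψ) - centralChar (ψ : G → ℂ) (gsel ψ) := by
    intro χ ψ
    simp only [fac]
    rw [omega_sub, omega_smul, omega_classInd_of_irr χ.2, omega_delta_of_irr χ.2, mul_one]
  have hz₀ : ∀ χ : IrrCharacter G, omega (χ : G → ℂ) z₀ =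
      ∏ ψ ∈ S, (centralChar (χ : G → ℂ) (gsel ψ) - centralChar (ψ : G → ℂ) (gsel ψ)) := by
    intro χ
    simp only [z₀]
    rw [omega_convList χ.2 _ (by
      intro a ha
      obtain ⟨ψ, _, rfl⟩ := List.mem_map.mp ha
      exact hfac_cl ψ), List.map_map, Finset.prod_map_toList]
    refine Finset.prod_congr rfl fun ψ _ => ?_
    exact homega_fac χ ψ
  have hz₀_out : ∀ χ : IrrCharacter G, χ ∉ B → omega (χ : G → ℂ) z₀ = 0 := by
    intro χ hχ
    rw [hz₀ χ]
    exact Finset.prod_eq_zero (Finset.mem_filter.mpr ⟨Finset.mem_univ _, hχ⟩) (sub_self _)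
  have hz₀_in : ∀ χ : IrrCharacter G, χ ∈ B → MemLocalRing M (omega (χ : G → ℂ) z₀) ∧
      ¬ MemLocalIdeal M (omega (χ : G → ℂ) z₀) := by
    intro χ hχ
    rw [hz₀ χ]
    have hall : ∀ ψ ∈ S,
        MemLocalRing M (centralChar (χ : G → ℂ) (gsel ψ) - centralChar (ψ : G → ℂ) (gsel ψ)) ∧
        ¬ MemLocalIdeal M
          (centralChar (χ : G → ℂ) (gsel ψ) - centralChar (ψ : G → ℂ) (gsel ψ)) := by
      intro ψ hψ
      exact sep_factor hB hχ₀ hχ (hgsel ψ (Finset.mem_filter.mp hψ).2)
    exact ⟨memLocalRing_prod _ _ fun ψ hψ => (hall ψ hψ).1, not_memLocalIdeal_prod _ _ hall⟩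
  -- second step
  let T : Finset (IrrCharacter G) := Finset.univ.filter (fun χ => χ ∈ B)
  let fac2 : IrrCharacter G → (G → ℂ) := fun χ =>
    (delta : G → ℂ) - (omega (χ : G → ℂ) z₀)⁻¹ • z₀
  have hfac2_cl : ∀ χ, IsClassFunction G (fac2 χ) := fun χ =>
    isClassFunction_sub isClassFunction_delta (isClassFunction_smul _ hz₀_cl)
  have hfac2_R : ∀ χ ∈ T, IsRValued M (fac2 χ) := fun χ hχ =>
    isRValued_sub isRValued_delta
      (isRValued_smul (memLocalRing_inv (hz₀_in χ (Finset.mem_filter.mp hχ).2).1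
        (hz₀_in χ (Finset.mem_filter.mp hχ).2).2) hz₀_R)
  let w : G → ℂ := (delta : G → ℂ) - convList (T.toList.map fac2)
  have hlist_cl : ∀ a ∈ T.toList.map fac2, IsClassFunction G a := by
    intro a ha
    obtain ⟨χ, _, rfl⟩ := List.mem_map.mp ha
    exact hfac2_cl χ
  refine ⟨w, isClassFunction_sub isClassFunction_delta (isClassFunction_convList _ hlist_cl),
    isRValued_sub isRValued_delta (isRValued_convList _ ?_), ?_⟩
  · intro a ha
    obtain ⟨χ, hχ, rfl⟩ := List.mem_map.mp ha
    exact hfac2_R χ (Finset.mem_toList.mp hχ)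
  · intro χ'
    simp only [w]
    rw [omega_sub, omega_delta_of_irr χ'.2, omega_convList χ'.2 _ hlist_cl, List.map_map,
      Finset.prod_map_toList]
    have hfac2 : ∀ χ : IrrCharacter G, (omega (χ' : G → ℂ) ∘ fac2) χ =
        1 - (omega (χ : G → ℂ) z₀)⁻¹ * omega (χ' : G → ℂ) z₀ := by
      intro χ
      simp only [Function.comp_apply, fac2]
      rw [omega_sub, omega_smul, omega_delta_of_irr χ'.2]
    simp_rw [hfac2]
    by_cases hχ' : χ' ∈ B
    · rw [if_pos hχ']
      have hne : omega (χ' : G → ℂ) z₀ ≠ 0 := by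
        intro h0
        apply (hz₀_in χ' hχ').2
        rw [h0]
        exact memLocalIdeal_zero hp.ne_top
      rw [Finset.prod_eq_zero (i := χ') (Finset.mem_filter.mpr ⟨Finset.mem_univ _, hχ'⟩)
        (by rw [inv_mul_cancel₀ hne, sub_self])]
      simp
    · rw [if_neg hχ', hz₀_out χ' hχ']
      simp

end ft1




section cor

variable {G : Type u} [Group G] [Fintype G] {M : Ideal AlgInt} [hp : M.IsPrime]

theorem isRValued_blockCoeff {B : Set (IrrCharacter G)} (hB : IsPBlock M B) :
    IsRValued M (blockCoeff B) := by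
  obtain ⟨w, hw_cl, hw_R, hw⟩ := exists_blockIdem hB
  have : w = blockCoeff B := by
    apply eq_of_omega_eq hw_cl (isClassFunction_blockCoeff B)
    intro χ
    rw [hw χ, omega_blockCoeff]
  rw [← this]
  exact hw_R

/-- The coefficients of the block idempotent lie in the local ring. -/
theorem memLocalRing_blockCoeff {B : Set (IrrCharacter G)} (hB : IsPBlock M B) (g : G) :
    MemLocalRing M (blockCoeff B g) := isRValued_blockCoeff hB g

/-- Every block has a defect class. -/
theorem exists_isDefectClass {B : Set (IrrCharacter G)} (hB : IsPBlock M B) :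
    ∃ g : G, IsDefectClass M B g := by
  classical
  obtain ⟨χ, hχ⟩ := nonempty_of_isPBlock hB
  have h1 : ¬ MemLocalIdeal M (omega (χ : G → ℂ) (blockCoeff B)) := by
    rw [omega_blockCoeff, if_pos hχ]
    exact not_memLocalIdeal_one
  obtain ⟨g, hg1, hg2⟩ := exists_of_not_memLocalIdeal_omega χ.2 (isClassFunction_blockCoeff B)
    (isRValued_blockCoeff hB) h1
  refine ⟨g, memLocalRing_blockCoeff hB g, hg1, ?_⟩
  intro ψ hψ hcon
  apply hg2
  have := memLocalIdeal_add (sameBlock_of_mem hB hχ hψ g) hcon
  simpa using this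

/-- Every block has a defect group. -/
theorem exists_isDefectGroup (p : ℕ) [Fact p.Prime] {B : Set (IrrCharacter G)}
    (hB : IsPBlock M B) : ∃ D : Subgroup G, IsDefectGroup p M B D := by
  obtain ⟨g, hg⟩ := exists_isDefectClass hB
  obtain ⟨P⟩ : Nonempty (Sylow p (Subgroup.centralizer ({g} : Set G))) := inferInstance
  exact ⟨_, g, hg, P, rfl⟩

end cor


end Cfsg.Agent.Helper77
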