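import Mathlib
import Cfsg.Prelude.Def_Blocks
import Cfsg.Agent.Lib.Helper77.BlockIdem

set_option autoImplicit false
set_option linter.unusedSectionVars false
set_option linter.style.haveILetI false

namespace Cfsg.Agent.Helper77

open Cfsg
open Cfsg.Agent.Helper79
open scoped ComplexConjugate

universe u

section trivialChar

variable {G : Type u} [Group G]

/-- The trivial character is irreducible. -/
theorem isIrrCharacter_const_one : IsIrrCharacter G (fun _ => (1 : ℂ)) := by
  refine ⟨1, (1 : Representation ℂ G (Fin 1 → ℂ)), ?_, ?_⟩
  · refine { exists_pair_ne := ⟨⊥, ⊤, ?_⟩, eq_bot_or_eq_top := ?_ }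
    · intro h
      have h1 : (fun _ => (1 : ℂ)) ∈
          (⊤ : Subrepresentation (1 : Representation ℂ G (Fin 1 → ℂ))) := Submodule.mem_top
      rw [← h] at h1
      have h2 : (fun _ : Fin 1 => (1 : ℂ)) = 0 := (Submodule.mem_bot ℂ).1 h1
      have := congrFun h2 0
      simp at this
    · intro σ
      by_cases hσ : ∀ v ∈ σ, v = 0
      · left
        apply Subrepresentation.toSubmodule_injective
        exact (Submodule.eq_bot_iff _).2 hσ
      · right
        push Not at hσ
        obtain ⟨v, hvσ, hv0⟩ := hσ
        have hv : v 0 ≠ 0 := by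
          intro h0
          apply hv0
          funext i
          rw [Subsingleton.elim i 0, h0]; rfl
        apply Subrepresentation.toSubmodule_injective
        refine (Submodule.eq_top_iff').2 fun w => ?_
        have : w = (w 0 / v 0) • v := by
          funext i
          rw [Subsingleton.elim i 0]
          simp [hv]
        rw [this]
        exact σ.toSubmodule.smul_mem _ hvσ
  · funext g
    simp [Representation.character]

/-- The trivial character as an element of `IrrCharacter G`. -/
noncomputable def trivIrr (G : Type u) [Group G] : IrrCharacter G :=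
  ⟨fun _ => 1, isIrrCharacter_const_one⟩

theorem trivIrr_apply (g : G) : (trivIrr G : G → ℂ) g = 1 := rfl

theorem principalBlock_eq (M : Ideal AlgInt) :
    principalBlock M G = blockOf M ((trivIrr G : IrrCharacter G) : G → ℂ) := rfl

theorem isPBlock_principalBlock (M : Ideal AlgInt) : IsPBlock M (principalBlock M G) :=
  ⟨trivIrr G, rfl⟩

theorem trivIrr_mem_principalBlock (M : Ideal AlgInt) [M.IsPrime] :
    trivIrr G ∈ principalBlock M G := mem_blockOf_self (trivIrr G)

theorem centralChar_trivIrr (g : G) :
    centralChar ((trivIrr G : IrrCharacter G) : G → ℂ) g =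
      ((Subgroup.centralizer ({g} : Set G)).index : ℂ) := by
  unfold centralChar
  simp [trivIrr_apply]

end trivialChar

section conjinv

variable {G : Type u} [Group G] [Fintype G]

theorem classInd_conj (g x : G) : classInd (x * g * x⁻¹) = classInd g := by
  classical
  funext h
  unfold classInd
  have : IsConj (x * g * x⁻¹) h ↔ IsConj g h := by
    constructor
    · intro hh
      exact (isConj_iff.mpr ⟨x, rfl⟩).trans hh
    · intro hh
      exact (isConj_iff.mpr ⟨x, rfl⟩).symm.trans hh
  simp only [this]

theorem centralChar_conj {χ : G → ℂ} (hχ : IsClassFunction G χ) (g x : G) :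
    centralChar χ (x * g * x⁻¹) = centralChar χ g := by
  rw [← omega_classInd hχ, ← omega_classInd hχ, classInd_conj]

theorem isDefectClass_conj {M : Ideal AlgInt} {B : Set (IrrCharacter G)} {g : G}
    (h : IsDefectClass M B g) (x : G) : IsDefectClass M B (x * g * x⁻¹) := by
  obtain ⟨h1, h2, h3⟩ := h
  have hbc : blockCoeff B (x * g * x⁻¹) = blockCoeff B g := isClassFunction_blockCoeff B g x
  refine ⟨by rwa [hbc], by rwa [hbc], fun χ hχ => ?_⟩
  rw [centralChar_conj (isClassFunction_of_isIrrCharacter χ.2)]
  exact h3 χ hχ

end conjinv

end Cfsg.Agent.Helper77
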