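import Mathlib
import Cfsg.Prelude.Def_Blocks
import Cfsg.Prelude.Def_BrauerPairs
import Cfsg.Agent.Lib.Helper77.BlockIdem

set_option autoImplicit false
set_option linter.unusedSectionVars false
set_option linter.style.haveILetI false

namespace Cfsg.Agent.Helper77

open Cfsg
open Cfsg.Agent.Helper79
open scoped ComplexConjugate

universe u


section orbitsum

variable {p : ℕ} {M : Ideal AlgInt}

/-- A `p`-group acting without fixed points: the sum of an invariant function with values in the
local ring is divisible by `p` in the local ring. -/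
theorem memLocalRing_sum_div_of_no_fixedPoints (hM : IsPModular p M) {P : Type*} [Group P]
    [Finite P] (hP : IsPGroup p P) {X : Type*} [Fintype X] [MulAction P X]
    (hfix : ∀ x : X, ∃ u : P, u • x ≠ x) (φ : X → ℂ) (hφ : ∀ (u : P) (x : X), φ (u • x) = φ x)
    (hR : ∀ x, MemLocalRing M (φ x)) : MemLocalRing M ((∑ x, φ x) / (p : ℂ)) := by
  classical
  haveI := isPrime_of_isPModular hM
  haveI : Fact p.Prime := ⟨hM.1⟩
  haveI : Fintype (MulAction.orbitRel.Quotient P X) := Fintype.ofFinite _
  have hp0 : (p : ℂ) ≠ 0 := by exact_mod_cast hM.1.ne_zero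
  rw [← Finset.sum_fiberwise (s := Finset.univ)
    (g := fun x : X => (Quotient.mk'' x : MulAction.orbitRel.Quotient P X)) (f := φ),
    Finset.sum_div]
  refine memLocalRing_sum _ _ fun ω _ => ?_
  set x₀ : X := ω.out with hx₀
  have hmem : ∀ x : X, (Quotient.mk'' x : MulAction.orbitRel.Quotient P X) = ω ↔
      x ∈ MulAction.orbit P x₀ := by
    intro x
    rw [← MulAction.orbitRel_apply, ← @Quotient.eq'' _ (MulAction.orbitRel P X), hx₀,
      Quotient.out_eq']
  have hconst : ∀ x ∈ Finset.univ.filter
      (fun x : X => (Quotient.mk'' x : MulAction.orbitRel.Quotient P X) = ω), φ x = φ x₀ := by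
    intro x hx
    obtain ⟨u, rfl⟩ := (hmem x).mp (Finset.mem_filter.mp hx).2
    exact hφ u x₀
  rw [Finset.sum_congr rfl hconst, Finset.sum_const, nsmul_eq_mul]
  have hcard : (Finset.univ.filter
      (fun x : X => (Quotient.mk'' x : MulAction.orbitRel.Quotient P X) = ω)).card =
      Nat.card (MulAction.orbit P x₀) := by
    rw [Nat.card_eq_fintype_card, Fintype.card_subtype]
    congr 1
    ext x
    simp only [Finset.mem_filter, Finset.mem_univ, true_and]
    exact hmem x
  obtain ⟨n, hn⟩ := hP.card_orbit x₀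
  have hn0 : n ≠ 0 := by
    rintro rfl
    rw [pow_zero] at hn
    obtain ⟨u, hu⟩ := hfix x₀
    haveI : Subsingleton (MulAction.orbit P x₀) := (Nat.card_eq_one_iff_unique.mp hn).1
    have := Subsingleton.elim (⟨u • x₀, MulAction.mem_orbit x₀ u⟩ : MulAction.orbit P x₀)
      ⟨x₀, MulAction.mem_orbit_self x₀⟩
    exact hu (Subtype.ext_iff.mp this)
  obtain ⟨k, rfl⟩ := Nat.exists_eq_succ_of_ne_zero hn0
  rw [hcard, hn]
  have : ((p ^ (k + 1) : ℕ) : ℂ) * φ x₀ / (p : ℂ) = ((p ^ k : ℕ) : ℂ) * φ x₀ := by
    push_cast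
    field_simp
    ring
  rw [this]
  exact memLocalRing_mul (memLocalRing_natCast _) (hR x₀)

end orbitsum



section brauer

variable {G : Type u} [Group G] [Fintype G] {p : ℕ} {M : Ideal AlgInt}

theorem conj_notMem_centralizer (P : Subgroup G) {u x : G} (hu : u ∈ P)
    (hx : x ∉ Subgroup.centralizer (P : Set G)) :
    u * x * u⁻¹ ∉ Subgroup.centralizer (P : Set G) := by
  intro h
  apply hx
  rw [Subgroup.mem_centralizer_iff] at h ⊢
  intro v hv
  have h1 := h (u * v * u⁻¹) (P.mul_mem (P.mul_mem hu hv) (P.inv_mem hu))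
  have : u * (v * x) * u⁻¹ = u * (x * v) * u⁻¹ := by
    calc u * (v * x) * u⁻¹ = u * v * u⁻¹ * (u * x * u⁻¹) := by group
      _ = u * x * u⁻¹ * (u * v * u⁻¹) := h1
      _ = u * (x * v) * u⁻¹ := by group
  exact mul_left_cancel (mul_right_cancel this)

/-- The conjugation action of `P` on the complement of its centralizer. -/
@[instance_reducible]
def conjComplAction (P : Subgroup G) :
    MulAction P {x : G // x ∉ Subgroup.centralizer (P : Set G)} where
  smul u x := ⟨(u : G) * x.1 * (u : G)⁻¹, conj_notMem_centralizer P u.2 x.2⟩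
  one_smul x := by
    apply Subtype.ext
    show ((1 : P) : G) * x.1 * ((1 : P) : G)⁻¹ = x.1
    simp
  mul_smul u v x := by
    apply Subtype.ext
    show ((u * v : P) : G) * x.1 * ((u * v : P) : G)⁻¹ = (u : G) * ((v : G) * x.1 * (v : G)⁻¹) * (u : G)⁻¹
    simp [mul_assoc]

theorem memLocalRing_sum_compl_centralizer (hM : IsPModular p M) (P : Subgroup G)
    [DecidablePred (fun x => x ∈ Subgroup.centralizer (P : Set G))]
    (hP : IsPGroup p P) (φ : G → ℂ) (hφ : ∀ u ∈ P, ∀ x, φ (u * x * u⁻¹) = φ x)
    (hR : ∀ x, MemLocalRing M (φ x)) :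
    MemLocalRing M ((∑ x ∈ Finset.univ.filter
      (fun x => x ∉ Subgroup.centralizer (P : Set G)), φ x) / (p : ℂ)) := by
  letI := conjComplAction P
  have hsum : ∑ x ∈ Finset.univ.filter (fun x => x ∉ Subgroup.centralizer (P : Set G)), φ x =
      ∑ x : {x : G // x ∉ Subgroup.centralizer (P : Set G)}, φ x.1 := by
    rw [Finset.sum_subtype (Finset.univ.filter (fun x => x ∉ Subgroup.centralizer (P : Set G)))
      (p := fun x => x ∉ Subgroup.centralizer (P : Set G)) (by simp) φ]
  rw [hsum]
  apply memLocalRing_sum_div_of_no_fixedPoints hM hP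
  · rintro ⟨x, hx⟩
    rw [Subgroup.mem_centralizer_iff] at hx
    push Not at hx
    obtain ⟨v, hv, hne⟩ := hx
    refine ⟨⟨v, hv⟩, ?_⟩
    intro h
    have h1 : v * x * v⁻¹ = x := congrArg Subtype.val h
    apply hne
    calc v * x = v * x * v⁻¹ * v := by group
      _ = x * v := by rw [h1]
  · rintro u ⟨x, hx⟩
    exact hφ u u.2 x
  · rintro ⟨x, hx⟩
    exact hR x

/-- **Multiplicativity of the Brauer map modulo `p`.** -/
theorem exists_conv_restrict (hM : IsPModular p M) (P : Subgroup G)
    [Fintype (Subgroup.centralizer (P : Set G))] (hP : IsPGroup p P)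
    (a b : G → ℂ) (ha : IsRValued M a) (hb : IsRValued M b)
    (haP : ∀ u ∈ P, ∀ x, a (u * x * u⁻¹) = a x) (hbP : ∀ u ∈ P, ∀ x, b (u * x * u⁻¹) = b x) :
    ∃ r : Subgroup.centralizer (P : Set G) → ℂ, IsRValued M r ∧
      ∀ c : Subgroup.centralizer (P : Set G), conv a b (c : G) =
        conv (fun x : Subgroup.centralizer (P : Set G) => a x)
          (fun x : Subgroup.centralizer (P : Set G) => b x) c + (p : ℂ) * r c := by
  classical
  haveI := isPrime_of_isPModular hM
  have hp0 : (p : ℂ) ≠ 0 := by exact_mod_cast hM.1.ne_zero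
  refine ⟨fun c => (∑ x ∈ Finset.univ.filter
      (fun x => x ∉ Subgroup.centralizer (P : Set G)), a x * b (x⁻¹ * (c : G))) / (p : ℂ), ?_, ?_⟩
  · intro c
    apply memLocalRing_sum_compl_centralizer hM P hP
    · intro u hu x
      rw [haP u hu x]
      have hc : (c : G) * u⁻¹ = u⁻¹ * (c : G) := by
        have := (Subgroup.mem_centralizer_iff.mp c.2) u⁻¹ (P.inv_mem hu)
        exact this.symm
      have : (u * x * u⁻¹)⁻¹ * (c : G) = u * (x⁻¹ * (c : G)) * u⁻¹ := by
        calc (u * x * u⁻¹)⁻¹ * (c : G) = u * x⁻¹ * (u⁻¹ * (c : G)) := by group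
          _ = u * x⁻¹ * ((c : G) * u⁻¹) := by rw [hc]
          _ = u * (x⁻¹ * (c : G)) * u⁻¹ := by group
      rw [this, hbP u hu]
    · intro x
      exact memLocalRing_mul (ha x) (hb _)
  · intro c
    rw [mul_div_cancel₀ _ hp0]
    unfold conv
    rw [← Finset.sum_filter_add_sum_filter_not Finset.univ
      (fun x => x ∈ Subgroup.centralizer (P : Set G))]
    congr 1
    rw [Finset.sum_subtype (Finset.univ.filter (fun x => x ∈ Subgroup.centralizer (P : Set G)))
      (p := fun x => x ∈ Subgroup.centralizer (P : Set G)) (by simp)]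
    refine Finset.sum_congr rfl fun x _ => ?_
    simp

end brauer




section brauerOmega

variable {G : Type u} [Group G] [Fintype G] {p : ℕ} {M : Ideal AlgInt}

theorem brauerOmega_eq_omega (P : Subgroup G) [Fintype (Subgroup.centralizer (P : Set G))]
    (β : G → ℂ) (ξ : Subgroup.centralizer (P : Set G) → ℂ) :
    brauerOmega P β ξ = omega ξ (fun x : Subgroup.centralizer (P : Set G) => β x) := by
  unfold brauerOmega omega
  rw [finsum_eq_sum_of_fintype, Finset.sum_div]

theorem isClassFunction_restrict (H : Subgroup G) {a : G → ℂ} (ha : IsClassFunction G a) :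
    IsClassFunction H (fun x : H => a x) := by
  intro g h
  simpa using ha (g : G) (h : G)

/-- The Brauer map followed by a central character is multiplicative modulo the local ideal. -/
theorem brauerOmega_conv (hM : IsPModular p M) (P : Subgroup G)
    [Fintype (Subgroup.centralizer (P : Set G))] (hP : IsPGroup p P)
    {a b : G → ℂ} (ha : IsClassFunction G a) (hb : IsClassFunction G b)
    (haR : IsRValued M a) (hbR : IsRValued M b)
    {ξ : Subgroup.centralizer (P : Set G) → ℂ}
    (hξ : IsIrrCharacter (Subgroup.centralizer (P : Set G)) ξ) :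
    MemLocalIdeal M (brauerOmega P (conv a b) ξ - brauerOmega P a ξ * brauerOmega P b ξ) := by
  haveI := isPrime_of_isPModular hM
  have hp0 : (p : ℂ) ≠ 0 := by exact_mod_cast hM.1.ne_zero
  obtain ⟨r, hrR, hr⟩ := exists_conv_restrict hM P hP a b haR hbR
    (fun u _ x => ha x u) (fun u _ x => hb x u)
  have ha' := isClassFunction_restrict (Subgroup.centralizer (P : Set G)) ha
  have hb' := isClassFunction_restrict (Subgroup.centralizer (P : Set G)) hb
  have hab' := isClassFunction_restrict (Subgroup.centralizer (P : Set G))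
    (isClassFunction_conv ha hb)
  have hconv' := isClassFunction_conv ha' hb'
  have hr_eq : r = (p : ℂ)⁻¹ • ((fun x : Subgroup.centralizer (P : Set G) => conv a b (x : G)) -
      conv (fun x : Subgroup.centralizer (P : Set G) => a x)
        (fun x : Subgroup.centralizer (P : Set G) => b x)) := by
    funext c
    simp only [Pi.smul_apply, Pi.sub_apply, smul_eq_mul]
    rw [hr c]
    field_simp
    ring
  have hr_cl : IsClassFunction (Subgroup.centralizer (P : Set G)) r := by
    rw [hr_eq]
    exact isClassFunction_smul _ (isClassFunction_sub hab' hconv')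
  have hfun : (fun x : Subgroup.centralizer (P : Set G) => conv a b (x : G)) =
      conv (fun x : Subgroup.centralizer (P : Set G) => a x)
        (fun x : Subgroup.centralizer (P : Set G) => b x) + (p : ℂ) • r := by
    funext c
    simp only [Pi.add_apply, Pi.smul_apply, smul_eq_mul]
    exact hr c
  rw [brauerOmega_eq_omega, brauerOmega_eq_omega, brauerOmega_eq_omega, hfun, omega_add,
    omega_smul, omega_conv hξ ha' hb', add_sub_cancel_left]
  exact memLocalIdeal_mul_right
    (by simpa using memLocalIdeal_algInt_of_mem (M := M) (this.ne_top) hM.2.2)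
    (memLocalRing_omega hξ hr_cl hrR)

theorem brauerOmega_add (P : Subgroup G) [Fintype (Subgroup.centralizer (P : Set G))]
    (a b : G → ℂ) (ξ : Subgroup.centralizer (P : Set G) → ℂ) :
    brauerOmega P (a + b) ξ = brauerOmega P a ξ + brauerOmega P b ξ := by
  rw [brauerOmega_eq_omega, brauerOmega_eq_omega, brauerOmega_eq_omega, ← omega_add]
  rfl

theorem brauerOmega_delta (P : Subgroup G) [Fintype (Subgroup.centralizer (P : Set G))]
    {ξ : Subgroup.centralizer (P : Set G) → ℂ}
    (hξ : ξ 1 ≠ 0) : brauerOmega P (delta : G → ℂ) ξ = 1 := by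
  classical
  rw [brauerOmega_eq_omega]
  have : (fun x : Subgroup.centralizer (P : Set G) => (delta : G → ℂ) x) =
      (delta : Subgroup.centralizer (P : Set G) → ℂ) := by
    funext x
    unfold delta
    simp
  rw [this, omega_delta hξ]

end brauerOmega



section idem

variable {G : Type u} [Group G] [Fintype G] {M : Ideal AlgInt} [hp : M.IsPrime]

theorem conv_blockCoeff_self (B : Set (IrrCharacter G)) :
    conv (blockCoeff B) (blockCoeff B) = blockCoeff B := by
  classical
  apply eq_of_omega_eq (isClassFunction_conv (isClassFunction_blockCoeff B)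
    (isClassFunction_blockCoeff B)) (isClassFunction_blockCoeff B)
  intro χ
  rw [omega_conv χ.2 (isClassFunction_blockCoeff B) (isClassFunction_blockCoeff B),
    omega_blockCoeff]
  split_ifs <;> simp

theorem conv_blockCoeff_of_disjoint {B B' : Set (IrrCharacter G)} (h : Disjoint B B') :
    conv (blockCoeff B) (blockCoeff B') = 0 := by
  classical
  have h0 : IsClassFunction G (0 : G → ℂ) := fun _ _ => rfl
  apply eq_of_omega_eq (isClassFunction_conv (isClassFunction_blockCoeff B)
    (isClassFunction_blockCoeff B')) h0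
  intro χ
  rw [omega_conv χ.2 (isClassFunction_blockCoeff B) (isClassFunction_blockCoeff B'),
    omega_blockCoeff, omega_blockCoeff]
  have : omega (χ : G → ℂ) (0 : G → ℂ) = 0 := by unfold omega; simp
  rw [this]
  by_cases h1 : χ ∈ B
  · have h2 : χ ∉ B' := fun h2 => (Set.disjoint_left.mp h) h1 h2
    rw [if_neg h2, mul_zero]
  · rw [if_neg h1, zero_mul]

theorem disjoint_of_isPBlock_of_ne {B B' : Set (IrrCharacter G)} (hB : IsPBlock M B)
    (hB' : IsPBlock M B') (hne : B ≠ B') : Disjoint B B' := by
  rw [Set.disjoint_left]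
  intro χ h1 h2
  exact hne (eq_of_isPBlock_of_mem hB hB' h1 h2)

open Classical in
/-- The finite set of all blocks. -/
noncomputable def allBlocks (M : Ideal AlgInt) (G : Type u) [Group G] [Fintype G] :
    Finset (Set (IrrCharacter G)) :=
  Finset.univ.image (fun χ : IrrCharacter G => blockOf M (χ : G → ℂ))

theorem mem_allBlocks {B : Set (IrrCharacter G)} : B ∈ allBlocks M G ↔ IsPBlock M B := by
  classical
  unfold allBlocks IsPBlock
  simp only [Finset.mem_image, Finset.mem_univ, true_and]
  exact ⟨fun ⟨χ, h⟩ => ⟨χ, h.symm⟩, fun ⟨χ, h⟩ => ⟨χ, h.symm⟩⟩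

theorem sum_blockCoeff_allBlocks :
    ∑ B ∈ allBlocks M G, blockCoeff B = (delta : G → ℂ) := by
  classical
  have hcl : IsClassFunction G (∑ B ∈ allBlocks M G, blockCoeff B) := by
    intro g h
    simp only [Finset.sum_apply]
    exact Finset.sum_congr rfl fun B _ => isClassFunction_blockCoeff B g h
  apply eq_of_omega_eq hcl isClassFunction_delta
  intro χ
  rw [omega_delta_of_irr χ.2]
  have hlin : omega (χ : G → ℂ) (∑ B ∈ allBlocks M G, blockCoeff B) =
      ∑ B ∈ allBlocks M G, omega (χ : G → ℂ) (blockCoeff B) := by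
    unfold omega
    simp only [Finset.sum_apply, Finset.sum_mul]
    rw [Finset.sum_comm, Finset.sum_div]
  rw [hlin]
  simp_rw [omega_blockCoeff]
  rw [Finset.sum_eq_single (blockOf M (χ : G → ℂ))]
  · rw [if_pos (mem_blockOf_self χ)]
  · intro B hB hne
    rw [if_neg]
    intro hχ
    exact hne (eq_blockOf_of_mem (mem_allBlocks.mp hB) hχ)
  · intro h
    exact absurd (mem_allBlocks.mpr (isPBlock_blockOf χ)) h

end idem




section pairs

variable {G : Type u} [Group G] [Fintype G] {p : ℕ} {M : Ideal AlgInt}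

theorem brauerOmega_sum (P : Subgroup G) [Fintype (Subgroup.centralizer (P : Set G))]
    {ι : Type*} (s : Finset ι) (a : ι → G → ℂ) (ξ : Subgroup.centralizer (P : Set G) → ℂ) :
    brauerOmega P (∑ i ∈ s, a i) ξ = ∑ i ∈ s, brauerOmega P (a i) ξ := by
  simp only [brauerOmega_eq_omega]
  unfold omega
  simp only [Finset.sum_apply, Finset.sum_mul]
  rw [Finset.sum_comm, Finset.sum_div]

theorem brauerOmega_zero (P : Subgroup G) [Fintype (Subgroup.centralizer (P : Set G))]
    (ξ : Subgroup.centralizer (P : Set G) → ℂ) : brauerOmega P (0 : G → ℂ) ξ = 0 := by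
  rw [brauerOmega_eq_omega]
  unfold omega
  simp

theorem memLocalRing_brauerOmega [hp : M.IsPrime] (P : Subgroup G)
    [Fintype (Subgroup.centralizer (P : Set G))] {a : G → ℂ} (ha : IsClassFunction G a)
    (haR : IsRValued M a) {ξ : Subgroup.centralizer (P : Set G) → ℂ}
    (hξ : IsIrrCharacter (Subgroup.centralizer (P : Set G)) ξ) :
    MemLocalRing M (brauerOmega P a ξ) := by
  rw [brauerOmega_eq_omega]
  exact memLocalRing_omega hξ (isClassFunction_restrict _ ha) (fun x => haR x)

theorem memLocalIdeal_brauerOmega_sub [hp : M.IsPrime] (P : Subgroup G)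
    [Fintype (Subgroup.centralizer (P : Set G))] {a : G → ℂ} (ha : IsClassFunction G a)
    (haR : IsRValued M a) {ξ ξ' : Subgroup.centralizer (P : Set G) → ℂ}
    (hξ : IsIrrCharacter (Subgroup.centralizer (P : Set G)) ξ)
    (hξ' : IsIrrCharacter (Subgroup.centralizer (P : Set G)) ξ')
    (h : SameBlock M ξ ξ') :
    MemLocalIdeal M (brauerOmega P a ξ - brauerOmega P a ξ') := by
  rw [brauerOmega_eq_omega, brauerOmega_eq_omega]
  exact memLocalIdeal_omega_sub hξ hξ' h (isClassFunction_restrict _ ha) (fun x => haR x)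

/-- Every Brauer pair belongs to exactly one block. -/
theorem existsUnique_block_of_brauerPair (hM : IsPModular p M) (P : Subgroup G)
    (hP : IsPGroup p P) (e : Set (IrrCharacter (Subgroup.centralizer (P : Set G))))
    (he : IsPBlock M e) :
    ∃! B : Set (IrrCharacter G), IsPBlock M B ∧
      ∀ ξ ∈ e, MemLocalIdeal M
        (brauerOmega P (blockCoeff B) (ξ : Subgroup.centralizer (P : Set G) → ℂ) - 1) := by
  classical
  haveI hprime := isPrime_of_isPModular hM
  haveI : Fintype (Subgroup.centralizer (P : Set G)) := Fintype.ofFinite _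
  obtain ⟨ξ, hξ⟩ := nonempty_of_isPBlock he
  -- basic facts
  have hR : ∀ B : Set (IrrCharacter G), IsPBlock M B →
      MemLocalRing M (brauerOmega P (blockCoeff B) (ξ : _ → ℂ)) := fun B hB =>
    memLocalRing_brauerOmega P (isClassFunction_blockCoeff B) (isRValued_blockCoeff hB) ξ.2
  have hidem : ∀ B : Set (IrrCharacter G), IsPBlock M B →
      MemLocalIdeal M (brauerOmega P (blockCoeff B) (ξ : _ → ℂ) *
        (brauerOmega P (blockCoeff B) (ξ : _ → ℂ) - 1)) := by
    intro B hB
    have h := brauerOmega_conv hM P hP (isClassFunction_blockCoeff B)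
      (isClassFunction_blockCoeff B) (isRValued_blockCoeff hB) (isRValued_blockCoeff hB) ξ.2
    rw [conv_blockCoeff_self] at h
    have := memLocalIdeal_neg h
    convert this using 1
    ring
  have horth : ∀ B B' : Set (IrrCharacter G), IsPBlock M B → IsPBlock M B' → B ≠ B' →
      MemLocalIdeal M (brauerOmega P (blockCoeff B) (ξ : _ → ℂ) *
        brauerOmega P (blockCoeff B') (ξ : _ → ℂ)) := by
    intro B B' hB hB' hne
    have h := brauerOmega_conv hM P hP (isClassFunction_blockCoeff B)
      (isClassFunction_blockCoeff B') (isRValued_blockCoeff hB) (isRValued_blockCoeff hB') ξ.2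
    rw [conv_blockCoeff_of_disjoint (disjoint_of_isPBlock_of_ne hB hB' hne),
      brauerOmega_zero, zero_sub] at h
    have := memLocalIdeal_neg h
    simpa using this
  have hsum : ∑ B ∈ allBlocks M G, brauerOmega P (blockCoeff B) (ξ : _ → ℂ) = 1 := by
    rw [← brauerOmega_sum, sum_blockCoeff_allBlocks, brauerOmega_delta P (irrChar_one_ne_zero ξ.2)]
  -- existence
  have hex : ∃ B ∈ allBlocks M G, ¬ MemLocalIdeal M (brauerOmega P (blockCoeff B) (ξ : _ → ℂ)) := by
    by_contra hcon
    push Not at hcon
    have := memLocalIdeal_sum (M := M) (allBlocks M G)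
      (fun B => brauerOmega P (blockCoeff B) (ξ : _ → ℂ)) hcon
    rw [hsum] at this
    exact not_memLocalIdeal_one this
  obtain ⟨B, hBmem, hBt⟩ := hex
  have hB : IsPBlock M B := mem_allBlocks.mp hBmem
  have hB1 : MemLocalIdeal M (brauerOmega P (blockCoeff B) (ξ : _ → ℂ) - 1) := by
    rcases memLocalIdeal_or_of_mul (hR B hB)
      (memLocalRing_sub (hR B hB) (memLocalRing_one hprime.ne_top)) (hidem B hB) with h | h
    · exact absurd h hBt
    · exact h
  refine ⟨B, ⟨hB, fun ξ' hξ' => ?_⟩, ?_⟩
  · have h1 := memLocalIdeal_brauerOmega_sub P (isClassFunction_blockCoeff B)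
      (isRValued_blockCoeff hB) ξ'.2 ξ.2 (sameBlock_of_mem he hξ' hξ)
    have := memLocalIdeal_add h1 hB1
    convert this using 1
    ring
  · rintro B' ⟨hB', hB'1⟩
    by_contra hne
    have h1 := horth B' B hB' hB hne
    have h2 := hB'1 ξ hξ
    -- t' ≡ 1, t ≡ 1, t' t ≡ 0
    have h3 : MemLocalIdeal M (1 : ℂ) := by
      have e1 := memLocalIdeal_mul_left (hR B' hB') hB1   -- t' * (t - 1)
      have e2 := memLocalIdeal_sub h1 e1   -- t' t - t'(t-1) = t'
      have e3 := memLocalIdeal_sub e2 h2   -- t' - (t' - 1) = 1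
      convert e3 using 1
      ring
    exact not_memLocalIdeal_one h3

end pairs


end Cfsg.Agent.Helper77
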