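import Mathlib
import Cfsg.Agent.Lib.Helper77.BrauerMap

set_option autoImplicit false
set_option linter.unusedSectionVars false
set_option linter.style.haveILetI false

namespace Cfsg.Agent.Helper77

open Cfsg Cfsg.Agent.Helper79

universe u

section wsum

variable {G : Type u} [Group G] [Fintype G]

/-- The linear functional on functions given by a weight function. -/
noncomputable def wsum (w a : G → ℂ) : ℂ := ∑ g, a g * w g

theorem wsum_add (w a b : G → ℂ) : wsum w (a + b) = wsum w a + wsum w b := by
  unfold wsum; simp [add_mul, Finset.sum_add_distrib]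

theorem wsum_sub (w a b : G → ℂ) : wsum w (a - b) = wsum w a - wsum w b := by
  unfold wsum; simp [sub_mul, Finset.sum_sub_distrib]

theorem wsum_smul (w : G → ℂ) (c : ℂ) (a : G → ℂ) : wsum w (c • a) = c * wsum w a := by
  unfold wsum; simp [Finset.mul_sum, mul_assoc]

theorem wsum_zero (w : G → ℂ) : wsum w (0 : G → ℂ) = 0 := by
  unfold wsum; simp

theorem wsum_sum (w : G → ℂ) {ι : Type*} (s : Finset ι) (a : ι → G → ℂ) :
    wsum w (∑ i ∈ s, a i) = ∑ i ∈ s, wsum w (a i) := by
  unfold wsum
  simp only [Finset.sum_apply, Finset.sum_mul]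
  rw [Finset.sum_comm]

theorem wsum_delta (w : G → ℂ) : wsum w (delta : G → ℂ) = w 1 := by
  classical
  unfold wsum delta
  simp

theorem omega_eq_wsum (χ a : G → ℂ) : omega χ a = wsum (fun g => χ g / χ 1) a := by
  unfold omega wsum
  rw [Finset.sum_div]
  refine Finset.sum_congr rfl fun g _ => ?_
  ring

end wsum

section modhom

variable {G : Type u} [Group G] [Fintype G] {M : Ideal AlgInt}

/-- A weight function whose functional is, modulo the local ideal, an algebra homomorphism
from the centre of the group algebra. -/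
structure IsModHom (M : Ideal AlgInt) (w : G → ℂ) : Prop where
  memR : ∀ a : G → ℂ, IsClassFunction G a → IsRValued M a → MemLocalRing M (wsum w a)
  one : MemLocalIdeal M (wsum w (delta : G → ℂ) - 1)
  mul : ∀ a b : G → ℂ, IsClassFunction G a → IsClassFunction G b → IsRValued M a →
    IsRValued M b → MemLocalIdeal M (wsum w (conv a b) - wsum w a * wsum w b)

variable [hp : M.IsPrime]

theorem isModHom_omega {χ : G → ℂ} (hχ : IsIrrCharacter G χ) :
    IsModHom M (fun g => χ g / χ 1) where
  memR := fun a ha haR => by
    rw [← omega_eq_wsum]; exact memLocalRing_omega hχ ha haR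
  one := by
    rw [← omega_eq_wsum, omega_delta_of_irr hχ, sub_self]; exact memLocalIdeal_zero hp.ne_top
  mul := fun a b ha hb _ _ => by
    rw [← omega_eq_wsum, ← omega_eq_wsum, ← omega_eq_wsum, omega_conv hχ ha hb, sub_self]
    exact memLocalIdeal_zero hp.ne_top

theorem memLocalIdeal_congr_mul {a a' b b' : ℂ} (ha : MemLocalRing M a)
    (hb' : MemLocalRing M b') (h1 : MemLocalIdeal M (a - a')) (h2 : MemLocalIdeal M (b - b')) :
    MemLocalIdeal M (a * b - a' * b') := by
  have e1 := memLocalIdeal_mul_left ha h2
  have e2 := memLocalIdeal_mul_right h1 hb'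
  have := memLocalIdeal_add e1 e2
  convert this using 1
  ring

theorem IsModHom.convList {w : G → ℂ} (hw : IsModHom M w) (l : List (G → ℂ))
    (hcl : ∀ a ∈ l, IsClassFunction G a) (hR : ∀ a ∈ l, IsRValued M a) :
    MemLocalIdeal M (wsum w (convList l) - (l.map (wsum w)).prod) := by
  induction l with
  | nil => simpa [Helper77.convList] using hw.one
  | cons a l ih =>
    have hcl' : ∀ b ∈ l, IsClassFunction G b := fun b hb => hcl b (List.mem_cons_of_mem _ hb)
    have hR' : ∀ b ∈ l, IsRValued M b := fun b hb => hR b (List.mem_cons_of_mem _ hb)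
    have ha := hcl a List.mem_cons_self
    have haR := hR a List.mem_cons_self
    have hlc := isClassFunction_convList l hcl'
    have hlR := isRValued_convList (M := M) l hR'
    simp only [Helper77.convList, List.map_cons, List.prod_cons]
    have h1 := hw.mul a (Helper77.convList l) ha hlc haR hlR
    have h2 := memLocalIdeal_mul_left (hw.memR a ha haR) (ih hcl' hR')
    have := memLocalIdeal_add h1 h2
    convert this using 1
    ring

theorem exists_memLocalIdeal_of_list_prod (l : List ℂ) (hR : ∀ z ∈ l, MemLocalRing M z)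
    (h : MemLocalIdeal M l.prod) : ∃ z ∈ l, MemLocalIdeal M z := by
  induction l with
  | nil => exact absurd (by simpa using h) not_memLocalIdeal_one
  | cons a l ih =>
    rw [List.prod_cons] at h
    have hR' : ∀ z ∈ l, MemLocalRing M z := fun z hz => hR z (List.mem_cons_of_mem _ hz)
    have hprod : MemLocalRing M l.prod := by
      clear ih h
      induction l with
      | nil => simpa using memLocalRing_one hp.ne_top
      | cons b l ih2 =>
        rw [List.prod_cons]
        exact memLocalRing_mul (hR' b List.mem_cons_self)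
          (ih2 (fun z hz => hR z (by
            rcases List.mem_cons.mp hz with h | h
            · exact h ▸ List.mem_cons_self
            · exact List.mem_cons_of_mem _ (List.mem_cons_of_mem _ h)))
            (fun z hz => hR' z (List.mem_cons_of_mem _ hz)))
    rcases memLocalIdeal_or_of_mul (hR a List.mem_cons_self) hprod h with h1 | h1
    · exact ⟨a, List.mem_cons_self, h1⟩
    · obtain ⟨z, hz, hz'⟩ := ih hR' h1
      exact ⟨z, List.mem_cons_of_mem _ hz, hz'⟩

/-- Existence of the block of a homomorphism modulo the local ideal. -/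
theorem IsModHom.exists_block {w : G → ℂ} (hw : IsModHom M w) :
    ∃ B : Set (IrrCharacter G), IsPBlock M B ∧ MemLocalIdeal M (wsum w (blockCoeff B) - 1) := by
  classical
  have hR : ∀ B : Set (IrrCharacter G), IsPBlock M B → MemLocalRing M (wsum w (blockCoeff B)) :=
    fun B hB => hw.memR _ (isClassFunction_blockCoeff B) (isRValued_blockCoeff hB)
  have hidem : ∀ B : Set (IrrCharacter G), IsPBlock M B →
      MemLocalIdeal M (wsum w (blockCoeff B) * (wsum w (blockCoeff B) - 1)) := by
    intro B hB
    have h := hw.mul _ _ (isClassFunction_blockCoeff B)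
      (isClassFunction_blockCoeff B) (isRValued_blockCoeff hB) (isRValued_blockCoeff hB)
    rw [conv_blockCoeff_self] at h
    have := memLocalIdeal_neg h
    convert this using 1
    ring
  have hsum : MemLocalIdeal M (∑ B ∈ allBlocks M G, wsum w (blockCoeff B) - 1) := by
    rw [← wsum_sum, sum_blockCoeff_allBlocks]
    exact hw.one
  have hex : ∃ B ∈ allBlocks M G, ¬ MemLocalIdeal M (wsum w (blockCoeff B)) := by
    by_contra hcon
    push Not at hcon
    have := memLocalIdeal_sum (M := M) (allBlocks M G) (fun B => wsum w (blockCoeff B)) hcon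
    have h1 := memLocalIdeal_sub this hsum
    rw [sub_sub_cancel] at h1
    exact not_memLocalIdeal_one h1
  obtain ⟨B, hBmem, hBt⟩ := hex
  have hB : IsPBlock M B := mem_allBlocks.mp hBmem
  refine ⟨B, hB, ?_⟩
  rcases memLocalIdeal_or_of_mul (hR B hB)
    (memLocalRing_sub (hR B hB) (memLocalRing_one hp.ne_top)) (hidem B hB) with h | h
  · exact absurd h hBt
  · exact h

/-- The block of a homomorphism is unique. -/
theorem IsModHom.block_unique {w : G → ℂ} (hw : IsModHom M w) {B B' : Set (IrrCharacter G)}
    (hB : IsPBlock M B) (hB' : IsPBlock M B')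
    (h : MemLocalIdeal M (wsum w (blockCoeff B) - 1))
    (h' : MemLocalIdeal M (wsum w (blockCoeff B') - 1)) : B = B' := by
  by_contra hne
  have h1 := hw.mul _ _ (isClassFunction_blockCoeff B)
    (isClassFunction_blockCoeff B') (isRValued_blockCoeff hB) (isRValued_blockCoeff hB')
  rw [conv_blockCoeff_of_disjoint (disjoint_of_isPBlock_of_ne hB hB' hne), wsum_zero,
    zero_sub] at h1
  have h1' := memLocalIdeal_neg h1
  rw [neg_neg] at h1'
  have hRB := hw.memR _ (isClassFunction_blockCoeff B) (isRValued_blockCoeff hB)
  have e1 := memLocalIdeal_mul_left hRB h'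
  have e2 := memLocalIdeal_sub h1' e1
  have e3 := memLocalIdeal_sub e2 h
  have : MemLocalIdeal M (1 : ℂ) := by
    convert e3 using 1
    ring
  exact not_memLocalIdeal_one this

/-- A homomorphism modulo the local ideal agrees with the central characters of its block. -/
theorem IsModHom.congr_omega {w : G → ℂ} (hw : IsModHom M w) {B : Set (IrrCharacter G)}
    (hB : IsPBlock M B) (h : MemLocalIdeal M (wsum w (blockCoeff B) - 1))
    {χ₀ : IrrCharacter G} (hχ₀ : χ₀ ∈ B) {z : G → ℂ} (hz : IsClassFunction G z)
    (hzR : IsRValued M z) : MemLocalIdeal M (wsum w z - omega (χ₀ : G → ℂ) z) := by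
  classical
  let T : Finset (IrrCharacter G) := Finset.univ.filter (fun χ => χ ∈ B)
  let fac : IrrCharacter G → (G → ℂ) := fun χ => z - (omega (χ : G → ℂ) z) • (delta : G → ℂ)
  let l : List (G → ℂ) := blockCoeff B :: T.toList.map fac
  have hfac_cl : ∀ χ, IsClassFunction G (fac χ) := fun χ =>
    isClassFunction_sub hz (isClassFunction_smul _ isClassFunction_delta)
  have hfac_R : ∀ χ, IsRValued M (fac χ) := fun χ =>
    isRValued_sub hzR (isRValued_smul (memLocalRing_omega χ.2 hz hzR) isRValued_delta)
  have hl_cl : ∀ a ∈ l, IsClassFunction G a := by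
    intro a ha
    rcases List.mem_cons.mp ha with rfl | ha
    · exact isClassFunction_blockCoeff B
    · obtain ⟨χ, _, rfl⟩ := List.mem_map.mp ha
      exact hfac_cl χ
  have hl_R : ∀ a ∈ l, IsRValued M a := by
    intro a ha
    rcases List.mem_cons.mp ha with rfl | ha
    · exact isRValued_blockCoeff hB
    · obtain ⟨χ, _, rfl⟩ := List.mem_map.mp ha
      exact hfac_R χ
  have hzero : Helper77.convList l = 0 := by
    have h0 : IsClassFunction G (0 : G → ℂ) := fun _ _ => rfl
    apply eq_of_omega_eq (isClassFunction_convList l hl_cl) h0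
    intro ψ
    have hz0 : omega (ψ : G → ℂ) (0 : G → ℂ) = 0 := by unfold omega; simp
    rw [omega_convList ψ.2 l hl_cl, hz0]
    simp only [l, List.map_cons, List.prod_cons, List.map_map]
    rw [omega_blockCoeff]
    by_cases hψ : ψ ∈ B
    · rw [if_pos hψ, one_mul, Finset.prod_map_toList]
      apply Finset.prod_eq_zero (i := ψ) (Finset.mem_filter.mpr ⟨Finset.mem_univ _, hψ⟩)
      simp only [Function.comp_apply, fac]
      rw [omega_sub, omega_smul, omega_delta_of_irr ψ.2, mul_one, sub_self]
    · rw [if_neg hψ, zero_mul]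
  have hprod := hw.convList l hl_cl hl_R
  rw [hzero, wsum_zero, zero_sub] at hprod
  have hprod' := memLocalIdeal_neg hprod
  rw [neg_neg] at hprod'
  obtain ⟨y, hy, hy'⟩ := exists_memLocalIdeal_of_list_prod _ (by
    intro y hy
    obtain ⟨a, ha, rfl⟩ := List.mem_map.mp hy
    exact hw.memR a (hl_cl a ha) (hl_R a ha)) hprod'
  obtain ⟨a, ha, rfl⟩ := List.mem_map.mp hy
  rcases List.mem_cons.mp ha with rfl | ha
  · exfalso
    have := memLocalIdeal_sub hy' h
    rw [sub_sub_cancel] at this
    exact not_memLocalIdeal_one this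
  · obtain ⟨χ, hχ, rfl⟩ := List.mem_map.mp ha
    have hχB : χ ∈ B := (Finset.mem_filter.mp (Finset.mem_toList.mp hχ)).2
    simp only [fac] at hy'
    rw [wsum_sub, wsum_smul] at hy'
    -- wsum w z - ω_χ z * wsum w δ ∈ MR
    have e1 := memLocalIdeal_mul_left (memLocalRing_omega χ.2 hz hzR) hw.one
    have e2 := memLocalIdeal_add hy' e1
    have e3 : MemLocalIdeal M (wsum w z - omega (χ : G → ℂ) z) := by
      convert e2 using 1
      ring
    have e4 := memLocalIdeal_omega_sub χ.2 χ₀.2 (sameBlock_of_mem hB hχB hχ₀) hz hzR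
    have := memLocalIdeal_add e3 e4
    convert this using 1
    ring

/-- A central element all of whose central character values lie in the local ideal is
killed by every homomorphism modulo the local ideal. -/
theorem IsModHom.memLocalIdeal_of_radical {w : G → ℂ} (hw : IsModHom M w) {z : G → ℂ}
    (hz : IsClassFunction G z) (hzR : IsRValued M z)
    (h : ∀ χ : IrrCharacter G, MemLocalIdeal M (omega (χ : G → ℂ) z)) :
    MemLocalIdeal M (wsum w z) := by
  obtain ⟨B, hB, hB1⟩ := hw.exists_block
  obtain ⟨χ₀, hχ₀⟩ := nonempty_of_isPBlock hB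
  have := memLocalIdeal_add (hw.congr_omega hB hB1 hχ₀ hz hzR) (h χ₀)
  simpa using this

end modhom

end Cfsg.Agent.Helper77
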