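import Mathlib
import Cfsg.Agent.S0905
import Cfsg.Agent.Lib.Helper77.BlockIdem

set_option autoImplicit false
set_option linter.unusedSectionVars false

namespace Cfsg.Agent.Helper77

open Cfsg MonoidAlgebra

section nil

variable {G : Type*} [Group G] [Fintype G]

/-- The coefficient function of an element of the integral group ring. -/
noncomputable def coeffFun (a : MonoidAlgebra ℤ G) : G → ℂ := fun g => ((a.coeff g : ℤ) : ℂ)

theorem coeffFun_mul (a b : MonoidAlgebra ℤ G) :
    coeffFun (a * b) = conv (coeffFun a) (coeffFun b) := by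
  classical
  funext g
  unfold coeffFun conv
  rw [coeff_mul_apply_left, Finsupp.sum_fintype _ _ (fun _ => by simp)]
  push_cast
  rfl

theorem coeffFun_one : coeffFun (1 : MonoidAlgebra ℤ G) = delta := by
  classical
  funext g
  unfold coeffFun delta
  rw [MonoidAlgebra.one_def, coeff_single, Finsupp.single_apply]
  by_cases h : g = 1
  · subst h; simp
  · rw [if_neg (Ne.symm h), if_neg h]; simp

/-- the integral class sum -/
noncomputable def classSumZ (g : G) : MonoidAlgebra ℤ G :=
  ∑ x ∈ (Set.toFinite (ConjClasses.carrier (ConjClasses.mk g))).toFinset, single x (1 : ℤ)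

theorem coeffFun_classSumZ (g : G) : coeffFun (classSumZ g) = classInd g := by
  classical
  funext h
  unfold coeffFun classSumZ classInd
  rw [MonoidAlgebra.coeff_sum, Finsupp.finsetSum_apply]
  simp only [coeff_single, Finsupp.single_apply]
  rw [Finset.sum_ite_eq']
  simp only [Set.Finite.mem_toFinset, ConjClasses.mem_carrier_iff_mk_eq,
    ConjClasses.mk_eq_mk_iff_isConj]
  by_cases hc : IsConj g h
  · rw [if_pos hc.symm, if_pos hc]; simp
  · rw [if_neg (fun h' => hc h'.symm), if_neg hc]; simp

theorem coeffFun_pow_classSumZ (g : G) (n : ℕ) :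
    coeffFun (classSumZ g ^ n) = convList (List.replicate n (classInd g)) := by
  induction n with
  | zero => simpa [convList] using coeffFun_one
  | succ n ih =>
    rw [pow_succ', coeffFun_mul, ih, coeffFun_classSumZ, List.replicate_succ, convList]

theorem dvd_coeff_pow_classSumZ (p : ℕ) [Fact p.Prime] (N : Subgroup G) [N.Normal]
    (hNp : IsPGroup p N) (g : G) (hg : g ∉ Subgroup.centralizer (N : Set G)) :
    ∃ n : ℕ, ∀ h : G, (p : ℤ) ∣ (classSumZ g ^ n).coeff h := by
  classical
  obtain ⟨n, hn⟩ := Cfsg.Agent.S0905.classSum_nilpotent p (ZMod p) N hNp g hg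
  refine ⟨n, fun h => ?_⟩
  have hmap : mapRingHom G (Int.castRingHom (ZMod p)) (classSumZ g) =
      ∑ᶠ x ∈ ConjClasses.carrier (ConjClasses.mk g), MonoidAlgebra.single x (1 : ZMod p) := by
    rw [finsum_mem_eq_finite_toFinset_sum _ (Set.toFinite _)]
    unfold classSumZ
    rw [map_sum]
    refine Finset.sum_congr rfl fun x _ => ?_
    simp
  have h0 : mapRingHom G (Int.castRingHom (ZMod p)) (classSumZ g ^ n) = 0 := by
    rw [map_pow, hmap, hn]
  have h1 := congrArg (fun a : MonoidAlgebra (ZMod p) G => a.coeff h) h0
  simp only [coe_mapRingHom, coeff_map, MonoidAlgebra.coeff_zero] at h1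
  have h2 : ((Int.castRingHom (ZMod p)) ((classSumZ g ^ n).coeff h)) = 0 := by
    simpa using h1
  exact (ZMod.intCast_zmod_eq_zero_iff_dvd _ p).mp h2

theorem memLocalIdeal_of_pow {M : Ideal AlgInt} [hp : M.IsPrime] {z : ℂ} (hz : MemLocalRing M z)
    (n : ℕ) (h : MemLocalIdeal M (z ^ n)) : MemLocalIdeal M z := by
  induction n with
  | zero => exact absurd (by simpa using h) not_memLocalIdeal_one
  | succ n ih =>
    rw [pow_succ] at h
    rcases memLocalIdeal_or_of_mul (memLocalRing_pow hz n) hz h with h' | h'
    · exact ih h'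
    · exact h'

theorem memLocalIdeal_natCast_self {p : ℕ} {M : Ideal AlgInt} (hM : IsPModular p M) :
    MemLocalIdeal M (p : ℂ) := (memLocalIdeal_natCast_iff hM p).mpr dvd_rfl

/-- **Nilpotent classes**: if `N` is a normal `p`-subgroup of `G` and `g` does not centralize `N`,
then every central character takes a value in the local ideal on the class of `g`. -/
theorem memLocalIdeal_centralChar_of_notMem_centralizer {p : ℕ} [Fact p.Prime] {M : Ideal AlgInt}
    (hM : IsPModular p M) (N : Subgroup G) [N.Normal]
    (hNp : IsPGroup p N) (g : G) (hg : g ∉ Subgroup.centralizer (N : Set G))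
    {χ : G → ℂ} (hχ : IsIrrCharacter G χ) : MemLocalIdeal M (centralChar χ g) := by
  classical
  have := isPrime_of_isPModular hM
  haveI : Fintype (ConjClasses G) := Fintype.ofFinite _
  obtain ⟨n, hn⟩ := dvd_coeff_pow_classSumZ p N hNp g hg
  have hcl : ∀ a ∈ List.replicate n (classInd g), IsClassFunction G a := by
    intro a ha
    rw [List.eq_of_mem_replicate ha]
    exact isClassFunction_classInd g
  have h1 : omega χ (convList (List.replicate n (classInd g))) = (centralChar χ g) ^ n := by
    rw [omega_convList hχ _ hcl, List.map_replicate, List.prod_replicate,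
      omega_classInd_of_irr hχ]
  refine memLocalIdeal_of_pow (memLocalRing_centralChar hχ g) n ?_
  rw [← h1, omega_eq_sum_conjClasses (isClassFunction_of_isIrrCharacter hχ)
    (isClassFunction_convList _ hcl)]
  refine memLocalIdeal_sum _ _ fun K _ => ?_
  refine memLocalIdeal_mul_right ?_ (memLocalRing_centralChar hχ _)
  rw [← coeffFun_pow_classSumZ]
  obtain ⟨c, hc⟩ := hn (Quotient.out K)
  unfold coeffFun
  rw [hc]
  push_cast
  exact memLocalIdeal_mul_right (memLocalIdeal_natCast_self hM) (memLocalRing_intCast c)

end nil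

end Cfsg.Agent.Helper77
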