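import Mathlib
import Cfsg.Agent.Lib.Helper77.Nil
import Cfsg.Agent.Lib.Helper77.Lambda

set_option autoImplicit false
set_option linter.unusedSectionVars false
set_option linter.style.haveILetI false

namespace Cfsg.Agent.Helper77

open Cfsg Cfsg.Agent.Helper79

universe u

section cut

variable {G : Type u} [Group G]

theorem conj_mem_centralizer_iff {P : Subgroup G} {n : G}
    (hn : n ∈ Subgroup.normalizer (P : Set G)) (x : G) :
    n * x * n⁻¹ ∈ Subgroup.centralizer (P : Set G) ↔ x ∈ Subgroup.centralizer (P : Set G) := by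
  have key : ∀ m : G, m ∈ Subgroup.normalizer (P : Set G) → ∀ y,
      y ∈ Subgroup.centralizer (P : Set G) → m * y * m⁻¹ ∈ Subgroup.centralizer (P : Set G) := by
    intro m hm y hy
    rw [Subgroup.mem_centralizer_iff] at hy ⊢
    intro v hv
    have hv' : m⁻¹ * v * m ∈ P := (Subgroup.mem_normalizer_iff''.mp hm v).mp hv
    have h1 := hy _ hv'
    calc v * (m * y * m⁻¹) = m * ((m⁻¹ * v * m) * y) * m⁻¹ := by group
      _ = m * (y * (m⁻¹ * v * m)) * m⁻¹ := by rw [h1]
      _ = m * y * m⁻¹ * v := by group
  constructor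
  · intro h
    have := key n⁻¹ (Subgroup.inv_mem _ hn) _ h
    simpa [mul_assoc] using this
  · exact key n hn x

/-- restriction of a function to a subgroup -/
def restr (H : Subgroup G) (f : G → ℂ) : H → ℂ := fun h => f h

/-- restriction to a subgroup, cut down to the centralizer of `P` -/
noncomputable def cutC (P H : Subgroup G) (f : G → ℂ) : H → ℂ :=
  fun h => by classical exact if (h : G) ∈ Subgroup.centralizer (P : Set G) then f h else 0

theorem cutC_of_mem (P H : Subgroup G) (f : G → ℂ) {h : H}
    (hh : (h : G) ∈ Subgroup.centralizer (P : Set G)) : cutC P H f h = f h := by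
  classical
  unfold cutC
  rw [if_pos hh]

theorem cutC_of_notMem (P H : Subgroup G) (f : G → ℂ) {h : H}
    (hh : (h : G) ∉ Subgroup.centralizer (P : Set G)) : cutC P H f h = 0 := by
  classical
  unfold cutC
  rw [if_neg hh]

theorem isClassFunction_restr (H : Subgroup G) {f : G → ℂ}
    (hf : ∀ u ∈ H, ∀ x, f (u * x * u⁻¹) = f x) : IsClassFunction H (restr H f) := by
  intro g h
  simpa [restr] using hf h h.2 g

theorem isClassFunction_cutC {P H : Subgroup G} (hHN : H ≤ Subgroup.normalizer (P : Set G))
    {f : G → ℂ} (hf : ∀ u ∈ H, ∀ x, f (u * x * u⁻¹) = f x) :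
    IsClassFunction H (cutC P H f) := by
  intro g h
  have hiff := conj_mem_centralizer_iff (hHN h.2) (g : G)
  by_cases hg : (g : G) ∈ Subgroup.centralizer (P : Set G)
  · have h1 : ((h * g * h⁻¹ : H) : G) ∈ Subgroup.centralizer (P : Set G) := by
      simpa using hiff.mpr hg
    rw [cutC_of_mem _ _ _ h1, cutC_of_mem _ _ _ hg]
    simpa using hf h h.2 g
  · have h1 : ((h * g * h⁻¹ : H) : G) ∉ Subgroup.centralizer (P : Set G) := by
      intro hcon
      exact hg (hiff.mp (by simpa using hcon))
    rw [cutC_of_notMem _ _ _ h1, cutC_of_notMem _ _ _ hg]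

variable {M : Ideal AlgInt}

theorem isRValued_restr (H : Subgroup G) {f : G → ℂ} (hf : IsRValued M f) :
    IsRValued M (restr H f) := fun h => hf h

theorem isRValued_cutC [hp : M.IsPrime] (P H : Subgroup G) {f : G → ℂ} (hf : IsRValued M f) :
    IsRValued M (cutC P H f) := by
  intro h
  by_cases hh : (h : G) ∈ Subgroup.centralizer (P : Set G)
  · rw [cutC_of_mem _ _ _ hh]; exact hf h
  · rw [cutC_of_notMem _ _ _ hh]; exact memLocalRing_zero hp.ne_top

end cut

section bm

variable {G : Type u} [Group G] [Fintype G] {p : ℕ} {M : Ideal AlgInt}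

theorem sum_subgroup_eq (H : Subgroup G) [Fintype H] (F : G → ℂ) (hF : ∀ x, x ∉ H → F x = 0) :
    ∑ y : H, F y = ∑ x, F x := by
  classical
  rw [← Finset.sum_subset (Finset.subset_univ (Finset.univ.filter (fun x => x ∈ H)))
    (fun x _ hx => hF x (by simpa using hx))]
  rw [Finset.sum_subtype (Finset.univ.filter (fun x => x ∈ H)) (p := fun x => x ∈ H) (by simp)]

theorem conv_conj_invariant {a b : G → ℂ} (u : G) (ha : ∀ x, a (u * x * u⁻¹) = a x)
    (hb : ∀ x, b (u * x * u⁻¹) = b x) (x : G) : conv a b (u * x * u⁻¹) = conv a b x := by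
  unfold conv
  rw [← Equiv.sum_comp (MulAut.conj u).toEquiv]
  refine Finset.sum_congr rfl fun y _ => ?_
  have h1 : a ((MulAut.conj u).toEquiv y) = a y := by
    simpa [MulAut.conj_apply] using ha y
  have h2 : b (((MulAut.conj u).toEquiv y)⁻¹ * (u * x * u⁻¹)) = b (y⁻¹ * x) := by
    have : ((MulAut.conj u).toEquiv y)⁻¹ * (u * x * u⁻¹) = u * (y⁻¹ * x) * u⁻¹ := by
      simp [MulAut.conj_apply]; group
    rw [this]
    exact hb _
  rw [h1, h2]

/-- **Multiplicativity of the Brauer map modulo `p`**, cut-down form inside a subgroup `H`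
containing the centralizer of `P`. -/
theorem cutC_conv (hM : IsPModular p M) (P H : Subgroup G) [Fintype H] (hP : IsPGroup p P)
    (hCH : Subgroup.centralizer (P : Set G) ≤ H)
    (a b : G → ℂ) (ha : IsRValued M a) (hb : IsRValued M b)
    (haP : ∀ u ∈ P, ∀ x, a (u * x * u⁻¹) = a x) (hbP : ∀ u ∈ P, ∀ x, b (u * x * u⁻¹) = b x) :
    ∃ r : H → ℂ, IsRValued M r ∧
      cutC P H (conv a b) = conv (cutC P H a) (cutC P H b) + (p : ℂ) • r := by
  classical
  haveI := isPrime_of_isPModular hM
  have hp0 : (p : ℂ) ≠ 0 := by exact_mod_cast hM.1.ne_zero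
  refine ⟨fun c => if (c : G) ∈ Subgroup.centralizer (P : Set G) then (∑ x ∈ Finset.univ.filter
      (fun x => x ∉ Subgroup.centralizer (P : Set G)), a x * b (x⁻¹ * (c : G))) / (p : ℂ) else 0,
      ?_, ?_⟩
  · intro c
    dsimp only
    by_cases hc : (c : G) ∈ Subgroup.centralizer (P : Set G)
    · rw [if_pos hc]
      apply memLocalRing_sum_compl_centralizer hM P hP
      · intro u hu x
        rw [haP u hu x]
        have hcu : (c : G) * u⁻¹ = u⁻¹ * (c : G) := by
          have := (Subgroup.mem_centralizer_iff.mp hc) u⁻¹ (P.inv_mem hu)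
          exact this.symm
        have : (u * x * u⁻¹)⁻¹ * (c : G) = u * (x⁻¹ * (c : G)) * u⁻¹ := by
          calc (u * x * u⁻¹)⁻¹ * (c : G) = u * x⁻¹ * (u⁻¹ * (c : G)) := by group
            _ = u * x⁻¹ * ((c : G) * u⁻¹) := by rw [hcu]
            _ = u * (x⁻¹ * (c : G)) * u⁻¹ := by group
        rw [this, hbP u hu]
      · intro x
        exact memLocalRing_mul (ha x) (hb _)
    · rw [if_neg hc]
      exact memLocalRing_zero this.ne_top
  · funext c
    simp only [Pi.add_apply, Pi.smul_apply, smul_eq_mul]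
    by_cases hc : (c : G) ∈ Subgroup.centralizer (P : Set G)
    · rw [cutC_of_mem _ _ _ hc, if_pos hc, mul_div_cancel₀ _ hp0]
      have h1 : conv (cutC P H a) (cutC P H b) c =
          ∑ x ∈ Finset.univ.filter (fun x => x ∈ Subgroup.centralizer (P : Set G)),
            a x * b (x⁻¹ * (c : G)) := by
        unfold conv
        rw [Finset.sum_filter]
        rw [← sum_subgroup_eq H (fun x => if x ∈ Subgroup.centralizer (P : Set G) then
          a x * b (x⁻¹ * (c : G)) else 0) (fun x hx => if_neg (fun h => hx (hCH h)))]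
        refine Finset.sum_congr rfl fun y _ => ?_
        by_cases hy : (y : G) ∈ Subgroup.centralizer (P : Set G)
        · have hyc : ((y⁻¹ * c : H) : G) ∈ Subgroup.centralizer (P : Set G) := by
            simpa using Subgroup.mul_mem _ (Subgroup.inv_mem _ hy) hc
          rw [if_pos hy, cutC_of_mem _ _ _ hy, cutC_of_mem _ _ _ hyc]
          simp
        · rw [if_neg hy, cutC_of_notMem _ _ _ hy, zero_mul]
      rw [h1]
      unfold conv
      rw [Finset.sum_filter_add_sum_filter_not]
    · rw [cutC_of_notMem _ _ _ hc, if_neg hc, mul_zero, add_zero]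
      unfold conv
      symm
      refine Finset.sum_eq_zero fun y _ => ?_
      by_cases hy : (y : G) ∈ Subgroup.centralizer (P : Set G)
      · have hyc : ((y⁻¹ * c : H) : G) ∉ Subgroup.centralizer (P : Set G) := by
          intro hcon
          apply hc
          have := Subgroup.mul_mem _ hy hcon
          simpa using this
        rw [cutC_of_notMem _ _ _ hyc, mul_zero]
      · rw [cutC_of_notMem _ _ _ hy, zero_mul]

/-- The Brauer map followed by a central character of `H` is multiplicative modulo the local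
ideal. -/
theorem omega_cutC_conv (hM : IsPModular p M) (P H : Subgroup G) [Fintype H] (hP : IsPGroup p P)
    (hCH : Subgroup.centralizer (P : Set G) ≤ H) (hHN : H ≤ Subgroup.normalizer (P : Set G))
    {a b : G → ℂ} (ha : IsRValued M a) (hb : IsRValued M b)
    (haP : ∀ u ∈ P, ∀ x, a (u * x * u⁻¹) = a x) (hbP : ∀ u ∈ P, ∀ x, b (u * x * u⁻¹) = b x)
    (haH : ∀ u ∈ H, ∀ x, a (u * x * u⁻¹) = a x) (hbH : ∀ u ∈ H, ∀ x, b (u * x * u⁻¹) = b x)
    {ξ : H → ℂ} (hξ : IsIrrCharacter H ξ) :
    MemLocalIdeal M (omega ξ (cutC P H (conv a b)) -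
      omega ξ (cutC P H a) * omega ξ (cutC P H b)) := by
  haveI := isPrime_of_isPModular hM
  have hp0 : (p : ℂ) ≠ 0 := by exact_mod_cast hM.1.ne_zero
  obtain ⟨r, hrR, hr⟩ := cutC_conv hM P H hP hCH a b ha hb haP hbP
  have ha' := isClassFunction_cutC hHN haH
  have hb' := isClassFunction_cutC hHN hbH
  have hab' : IsClassFunction H (cutC P H (conv a b)) :=
    isClassFunction_cutC hHN (fun u hu x => conv_conj_invariant u (haH u hu) (hbH u hu) x)
  have hconv' := isClassFunction_conv ha' hb'
  have hr_eq : r = (p : ℂ)⁻¹ • (cutC P H (conv a b) - conv (cutC P H a) (cutC P H b)) := by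
    rw [hr]
    funext c
    simp only [Pi.smul_apply, Pi.sub_apply, Pi.add_apply, smul_eq_mul]
    field_simp
    ring
  have hr_cl : IsClassFunction H r := by
    rw [hr_eq]
    exact isClassFunction_smul _ (isClassFunction_sub hab' hconv')
  rw [hr, omega_add, omega_smul, omega_conv hξ ha' hb', add_sub_cancel_left]
  exact memLocalIdeal_mul_right ((memLocalIdeal_natCast_iff hM p).mpr dvd_rfl)
    (memLocalRing_omega hξ hr_cl hrR)

end bm

section ind

variable {G : Type u} [Group G] [Fintype G] {p : ℕ} {M : Ideal AlgInt}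

/-- Nilpotent classes inside a subgroup `H` normalizing the `p`-subgroup `P ≤ H`. -/
theorem memLocalIdeal_centralChar_of_notMem_centralizer_sub [Fact p.Prime] (hM : IsPModular p M)
    (P H : Subgroup G) [Fintype H] (hP : IsPGroup p P) (hPH : P ≤ H)
    (hHN : H ≤ Subgroup.normalizer (P : Set G)) {ξ : H → ℂ} (hξ : IsIrrCharacter H ξ) (h : H)
    (hh : (h : G) ∉ Subgroup.centralizer (P : Set G)) : MemLocalIdeal M (centralChar ξ h) := by
  haveI : (P.subgroupOf H).Normal := (Subgroup.normal_subgroupOf_iff_le_normalizer hPH).mpr hHN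
  refine memLocalIdeal_centralChar_of_notMem_centralizer hM (P.subgroupOf H) hP.comap_subtype h
    ?_ hξ
  intro hcon
  apply hh
  rw [Subgroup.mem_centralizer_iff] at hcon ⊢
  intro v hv
  have := hcon ⟨v, hPH hv⟩ (Subgroup.mem_subgroupOf.mpr hv)
  exact congrArg Subtype.val this

/-- Class functions of `H` vanishing on the centralizer of `P` lie in the radical. -/
theorem memLocalIdeal_omega_of_vanish [Fact p.Prime] (hM : IsPModular p M)
    (P H : Subgroup G) [Fintype H] (hP : IsPGroup p P) (hPH : P ≤ H)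
    (hHN : H ≤ Subgroup.normalizer (P : Set G)) {ξ : H → ℂ} (hξ : IsIrrCharacter H ξ)
    {a : H → ℂ} (ha : IsClassFunction H a) (haR : IsRValued M a)
    (hvan : ∀ h : H, (h : G) ∈ Subgroup.centralizer (P : Set G) → a h = 0) :
    MemLocalIdeal M (omega ξ a) := by
  classical
  haveI hpr := isPrime_of_isPModular hM
  haveI : Fintype (ConjClasses H) := Fintype.ofFinite _
  rw [omega_eq_sum_conjClasses (isClassFunction_of_isIrrCharacter hξ) ha]
  refine memLocalIdeal_sum _ _ fun K _ => ?_
  by_cases hK : ((Quotient.out K : H) : G) ∈ Subgroup.centralizer (P : Set G)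
  · rw [hvan _ hK, zero_mul]
    exact memLocalIdeal_zero hpr.ne_top
  · exact memLocalIdeal_mul_left (haR _)
      (memLocalIdeal_centralChar_of_notMem_centralizer_sub hM P H hP hPH hHN hξ _ hK)

theorem omega_restr_sub_cutC [Fact p.Prime] (hM : IsPModular p M)
    (P H : Subgroup G) [Fintype H] (hP : IsPGroup p P) (hPH : P ≤ H)
    (hHN : H ≤ Subgroup.normalizer (P : Set G)) {ξ : H → ℂ} (hξ : IsIrrCharacter H ξ)
    {f : G → ℂ} (hf : ∀ u ∈ H, ∀ x, f (u * x * u⁻¹) = f x) (hfR : IsRValued M f) :
    MemLocalIdeal M (omega ξ (restr H f) - omega ξ (cutC P H f)) := by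
  haveI := isPrime_of_isPModular hM
  rw [← omega_sub]
  refine memLocalIdeal_omega_of_vanish hM P H hP hPH hHN hξ
    (isClassFunction_sub (isClassFunction_restr H hf) (isClassFunction_cutC hHN hf))
    (isRValued_sub (isRValued_restr H hfR) (isRValued_cutC P H hfR)) ?_
  intro h hh
  simp only [Pi.sub_apply]
  rw [cutC_of_mem _ _ _ hh]
  simp [restr]

/-- The weight on `G` of the central character of a function on the subgroup `H`. -/
noncomputable def wOf (H : Subgroup G) (ξ : H → ℂ) : G → ℂ :=
  fun g => by classical exact if h : g ∈ H then ξ ⟨g, h⟩ / ξ 1 else 0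

theorem wOf_of_mem (H : Subgroup G) (ξ : H → ℂ) (h : H) : wOf H ξ (h : G) = ξ h / ξ 1 := by
  classical
  unfold wOf
  rw [dif_pos h.2]

theorem wOf_of_notMem (H : Subgroup G) (ξ : H → ℂ) {g : G} (hg : g ∉ H) : wOf H ξ g = 0 := by
  classical
  unfold wOf
  rw [dif_neg hg]

theorem wsum_wOf (H : Subgroup G) [Fintype H] (ξ : H → ℂ) (a : G → ℂ) :
    wsum (wOf H ξ) a = omega ξ (restr H a) := by
  unfold wsum omega
  rw [← sum_subgroup_eq H (fun g => a g * wOf H ξ g)
    (fun x hx => by rw [wOf_of_notMem H ξ hx, mul_zero]), Finset.sum_div]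
  refine Finset.sum_congr rfl fun y _ => ?_
  rw [wOf_of_mem]
  simp only [restr]
  ring

theorem restr_delta (H : Subgroup G) [Fintype H] : restr H (delta : G → ℂ) = (delta : H → ℂ) := by
  classical
  funext h
  unfold restr delta
  simp

/-- For `P C_G(P) ≤ H ≤ N_G(P)`, the induced central character of an irreducible character of
`H` is a homomorphism modulo the local ideal. -/
theorem isModHom_wOf [Fact p.Prime] (hM : IsPModular p M)
    (P H : Subgroup G) [Fintype H] (hP : IsPGroup p P) (hPH : P ≤ H)
    (hCH : Subgroup.centralizer (P : Set G) ≤ H)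
    (hHN : H ≤ Subgroup.normalizer (P : Set G)) {ξ : H → ℂ} (hξ : IsIrrCharacter H ξ) :
    IsModHom M (wOf H ξ) := by
  haveI := isPrime_of_isPModular hM
  refine ⟨?_, ?_, ?_⟩
  · intro a ha haR
    rw [wsum_wOf]
    exact memLocalRing_omega hξ (isClassFunction_restr H (fun u _ x => ha x u))
      (isRValued_restr H haR)
  · rw [wsum_wOf, restr_delta, omega_delta_of_irr hξ, sub_self]
    exact memLocalIdeal_zero this.ne_top
  · intro a b ha hb haR hbR
    rw [wsum_wOf, wsum_wOf, wsum_wOf]
    have habc := isClassFunction_conv ha hb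
    have e1 := omega_restr_sub_cutC hM P H hP hPH hHN hξ (f := conv a b)
      (fun u _ x => habc x u) (isRValued_conv haR hbR)
    have e2 := omega_cutC_conv hM P H hP hCH hHN haR hbR (fun u _ x => ha x u)
      (fun u _ x => hb x u) (fun u _ x => ha x u) (fun u _ x => hb x u) hξ
    have e3 := omega_restr_sub_cutC hM P H hP hPH hHN hξ (f := a) (fun u _ x => ha x u) haR
    have e4 := omega_restr_sub_cutC hM P H hP hPH hHN hξ (f := b) (fun u _ x => hb x u) hbR
    have hRa : MemLocalRing M (omega ξ (restr H a)) :=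
      memLocalRing_omega hξ (isClassFunction_restr H (fun u _ x => ha x u)) (isRValued_restr H haR)
    have hRb : MemLocalRing M (omega ξ (cutC P H b)) :=
      memLocalRing_omega hξ (isClassFunction_cutC hHN (fun u _ x => hb x u))
        (isRValued_cutC P H hbR)
    have e5 := memLocalIdeal_congr_mul hRa hRb e3 e4
    have := memLocalIdeal_sub (memLocalIdeal_add e1 e2) e5
    convert this using 1
    ring

theorem inducedCentralChar_eq_omega (H : Subgroup G) [Fintype H] (ξ : H → ℂ) (g : G) :
    inducedCentralChar H ξ g = omega ξ (restr H (classInd g)) := by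
  classical
  unfold inducedCentralChar omega restr classInd
  rw [finsum_mem_eq_finite_toFinset_sum _ (Set.toFinite _), Finset.sum_div]
  have : (Set.toFinite {h : H | IsConj g (h : G)}).toFinset =
      Finset.univ.filter (fun h : H => IsConj g (h : G)) := by
    ext h; simp
  rw [this, Finset.sum_filter]
  refine Finset.sum_congr rfl fun h _ => ?_
  split_ifs <;> simp

theorem brauerCentralChar_eq_omega (P H : Subgroup G) [Fintype H] (ξ : H → ℂ) (g : G) :
    brauerCentralChar P H ξ g = omega ξ (cutC P H (classInd g)) := by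
  classical
  unfold brauerCentralChar omega cutC classInd
  rw [finsum_mem_eq_finite_toFinset_sum _ (Set.toFinite _), Finset.sum_div]
  have : (Set.toFinite {h : H | IsConj g (h : G) ∧
      (h : G) ∈ Subgroup.centralizer (P : Set G)}).toFinset =
      Finset.univ.filter (fun h : H => IsConj g (h : G) ∧
        (h : G) ∈ Subgroup.centralizer (P : Set G)) := by
    ext h; simp
  rw [this, Finset.sum_filter]
  refine Finset.sum_congr rfl fun h _ => ?_
  by_cases h2 : (h : G) ∈ Subgroup.centralizer (P : Set G)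
  · by_cases h1 : IsConj g (h : G)
    · rw [if_pos ⟨h1, h2⟩, if_pos h2, if_pos h1, one_mul]
    · rw [if_neg (fun hh => h1 hh.1), if_pos h2, if_neg h1, zero_mul, zero_div]
  · rw [if_neg (fun hh => h2 hh.2), if_neg h2, zero_mul, zero_div]

theorem inducedCentralChar_eq_wsum (H : Subgroup G) [Fintype H] (ξ : H → ℂ) (g : G) :
    inducedCentralChar H ξ g = wsum (wOf H ξ) (classInd g) := by
  rw [wsum_wOf, inducedCentralChar_eq_omega]

/-- The induced central character and the Brauer central character agree modulo the local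
ideal. -/
theorem memLocalIdeal_induced_sub_brauer [Fact p.Prime] (hM : IsPModular p M)
    (P H : Subgroup G) [Fintype H] (hP : IsPGroup p P) (hPH : P ≤ H)
    (hHN : H ≤ Subgroup.normalizer (P : Set G)) {ξ : H → ℂ} (hξ : IsIrrCharacter H ξ) (g : G) :
    MemLocalIdeal M (inducedCentralChar H ξ g - brauerCentralChar P H ξ g) := by
  rw [inducedCentralChar_eq_omega, brauerCentralChar_eq_omega]
  haveI := isPrime_of_isPModular hM
  exact omega_restr_sub_cutC hM P H hP hPH hHN hξ
    (fun u _ x => isClassFunction_classInd g x u) (isRValued_classInd g)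

/-- From a homomorphism-mod-`M` weight attached to `ξ ∈ b` to an induced block. -/
theorem isInducedBlock_of_isModHom [hpr : M.IsPrime] (H : Subgroup G) [Fintype H]
    {b : Set (IrrCharacter H)} (hb : IsPBlock M b) {ξ : IrrCharacter H} (hξ : ξ ∈ b)
    (hw : IsModHom M (wOf H (ξ : H → ℂ))) {B : Set (IrrCharacter G)} (hB : IsPBlock M B)
    (hB1 : MemLocalIdeal M (wsum (wOf H (ξ : H → ℂ)) (blockCoeff B) - 1)) :
    IsInducedBlock M H b B := by
  refine ⟨hb, hB, ?_⟩
  intro ξ' hξ' χ hχ g
  have e1 := hw.congr_omega hB hB1 hχ (isClassFunction_classInd g) (isRValued_classInd g)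
  rw [omega_classInd_of_irr χ.2, ← inducedCentralChar_eq_wsum] at e1
  have e2 : MemLocalIdeal M (inducedCentralChar H (ξ' : H → ℂ) g -
      inducedCentralChar H (ξ : H → ℂ) g) := by
    rw [inducedCentralChar_eq_omega, inducedCentralChar_eq_omega]
    exact memLocalIdeal_omega_sub ξ'.2 ξ.2 (sameBlock_of_mem hb hξ' hξ)
      (isClassFunction_restr H (fun u _ x => isClassFunction_classInd g x u))
      (isRValued_restr H (isRValued_classInd g))
  have := memLocalIdeal_add e2 e1
  convert this using 1
  ring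

end ind

end Cfsg.Agent.Helper77
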