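import Mathlib
import Cfsg.Agent.Lib.Helper77.Lambda

set_option autoImplicit false
set_option linter.unusedSectionVars false
set_option linter.style.haveILetI false

namespace Cfsg.Agent.Helper77

open Cfsg Cfsg.Agent.Helper79

universe u

section ideal

variable {G : Type u} [Group G] [Fintype G] {M : Ideal AlgInt} [hp : M.IsPrime]

/-- A predicate on central elements that is an ideal of the centre (over the local ring). -/
structure IsConvIdeal (M : Ideal AlgInt) (Q : (G → ℂ) → Prop) : Prop where
  cl : ∀ {a : G → ℂ}, Q a → IsClassFunction G a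
  rv : ∀ {a : G → ℂ}, Q a → IsRValued M a
  zero : Q 0
  add : ∀ {a b : G → ℂ}, Q a → Q b → Q (a + b)
  sub : ∀ {a b : G → ℂ}, Q a → Q b → Q (a - b)
  smul : ∀ {c : ℂ} {a : G → ℂ}, MemLocalRing M c → Q a → Q (c • a)
  conv : ∀ {a b : G → ℂ}, Q a → IsClassFunction G b → IsRValued M b → Q (conv a b)

/-- The polynomial `1 - ∏ (1 - c u)` without constant term. -/
noncomputable def idemPoly (u : G → ℂ) : List ℂ → (G → ℂ)
  | [] => 0
  | c :: cs => idemPoly u cs + c • u - c • conv (idemPoly u cs) u

theorem IsConvIdeal.idemPoly_mem {Q : (G → ℂ) → Prop} (hQ : IsConvIdeal M Q) {u : G → ℂ} (hu : Q u)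
    (cs : List ℂ) (hcs : ∀ c ∈ cs, MemLocalRing M c) : Q (idemPoly u cs) := by
  induction cs with
  | nil => exact hQ.zero
  | cons c cs ih =>
    have ih' := ih fun d hd => hcs d (List.mem_cons_of_mem _ hd)
    have hc := hcs c List.mem_cons_self
    exact hQ.sub (hQ.add ih' (hQ.smul hc hu)) (hQ.smul hc (hQ.conv ih' (hQ.cl hu) (hQ.rv hu)))

theorem isClassFunction_idemPoly {u : G → ℂ} (hu : IsClassFunction G u) (cs : List ℂ) :
    IsClassFunction G (idemPoly u cs) := by
  induction cs with
  | nil => exact fun _ _ => rfl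
  | cons c cs ih =>
    exact isClassFunction_sub (isClassFunction_add ih (isClassFunction_smul _ hu))
      (isClassFunction_smul _ (isClassFunction_conv ih hu))

theorem omega_idemPoly {χ : G → ℂ} (hχ : IsIrrCharacter G χ) {u : G → ℂ}
    (hu : IsClassFunction G u) (cs : List ℂ) :
    omega χ (idemPoly u cs) = 1 - (cs.map (fun c => 1 - c * omega χ u)).prod := by
  induction cs with
  | nil => simp [idemPoly, omega]
  | cons c cs ih =>
    simp only [idemPoly, List.map_cons, List.prod_cons]
    rw [omega_sub, omega_add, omega_smul, omega_smul,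
      omega_conv hχ (isClassFunction_idemPoly hu cs) hu, ih]
    ring

/-- If an ideal of the centre contains an element on which the central character of the block
`B` does not vanish modulo the local ideal, then it contains the block idempotent. -/
theorem IsConvIdeal.blockCoeff_mem {Q : (G → ℂ) → Prop} (hQ : IsConvIdeal M Q)
    {B : Set (IrrCharacter G)} (hB : IsPBlock M B) {z : G → ℂ} (hz : Q z)
    {χ₀ : IrrCharacter G} (hχ₀ : χ₀ ∈ B) (h : ¬ MemLocalIdeal M (omega (χ₀ : G → ℂ) z)) :
    Q (Cfsg.blockCoeff B) := by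
  classical
  have hzc := hQ.cl hz
  have hzR := hQ.rv hz
  let u : G → ℂ := Helper77.conv z (Cfsg.blockCoeff B)
  have hu : Q u := hQ.conv hz (isClassFunction_blockCoeff B) (isRValued_blockCoeff hB)
  have huc := hQ.cl hu
  have homu : ∀ ψ : IrrCharacter G, omega (ψ : G → ℂ) u =
      if ψ ∈ B then omega (ψ : G → ℂ) z else 0 := by
    intro ψ
    simp only [u]
    rw [omega_conv ψ.2 hzc (isClassFunction_blockCoeff B), omega_blockCoeff]
    split_ifs <;> simp
  have hunit : ∀ ψ ∈ B, MemLocalRing M (omega (ψ : G → ℂ) z) ∧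
      ¬ MemLocalIdeal M (omega (ψ : G → ℂ) z) := by
    intro ψ hψ
    refine ⟨memLocalRing_omega ψ.2 hzc hzR, fun hcon => h ?_⟩
    have := memLocalIdeal_add (memLocalIdeal_omega_sub χ₀.2 ψ.2 (sameBlock_of_mem hB hχ₀ hψ) hzc hzR)
      hcon
    simpa using this
  let T : Finset (IrrCharacter G) := Finset.univ.filter (fun χ => χ ∈ B)
  let cs : List ℂ := T.toList.map (fun χ : IrrCharacter G => (omega (χ : G → ℂ) z)⁻¹)
  have hcs : ∀ c ∈ cs, MemLocalRing M c := by
    intro c hc
    obtain ⟨χ, hχ, rfl⟩ := List.mem_map.mp hc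
    have hχB : χ ∈ B := (Finset.mem_filter.mp (Finset.mem_toList.mp hχ)).2
    exact memLocalRing_inv (hunit χ hχB).1 (hunit χ hχB).2
  have hpoly := hQ.idemPoly_mem hu cs hcs
  have : Helper77.idemPoly u cs = Cfsg.blockCoeff B := by
    apply eq_of_omega_eq (isClassFunction_idemPoly huc cs) (isClassFunction_blockCoeff B)
    intro ψ
    rw [omega_idemPoly ψ.2 huc, omega_blockCoeff, homu]
    simp only [cs, List.map_map]
    rw [Finset.prod_map_toList]
    by_cases hψ : ψ ∈ B
    · rw [if_pos hψ, if_pos hψ]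
      have hne : omega (ψ : G → ℂ) z ≠ 0 := by
        intro h0
        apply (hunit ψ hψ).2
        rw [h0]
        exact memLocalIdeal_zero hp.ne_top
      rw [Finset.prod_eq_zero (i := ψ) (Finset.mem_filter.mpr ⟨Finset.mem_univ _, hψ⟩)
        (by simp [hne])]
      simp
    · rw [if_neg hψ, if_neg hψ]
      simp
  rw [← this]
  exact hpoly

end ideal

section defect

variable {G : Type u} [Group G] [Fintype G] {p : ℕ} {M : Ideal AlgInt}

/-- `a` is supported, modulo the local ideal, on elements all of whose centralizer `p`-subgroups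
are conjugate into `S`. -/
def DefectLE (p : ℕ) (M : Ideal AlgInt) (S : Subgroup G) (a : G → ℂ) : Prop :=
  ∀ g, ¬ MemLocalIdeal M (a g) → ∀ T : Subgroup G, IsPGroup p T →
    T ≤ Subgroup.centralizer ({g} : Set G) → ∃ x : G, T.map (MulAut.conj x).toMonoidHom ≤ S

theorem defectLE_conv (hM : IsPModular p M) (S : Subgroup G) {a b : G → ℂ}
    (ha : IsClassFunction G a) (hb : IsClassFunction G b) (haR : IsRValued M a)
    (hbR : IsRValued M b) (hS : DefectLE p M S a) : DefectLE p M S (conv a b) := by
  classical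
  haveI := isPrime_of_isPModular hM
  intro t ht T hT hTt
  have hTt' : ∀ u ∈ T, u * t = t * u := by
    intro u hu
    have := hTt hu
    rw [Subgroup.mem_centralizer_iff] at this
    exact (this t rfl).symm
  let φ : G → ℂ := fun x => a x * b (x⁻¹ * t)
  have hφinv : ∀ u ∈ T, ∀ x, φ (u * x * u⁻¹) = φ x := by
    intro u hu x
    simp only [φ]
    rw [ha x u]
    have : (u * x * u⁻¹)⁻¹ * t = u * (x⁻¹ * t) * u⁻¹ := by
      have h1 : u⁻¹ * t = t * u⁻¹ := by
        have := hTt' u hu
        calc u⁻¹ * t = u⁻¹ * (t * u) * u⁻¹ := by group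
          _ = u⁻¹ * (u * t) * u⁻¹ := by rw [this]
          _ = t * u⁻¹ := by group
      calc (u * x * u⁻¹)⁻¹ * t = u * x⁻¹ * (u⁻¹ * t) := by group
        _ = u * x⁻¹ * (t * u⁻¹) := by rw [h1]
        _ = u * (x⁻¹ * t) * u⁻¹ := by group
    rw [this, hb _ u]
  have hφR : ∀ x, MemLocalRing M (φ x) := fun x => memLocalRing_mul (haR x) (hbR _)
  have hout := memLocalRing_sum_compl_centralizer hM T hT φ hφinv hφR
  have hp0 : (p : ℂ) ≠ 0 := by exact_mod_cast hM.1.ne_zero
  have hout' : MemLocalIdeal M (∑ x ∈ Finset.univ.filter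
      (fun x => x ∉ Subgroup.centralizer (T : Set G)), φ x) := by
    have := memLocalIdeal_mul_right ((memLocalIdeal_natCast_iff hM p).mpr dvd_rfl) hout
    rwa [mul_div_cancel₀ _ hp0] at this
  have hsplit : Helper77.conv a b t = ∑ x ∈ Finset.univ.filter
      (fun x => x ∈ Subgroup.centralizer (T : Set G)), φ x + ∑ x ∈ Finset.univ.filter
      (fun x => x ∉ Subgroup.centralizer (T : Set G)), φ x := by
    rw [Finset.sum_filter_add_sum_filter_not]
    rfl
  have hin : ∃ x ∈ Subgroup.centralizer (T : Set G), ¬ MemLocalIdeal M (φ x) := by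
    by_contra hcon
    push Not at hcon
    apply ht
    rw [hsplit]
    refine memLocalIdeal_add (memLocalIdeal_sum _ _ fun x hx => ?_) hout'
    exact hcon x (Finset.mem_filter.mp hx).2
  obtain ⟨x, hxT, hx⟩ := hin
  have hax : ¬ MemLocalIdeal M (a x) := fun h => hx (memLocalIdeal_mul_right h (hbR _))
  refine hS x hax T hT ?_
  intro u hu
  rw [Subgroup.mem_centralizer_iff]
  intro y hy
  rw [Set.mem_singleton_iff] at hy
  subst hy
  exact (hxT u hu).symm

theorem defectLE_add [hp : M.IsPrime] (S : Subgroup G) {a b : G → ℂ}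
    (ha : DefectLE p M S a) (hb : DefectLE p M S b) : DefectLE p M S (a + b) := by
  intro g hg T hT hTg
  by_cases h1 : MemLocalIdeal M (a g)
  · by_cases h2 : MemLocalIdeal M (b g)
    · exact absurd (memLocalIdeal_add h1 h2) hg
    · exact hb g h2 T hT hTg
  · exact ha g h1 T hT hTg

theorem defectLE_smul [hp : M.IsPrime] (S : Subgroup G) {c : ℂ} {a : G → ℂ}
    (hc : MemLocalRing M c) (ha : DefectLE p M S a) : DefectLE p M S (c • a) := by
  intro g hg T hT hTg
  refine ha g (fun h => hg ?_) T hT hTg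
  exact memLocalIdeal_mul_left hc h

theorem defectLE_zero [hp : M.IsPrime] (S : Subgroup G) : DefectLE p M S (0 : G → ℂ) := by
  intro g hg
  exact absurd (memLocalIdeal_zero hp.ne_top) hg

/-- The ideal of central elements of defect at most `S`. -/
theorem isConvIdeal_defectLE (hM : IsPModular p M) (S : Subgroup G) :
    IsConvIdeal M (fun a : G → ℂ => IsClassFunction G a ∧ IsRValued M a ∧ DefectLE p M S a) := by
  haveI := isPrime_of_isPModular hM
  refine ⟨fun h => h.1, fun h => h.2.1, ⟨fun _ _ => rfl, fun _ => memLocalRing_zero this.ne_top,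
    defectLE_zero S⟩, ?_, ?_, ?_, ?_⟩
  · intro a b ha hb
    exact ⟨isClassFunction_add ha.1 hb.1, isRValued_add ha.2.1 hb.2.1, defectLE_add S ha.2.2 hb.2.2⟩
  · intro a b ha hb
    refine ⟨isClassFunction_sub ha.1 hb.1, isRValued_sub ha.2.1 hb.2.1, ?_⟩
    have : a - b = a + (-1 : ℂ) • b := by
      funext g; simp [sub_eq_add_neg]
    rw [this]
    exact defectLE_add S ha.2.2 (defectLE_smul S
      (by simpa using memLocalRing_neg (memLocalRing_one (M := M) ‹M.IsPrime›.ne_top)) hb.2.2)
  · intro c a hc ha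
    exact ⟨isClassFunction_smul _ ha.1, isRValued_smul hc ha.2.1, defectLE_smul S hc ha.2.2⟩
  · intro a b ha hb hbR
    exact ⟨isClassFunction_conv ha.1 hb, isRValued_conv ha.2.1 hbR,
      defectLE_conv hM S ha.1 hb ha.2.1 hbR ha.2.2⟩

/-- The class sum of `g` has defect at most a Sylow subgroup of the centralizer of `g`. -/
theorem defectLE_classInd [Fact p.Prime] [hp : M.IsPrime] (g : G)
    (D : Sylow p (Subgroup.centralizer ({g} : Set G))) :
    DefectLE p M ((D : Subgroup (Subgroup.centralizer ({g} : Set G))).map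
      (Subgroup.centralizer ({g} : Set G)).subtype) (classInd g) := by
  classical
  intro y hy T hT hTy
  have hconj : IsConj g y := by
    by_contra hcon
    apply hy
    unfold classInd
    rw [if_neg hcon]
    exact memLocalIdeal_zero hp.ne_top
  obtain ⟨k, hk⟩ := isConj_iff.mp hconj
  -- T' = k⁻¹ T k ≤ C(g)
  have hT'C : ∀ t ∈ T, k⁻¹ * t * k ∈ Subgroup.centralizer ({g} : Set G) := by
    intro t ht
    have h1 := hTy ht
    rw [Subgroup.mem_centralizer_iff] at h1 ⊢
    intro z hz
    rw [Set.mem_singleton_iff] at hz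
    subst hz
    have h2 := h1 y rfl
    rw [← hk] at h2
    -- h2 : k z k⁻¹ * t = t * (k z k⁻¹)
    calc z * (k⁻¹ * t * k) = k⁻¹ * (k * z * k⁻¹ * t) * k := by group
      _ = k⁻¹ * (t * (k * z * k⁻¹)) * k := by rw [h2]
      _ = k⁻¹ * t * k * z := by group
  let T' : Subgroup (Subgroup.centralizer ({g} : Set G)) :=
    (T.map (MulAut.conj k⁻¹).toMonoidHom).subgroupOf (Subgroup.centralizer ({g} : Set G))
  have hT' : IsPGroup p T' := by
    have h1 : IsPGroup p (T.map (MulAut.conj k⁻¹).toMonoidHom) := hT.map _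
    exact h1.comap_subtype
  obtain ⟨P', hP'⟩ := hT'.exists_le_sylow
  obtain ⟨c, hc⟩ := MulAction.exists_smul_eq (Subgroup.centralizer ({g} : Set G)) P' D
  refine ⟨(c : G) * k⁻¹, ?_⟩
  rintro _ ⟨t, ht, rfl⟩
  have htT' : (⟨k⁻¹ * t * k, hT'C t ht⟩ : Subgroup.centralizer ({g} : Set G)) ∈ T' := by
    rw [Subgroup.mem_subgroupOf]
    exact ⟨t, ht, by simp [MulAut.conj_apply]⟩
  have h1 := hP' htT'
  have h2 : c * (⟨k⁻¹ * t * k, hT'C t ht⟩ : Subgroup.centralizer ({g} : Set G)) * c⁻¹ ∈
      ((c • P' : Sylow p _) : Subgroup _) := by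
    rw [Sylow.coe_subgroup_smul]
    exact Subgroup.smul_mem_pointwise_smul _ (MulAut.conj c) _ h1
  rw [hc] at h2
  refine ⟨_, h2, ?_⟩
  simp [MulAut.conj_apply, mul_assoc]

/-- **Min-max, common form**: if the central character of `B` does not vanish on the class of `g`,
then the idempotent of `B` has defect at most a Sylow subgroup of the centralizer of `g`. -/
theorem defectLE_blockCoeff [Fact p.Prime] (hM : IsPModular p M) {B : Set (IrrCharacter G)}
    (hB : IsPBlock M B) (g : G) (D : Sylow p (Subgroup.centralizer ({g} : Set G)))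
    {χ₀ : IrrCharacter G} (hχ₀ : χ₀ ∈ B)
    (h : ¬ MemLocalIdeal M (centralChar (χ₀ : G → ℂ) g)) :
    DefectLE p M ((D : Subgroup (Subgroup.centralizer ({g} : Set G))).map
      (Subgroup.centralizer ({g} : Set G)).subtype) (blockCoeff B) := by
  haveI := isPrime_of_isPModular hM
  have hz : (fun a : G → ℂ => IsClassFunction G a ∧ IsRValued M a ∧ DefectLE p M
      ((D : Subgroup (Subgroup.centralizer ({g} : Set G))).map
      (Subgroup.centralizer ({g} : Set G)).subtype) a) (classInd g) :=
    ⟨isClassFunction_classInd g, isRValued_classInd g, defectLE_classInd g D⟩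
  exact ((isConvIdeal_defectLE hM _).blockCoeff_mem hB hz hχ₀
    (by rw [omega_classInd_of_irr χ₀.2]; exact h)).2.2

theorem sylow_map_le_centralizer [Fact p.Prime] (g : G)
    (D : Sylow p (Subgroup.centralizer ({g} : Set G))) :
    (D : Subgroup (Subgroup.centralizer ({g} : Set G))).map
      (Subgroup.centralizer ({g} : Set G)).subtype ≤ Subgroup.centralizer ({g} : Set G) := by
  rintro _ ⟨x, _, rfl⟩
  exact x.2

theorem sylow_map_isPGroup [Fact p.Prime] (g : G)
    (D : Sylow p (Subgroup.centralizer ({g} : Set G))) :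
    IsPGroup p ((D : Subgroup (Subgroup.centralizer ({g} : Set G))).map
      (Subgroup.centralizer ({g} : Set G)).subtype) := D.isPGroup'.map _

end defect

end Cfsg.Agent.Helper77
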