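import Mathlib
import Cfsg.Agent.Lib.Helper77.Induced
import Cfsg.Agent.Lib.Helper77.MinMax
import Cfsg.Agent.Lib.Helper77.Principal

set_option autoImplicit false
set_option linter.unusedSectionVars false
set_option linter.style.haveILetI false

namespace Cfsg.Agent.Helper77

open Cfsg Cfsg.Agent.Helper79

universe u

section decomp

variable {G : Type u} [Group G] [Fintype G]

theorem classFunction_eq_sum_classInd [Fintype (ConjClasses G)] {a : G → ℂ}
    (ha : IsClassFunction G a) :
    a = ∑ K : ConjClasses G, a (Quotient.out K) • classInd (Quotient.out K) := by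
  classical
  funext x
  simp only [Finset.sum_apply, Pi.smul_apply, smul_eq_mul]
  rw [Finset.sum_eq_single (ConjClasses.mk x)]
  · have hconj : IsConj (Quotient.out (ConjClasses.mk x)) x := by
      rw [← ConjClasses.mk_eq_mk_iff_isConj, mk_out_conjClasses]
    unfold classInd
    rw [if_pos hconj, mul_one]
    obtain ⟨k, hk⟩ := isConj_iff.mp hconj
    have := ha (Quotient.out (ConjClasses.mk x)) k
    rw [hk] at this
    exact this
  · intro K _ hK
    unfold classInd
    rw [if_neg, mul_zero]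
    intro hconj
    apply hK
    rw [← mk_out_conjClasses K]
    exact ConjClasses.mk_eq_mk_iff_isConj.mpr hconj
  · intro h
    exact absurd (Finset.mem_univ _) h

theorem wsum_eq_sum_conjClasses [Fintype (ConjClasses G)] (w : G → ℂ) {a : G → ℂ}
    (ha : IsClassFunction G a) :
    wsum w a = ∑ K : ConjClasses G, a (Quotient.out K) * wsum w (classInd (Quotient.out K)) := by
  conv_lhs => rw [classFunction_eq_sum_classInd ha]
  rw [wsum_sum]
  refine Finset.sum_congr rfl fun K _ => ?_
  rw [wsum_smul]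

end decomp

section defgrp

variable {G : Type u} [Group G] [Fintype G] {p : ℕ} {M : Ideal AlgInt}

/-- A `p`-subgroup centralizing a defect class lies in a defect group. -/
theorem exists_isDefectGroup_ge [Fact p.Prime] {B : Set (IrrCharacter G)} {g : G}
    (hg : IsDefectClass M B g) (T : Subgroup G) (hT : IsPGroup p T)
    (hTg : T ≤ Subgroup.centralizer ({g} : Set G)) :
    ∃ E : Subgroup G, IsDefectGroup p M B E ∧ T ≤ E := by
  have hT' : IsPGroup p (T.subgroupOf (Subgroup.centralizer ({g} : Set G))) := hT.comap_subtype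
  obtain ⟨P', hP'⟩ := hT'.exists_le_sylow
  refine ⟨_, ⟨g, hg, P', rfl⟩, ?_⟩
  intro t ht
  exact ⟨⟨t, hTg ht⟩, hP' (Subgroup.mem_subgroupOf.mpr ht), rfl⟩

/-- If `b` induces `B` then defect groups of `b` lie in defect groups of `B`. -/
theorem exists_isDefectGroup_of_isInducedBlock [Fact p.Prime] (hM : IsPModular p M)
    (H : Subgroup G) [Fintype H] {b : Set (IrrCharacter H)} {B : Set (IrrCharacter G)}
    (hind : IsInducedBlock M H b B) (D : Subgroup H) (hD : IsDefectGroup p M b D) :
    ∃ E : Subgroup G, IsDefectGroup p M B E ∧ D.map H.subtype ≤ E := by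
  classical
  haveI hpr := isPrime_of_isPModular hM
  haveI : Fintype (ConjClasses G) := Fintype.ofFinite _
  obtain ⟨hb, hB, hcong⟩ := hind
  obtain ⟨ξ, hξ⟩ := nonempty_of_isPBlock hb
  obtain ⟨χ, hχ⟩ := nonempty_of_isPBlock hB
  -- ω_ξ(restr e_B) ≡ 1
  have h1 : MemLocalIdeal M (omega (ξ : H → ℂ) (restr H (blockCoeff B)) - 1) := by
    have hχ1 : omega (χ : G → ℂ) (blockCoeff B) = 1 := by
      rw [omega_blockCoeff, if_pos hχ]
    rw [← hχ1, ← wsum_wOf, wsum_eq_sum_conjClasses _ (isClassFunction_blockCoeff B),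
      omega_eq_sum_conjClasses (isClassFunction_of_isIrrCharacter χ.2)
        (isClassFunction_blockCoeff B), ← Finset.sum_sub_distrib]
    refine memLocalIdeal_sum _ _ fun K _ => ?_
    rw [← mul_sub, ← inducedCentralChar_eq_wsum]
    exact memLocalIdeal_mul_left (memLocalRing_blockCoeff hB _) (hcong ξ hξ χ hχ _)
  have h2 : ¬ MemLocalIdeal M (omega (ξ : H → ℂ) (restr H (blockCoeff B))) := by
    intro hcon
    have := memLocalIdeal_sub hcon h1
    rw [sub_sub_cancel] at this
    exact not_memLocalIdeal_one this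
  obtain ⟨h, hh1, hh2⟩ := exists_of_not_memLocalIdeal_omega ξ.2
    (isClassFunction_restr H (fun u _ x => isClassFunction_blockCoeff B x u))
    (isRValued_restr H (isRValued_blockCoeff hB)) h2
  -- min-max in H
  obtain ⟨h₀, hh₀, P₀, rfl⟩ := hD
  obtain ⟨Qh⟩ : Nonempty (Sylow p (Subgroup.centralizer ({h} : Set H))) := inferInstance
  have keyH := defectLE_blockCoeff hM hb h Qh hξ hh2
  obtain ⟨x, hx⟩ := keyH h₀ hh₀.2.1 _ (sylow_map_isPGroup h₀ P₀) (sylow_map_le_centralizer h₀ P₀)
  -- min-max in G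
  obtain ⟨g₁, hg₁⟩ := exists_isDefectClass hB
  obtain ⟨D₁⟩ : Nonempty (Sylow p (Subgroup.centralizer ({g₁} : Set G))) := inferInstance
  have keyG := defectLE_blockCoeff hM hB g₁ D₁ hχ (hg₁.2.2 χ hχ)
  let TG : Subgroup G := ((Qh : Subgroup (Subgroup.centralizer ({h} : Set H))).map
    (Subgroup.centralizer ({h} : Set H)).subtype).map H.subtype
  have hTGp : IsPGroup p TG := (sylow_map_isPGroup h Qh).map _
  have hTGc : TG ≤ Subgroup.centralizer ({(h : G)} : Set G) := by
    rintro _ ⟨t, ht, rfl⟩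
    have h3 := sylow_map_le_centralizer h Qh ht
    rw [Subgroup.mem_centralizer_iff] at h3 ⊢
    intro y hy
    rw [Set.mem_singleton_iff] at hy
    subst hy
    exact congrArg Subtype.val (h3 h rfl)
  obtain ⟨y, hy⟩ := keyG (h : G) hh1 TG hTGp hTGc
  -- the adapted defect class
  have hg' := isDefectClass_conj hg₁ (y * (x : G))⁻¹
  refine exists_isDefectGroup_ge hg' _ ((sylow_map_isPGroup h₀ P₀).map _) ?_
  rintro _ ⟨d, hd, rfl⟩
  have h4 : x * d * x⁻¹ ∈ (Qh : Subgroup (Subgroup.centralizer ({h} : Set H))).map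
      (Subgroup.centralizer ({h} : Set H)).subtype := hx ⟨d, hd, by simp [MulAut.conj_apply]⟩
  have h5 : y * ((x * d * x⁻¹ : H) : G) * y⁻¹ ∈ Subgroup.centralizer ({g₁} : Set G) :=
    sylow_map_le_centralizer g₁ D₁ (hy ⟨_, ⟨_, h4, rfl⟩, by simp [MulAut.conj_apply]⟩)
  rw [Subgroup.mem_centralizer_iff] at h5 ⊢
  intro z hz
  rw [Set.mem_singleton_iff] at hz
  subst hz
  have h6 := h5 g₁ rfl
  simp only [Subgroup.coe_mul, Subgroup.coe_inv] at h6
  simp only [Subgroup.coe_subtype]
  calc (y * (x : G))⁻¹ * g₁ * (y * (x : G))⁻¹⁻¹ * (d : G)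
      = (x : G)⁻¹ * y⁻¹ * (g₁ * (y * ((x : G) * (d : G) * (x : G)⁻¹) * y⁻¹)) * y * (x : G) := by
        group
    _ = (x : G)⁻¹ * y⁻¹ * ((y * ((x : G) * (d : G) * (x : G)⁻¹) * y⁻¹) * g₁) * y * (x : G) := by
        rw [h6]
    _ = (d : G) * ((y * (x : G))⁻¹ * g₁ * (y * (x : G))⁻¹⁻¹) := by group

end defgrp

end Cfsg.Agent.Helper77
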