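import Mathlib
import Cfsg.Prelude.Def_BrauerPairs
import Cfsg.Agent.Lib.Helper77.Induced

set_option autoImplicit false
set_option linter.unusedSectionVars false
set_option linter.style.haveILetI false

namespace Cfsg.Agent.Helper77

open Cfsg Cfsg.Agent.Helper79
open scoped ComplexConjugate

universe u

section compEquiv

variable {H N V : Type*} [Group H] [Group N] [AddCommGroup V] [Module ℂ V]

/-- Composing a representation with a group isomorphism. -/
def repComp (σ : Representation ℂ N V) (φ : H ≃* N) : Representation ℂ H V :=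
  MonoidHom.comp σ φ.toMonoidHom

theorem repComp_apply (σ : Representation ℂ N V) (φ : H ≃* N) (h : H) :
    repComp σ φ h = σ (φ h) := rfl

/-- Subrepresentations do not change under composition with an isomorphism. -/
def subrepComp (σ : Representation ℂ N V) (φ : H ≃* N) :
    Subrepresentation (repComp σ φ) ≃o Subrepresentation σ where
  toFun W := ⟨W.toSubmodule, fun g v hv => by
    have := W.apply_mem_toSubmodule (φ.symm g) hv
    rwa [repComp_apply, MulEquiv.apply_symm_apply] at this⟩
  invFun W := ⟨W.toSubmodule, fun h v hv => W.apply_mem_toSubmodule (φ h) hv⟩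
  left_inv W := rfl
  right_inv W := rfl
  map_rel_iff' := Iff.rfl

theorem isIrreducible_repComp (σ : Representation ℂ N V) (φ : H ≃* N)
    (h : σ.IsIrreducible) : (repComp σ φ).IsIrreducible :=
  (OrderIso.isSimpleOrder_iff (subrepComp σ φ)).mpr h

theorem isIrrCharacter_compEquiv {θ : N → ℂ} (hθ : IsIrrCharacter N θ) (φ : H ≃* N) :
    IsIrrCharacter H (fun h => θ (φ h)) := by
  obtain ⟨k, σ, hirr, rfl⟩ := hθ
  exact ⟨k, repComp σ φ, isIrreducible_repComp σ φ hirr, rfl⟩

end compEquiv

section index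

variable {N : Type*} [Group N]

theorem centralizer_singleton_mapEquiv (φ : N ≃* N) (n : N) :
    Subgroup.centralizer ({φ n} : Set N)
      = (Subgroup.centralizer ({n} : Set N)).map (φ : N →* N) := by
  ext y
  simp only [Subgroup.mem_centralizer_iff, Set.mem_singleton_iff, forall_eq, Subgroup.mem_map,
    MonoidHom.coe_coe]
  constructor
  · intro h
    refine ⟨φ.symm y, ?_, φ.apply_symm_apply y⟩
    apply φ.injective
    rw [map_mul, map_mul, φ.apply_symm_apply]
    exact h
  · rintro ⟨z, hz, rfl⟩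
    rw [← map_mul, ← map_mul, hz]

theorem index_centralizer_mapEquiv (φ : N ≃* N) (n : N) :
    (Subgroup.centralizer ({φ n} : Set N)).index = (Subgroup.centralizer ({n} : Set N)).index := by
  rw [centralizer_singleton_mapEquiv, Subgroup.index_map_equiv]

theorem centralChar_compEquiv (φ : N ≃* N) (χ : N → ℂ) (n : N) :
    centralChar (fun k => χ (φ k)) n = centralChar χ (φ n) := by
  unfold centralChar
  rw [index_centralizer_mapEquiv]
  simp only [map_one]

end index

section conjact

variable {G : Type u} [Group G]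

/-- Conjugation by a normalizing element, as an automorphism of the subgroup. -/
def conjEquivOf (K : Subgroup G) (x : G) (hx : x ∈ Subgroup.normalizer (K : Set G)) : K ≃* K where
  toFun k := ⟨x * k * x⁻¹, (Subgroup.mem_normalizer_iff.mp hx k).mp k.2⟩
  invFun k := ⟨x⁻¹ * k * x, (Subgroup.mem_normalizer_iff''.mp hx k).mp k.2⟩
  left_inv k := by apply Subtype.ext; simp [mul_assoc]
  right_inv k := by apply Subtype.ext; simp [mul_assoc]
  map_mul' a b := by apply Subtype.ext; simp [mul_assoc]

theorem conjEquivOf_apply_coe (K : Subgroup G) (x : G)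
    (hx : x ∈ Subgroup.normalizer (K : Set G)) (k : K) :
    ((conjEquivOf K x hx k : K) : G) = x * k * x⁻¹ := rfl

theorem conjEquivOf_symm_apply_coe (K : Subgroup G) (x : G)
    (hx : x ∈ Subgroup.normalizer (K : Set G)) (k : K) :
    (((conjEquivOf K x hx).symm k : K) : G) = x⁻¹ * k * x := rfl

/-- The conjugate of a function on `K` by `x`: `k ↦ χ (x⁻¹ k x)`. -/
def conjFun (K : Subgroup G) (x : G) (hx : x ∈ Subgroup.normalizer (K : Set G)) (χ : K → ℂ) :
    K → ℂ := fun k => χ ((conjEquivOf K x hx).symm k)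

theorem isConjCharOf_conjFun (K : Subgroup G) (x : G)
    (hx : x ∈ Subgroup.normalizer (K : Set G)) (χ : K → ℂ) :
    IsConjCharOf K x χ (conjFun K x hx χ) := by
  intro k k' hk
  unfold conjFun
  congr 1
  apply Subtype.ext
  rw [conjEquivOf_symm_apply_coe, hk]
  group

theorem eq_conjFun_of_isConjCharOf (K : Subgroup G) (x : G)
    (hx : x ∈ Subgroup.normalizer (K : Set G)) {χ χ' : K → ℂ} (h : IsConjCharOf K x χ χ') :
    χ' = conjFun K x hx χ := by
  funext k'
  unfold conjFun
  apply h
  rw [conjEquivOf_symm_apply_coe]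
  group

theorem isIrrCharacter_conjFun (K : Subgroup G) (x : G)
    (hx : x ∈ Subgroup.normalizer (K : Set G)) {χ : K → ℂ} (hχ : IsIrrCharacter K χ) :
    IsIrrCharacter K (conjFun K x hx χ) :=
  isIrrCharacter_compEquiv hχ (conjEquivOf K x hx).symm

theorem centralChar_conjFun (K : Subgroup G) (x : G)
    (hx : x ∈ Subgroup.normalizer (K : Set G)) (χ : K → ℂ) (k : K) :
    centralChar (conjFun K x hx χ) k = centralChar χ ((conjEquivOf K x hx).symm k) :=
  centralChar_compEquiv (conjEquivOf K x hx).symm χ k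

theorem sameBlock_conjFun {M : Ideal AlgInt} (K : Subgroup G) (x : G)
    (hx : x ∈ Subgroup.normalizer (K : Set G)) {χ ψ : K → ℂ} (h : SameBlock M χ ψ) :
    SameBlock M (conjFun K x hx χ) (conjFun K x hx ψ) := by
  intro k
  rw [centralChar_conjFun, centralChar_conjFun]
  exact h _

theorem conjFun_one (K : Subgroup G) (h1 : (1 : G) ∈ Subgroup.normalizer (K : Set G))
    (χ : K → ℂ) : conjFun K 1 h1 χ = χ := by
  funext k
  unfold conjFun
  congr 1
  apply Subtype.ext
  rw [conjEquivOf_symm_apply_coe]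
  simp

theorem conjFun_mul (K : Subgroup G) (x y : G) (hx : x ∈ Subgroup.normalizer (K : Set G))
    (hy : y ∈ Subgroup.normalizer (K : Set G))
    (hxy : x * y ∈ Subgroup.normalizer (K : Set G)) (χ : K → ℂ) :
    conjFun K (x * y) hxy χ = conjFun K x hx (conjFun K y hy χ) := by
  funext k
  unfold conjFun
  congr 1
  apply Subtype.ext
  simp only [conjEquivOf_symm_apply_coe]
  group

/-- Conjugation on irreducible characters. -/
def conjIrr (K : Subgroup G) (x : G) (hx : x ∈ Subgroup.normalizer (K : Set G))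
    (χ : IrrCharacter K) : IrrCharacter K :=
  ⟨conjFun K x hx χ.1, isIrrCharacter_conjFun K x hx χ.2⟩

theorem conjIrr_one (K : Subgroup G) (h1 : (1 : G) ∈ Subgroup.normalizer (K : Set G))
    (χ : IrrCharacter K) : conjIrr K 1 h1 χ = χ :=
  Subtype.ext (conjFun_one K h1 χ.1)

theorem conjIrr_mul (K : Subgroup G) (x y : G) (hx : x ∈ Subgroup.normalizer (K : Set G))
    (hy : y ∈ Subgroup.normalizer (K : Set G))
    (hxy : x * y ∈ Subgroup.normalizer (K : Set G)) (χ : IrrCharacter K) :
    conjIrr K (x * y) hxy χ = conjIrr K x hx (conjIrr K y hy χ) :=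
  Subtype.ext (conjFun_mul K x y hx hy hxy χ.1)

theorem conjIrr_inv_cancel (K : Subgroup G) (x : G) (hx : x ∈ Subgroup.normalizer (K : Set G))
    (hx' : x⁻¹ ∈ Subgroup.normalizer (K : Set G)) (χ : IrrCharacter K) :
    conjIrr K x hx (conjIrr K x⁻¹ hx' χ) = χ := by
  have h1 : (1 : G) ∈ Subgroup.normalizer (K : Set G) := Subgroup.one_mem _
  have := conjIrr_mul K x x⁻¹ hx hx' (by rw [mul_inv_cancel]; exact h1) χ
  rw [← this]
  have e : conjIrr K (x * x⁻¹) (by rw [mul_inv_cancel]; exact h1) χ = conjIrr K 1 h1 χ := by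
    congr 1
    exact mul_inv_cancel x
  rw [e, conjIrr_one]

theorem conjIrr_inv_cancel' (K : Subgroup G) (x : G) (hx : x ∈ Subgroup.normalizer (K : Set G))
    (hx' : x⁻¹ ∈ Subgroup.normalizer (K : Set G)) (χ : IrrCharacter K) :
    conjIrr K x⁻¹ hx' (conjIrr K x hx χ) = χ := by
  have h1 : (1 : G) ∈ Subgroup.normalizer (K : Set G) := Subgroup.one_mem _
  have := conjIrr_mul K x⁻¹ x hx' hx (by rw [inv_mul_cancel]; exact h1) χ
  rw [← this]
  have e : conjIrr K (x⁻¹ * x) (by rw [inv_mul_cancel]; exact h1) χ = conjIrr K 1 h1 χ := by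
    congr 1
    exact inv_mul_cancel x
  rw [e, conjIrr_one]

/-- Conjugation on sets of irreducible characters. -/
def conjSet (K : Subgroup G) (x : G) (hx : x ∈ Subgroup.normalizer (K : Set G))
    (f : Set (IrrCharacter K)) : Set (IrrCharacter K) := conjIrr K x hx '' f

theorem conjSet_one (K : Subgroup G) (h1 : (1 : G) ∈ Subgroup.normalizer (K : Set G))
    (f : Set (IrrCharacter K)) : conjSet K 1 h1 f = f := by
  unfold conjSet
  have : conjIrr K 1 h1 = id := funext (conjIrr_one K h1)
  rw [this, Set.image_id]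

theorem conjSet_mul (K : Subgroup G) (x y : G) (hx : x ∈ Subgroup.normalizer (K : Set G))
    (hy : y ∈ Subgroup.normalizer (K : Set G))
    (hxy : x * y ∈ Subgroup.normalizer (K : Set G)) (f : Set (IrrCharacter K)) :
    conjSet K (x * y) hxy f = conjSet K x hx (conjSet K y hy f) := by
  unfold conjSet
  rw [Set.image_image]
  have : conjIrr K (x * y) hxy = fun χ => conjIrr K x hx (conjIrr K y hy χ) :=
    funext (conjIrr_mul K x y hx hy hxy)
  rw [this]

theorem conjIrr_injective (K : Subgroup G) (x : G) (hx : x ∈ Subgroup.normalizer (K : Set G)) :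
    Function.Injective (conjIrr K x hx) := by
  intro χ ψ h
  have hx' : x⁻¹ ∈ Subgroup.normalizer (K : Set G) := Subgroup.inv_mem _ hx
  rw [← conjIrr_inv_cancel' K x hx hx' χ, h, conjIrr_inv_cancel' K x hx hx' ψ]

variable {M : Ideal AlgInt}

theorem conjSet_blockOf (K : Subgroup G) (x : G) (hx : x ∈ Subgroup.normalizer (K : Set G))
    (χ : IrrCharacter K) :
    conjSet K x hx (blockOf M (χ : K → ℂ)) = blockOf M (conjIrr K x hx χ : K → ℂ) := by
  have hx' : x⁻¹ ∈ Subgroup.normalizer (K : Set G) := Subgroup.inv_mem _ hx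
  ext ψ
  constructor
  · rintro ⟨χ', hχ', rfl⟩
    exact sameBlock_conjFun K x hx hχ'
  · intro hψ
    refine ⟨conjIrr K x⁻¹ hx' ψ, ?_, conjIrr_inv_cancel K x hx hx' ψ⟩
    have h1 : SameBlock M (conjIrr K x hx χ : K → ℂ) (ψ : K → ℂ) := hψ
    have h2 := sameBlock_conjFun K x⁻¹ hx' h1
    have h3 : conjFun K x⁻¹ hx' (conjIrr K x hx χ : K → ℂ) = (χ : K → ℂ) :=
      congrArg Subtype.val (conjIrr_inv_cancel' K x hx hx' χ)
    rw [h3] at h2
    exact h2

theorem isPBlock_conjSet (K : Subgroup G) (x : G) (hx : x ∈ Subgroup.normalizer (K : Set G))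
    {f : Set (IrrCharacter K)} (hf : IsPBlock M f) : IsPBlock M (conjSet K x hx f) := by
  obtain ⟨χ, rfl⟩ := hf
  exact ⟨conjIrr K x hx χ, conjSet_blockOf K x hx χ⟩

theorem blockCoeff_conjSet (K : Subgroup G) (x : G) (hx : x ∈ Subgroup.normalizer (K : Set G))
    (f : Set (IrrCharacter K)) (k : K) :
    blockCoeff (conjSet K x hx f) k = blockCoeff f ((conjEquivOf K x hx).symm k) := by
  unfold blockCoeff conjSet
  rw [finsum_mem_image (fun χ _ ψ _ h => conjIrr_injective K x hx h)]
  congr 1
  refine finsum_mem_congr rfl fun χ _ => ?_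
  have h1 : (conjIrr K x hx χ : K → ℂ) 1 = (χ : K → ℂ) 1 := by
    show conjFun K x hx χ.1 1 = χ.1 1
    unfold conjFun
    rw [map_one]
  rw [h1]
  rfl

theorem stabilizesBlock_iff_conjSet_eq [hp : M.IsPrime] (K : Subgroup G) (x : G)
    (hx : x ∈ Subgroup.normalizer (K : Set G))
    {f : Set (IrrCharacter K)} (hf : IsPBlock M f) :
    StabilizesBlock K f x ↔ conjSet K x hx f = f := by
  constructor
  · rintro ⟨_, h⟩
    have hsub : conjSet K x hx f ⊆ f := by
      rintro _ ⟨χ, hχ, rfl⟩
      obtain ⟨χ', hχ', hc⟩ := h χ hχ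
      have : χ' = conjIrr K x hx χ := Subtype.ext (eq_conjFun_of_isConjCharOf K x hx hc)
      rw [← this]
      exact hχ'
    obtain ⟨χ, hχ⟩ := nonempty_of_isPBlock hf
    exact eq_of_isPBlock_of_mem (isPBlock_conjSet K x hx hf) hf ⟨χ, hχ, rfl⟩ (hsub ⟨χ, hχ, rfl⟩)
  · intro h
    refine ⟨hx, fun χ hχ => ⟨conjIrr K x hx χ, ?_, isConjCharOf_conjFun K x hx χ.1⟩⟩
    rw [← h]
    exact ⟨χ, hχ, rfl⟩

end conjact

end Cfsg.Agent.Helper77
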