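import Mathlib
import Cfsg.Agent.Lib.Helper77.ConjAct

set_option autoImplicit false
set_option linter.unusedSectionVars false
set_option linter.style.haveILetI false

namespace Cfsg.Agent.Helper77

open Cfsg Cfsg.Agent.Helper79

universe u

section extz

variable {G : Type u} [Group G]

/-- extension by zero from a subgroup -/
noncomputable def extZ (K : Subgroup G) (a : K → ℂ) : G → ℂ :=
  fun g => by classical exact if h : g ∈ K then a ⟨g, h⟩ else 0

theorem extZ_of_mem (K : Subgroup G) (a : K → ℂ) (k : K) : extZ K a (k : G) = a k := by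
  classical
  unfold extZ
  rw [dif_pos k.2]

theorem extZ_of_mem' (K : Subgroup G) (a : K → ℂ) {g : G} (hg : g ∈ K) :
    extZ K a g = a ⟨g, hg⟩ := extZ_of_mem K a ⟨g, hg⟩

theorem extZ_of_notMem (K : Subgroup G) (a : K → ℂ) {g : G} (hg : g ∉ K) : extZ K a g = 0 := by
  classical
  unfold extZ
  rw [dif_neg hg]

theorem subgroupBlockCoeff_eq_extZ (K : Subgroup G) (f : Set (IrrCharacter K)) :
    subgroupBlockCoeff K f = extZ K (blockCoeff f) := rfl

theorem extZ_add (K : Subgroup G) (a b : K → ℂ) : extZ K (a + b) = extZ K a + extZ K b := by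
  funext g
  by_cases hg : g ∈ K
  · simp [extZ_of_mem' K _ hg]
  · simp [extZ_of_notMem K _ hg]

theorem extZ_zero (K : Subgroup G) : extZ K (0 : K → ℂ) = 0 := by
  funext g
  by_cases hg : g ∈ K
  · simp [extZ_of_mem' K _ hg]
  · simp [extZ_of_notMem K _ hg]

theorem extZ_sum (K : Subgroup G) {ι : Type*} (s : Finset ι) (a : ι → K → ℂ) :
    extZ K (∑ i ∈ s, a i) = ∑ i ∈ s, extZ K (a i) := by
  classical
  induction s using Finset.induction_on with
  | empty => simpa using extZ_zero K
  | insert i s hi ih => rw [Finset.sum_insert hi, Finset.sum_insert hi, extZ_add, ih]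

variable [Fintype G]

theorem extZ_delta (K : Subgroup G) : extZ K (delta : K → ℂ) = (delta : G → ℂ) := by
  classical
  funext g
  by_cases hg : g ∈ K
  · rw [extZ_of_mem' K _ hg]
    unfold delta
    by_cases h1 : g = 1
    · subst h1; simp
    · rw [if_neg h1, if_neg]
      intro h
      exact h1 (congrArg Subtype.val h)
  · rw [extZ_of_notMem K _ hg]
    unfold delta
    rw [if_neg]
    rintro rfl
    exact hg K.one_mem

theorem conv_extZ (K : Subgroup G) [Fintype K] (a b : K → ℂ) :
    conv (extZ K a) (extZ K b) = extZ K (conv a b) := by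
  funext x
  by_cases hx : x ∈ K
  · rw [extZ_of_mem' K _ hx]
    unfold conv
    rw [← sum_subgroup_eq K (fun y => extZ K a y * extZ K b (y⁻¹ * x))
      (fun y hy => by rw [extZ_of_notMem K _ hy, zero_mul])]
    refine Finset.sum_congr rfl fun y _ => ?_
    have : ((y : G))⁻¹ * x = ((y⁻¹ * ⟨x, hx⟩ : K) : G) := by simp
    rw [extZ_of_mem, this, extZ_of_mem]
  · rw [extZ_of_notMem K _ hx]
    unfold conv
    refine Finset.sum_eq_zero fun y _ => ?_
    by_cases hy : y ∈ K
    · have : y⁻¹ * x ∉ K := by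
        intro hcon
        apply hx
        have := K.mul_mem hy hcon
        simpa using this
      rw [extZ_of_notMem K _ this, mul_zero]
    · rw [extZ_of_notMem K _ hy, zero_mul]

theorem extZ_conj_of_class (K : Subgroup G) {a : K → ℂ} (ha : IsClassFunction K a)
    (u : G) (hu : u ∈ K) (x : G) : extZ K a (u * x * u⁻¹) = extZ K a x := by
  by_cases hx : x ∈ K
  · have hux : u * x * u⁻¹ ∈ K := K.mul_mem (K.mul_mem hu hx) (K.inv_mem hu)
    rw [extZ_of_mem' K _ hux, extZ_of_mem' K _ hx]
    exact ha ⟨x, hx⟩ ⟨u, hu⟩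
  · have hux : u * x * u⁻¹ ∉ K := by
      intro hcon
      apply hx
      have := K.mul_mem (K.mul_mem (K.inv_mem hu) hcon) hu
      simpa [mul_assoc] using this
    rw [extZ_of_notMem K _ hux, extZ_of_notMem K _ hx]

theorem subgroupBlockCoeff_conjSet (K : Subgroup G) (x : G)
    (hx : x ∈ Subgroup.normalizer (K : Set G)) (f : Set (IrrCharacter K)) (g : G) :
    subgroupBlockCoeff K (conjSet K x hx f) g = subgroupBlockCoeff K f (x⁻¹ * g * x) := by
  rw [subgroupBlockCoeff_eq_extZ, subgroupBlockCoeff_eq_extZ]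
  by_cases hg : g ∈ K
  · have hg' : x⁻¹ * g * x ∈ K := (Subgroup.mem_normalizer_iff''.mp hx g).mp hg
    rw [extZ_of_mem' K _ hg, extZ_of_mem' K _ hg', blockCoeff_conjSet]
    rfl
  · have hg' : x⁻¹ * g * x ∉ K := fun h => hg ((Subgroup.mem_normalizer_iff''.mp hx g).mpr h)
    rw [extZ_of_notMem K _ hg, extZ_of_notMem K _ hg']

end extz

section pairs

variable {G : Type u} [Group G] [Fintype G] {p : ℕ} {M : Ideal AlgInt}

theorem cutC_self (P : Subgroup G) (β : G → ℂ) :
    cutC P (Subgroup.centralizer (P : Set G)) β =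
      fun x : Subgroup.centralizer (P : Set G) => β x := by
  funext x
  exact cutC_of_mem _ _ _ x.2

/-- Multiplicativity of `brauerOmega` on elements invariant under `P` and `C_G(P)`. -/
theorem brauerOmega_conv_of_invariant (hM : IsPModular p M) (P : Subgroup G)
    [Fintype (Subgroup.centralizer (P : Set G))] (hP : IsPGroup p P) {a b : G → ℂ}
    (haR : IsRValued M a) (hbR : IsRValued M b)
    (haP : ∀ u ∈ P, ∀ x, a (u * x * u⁻¹) = a x) (hbP : ∀ u ∈ P, ∀ x, b (u * x * u⁻¹) = b x)
    (haC : ∀ u ∈ Subgroup.centralizer (P : Set G), ∀ x, a (u * x * u⁻¹) = a x)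
    (hbC : ∀ u ∈ Subgroup.centralizer (P : Set G), ∀ x, b (u * x * u⁻¹) = b x)
    {ξ : Subgroup.centralizer (P : Set G) → ℂ}
    (hξ : IsIrrCharacter (Subgroup.centralizer (P : Set G)) ξ) :
    MemLocalIdeal M (brauerOmega P (conv a b) ξ - brauerOmega P a ξ * brauerOmega P b ξ) := by
  rw [brauerOmega_eq_omega, brauerOmega_eq_omega, brauerOmega_eq_omega, ← cutC_self, ← cutC_self,
    ← cutC_self]
  exact omega_cutC_conv hM P _ hP le_rfl (Subgroup.centralizer_le_normalizer _) haR hbR haP hbP
    haC hbC hξ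

theorem memLocalRing_brauerOmega_of_invariant [hp : M.IsPrime] (P : Subgroup G)
    [Fintype (Subgroup.centralizer (P : Set G))] {a : G → ℂ} (haR : IsRValued M a)
    (haC : ∀ u ∈ Subgroup.centralizer (P : Set G), ∀ x, a (u * x * u⁻¹) = a x)
    {ξ : Subgroup.centralizer (P : Set G) → ℂ}
    (hξ : IsIrrCharacter (Subgroup.centralizer (P : Set G)) ξ) :
    MemLocalRing M (brauerOmega P a ξ) := by
  rw [brauerOmega_eq_omega]
  exact memLocalRing_omega hξ (fun g h => by simpa using haC h h.2 g) (fun x => haR x)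

theorem memLocalIdeal_brauerOmega_sub_of_invariant [hp : M.IsPrime] (P : Subgroup G)
    [Fintype (Subgroup.centralizer (P : Set G))] {a : G → ℂ} (haR : IsRValued M a)
    (haC : ∀ u ∈ Subgroup.centralizer (P : Set G), ∀ x, a (u * x * u⁻¹) = a x)
    {ξ ξ' : Subgroup.centralizer (P : Set G) → ℂ}
    (hξ : IsIrrCharacter (Subgroup.centralizer (P : Set G)) ξ)
    (hξ' : IsIrrCharacter (Subgroup.centralizer (P : Set G)) ξ')
    (h : SameBlock M ξ ξ') :
    MemLocalIdeal M (brauerOmega P a ξ - brauerOmega P a ξ') := by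
  rw [brauerOmega_eq_omega, brauerOmega_eq_omega]
  exact memLocalIdeal_omega_sub hξ hξ' h (fun g h => by simpa using haC h h.2 g) (fun x => haR x)

end pairs

section normal

variable {G : Type u} [Group G] [Fintype G] {p : ℕ} {M : Ideal AlgInt}

/-- `P`-stability of a set of irreducible characters of `K`. -/
def IsStableSet (K P : Subgroup G) (hPK : P ≤ Subgroup.normalizer (K : Set G))
    (f : Set (IrrCharacter K)) : Prop :=
  ∀ x (hx : x ∈ P), conjSet K x (hPK hx) f = f

theorem conjSet_congr (K : Subgroup G) {x y : G} (h : x = y)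
    (hx : x ∈ Subgroup.normalizer (K : Set G)) (hy : y ∈ Subgroup.normalizer (K : Set G))
    (f : Set (IrrCharacter K)) : conjSet K x hx f = conjSet K y hy f := by
  subst h
  rfl

theorem conjSet_injective (K : Subgroup G) (x : G) (hx : x ∈ Subgroup.normalizer (K : Set G)) :
    Function.Injective (conjSet K x hx) :=
  Set.image_injective.mpr (conjIrr_injective K x hx)

theorem isRValued_subgroupBlockCoeff [hp : M.IsPrime] (K : Subgroup G) [Fintype K]
    {f : Set (IrrCharacter K)} (hf : IsPBlock M f) : IsRValued M (subgroupBlockCoeff K f) := by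
  intro g
  rw [subgroupBlockCoeff_eq_extZ]
  by_cases hg : g ∈ K
  · rw [extZ_of_mem' K _ hg]
    exact memLocalRing_blockCoeff hf _
  · rw [extZ_of_notMem K _ hg]
    exact memLocalRing_zero hp.ne_top

theorem subgroupBlockCoeff_conj_of_mem (K : Subgroup G) [Fintype K] (f : Set (IrrCharacter K))
    (u : G) (hu : u ∈ K) (x : G) :
    subgroupBlockCoeff K f (u * x * u⁻¹) = subgroupBlockCoeff K f x :=
  extZ_conj_of_class K (isClassFunction_blockCoeff f) u hu x

theorem subgroupBlockCoeff_conj_of_stable (K P : Subgroup G)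
    (hPK : P ≤ Subgroup.normalizer (K : Set G)) {f : Set (IrrCharacter K)}
    (hf : IsStableSet K P hPK f) (u : G) (hu : u ∈ P) (x : G) :
    subgroupBlockCoeff K f (u * x * u⁻¹) = subgroupBlockCoeff K f x := by
  have h1 := subgroupBlockCoeff_conjSet K u⁻¹ (hPK (P.inv_mem hu)) f x
  rw [hf u⁻¹ (P.inv_mem hu), inv_inv] at h1
  exact h1.symm

theorem conv_subgroupBlockCoeff_self (K : Subgroup G) [Fintype K] (f : Set (IrrCharacter K)) :
    conv (subgroupBlockCoeff K f) (subgroupBlockCoeff K f) = subgroupBlockCoeff K f := by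
  rw [subgroupBlockCoeff_eq_extZ, conv_extZ, conv_blockCoeff_self]

theorem conv_subgroupBlockCoeff_of_ne [hp : M.IsPrime] (K : Subgroup G) [Fintype K]
    {f f' : Set (IrrCharacter K)} (hf : IsPBlock M f) (hf' : IsPBlock M f') (hne : f ≠ f') :
    conv (subgroupBlockCoeff K f) (subgroupBlockCoeff K f') = 0 := by
  rw [subgroupBlockCoeff_eq_extZ, subgroupBlockCoeff_eq_extZ, conv_extZ,
    conv_blockCoeff_of_disjoint (disjoint_of_isPBlock_of_ne hf hf' hne), extZ_zero]

theorem sum_subgroupBlockCoeff_allBlocks [hp : M.IsPrime] (K : Subgroup G) [Fintype K] :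
    ∑ f ∈ allBlocks M K, subgroupBlockCoeff K f = (delta : G → ℂ) := by
  simp_rw [subgroupBlockCoeff_eq_extZ]
  rw [← extZ_sum, sum_blockCoeff_allBlocks, extZ_delta]

theorem brauerOmega_conjSet (K P : Subgroup G) (hPK : P ≤ Subgroup.normalizer (K : Set G))
    (x : G) (hx : x ∈ P) (f : Set (IrrCharacter K))
    (ξ : Subgroup.centralizer (P : Set G) → ℂ) :
    brauerOmega P (subgroupBlockCoeff K (conjSet K x (hPK hx) f)) ξ =
      brauerOmega P (subgroupBlockCoeff K f) ξ := by
  unfold brauerOmega
  refine finsum_congr fun c => ?_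
  rw [subgroupBlockCoeff_conjSet]
  have : x⁻¹ * (c : G) * x = (c : G) := by
    have h1 := (Subgroup.mem_centralizer_iff.mp c.2) x hx
    calc x⁻¹ * (c : G) * x = x⁻¹ * (x * (c : G)) := by rw [h1]; group
      _ = (c : G) := by group
  rw [this]

/-- the non-stable blocks, as a type -/
def NonStableBlock (M : Ideal AlgInt) (K P : Subgroup G)
    (hPK : P ≤ Subgroup.normalizer (K : Set G)) : Type u :=
  {f : Set (IrrCharacter K) // IsPBlock M f ∧ ¬ IsStableSet K P hPK f}

theorem not_isStableSet_conjSet (K P : Subgroup G) (hPK : P ≤ Subgroup.normalizer (K : Set G))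
    (x : G) (hx : x ∈ P) {f : Set (IrrCharacter K)} (hf : ¬ IsStableSet K P hPK f) :
    ¬ IsStableSet K P hPK (conjSet K x (hPK hx) f) := by
  intro hst
  apply hf
  intro y hy
  have hxyx : x * y * x⁻¹ ∈ P := P.mul_mem (P.mul_mem hx hy) (P.inv_mem hx)
  have h1 := hst (x * y * x⁻¹) hxyx
  have hxy : x * y ∈ P := P.mul_mem hx hy
  rw [← conjSet_mul K (x * y * x⁻¹) x (hPK hxyx) (hPK hx)
    (Subgroup.mul_mem _ (hPK hxyx) (hPK hx)),
    conjSet_congr K (show x * y * x⁻¹ * x = x * y by group) _ (hPK hxy),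
    conjSet_mul K x y (hPK hx) (hPK hy) (hPK hxy)] at h1
  exact conjSet_injective K x (hPK hx) h1

@[instance_reducible]
def nonStableAction (M : Ideal AlgInt) (K P : Subgroup G)
    (hPK : P ≤ Subgroup.normalizer (K : Set G)) : MulAction P (NonStableBlock M K P hPK) where
  smul x f := ⟨conjSet K x (hPK x.2) f.1, isPBlock_conjSet K x (hPK x.2) f.2.1,
    not_isStableSet_conjSet K P hPK x x.2 f.2.2⟩
  one_smul f := by
    apply Subtype.ext
    show conjSet K ((1 : P) : G) _ f.1 = f.1
    rw [conjSet_congr K (show ((1 : P) : G) = 1 from rfl) _ (Subgroup.one_mem _), conjSet_one]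
  mul_smul x y f := by
    apply Subtype.ext
    show conjSet K ((x * y : P) : G) _ f.1 = conjSet K x _ (conjSet K y _ f.1)
    rw [conjSet_congr K (show ((x * y : P) : G) = (x : G) * (y : G) from rfl) _
      (Subgroup.mul_mem _ (hPK x.2) (hPK y.2)), conjSet_mul K x y (hPK x.2) (hPK y.2)]

/-- **Normal subpairs**: the abstract existence and uniqueness statement. -/
theorem existsUnique_stable_block [Fact p.Prime] (hM : IsPModular p M) (K P : Subgroup G)
    [Fintype K] [Fintype (Subgroup.centralizer (P : Set G))]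
    (hP : IsPGroup p P) (hPK : P ≤ Subgroup.normalizer (K : Set G))
    (hCK : Subgroup.centralizer (P : Set G) ≤ K)
    {ξ : Subgroup.centralizer (P : Set G) → ℂ}
    (hξ : IsIrrCharacter (Subgroup.centralizer (P : Set G)) ξ) :
    ∃! f : Set (IrrCharacter K), IsPBlock M f ∧ IsStableSet K P hPK f ∧
      MemLocalIdeal M (brauerOmega P (subgroupBlockCoeff K f) ξ - 1) := by
  classical
  haveI hpr := isPrime_of_isPModular hM
  have hp0 : (p : ℂ) ≠ 0 := by exact_mod_cast hM.1.ne_zero
  let t : Set (IrrCharacter K) → ℂ := fun f => brauerOmega P (subgroupBlockCoeff K f) ξ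
  have hCinv : ∀ f : Set (IrrCharacter K), ∀ u ∈ Subgroup.centralizer (P : Set G), ∀ x,
      subgroupBlockCoeff K f (u * x * u⁻¹) = subgroupBlockCoeff K f x :=
    fun f u hu x => subgroupBlockCoeff_conj_of_mem K f u (hCK hu) x
  have htR : ∀ f, IsPBlock M f → MemLocalRing M (t f) := fun f hf =>
    memLocalRing_brauerOmega_of_invariant P (isRValued_subgroupBlockCoeff K hf) (hCinv f) hξ
  have hidem : ∀ f, IsPBlock M f → IsStableSet K P hPK f →
      MemLocalIdeal M (t f * (t f - 1)) := by
    intro f hf hst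
    have h := brauerOmega_conv_of_invariant hM P hP (isRValued_subgroupBlockCoeff K hf)
      (isRValued_subgroupBlockCoeff K hf) (subgroupBlockCoeff_conj_of_stable K P hPK hst)
      (subgroupBlockCoeff_conj_of_stable K P hPK hst) (hCinv f) (hCinv f) hξ
    rw [conv_subgroupBlockCoeff_self] at h
    have := memLocalIdeal_neg h
    convert this using 1
    simp only [t]
    ring
  have horth : ∀ f f', IsPBlock M f → IsPBlock M f' → IsStableSet K P hPK f →
      IsStableSet K P hPK f' → f ≠ f' → MemLocalIdeal M (t f * t f') := by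
    intro f f' hf hf' hst hst' hne
    have h := brauerOmega_conv_of_invariant hM P hP (isRValued_subgroupBlockCoeff K hf)
      (isRValued_subgroupBlockCoeff K hf') (subgroupBlockCoeff_conj_of_stable K P hPK hst)
      (subgroupBlockCoeff_conj_of_stable K P hPK hst') (hCinv f) (hCinv f') hξ
    rw [conv_subgroupBlockCoeff_of_ne K hf hf' hne, brauerOmega_zero, zero_sub] at h
    have := memLocalIdeal_neg h
    rwa [neg_neg] at this
  have hsum : ∑ f ∈ allBlocks M K, t f = 1 := by
    simp only [t]
    rw [← brauerOmega_sum, sum_subgroupBlockCoeff_allBlocks,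
      brauerOmega_delta P (irrChar_one_ne_zero hξ)]
  -- the non-stable part
  have hns : MemLocalIdeal M (∑ f ∈ (allBlocks M K).filter
      (fun f => ¬ IsStableSet K P hPK f), t f) := by
    letI := nonStableAction M K P hPK
    haveI : Fintype (NonStableBlock M K P hPK) := by
      unfold NonStableBlock
      exact Fintype.ofFinite _
    have hkey := memLocalRing_sum_div_of_no_fixedPoints hM (P := P) hP
      (X := NonStableBlock M K P hPK)
      (fun f => by
        have hnot := f.2.2
        unfold IsStableSet at hnot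
        push Not at hnot
        obtain ⟨x, hx, hne⟩ := hnot
        exact ⟨⟨x, hx⟩, fun h => hne (congrArg Subtype.val h)⟩)
      (fun f => t f.1)
      (fun u f => brauerOmega_conjSet K P hPK u u.2 f.1 ξ)
      (fun f => htR f.1 f.2.1)
    have heq : ∑ f ∈ (allBlocks M K).filter (fun f => ¬ IsStableSet K P hPK f), t f =
        ∑ f : NonStableBlock M K P hPK, t f.1 := by
      symm
      refine Finset.sum_bij (fun f _ => f.1) (fun f _ => ?_) (fun f _ g _ h => Subtype.ext h)
        (fun f hf => ?_) (fun f _ => rfl)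
      · exact Finset.mem_filter.mpr ⟨mem_allBlocks.mpr f.2.1, f.2.2⟩
      · obtain ⟨h1, h2⟩ := Finset.mem_filter.mp hf
        exact ⟨⟨f, mem_allBlocks.mp h1, h2⟩, Finset.mem_univ _, rfl⟩
    rw [heq]
    have := memLocalIdeal_mul_right ((memLocalIdeal_natCast_iff hM p).mpr dvd_rfl) hkey
    rwa [mul_div_cancel₀ _ hp0] at this
  have hssum : MemLocalIdeal M (∑ f ∈ (allBlocks M K).filter
      (fun f => IsStableSet K P hPK f), t f - 1) := by
    have := Finset.sum_filter_add_sum_filter_not (allBlocks M K)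
      (fun f => IsStableSet K P hPK f) t
    rw [hsum] at this
    have h2 : ∑ f ∈ (allBlocks M K).filter (fun f => IsStableSet K P hPK f), t f - 1 =
        - ∑ f ∈ (allBlocks M K).filter (fun f => ¬ IsStableSet K P hPK f), t f := by
      rw [← this]; ring
    rw [h2]
    exact memLocalIdeal_neg hns
  have hex : ∃ f ∈ (allBlocks M K).filter (fun f => IsStableSet K P hPK f),
      ¬ MemLocalIdeal M (t f) := by
    by_contra hcon
    push Not at hcon
    have := memLocalIdeal_sum (M := M) _ t hcon
    have h1 := memLocalIdeal_sub this hssum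
    rw [sub_sub_cancel] at h1
    exact not_memLocalIdeal_one h1
  obtain ⟨f, hfmem, hft⟩ := hex
  obtain ⟨hfB, hfst⟩ := Finset.mem_filter.mp hfmem
  have hf : IsPBlock M f := mem_allBlocks.mp hfB
  have hf1 : MemLocalIdeal M (t f - 1) := by
    rcases memLocalIdeal_or_of_mul (htR f hf)
      (memLocalRing_sub (htR f hf) (memLocalRing_one hpr.ne_top)) (hidem f hf hfst) with h | h
    · exact absurd h hft
    · exact h
  refine ⟨f, ⟨hf, hfst, hf1⟩, ?_⟩
  rintro f' ⟨hf', hfst', hf'1⟩
  by_contra hne
  have h1 := horth f' f hf' hf hfst' hfst hne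
  have e1 := memLocalIdeal_mul_left (htR f' hf') hf1
  have e2 := memLocalIdeal_sub h1 e1
  have e3 := memLocalIdeal_sub e2 hf'1
  have : MemLocalIdeal M (1 : ℂ) := by
    convert e3 using 1
    ring
  exact not_memLocalIdeal_one this

theorem normalizer_le_normalizer_centralizer (Q : Subgroup G) :
    Subgroup.normalizer (Q : Set G) ≤
      Subgroup.normalizer ((Subgroup.centralizer (Q : Set G) : Subgroup G) : Set G) := by
  intro x hx
  rw [Subgroup.mem_normalizer_iff]
  intro h
  exact (conj_mem_centralizer_iff hx h).symm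

/-- characterization of normal subpairs through stable sets -/
theorem isNormalSubpair_iff (hM : IsPModular p M) (P Q : Subgroup G)
    (e : Set (IrrCharacter (Subgroup.centralizer (P : Set G))))
    (hPe : IsBrauerPair p M P e) (hQP : Q ≤ P) (hPN : P ≤ Subgroup.normalizer (Q : Set G))
    {ξ : IrrCharacter (Subgroup.centralizer (P : Set G))} (hξ : ξ ∈ e)
    (f : Set (IrrCharacter (Subgroup.centralizer (Q : Set G)))) :
    IsNormalSubpair p M Q f P e ↔ (IsPBlock M f ∧
      IsStableSet (Subgroup.centralizer (Q : Set G)) P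
        (hPN.trans (normalizer_le_normalizer_centralizer Q)) f ∧
      MemLocalIdeal M (brauerOmega P (subgroupBlockCoeff (Subgroup.centralizer (Q : Set G)) f)
        (ξ : Subgroup.centralizer (P : Set G) → ℂ) - 1)) := by
  classical
  haveI hpr := isPrime_of_isPModular hM
  haveI : Fintype (Subgroup.centralizer (Q : Set G)) := Fintype.ofFinite _
  haveI : Fintype (Subgroup.centralizer (P : Set G)) := Fintype.ofFinite _
  have hPK := hPN.trans (normalizer_le_normalizer_centralizer Q)
  have hCK : Subgroup.centralizer (P : Set G) ≤ Subgroup.centralizer (Q : Set G) :=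
    Subgroup.centralizer_le hQP
  constructor
  · rintro ⟨h1, _, _, _, h5, h6⟩
    refine ⟨h1.2, fun x hx => ?_, h6 ξ hξ⟩
    exact (stabilizesBlock_iff_conjSet_eq _ x (hPK hx) h1.2).mp (h5 x hx)
  · rintro ⟨h1, h2, h3⟩
    refine ⟨⟨hPe.1.to_le hQP, h1⟩, hPe, hQP, hPN, fun x hx => ?_, fun ξ' hξ' => ?_⟩
    · exact (stabilizesBlock_iff_conjSet_eq _ x (hPK hx) h1).mpr (h2 x hx)
    · have h4 := memLocalIdeal_brauerOmega_sub_of_invariant P
        (isRValued_subgroupBlockCoeff (Subgroup.centralizer (Q : Set G)) h1)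
        (fun u hu x => subgroupBlockCoeff_conj_of_mem _ f u (hCK hu) x) ξ'.2 ξ.2
        (sameBlock_of_mem hPe.2 hξ' hξ)
      have := memLocalIdeal_add h4 h3
      convert this using 1
      ring

/-- **Normal subpairs exist and are unique.** -/
theorem existsUnique_isNormalSubpair [Fact p.Prime] (hM : IsPModular p M) (P Q : Subgroup G)
    (e : Set (IrrCharacter (Subgroup.centralizer (P : Set G))))
    (hPe : IsBrauerPair p M P e) (hQP : Q ≤ P) (hPN : P ≤ Subgroup.normalizer (Q : Set G)) :
    ∃! f : Set (IrrCharacter (Subgroup.centralizer (Q : Set G))),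
      IsNormalSubpair p M Q f P e := by
  classical
  haveI hpr := isPrime_of_isPModular hM
  haveI : Fintype (Subgroup.centralizer (Q : Set G)) := Fintype.ofFinite _
  haveI : Fintype (Subgroup.centralizer (P : Set G)) := Fintype.ofFinite _
  obtain ⟨ξ, hξ⟩ := nonempty_of_isPBlock hPe.2
  have hPK := hPN.trans (normalizer_le_normalizer_centralizer Q)
  have hCK : Subgroup.centralizer (P : Set G) ≤ Subgroup.centralizer (Q : Set G) :=
    Subgroup.centralizer_le hQP
  obtain ⟨f, hf, hfu⟩ := existsUnique_stable_block hM (Subgroup.centralizer (Q : Set G)) P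
    hPe.1 hPK hCK ξ.2
  refine ⟨f, (isNormalSubpair_iff hM P Q e hPe hQP hPN hξ f).mpr hf, fun f' hf' => ?_⟩
  exact hfu f' ((isNormalSubpair_iff hM P Q e hPe hQP hPN hξ f').mp hf')

end normal

end Cfsg.Agent.Helper77
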