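import Mathlib
import Cfsg.Agent.Lib.Helper77.Lambda
import Cfsg.Agent.Lib.Helper77.Principal

set_option autoImplicit false
set_option linter.unusedSectionVars false
set_option linter.style.haveILetI false

namespace Cfsg.Agent.Helper77

open Cfsg Cfsg.Agent.Helper79

universe u

section eqmod

variable {G : Type u} [Group G] [Fintype G] {M : Ideal AlgInt}

/-- pointwise congruence modulo the local ideal -/
def EqMod (M : Ideal AlgInt) (a b : G → ℂ) : Prop := ∀ g, MemLocalIdeal M (a g - b g)

theorem conv_delta_right (a : G → ℂ) : conv a (delta : G → ℂ) = a := by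
  classical
  funext g
  unfold conv delta
  rw [Finset.sum_eq_single g]
  · simp
  · intro x _ hx
    rw [if_neg, mul_zero]
    intro h
    apply hx
    have : g = x := by
      have := congrArg (fun t => x * t) h
      simpa using this
    exact this.symm
  · intro h; exact absurd (Finset.mem_univ _) h

theorem conv_sub_left (a b c : G → ℂ) : conv (a - b) c = conv a c - conv b c := by
  funext g
  unfold conv
  simp [sub_mul, Finset.sum_sub_distrib]

theorem conv_smul_left (k : ℂ) (a c : G → ℂ) : conv (k • a) c = k • conv a c := by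
  funext g
  unfold conv
  simp [Finset.mul_sum, mul_assoc]

theorem conv_delta_left (a : G → ℂ) : conv (delta : G → ℂ) a = a := by
  classical
  funext g
  unfold conv delta
  rw [Finset.sum_eq_single 1]
  · simp
  · intro x _ hx
    rw [if_neg hx, zero_mul]
  · intro h; exact absurd (Finset.mem_univ _) h

variable [hp : M.IsPrime]

theorem EqMod.refl (a : G → ℂ) : EqMod M a a := fun g => by
  rw [sub_self]; exact memLocalIdeal_zero hp.ne_top

theorem EqMod.symm {a b : G → ℂ} (h : EqMod M a b) : EqMod M b a := fun g => by
  have := memLocalIdeal_neg (h g)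
  rwa [neg_sub] at this

theorem EqMod.trans {a b c : G → ℂ} (h1 : EqMod M a b) (h2 : EqMod M b c) : EqMod M a c :=
  fun g => by
    have := memLocalIdeal_add (h1 g) (h2 g)
    rwa [sub_add_sub_cancel] at this

theorem EqMod.conv_right {a b b' : G → ℂ} (ha : IsRValued M a) (h : EqMod M b b') :
    EqMod M (conv a b) (conv a b') := by
  intro g
  unfold conv
  rw [← Finset.sum_sub_distrib]
  refine memLocalIdeal_sum _ _ fun x _ => ?_
  rw [← mul_sub]
  exact memLocalIdeal_mul_left (ha x) (h _)

theorem memLocalIdeal_omega_of_eqMod_zero {χ a : G → ℂ} (hχ : IsIrrCharacter G χ)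
    (ha : IsClassFunction G a) (h : ∀ g, MemLocalIdeal M (a g)) :
    MemLocalIdeal M (omega χ a) := by
  classical
  haveI : Fintype (ConjClasses G) := Fintype.ofFinite _
  rw [omega_eq_sum_conjClasses (isClassFunction_of_isIrrCharacter hχ) ha]
  exact memLocalIdeal_sum _ _ fun K _ =>
    memLocalIdeal_mul_right (h _) (memLocalRing_centralChar hχ _)

/-- products of `ε - c δ` with `c` in the local ideal are congruent to `ε` when `ε` is an
idempotent modulo the local ideal -/
theorem eqMod_convList_of_idem {ε : G → ℂ} (hεR : IsRValued M ε)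
    (hidem : EqMod M (conv ε ε) ε) (cs : List ℂ) (hcs : ∀ c ∈ cs, MemLocalIdeal M c)
    (hne : cs ≠ []) :
    EqMod M (convList (cs.map (fun c => ε - c • (delta : G → ℂ)))) ε := by
  induction cs with
  | nil => exact absurd rfl hne
  | cons c cs ih =>
    have hc := hcs c List.mem_cons_self
    have hcs' : ∀ d ∈ cs, MemLocalIdeal M d := fun d hd => hcs d (List.mem_cons_of_mem _ hd)
    simp only [List.map_cons, convList]
    by_cases hnil : cs = []
    · subst hnil
      simp only [List.map_nil, convList]
      rw [conv_delta_right]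
      intro g
      simp only [Pi.sub_apply, Pi.smul_apply, smul_eq_mul, sub_sub_cancel_left]
      exact memLocalIdeal_neg (memLocalIdeal_mul_right hc (isRValued_delta g))
    · have ih' := ih hcs' hnil
      set X := convList (cs.map (fun c => ε - c • (delta : G → ℂ))) with hX
      have hXR : IsRValued M X := isRValued_convList _ (by
        intro a ha
        obtain ⟨d, hd, rfl⟩ := List.mem_map.mp ha
        exact isRValued_sub hεR (isRValued_smul (memLocalRing_of_memLocalIdeal (hcs' d hd))
          isRValued_delta))
      rw [conv_sub_left, conv_smul_left, conv_delta_left]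
      have h1 : EqMod M (conv ε X - c • X) (conv ε X) := by
        intro g
        simp only [Pi.sub_apply, Pi.smul_apply, smul_eq_mul, sub_sub_cancel_left]
        exact memLocalIdeal_neg (memLocalIdeal_mul_right hc (hXR g))
      exact h1.trans ((EqMod.conv_right hεR ih').trans hidem)

/-- **Idempotents in the radical vanish**: an idempotent modulo the local ideal all of whose
central character values lie in the local ideal is zero modulo the local ideal. -/
theorem eqMod_zero_of_idem_of_radical {ε : G → ℂ} (hε : IsClassFunction G ε)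
    (hεR : IsRValued M ε) (hidem : EqMod M (conv ε ε) ε)
    (hrad : ∀ χ : IrrCharacter G, MemLocalIdeal M (omega (χ : G → ℂ) ε)) :
    ∀ g, MemLocalIdeal M (ε g) := by
  classical
  let cs : List ℂ := (Finset.univ : Finset (IrrCharacter G)).toList.map
    (fun χ : IrrCharacter G => omega (χ : G → ℂ) ε)
  have hcs : ∀ c ∈ cs, MemLocalIdeal M c := by
    intro c hc
    obtain ⟨χ, _, rfl⟩ := List.mem_map.mp hc
    exact hrad χ
  have hne : cs ≠ [] := by
    obtain ⟨χ⟩ : Nonempty (IrrCharacter G) := ⟨⟨_, isIrrCharacter_const_one⟩⟩
    intro h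
    have : χ ∈ (Finset.univ : Finset (IrrCharacter G)).toList := Finset.mem_toList.mpr
      (Finset.mem_univ _)
    have h2 : omega (χ : G → ℂ) ε ∈ cs := List.mem_map.mpr ⟨χ, this, rfl⟩
    rw [h] at h2
    exact absurd h2 List.not_mem_nil
  have h1 := eqMod_convList_of_idem hεR hidem cs hcs hne
  have hzero : convList (cs.map (fun c => ε - c • (delta : G → ℂ))) = 0 := by
    have h0 : IsClassFunction G (0 : G → ℂ) := fun _ _ => rfl
    have hl_cl : ∀ a ∈ cs.map (fun c => ε - c • (delta : G → ℂ)), IsClassFunction G a := by
      intro a ha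
      obtain ⟨c, _, rfl⟩ := List.mem_map.mp ha
      exact isClassFunction_sub hε (isClassFunction_smul _ isClassFunction_delta)
    apply eq_of_omega_eq (isClassFunction_convList _ hl_cl) h0
    intro ψ
    have hz0 : omega (ψ : G → ℂ) (0 : G → ℂ) = 0 := by unfold omega; simp
    rw [omega_convList ψ.2 _ hl_cl, hz0]
    simp only [cs, List.map_map]
    rw [Finset.prod_map_toList]
    apply Finset.prod_eq_zero (i := ψ) (Finset.mem_univ _)
    simp only [Function.comp_apply]
    rw [omega_sub, omega_smul, omega_delta_of_irr ψ.2, mul_one, sub_self]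
  rw [hzero] at h1
  intro g
  have := memLocalIdeal_neg (h1 g)
  simpa using this

/-- **A nonzero idempotent modulo the local ideal is detected by some block.** -/
theorem exists_block_of_idem {ε : G → ℂ} (hε : IsClassFunction G ε)
    (hεR : IsRValued M ε) (hidem : EqMod M (conv ε ε) ε) {g₀ : G}
    (hne : ¬ MemLocalIdeal M (ε g₀)) :
    ∃ χ : IrrCharacter G, MemLocalIdeal M (omega (χ : G → ℂ) ε - 1) := by
  by_contra hcon
  push Not at hcon
  apply hne
  refine eqMod_zero_of_idem_of_radical hε hεR hidem (fun χ => ?_) g₀
  have hR := memLocalRing_omega χ.2 hε hεR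
  have h1 : MemLocalIdeal M (omega (χ : G → ℂ) ε * (omega (χ : G → ℂ) ε - 1)) := by
    have h2 : MemLocalIdeal M (omega (χ : G → ℂ) (conv ε ε - ε)) :=
      memLocalIdeal_omega_of_eqMod_zero χ.2
        (isClassFunction_sub (isClassFunction_conv hε hε) hε) (fun g => hidem g)
    rw [omega_sub, omega_conv χ.2 hε hε] at h2
    convert h2 using 1
    ring
  rcases memLocalIdeal_or_of_mul hR (memLocalRing_sub hR (memLocalRing_one hp.ne_top)) h1
    with h | h
  · exact h
  · exact absurd h (hcon χ)

end eqmod

end Cfsg.Agent.Helper77
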