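import Mathlib
import Cfsg.Agent.Lib.Helper77.NormalPair

set_option autoImplicit false
set_option linter.unusedSectionVars false
set_option linter.style.haveILetI false

namespace Cfsg.Agent.Helper77

open Cfsg Cfsg.Agent.Helper79

universe u

section modhomon

variable {K : Type u} [Group K] [Fintype K] {M : Ideal AlgInt}

/-- A functional on functions on `K` that is, modulo the local ideal, an algebra homomorphism
on the central elements satisfying an invariance condition `Inv`. -/
structure IsModHomOn (M : Ideal AlgInt) (Inv : (K → ℂ) → Prop) (lam : (K → ℂ) → ℂ) : Prop where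
  inv_delta : Inv (delta : K → ℂ)
  inv_conv : ∀ {a b : K → ℂ}, Inv a → Inv b → Inv (conv a b)
  inv_sub : ∀ {a b : K → ℂ}, Inv a → Inv b → Inv (a - b)
  inv_smul : ∀ (c : ℂ) {a : K → ℂ}, Inv a → Inv (c • a)
  map_sub : ∀ a b : K → ℂ, lam (a - b) = lam a - lam b
  map_smul : ∀ (c : ℂ) (a : K → ℂ), lam (c • a) = c * lam a
  memR : ∀ a : K → ℂ, Inv a → IsClassFunction K a → IsRValued M a → MemLocalRing M (lam a)
  one : MemLocalIdeal M (lam (delta : K → ℂ) - 1)
  mul : ∀ a b : K → ℂ, Inv a → Inv b → IsClassFunction K a → IsClassFunction K b →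
    IsRValued M a → IsRValued M b → MemLocalIdeal M (lam (conv a b) - lam a * lam b)

variable [hp : M.IsPrime]

theorem IsModHomOn.map_zero {Inv : (K → ℂ) → Prop} {lam : (K → ℂ) → ℂ}
    (h : IsModHomOn M Inv lam) : lam 0 = 0 := by
  have := h.map_sub 0 0
  simpa using this

theorem IsModHomOn.inv_convList {Inv : (K → ℂ) → Prop} {lam : (K → ℂ) → ℂ}
    (h : IsModHomOn M Inv lam) (l : List (K → ℂ)) (hI : ∀ a ∈ l, Inv a) :
    Inv (convList l) := by
  induction l with
  | nil => exact h.inv_delta
  | cons a l ih =>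
    exact h.inv_conv (hI a List.mem_cons_self) (ih fun b hb => hI b (List.mem_cons_of_mem _ hb))

theorem IsModHomOn.convList {Inv : (K → ℂ) → Prop} {lam : (K → ℂ) → ℂ}
    (hw : IsModHomOn M Inv lam) (l : List (K → ℂ)) (hI : ∀ a ∈ l, Inv a)
    (hcl : ∀ a ∈ l, IsClassFunction K a) (hR : ∀ a ∈ l, IsRValued M a) :
    MemLocalIdeal M (lam (convList l) - (l.map lam).prod) := by
  induction l with
  | nil => simpa [Helper77.convList] using hw.one
  | cons a l ih =>
    have hI' : ∀ b ∈ l, Inv b := fun b hb => hI b (List.mem_cons_of_mem _ hb)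
    have hcl' : ∀ b ∈ l, IsClassFunction K b := fun b hb => hcl b (List.mem_cons_of_mem _ hb)
    have hR' : ∀ b ∈ l, IsRValued M b := fun b hb => hR b (List.mem_cons_of_mem _ hb)
    have ha := hcl a List.mem_cons_self
    have haR := hR a List.mem_cons_self
    have haI := hI a List.mem_cons_self
    have hlc := isClassFunction_convList l hcl'
    have hlR := isRValued_convList (M := M) l hR'
    have hlI := hw.inv_convList l hI'
    simp only [Helper77.convList, List.map_cons, List.prod_cons]
    have h1 := hw.mul a (Helper77.convList l) haI hlI ha hlc haR hlR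
    have h2 := memLocalIdeal_mul_left (hw.memR a haI ha haR) (ih hI' hcl' hR')
    have := memLocalIdeal_add h1 h2
    convert this using 1
    ring

/-- Central elements in the radical are killed by homomorphisms modulo the local ideal. -/
theorem IsModHomOn.radical {Inv : (K → ℂ) → Prop} {lam : (K → ℂ) → ℂ}
    (hw : IsModHomOn M Inv lam) {z : K → ℂ} (hzI : Inv z) (hz : IsClassFunction K z)
    (hzR : IsRValued M z) (h : ∀ χ : IrrCharacter K, MemLocalIdeal M (omega (χ : K → ℂ) z)) :
    MemLocalIdeal M (lam z) := by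
  classical
  let fac : IrrCharacter K → (K → ℂ) := fun χ => z - (omega (χ : K → ℂ) z) • (delta : K → ℂ)
  let l : List (K → ℂ) := (Finset.univ : Finset (IrrCharacter K)).toList.map fac
  have hfac_I : ∀ χ, Inv (fac χ) := fun χ => hw.inv_sub hzI (hw.inv_smul _ hw.inv_delta)
  have hfac_cl : ∀ χ, IsClassFunction K (fac χ) := fun χ =>
    isClassFunction_sub hz (isClassFunction_smul _ isClassFunction_delta)
  have hfac_R : ∀ χ, IsRValued M (fac χ) := fun χ =>
    isRValued_sub hzR (isRValued_smul (memLocalRing_omega χ.2 hz hzR) isRValued_delta)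
  have hl_I : ∀ a ∈ l, Inv a := by
    intro a ha
    obtain ⟨χ, _, rfl⟩ := List.mem_map.mp ha
    exact hfac_I χ
  have hl_cl : ∀ a ∈ l, IsClassFunction K a := by
    intro a ha
    obtain ⟨χ, _, rfl⟩ := List.mem_map.mp ha
    exact hfac_cl χ
  have hl_R : ∀ a ∈ l, IsRValued M a := by
    intro a ha
    obtain ⟨χ, _, rfl⟩ := List.mem_map.mp ha
    exact hfac_R χ
  have hzero : Helper77.convList l = 0 := by
    have h0 : IsClassFunction K (0 : K → ℂ) := fun _ _ => rfl
    apply eq_of_omega_eq (isClassFunction_convList l hl_cl) h0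
    intro ψ
    have hz0 : omega (ψ : K → ℂ) (0 : K → ℂ) = 0 := by unfold omega; simp
    rw [omega_convList ψ.2 l hl_cl, hz0]
    simp only [l, List.map_map]
    rw [Finset.prod_map_toList]
    apply Finset.prod_eq_zero (i := ψ) (Finset.mem_univ _)
    simp only [Function.comp_apply, fac]
    rw [omega_sub, omega_smul, omega_delta_of_irr ψ.2, mul_one, sub_self]
  have hprod := hw.convList l hl_I hl_cl hl_R
  rw [hzero, hw.map_zero, zero_sub] at hprod
  have hprod' := memLocalIdeal_neg hprod
  rw [neg_neg] at hprod'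
  obtain ⟨y, hy, hy'⟩ := exists_memLocalIdeal_of_list_prod _ (by
    intro y hy
    obtain ⟨a, ha, rfl⟩ := List.mem_map.mp hy
    exact hw.memR a (hl_I a ha) (hl_cl a ha) (hl_R a ha)) hprod'
  obtain ⟨a, ha, rfl⟩ := List.mem_map.mp hy
  obtain ⟨χ, _, rfl⟩ := List.mem_map.mp ha
  simp only [fac] at hy'
  rw [hw.map_sub, hw.map_smul] at hy'
  have hd : MemLocalRing M (lam (delta : K → ℂ)) :=
    hw.memR _ hw.inv_delta isClassFunction_delta isRValued_delta
  have e1 := memLocalIdeal_mul_right (h χ) hd
  have := memLocalIdeal_add hy' e1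
  simpa using this

end modhomon

section lemmaS

variable {G : Type u} [Group G] [Fintype G] {p : ℕ} {M : Ideal AlgInt}

theorem extZ_sub (K : Subgroup G) (a b : K → ℂ) : extZ K (a - b) = extZ K a - extZ K b := by
  funext g
  by_cases hg : g ∈ K
  · simp [extZ_of_mem' K _ hg]
  · simp [extZ_of_notMem K _ hg]

theorem extZ_smul (K : Subgroup G) (c : ℂ) (a : K → ℂ) : extZ K (c • a) = c • extZ K a := by
  funext g
  by_cases hg : g ∈ K
  · simp [extZ_of_mem' K _ hg]
  · simp [extZ_of_notMem K _ hg]

theorem isRValued_extZ [hp : M.IsPrime] (K : Subgroup G) {a : K → ℂ} (ha : IsRValued M a) :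
    IsRValued M (extZ K a) := by
  intro g
  by_cases hg : g ∈ K
  · rw [extZ_of_mem' K _ hg]; exact ha _
  · rw [extZ_of_notMem K _ hg]; exact memLocalRing_zero hp.ne_top

theorem brauerOmega_sub (P : Subgroup G) [Fintype (Subgroup.centralizer (P : Set G))]
    (a b : G → ℂ) (ξ : Subgroup.centralizer (P : Set G) → ℂ) :
    brauerOmega P (a - b) ξ = brauerOmega P a ξ - brauerOmega P b ξ := by
  rw [brauerOmega_eq_omega, brauerOmega_eq_omega, brauerOmega_eq_omega, ← omega_sub]
  rfl

theorem brauerOmega_smul (P : Subgroup G) [Fintype (Subgroup.centralizer (P : Set G))]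
    (c : ℂ) (a : G → ℂ) (ξ : Subgroup.centralizer (P : Set G) → ℂ) :
    brauerOmega P (c • a) ξ = c * brauerOmega P a ξ := by
  rw [brauerOmega_eq_omega, brauerOmega_eq_omega, ← omega_smul]
  rfl

/-- `P`-invariance of the extension by zero of a function on `K`. -/
def PInv (K P : Subgroup G) (a : K → ℂ) : Prop :=
  ∀ u ∈ P, ∀ x, extZ K a (u * x * u⁻¹) = extZ K a x

theorem isModHomOn_brauerOmega (hM : IsPModular p M) (K P : Subgroup G) [Fintype K]
    [Fintype (Subgroup.centralizer (P : Set G))] (hP : IsPGroup p P)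
    (hCK : Subgroup.centralizer (P : Set G) ≤ K)
    {ξ : Subgroup.centralizer (P : Set G) → ℂ}
    (hξ : IsIrrCharacter (Subgroup.centralizer (P : Set G)) ξ) :
    IsModHomOn M (PInv K P) (fun a => brauerOmega P (extZ K a) ξ) := by
  haveI hpr := isPrime_of_isPModular hM
  refine ⟨?_, ?_, ?_, ?_, ?_, ?_, ?_, ?_, ?_⟩
  · intro u _ x
    rw [extZ_delta]
    exact isClassFunction_delta x u
  · intro a b ha hb u hu x
    rw [← conv_extZ]
    exact conv_conj_invariant u (ha u hu) (hb u hu) x
  · intro a b ha hb u hu x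
    rw [extZ_sub]
    simp only [Pi.sub_apply, ha u hu x, hb u hu x]
  · intro c a ha u hu x
    rw [extZ_smul]
    simp only [Pi.smul_apply, ha u hu x]
  · intro a b
    simp only [extZ_sub, brauerOmega_sub]
  · intro c a
    simp only [extZ_smul, brauerOmega_smul]
  · intro a _ hacl haR
    exact memLocalRing_brauerOmega_of_invariant P (isRValued_extZ K haR)
      (fun u hu x => extZ_conj_of_class K hacl u (hCK hu) x) hξ
  · simp only [extZ_delta]
    rw [brauerOmega_delta P (irrChar_one_ne_zero hξ), sub_self]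
    exact memLocalIdeal_zero hpr.ne_top
  · intro a b haI hbI hacl hbcl haR hbR
    simp only [← conv_extZ]
    exact brauerOmega_conv_of_invariant hM P hP (isRValued_extZ K haR) (isRValued_extZ K hbR)
      haI hbI (fun u hu x => extZ_conj_of_class K hacl u (hCK hu) x)
      (fun u hu x => extZ_conj_of_class K hbcl u (hCK hu) x) hξ

/-- **One step**: central characters commute with Brauer maps along a normal subpair. -/
theorem brauerOmega_congr_of_isNormalSubpair [Fact p.Prime] (hM : IsPModular p M)
    (P Q : Subgroup G) (e : Set (IrrCharacter (Subgroup.centralizer (P : Set G))))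
    (f : Set (IrrCharacter (Subgroup.centralizer (Q : Set G))))
    (h : IsNormalSubpair p M Q f P e) {z : G → ℂ} (hzR : IsRValued M z)
    (hzK : ∀ u ∈ Subgroup.centralizer (Q : Set G), ∀ x, z (u * x * u⁻¹) = z x)
    (hzP : ∀ u ∈ P, ∀ x, z (u * x * u⁻¹) = z x)
    {ξ : IrrCharacter (Subgroup.centralizer (P : Set G))} (hξ : ξ ∈ e)
    {η : IrrCharacter (Subgroup.centralizer (Q : Set G))} (hη : η ∈ f) :
    MemLocalIdeal M (brauerOmega P z (ξ : Subgroup.centralizer (P : Set G) → ℂ) -
      brauerOmega Q z (η : Subgroup.centralizer (Q : Set G) → ℂ)) := by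
  classical
  haveI hpr := isPrime_of_isPModular hM
  haveI : Fintype (Subgroup.centralizer (Q : Set G)) := Fintype.ofFinite _
  haveI : Fintype (Subgroup.centralizer (P : Set G)) := Fintype.ofFinite _
  obtain ⟨⟨_, hf⟩, ⟨hPp, he⟩, hQP, hPN, hstab, hone⟩ := h
  have hPK := hPN.trans (normalizer_le_normalizer_centralizer Q)
  have hCK : Subgroup.centralizer (P : Set G) ≤ Subgroup.centralizer (Q : Set G) :=
    Subgroup.centralizer_le hQP
  have hst : IsStableSet (Subgroup.centralizer (Q : Set G)) P hPK f := fun x hx =>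
    (stabilizesBlock_iff_conjSet_eq _ x (hPK hx) hf).mp (hstab x hx)
  let zK : Subgroup.centralizer (Q : Set G) → ℂ := restr (Subgroup.centralizer (Q : Set G)) z
  have hzKcl : IsClassFunction (Subgroup.centralizer (Q : Set G)) zK := isClassFunction_restr _ hzK
  have hzKR : IsRValued M zK := isRValued_restr _ hzR
  have hzKI : PInv (Subgroup.centralizer (Q : Set G)) P zK := by
    intro u hu x
    by_cases hx : x ∈ Subgroup.centralizer (Q : Set G)
    · have hux : u * x * u⁻¹ ∈ Subgroup.centralizer (Q : Set G) :=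
        (Subgroup.mem_normalizer_iff.mp (hPK hu) x).mp hx
      rw [extZ_of_mem' _ _ hux, extZ_of_mem' _ _ hx]
      exact hzP u hu x
    · have hux : u * x * u⁻¹ ∉ Subgroup.centralizer (Q : Set G) :=
        fun h => hx ((Subgroup.mem_normalizer_iff.mp (hPK hu) x).mpr h)
      rw [extZ_of_notMem _ _ hux, extZ_of_notMem _ _ hx]
  have hw := isModHomOn_brauerOmega hM (Subgroup.centralizer (Q : Set G)) P hPp hCK ξ.2
  set c : ℂ := omega (η : Subgroup.centralizer (Q : Set G) → ℂ) zK with hc
  have hcR : MemLocalRing M c := memLocalRing_omega η.2 hzKcl hzKR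
  have hbI : PInv (Subgroup.centralizer (Q : Set G)) P (blockCoeff f) :=
    subgroupBlockCoeff_conj_of_stable _ P hPK hst
  let y : Subgroup.centralizer (Q : Set G) → ℂ :=
    zK - c • (delta : Subgroup.centralizer (Q : Set G) → ℂ)
  have hyI : PInv (Subgroup.centralizer (Q : Set G)) P y :=
    hw.inv_sub hzKI (hw.inv_smul c hw.inv_delta)
  have hycl : IsClassFunction (Subgroup.centralizer (Q : Set G)) y :=
    isClassFunction_sub hzKcl (isClassFunction_smul _ isClassFunction_delta)
  have hyR : IsRValued M y := isRValued_sub hzKR (isRValued_smul hcR isRValued_delta)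
  have hbcl := isClassFunction_blockCoeff f
  have hbR := isRValued_blockCoeff hf
  -- z' = y * e_f lies in the radical
  have hrad : ∀ χ : IrrCharacter (Subgroup.centralizer (Q : Set G)),
      MemLocalIdeal M (omega (χ : Subgroup.centralizer (Q : Set G) → ℂ)
        (conv y (blockCoeff f))) := by
    intro χ
    rw [omega_conv χ.2 hycl hbcl, omega_blockCoeff]
    by_cases hχ : χ ∈ f
    · rw [if_pos hχ, mul_one]
      simp only [y]
      rw [omega_sub, omega_smul, omega_delta_of_irr χ.2, mul_one]
      exact memLocalIdeal_omega_sub χ.2 η.2 (sameBlock_of_mem hf hχ hη) hzKcl hzKR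
    · rw [if_neg hχ, mul_zero]
      exact memLocalIdeal_zero hpr.ne_top
  have h1 := hw.radical (hw.inv_conv hyI hbI) (isClassFunction_conv hycl hbcl)
    (isRValued_conv hyR hbR) hrad
  have h2 := hw.mul y (blockCoeff f) hyI hbI hycl hbcl hyR hbR
  have h3 := memLocalIdeal_sub h1 h2
  rw [sub_sub_cancel] at h3
  -- lam(e_f) is a unit
  have hone' := hone ξ hξ
  have hef : ¬ MemLocalIdeal M (brauerOmega P (extZ (Subgroup.centralizer (Q : Set G))
      (blockCoeff f)) (ξ : Subgroup.centralizer (P : Set G) → ℂ)) := by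
    intro hcon
    have := memLocalIdeal_sub hcon hone'
    rw [subgroupBlockCoeff_eq_extZ, sub_sub_cancel] at this
    exact not_memLocalIdeal_one this
  have hyR' := hw.memR y hyI hycl hyR
  have hbR' := hw.memR (blockCoeff f) hbI hbcl hbR
  rcases memLocalIdeal_or_of_mul hyR' hbR' h3 with h4 | h4
  · -- lam y = lam zK - c
    simp only [y] at h4
    rw [extZ_sub, extZ_smul, brauerOmega_sub, brauerOmega_smul, extZ_delta,
      brauerOmega_delta P (irrChar_one_ne_zero ξ.2), mul_one] at h4
    have e1 : brauerOmega P (extZ (Subgroup.centralizer (Q : Set G)) zK)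
        (ξ : Subgroup.centralizer (P : Set G) → ℂ) = brauerOmega P z
        (ξ : Subgroup.centralizer (P : Set G) → ℂ) := by
      unfold brauerOmega
      refine finsum_congr fun x => ?_
      rw [extZ_of_mem' _ _ (hCK x.2)]
      rfl
    have e2 : brauerOmega Q z (η : Subgroup.centralizer (Q : Set G) → ℂ) = c := by
      rw [brauerOmega_eq_omega]
      rfl
    rw [e1] at h4
    rw [e2]
    exact h4
  · exact absurd h4 hef

end lemmaS

section chain

variable {G : Type u} [Group G] [Fintype G] {p : ℕ} {M : Ideal AlgInt}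

theorem le_of_reflTransGen {a b : BrauerPairIdx G}
    (h : Relation.ReflTransGen (NormalSubpairRel p M) a b) : a.1 ≤ b.1 := by
  induction h with
  | refl => exact le_rfl
  | tail _ hcb ih => exact ih.trans hcb.2.2.1

theorem isPBlock_of_reflTransGen {a b : BrauerPairIdx G}
    (h : Relation.ReflTransGen (NormalSubpairRel p M) a b) (ha : IsPBlock M a.2) :
    IsPBlock M b.2 := by
  induction h with
  | refl => exact ha
  | tail _ hcb _ => exact hcb.2.1.2

/-- **Chains**: central characters commute with Brauer maps along inclusions of Brauer pairs. -/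
theorem brauerOmega_congr_of_chain [Fact p.Prime] (hM : IsPModular p M) {a b : BrauerPairIdx G}
    (h : Relation.ReflTransGen (NormalSubpairRel p M) a b) :
    IsPBlock M a.2 → ∀ z : G → ℂ, IsRValued M z →
    (∀ u ∈ Subgroup.centralizer (a.1 : Set G), ∀ x, z (u * x * u⁻¹) = z x) →
    (∀ u ∈ b.1, ∀ x, z (u * x * u⁻¹) = z x) →
    ∀ ξ ∈ b.2, ∀ η ∈ a.2,
      MemLocalIdeal M (brauerOmega b.1 z (ξ : Subgroup.centralizer (b.1 : Set G) → ℂ) -
        brauerOmega a.1 z (η : Subgroup.centralizer (a.1 : Set G) → ℂ)) := by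
  classical
  haveI hpr := isPrime_of_isPModular hM
  induction h with
  | refl =>
    intro ha z hzR hzK _ ξ hξ η hη
    haveI : Fintype (Subgroup.centralizer (a.1 : Set G)) := Fintype.ofFinite _
    exact memLocalIdeal_brauerOmega_sub_of_invariant a.1 hzR hzK ξ.2 η.2
      (sameBlock_of_mem ha hξ hη)
  | @tail c b hac hcb ih =>
    intro ha z hzR hzK hzP ξ hξ η hη
    have hcblock : IsPBlock M c.2 := hcb.1.2
    obtain ⟨ξ', hξ'⟩ := nonempty_of_isPBlock hcblock
    have hac_le : a.1 ≤ c.1 := le_of_reflTransGen hac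
    have hcb_le : c.1 ≤ b.1 := hcb.2.2.1
    have h1 := ih ha z hzR hzK (fun u hu x => hzP u (hcb_le hu) x) ξ' hξ' η hη
    have h2 := brauerOmega_congr_of_isNormalSubpair hM b.1 c.1 b.2 c.2 hcb hzR
      (fun u hu x => hzK u (Subgroup.centralizer_le hac_le hu) x) hzP hξ hξ'
    have := memLocalIdeal_add h2 h1
    convert this using 1
    ring

/-- A block contains a Brauer pair iff it contains a smaller one. -/
theorem isBrauerPairOf_iff_of_subpairLE [Fact p.Prime] (hM : IsPModular p M) (P Q : Subgroup G)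
    (e : Set (IrrCharacter (Subgroup.centralizer (P : Set G))))
    (f : Set (IrrCharacter (Subgroup.centralizer (Q : Set G))))
    (hPe : IsBrauerPair p M P e) (hQf : IsBrauerPair p M Q f) (hle : SubpairLE p M Q f P e)
    (B : Set (IrrCharacter G)) (hB : IsPBlock M B) :
    IsBrauerPairOf p M B P e ↔ IsBrauerPairOf p M B Q f := by
  haveI hpr := isPrime_of_isPModular hM
  have key := brauerOmega_congr_of_chain hM hle hQf.2 (blockCoeff B) (isRValued_blockCoeff hB)
    (fun u _ x => isClassFunction_blockCoeff B x u) (fun u _ x => isClassFunction_blockCoeff B x u)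
  obtain ⟨ξ₀, hξ₀⟩ := nonempty_of_isPBlock hPe.2
  obtain ⟨η₀, hη₀⟩ := nonempty_of_isPBlock hQf.2
  constructor
  · rintro ⟨_, _, h⟩
    refine ⟨hQf, hB, fun η hη => ?_⟩
    have := memLocalIdeal_sub (h ξ₀ hξ₀) (key ξ₀ hξ₀ η hη)
    convert this using 1
    ring
  · rintro ⟨_, _, h⟩
    refine ⟨hPe, hB, fun ξ hξ => ?_⟩
    have := memLocalIdeal_add (h η₀ hη₀) (key ξ hξ η₀ hη₀)
    convert this using 1
    ring

end chain

end Cfsg.Agent.Helper77
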