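import Mathlib
import Cfsg.Agent.Lib.Helper77.SubpairChain

set_option autoImplicit false
set_option linter.unusedSectionVars false
set_option linter.style.haveILetI false

namespace Cfsg.Agent.Helper77

open Cfsg Cfsg.Agent.Helper79

universe u

section grow

/-- normalizers grow in `p`-groups -/
theorem lt_inf_normalizer {G : Type*} [Group G] [Finite G] {p : ℕ} [Fact p.Prime]
    {P Q : Subgroup G} (hP : IsPGroup p P) (hQP : Q < P) :
    Q < P ⊓ Subgroup.normalizer (Q : Set G) := by
  haveI : Group.IsNilpotent P := hP.isNilpotent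
  have hnc := Group.normalizerCondition_of_isNilpotent (G := P)
  have hlt : Q.subgroupOf P < ⊤ := by
    rw [lt_top_iff_ne_top, Ne, Subgroup.subgroupOf_eq_top]
    exact not_le_of_gt hQP
  have h1 := hnc (Q.subgroupOf P) hlt
  rw [← Subgroup.subgroupOf_normalizer_eq hQP.le] at h1
  refine lt_of_le_of_ne (le_inf hQP.le Subgroup.le_normalizer) ?_
  intro heq
  apply h1.ne
  ext x
  rw [Subgroup.mem_subgroupOf, Subgroup.mem_subgroupOf]
  constructor
  · intro hx
    exact Subgroup.le_normalizer hx
  · intro hx
    have : (x : G) ∈ P ⊓ Subgroup.normalizer (Q : Set G) := ⟨x.2, hx⟩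
    rw [← heq] at this
    exact this

theorem card_lt_of_lt {G : Type*} [Group G] [Finite G] {H K : Subgroup G} (h : H < K) :
    Nat.card H < Nat.card K := by
  refine lt_of_le_of_ne (Subgroup.card_le_of_le h.le) ?_
  intro heq
  exact h.ne (Subgroup.eq_of_le_of_card_ge h.le heq.ge)

end grow

section sub

variable {G : Type u} [Group G] [Fintype G] {p : ℕ} {M : Ideal AlgInt}

theorem brauerOmega_subgroupBlockCoeff_self (A : Subgroup G)
    [Fintype (Subgroup.centralizer (A : Set G))]
    (f₀ : Set (IrrCharacter (Subgroup.centralizer (A : Set G))))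
    (η : IrrCharacter (Subgroup.centralizer (A : Set G))) :
    brauerOmega A (subgroupBlockCoeff (Subgroup.centralizer (A : Set G)) f₀)
      (η : Subgroup.centralizer (A : Set G) → ℂ) =
      by classical exact if η ∈ f₀ then 1 else 0 := by
  rw [brauerOmega_eq_omega, ← omega_blockCoeff]
  congr 1
  funext x
  rw [subgroupBlockCoeff_eq_extZ, extZ_of_mem]

/-- A normal subpair on the same subgroup is an equality. -/
theorem eq_of_isNormalSubpair_same [hp : M.IsPrime] (A : Subgroup G)
    (fa fc : Set (IrrCharacter (Subgroup.centralizer (A : Set G))))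
    (h : IsNormalSubpair p M A fa A fc) : fa = fc := by
  classical
  haveI : Fintype (Subgroup.centralizer (A : Set G)) := Fintype.ofFinite _
  obtain ⟨⟨_, hfa⟩, ⟨_, hfc⟩, _, _, _, hone⟩ := h
  obtain ⟨ξ, hξ⟩ := nonempty_of_isPBlock hfc
  have h1 := hone ξ hξ
  rw [brauerOmega_subgroupBlockCoeff_self] at h1
  by_cases hξa : ξ ∈ fa
  · exact eq_of_isPBlock_of_mem hfa hfc hξa hξ
  · rw [if_neg hξa, zero_sub] at h1
    have := memLocalIdeal_neg h1
    rw [neg_neg] at this
    exact absurd this not_memLocalIdeal_one

/-- **Normal transitivity**: below a pair `(P, e)` with `Q ⊴ P` the only block on `Q` is the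
normal subpair. -/
theorem eq_of_subpairLE_of_isNormalSubpair [Fact p.Prime] (hM : IsPModular p M)
    (P Q : Subgroup G) (e : Set (IrrCharacter (Subgroup.centralizer (P : Set G))))
    (f₀ f : Set (IrrCharacter (Subgroup.centralizer (Q : Set G))))
    (h₀ : IsNormalSubpair p M Q f₀ P e) (hf : IsPBlock M f) (hle : SubpairLE p M Q f P e) :
    f = f₀ := by
  classical
  haveI hpr := isPrime_of_isPModular hM
  haveI : Fintype (Subgroup.centralizer (Q : Set G)) := Fintype.ofFinite _
  haveI : Fintype (Subgroup.centralizer (P : Set G)) := Fintype.ofFinite _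
  have h₀' := h₀
  obtain ⟨⟨_, hf₀⟩, ⟨hPp, he⟩, hQP, hPN, hstab, hone⟩ := h₀
  have hPK := hPN.trans (normalizer_le_normalizer_centralizer Q)
  have hst : IsStableSet (Subgroup.centralizer (Q : Set G)) P hPK f₀ := fun x hx =>
    (stabilizesBlock_iff_conjSet_eq _ x (hPK hx) hf₀).mp (hstab x hx)
  obtain ⟨ξ, hξ⟩ := nonempty_of_isPBlock he
  obtain ⟨η, hη⟩ := nonempty_of_isPBlock hf
  have key := brauerOmega_congr_of_chain hM hle hf
    (subgroupBlockCoeff (Subgroup.centralizer (Q : Set G)) f₀)
    (isRValued_subgroupBlockCoeff _ hf₀)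
    (fun u hu x => subgroupBlockCoeff_conj_of_mem _ f₀ u hu x)
    (subgroupBlockCoeff_conj_of_stable _ P hPK hst) ξ hξ η hη
  have h1 := memLocalIdeal_sub (hone ξ hξ) key
  have h2 : MemLocalIdeal M (brauerOmega Q (subgroupBlockCoeff (Subgroup.centralizer (Q : Set G)) f₀)
      (η : Subgroup.centralizer (Q : Set G) → ℂ) - 1) := by
    convert h1 using 1
    ring
  rw [brauerOmega_subgroupBlockCoeff_self] at h2
  by_cases hη₀ : η ∈ f₀
  · exact eq_of_isPBlock_of_mem hf hf₀ hη hη₀
  · rw [if_neg hη₀, zero_sub] at h2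
    have := memLocalIdeal_neg h2
    rw [neg_neg] at this
    exact absurd this not_memLocalIdeal_one

/-- **Existence of subpairs.** -/
theorem exists_subpairLE [Fact p.Prime] (hM : IsPModular p M) :
    ∀ (n : ℕ) (P Q : Subgroup G) (e : Set (IrrCharacter (Subgroup.centralizer (P : Set G)))),
      IsBrauerPair p M P e → Q ≤ P → Nat.card P - Nat.card Q = n →
      ∃ f : Set (IrrCharacter (Subgroup.centralizer (Q : Set G))),
        IsPBlock M f ∧ SubpairLE p M Q f P e := by
  intro n
  induction n using Nat.strong_induction_on with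
  | _ n ih =>
    intro P Q e hPe hQP hn
    by_cases hQeq : Q = P
    · subst hQeq
      exact ⟨e, hPe.2, Relation.ReflTransGen.refl⟩
    · have hlt : Q < P := lt_of_le_of_ne hQP hQeq
      have hQR := lt_inf_normalizer hPe.1 hlt
      set R : Subgroup G := P ⊓ Subgroup.normalizer (Q : Set G) with hR
      have hRP : R ≤ P := inf_le_left
      have hRN : R ≤ Subgroup.normalizer (Q : Set G) := inf_le_right
      have hcard : Nat.card P - Nat.card R < n := by
        have h1 := card_lt_of_lt hQR
        have h2 := Subgroup.card_le_of_le hRP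
        omega
      obtain ⟨g, hg, hgle⟩ := ih _ hcard P R e hPe hRP rfl
      have hRg : IsBrauerPair p M R g := ⟨hPe.1.to_le hRP, hg⟩
      obtain ⟨f, hf, -⟩ := existsUnique_isNormalSubpair hM R Q g hRg hQR.le hRN
      exact ⟨f, hf.1.2, Relation.ReflTransGen.head
        (show NormalSubpairRel p M ⟨Q, f⟩ ⟨R, g⟩ from hf) hgle⟩

/-- **Uniqueness of subpairs.** -/
theorem subpairLE_unique [Fact p.Prime] (hM : IsPModular p M) (P : Subgroup G)
    (e : Set (IrrCharacter (Subgroup.centralizer (P : Set G)))) (hPe : IsBrauerPair p M P e) :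
    ∀ (n : ℕ) (Q : Subgroup G), Q ≤ P → Nat.card P - Nat.card Q = n →
      ∀ f f' : Set (IrrCharacter (Subgroup.centralizer (Q : Set G))),
        IsPBlock M f → SubpairLE p M Q f P e → IsPBlock M f' → SubpairLE p M Q f' P e →
        f = f' := by
  haveI hpr := isPrime_of_isPModular hM
  intro n
  induction n using Nat.strong_induction_on with
  | _ n ih =>
    intro Q hQP hn f f' hf hle hf' hle'
    by_cases hPN : P ≤ Subgroup.normalizer (Q : Set G)
    · obtain ⟨f₀, hf₀, -⟩ := existsUnique_isNormalSubpair hM P Q e hPe hQP hPN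
      rw [eq_of_subpairLE_of_isNormalSubpair hM P Q e f₀ f hf₀ hf hle,
        eq_of_subpairLE_of_isNormalSubpair hM P Q e f₀ f' hf₀ hf' hle']
    · have hQne : Q ≠ P := by
        rintro rfl
        exact hPN Subgroup.le_normalizer
      have hlt : Q < P := lt_of_le_of_ne hQP hQne
      have hQR := lt_inf_normalizer hPe.1 hlt
      set R : Subgroup G := P ⊓ Subgroup.normalizer (Q : Set G) with hR
      have hRP : R ≤ P := inf_le_left
      have hRN : R ≤ Subgroup.normalizer (Q : Set G) := inf_le_right
      obtain ⟨h, hh, hhle⟩ := exists_subpairLE hM _ P R e hPe hRP rfl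
      have hRh : IsBrauerPair p M R h := ⟨hPe.1.to_le hRP, hh⟩
      obtain ⟨f₀, hf₀, -⟩ := existsUnique_isNormalSubpair hM R Q h hRh hQR.le hRN
      have claimE : ∀ a : BrauerPairIdx G,
          Relation.ReflTransGen (NormalSubpairRel p M) a ⟨P, e⟩ → a.1 = Q → IsPBlock M a.2 →
          Relation.ReflTransGen (NormalSubpairRel p M) a ⟨R, h⟩ := by
        intro a ha
        induction ha using Relation.ReflTransGen.head_induction_on with
        | refl =>
          intro h1 _
          exact absurd h1.symm hQne
        | @head a c hac hcb ihc =>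
          intro ha1 ha2
          have hac' : IsNormalSubpair p M a.1 a.2 c.1 c.2 := hac
          have hcP : c.1 ≤ P := le_of_reflTransGen hcb
          have hQc : Q ≤ c.1 := ha1 ▸ hac'.2.2.1
          have hcN : c.1 ≤ Subgroup.normalizer (Q : Set G) := ha1 ▸ hac'.2.2.2.1
          have hcR : c.1 ≤ R := le_inf hcP hcN
          by_cases hc1 : c.1 = Q
          · have hac_eq : a = c := by
              obtain ⟨A, fa⟩ := a
              obtain ⟨A', fc⟩ := c
              have e1 : Q = A := ha1.symm
              have e2 : Q = A' := hc1.symm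
              subst e1
              subst e2
              have := eq_of_isNormalSubpair_same Q fa fc hac
              rw [this]
            rw [hac_eq]
            exact ihc hc1 hac'.2.1.2
          · have hQc' : Q < c.1 := lt_of_le_of_ne hQc (Ne.symm hc1)
            have hcard : Nat.card P - Nat.card c.1 < n := by
              have h1 := card_lt_of_lt hQc'
              have h2 := Subgroup.card_le_of_le hcP
              omega
            obtain ⟨g, hg, hgle⟩ := exists_subpairLE hM _ R c.1 h hRh hcR rfl
            have hgP : SubpairLE p M c.1 g P e := Relation.ReflTransGen.trans hgle hhle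
            have hcc : SubpairLE p M c.1 c.2 P e := hcb
            have hgc : g = c.2 := ih _ hcard c.1 hcP rfl g c.2 hg hgP hac'.2.1.2 hcc
            subst hgc
            exact Relation.ReflTransGen.head hac hgle
      have e1 := claimE ⟨Q, f⟩ hle rfl hf
      have e2 := claimE ⟨Q, f'⟩ hle' rfl hf'
      rw [eq_of_subpairLE_of_isNormalSubpair hM R Q h f₀ f hf₀ hf e1,
        eq_of_subpairLE_of_isNormalSubpair hM R Q h f₀ f' hf₀ hf' e2]

/-- **Subpairs exist and are unique.** -/
theorem existsUnique_subpairLE [Fact p.Prime] (hM : IsPModular p M) (P Q : Subgroup G)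
    (e : Set (IrrCharacter (Subgroup.centralizer (P : Set G)))) (hPe : IsBrauerPair p M P e)
    (hQP : Q ≤ P) :
    ∃! f : Set (IrrCharacter (Subgroup.centralizer (Q : Set G))),
      IsPBlock M f ∧ SubpairLE p M Q f P e := by
  obtain ⟨f, hf, hle⟩ := exists_subpairLE hM _ P Q e hPe hQP rfl
  refine ⟨f, ⟨hf, hle⟩, fun f' hf' => ?_⟩
  exact subpairLE_unique hM P e hPe _ Q hQP rfl f' f hf'.1 hf'.2 hf hle

end sub

end Cfsg.Agent.Helper77
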