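import Mathlib
import Cfsg.Agent.Lib.Helper77.Subpairs

set_option autoImplicit false
set_option linter.unusedSectionVars false
set_option linter.style.haveILetI false

namespace Cfsg.Agent.Helper77

open Cfsg

section classcorr

variable {G : Type*} [Group G] [Finite G] {p : ℕ} [Fact p.Prime]

/-- `P` is maximal among the `p`-subgroups of `N_G(P) ∩ C_G(x)` containing it. -/
def IsMaxPIn (p : ℕ) (P : Subgroup G) (x : G) : Prop :=
  ∀ R : Subgroup G, IsPGroup p R → P ≤ R → R ≤ Subgroup.normalizer (P : Set G) →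
    R ≤ Subgroup.centralizer ({x} : Set G) → R = P

/-- First half of the class correspondence: `P` is a Sylow subgroup of `C_G(x)`. -/
theorem exists_sylow_centralizer_of_isMaxPIn {P : Subgroup G} {x : G} (hP : IsPGroup p P)
    (hx : P ≤ Subgroup.centralizer ({x} : Set G)) (hmax : IsMaxPIn p P x) :
    ∃ D : Sylow p (Subgroup.centralizer ({x} : Set G)),
      (D : Subgroup (Subgroup.centralizer ({x} : Set G))).map
        (Subgroup.centralizer ({x} : Set G)).subtype = P := by
  have hP' : IsPGroup p (P.subgroupOf (Subgroup.centralizer ({x} : Set G))) := hP.comap_subtype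
  obtain ⟨S, hS⟩ := hP'.exists_le_sylow
  refine ⟨S, ?_⟩
  set SG : Subgroup G := (S : Subgroup (Subgroup.centralizer ({x} : Set G))).map
    (Subgroup.centralizer ({x} : Set G)).subtype with hSG
  have hSGp : IsPGroup p SG := S.isPGroup'.map _
  have hSGc : SG ≤ Subgroup.centralizer ({x} : Set G) := by
    rintro _ ⟨t, _, rfl⟩
    exact t.2
  have hPS : P ≤ SG := by
    intro u hu
    exact ⟨⟨u, hx hu⟩, hS (Subgroup.mem_subgroupOf.mpr hu), rfl⟩
  by_contra hne
  have hlt : P < SG := lt_of_le_of_ne hPS (Ne.symm hne)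
  have h1 := lt_inf_normalizer hSGp hlt
  have h2 := hmax (SG ⊓ Subgroup.normalizer (P : Set G)) (hSGp.to_le inf_le_left) h1.le
    inf_le_right (inf_le_left.trans hSGc)
  exact h1.ne h2.symm

/-- Second half of the class correspondence: fusion in `C_G(P)` is controlled by `N_G(P)`. -/
theorem exists_normalizer_conj_of_isMaxPIn {P : Subgroup G} {x : G} (hP : IsPGroup p P)
    (hx : P ≤ Subgroup.centralizer ({x} : Set G)) (hmax : IsMaxPIn p P x) (g : G)
    (hy : P ≤ Subgroup.centralizer ({g * x * g⁻¹} : Set G)) :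
    ∃ n ∈ Subgroup.normalizer (P : Set G), n * x * n⁻¹ = g * x * g⁻¹ := by
  obtain ⟨D, hD⟩ := exists_sylow_centralizer_of_isMaxPIn hP hx hmax
  -- g⁻¹ P g ≤ C(x)
  have hP2c : ∀ u ∈ P, g⁻¹ * u * g ∈ Subgroup.centralizer ({x} : Set G) := by
    intro u hu
    have h1 := hy hu
    rw [Subgroup.mem_centralizer_iff] at h1 ⊢
    intro z hz
    rw [Set.mem_singleton_iff] at hz
    subst hz
    have h2 := h1 (g * z * g⁻¹) rfl
    calc z * (g⁻¹ * u * g) = g⁻¹ * (g * z * g⁻¹ * u) * g := by group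
      _ = g⁻¹ * (u * (g * z * g⁻¹)) * g := by rw [h2]
      _ = g⁻¹ * u * g * z := by group
  let P2 : Subgroup (Subgroup.centralizer ({x} : Set G)) :=
    (P.map (MulAut.conj g⁻¹).toMonoidHom).subgroupOf (Subgroup.centralizer ({x} : Set G))
  have hP2 : IsPGroup p P2 := (hP.map _).comap_subtype
  obtain ⟨S2, hS2⟩ := hP2.exists_le_sylow
  obtain ⟨c, hc⟩ := MulAction.exists_smul_eq (Subgroup.centralizer ({x} : Set G)) S2 D
  have hm : (c : G) * g⁻¹ ∈ Subgroup.normalizer (P : Set G) := by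
    apply Subgroup.mem_normalizer_fintype
    intro u hu
    have hu' : u ∈ P := hu
    have h1 : (⟨g⁻¹ * u * g, hP2c u hu'⟩ : Subgroup.centralizer ({x} : Set G)) ∈ P2 := by
      rw [Subgroup.mem_subgroupOf]
      exact ⟨u, hu', by simp [MulAut.conj_apply]⟩
    have h2 := hS2 h1
    have h3 : c * (⟨g⁻¹ * u * g, hP2c u hu'⟩ : Subgroup.centralizer ({x} : Set G)) * c⁻¹ ∈
        ((c • S2 : Sylow p _) : Subgroup _) := by
      rw [Sylow.coe_subgroup_smul]
      exact Subgroup.smul_mem_pointwise_smul _ (MulAut.conj c) _ h2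
    rw [hc] at h3
    have h4 : ((c * (⟨g⁻¹ * u * g, hP2c u hu'⟩ : Subgroup.centralizer ({x} : Set G)) * c⁻¹ :
        Subgroup.centralizer ({x} : Set G)) : G) ∈ P := by
      rw [← hD]
      exact ⟨_, h3, rfl⟩
    have h5 : (c : G) * g⁻¹ * u * ((c : G) * g⁻¹)⁻¹ = ((c * (⟨g⁻¹ * u * g, hP2c u hu'⟩ :
        Subgroup.centralizer ({x} : Set G)) * c⁻¹ : Subgroup.centralizer ({x} : Set G)) : G) := by
      simp only [Subgroup.coe_mul, Subgroup.coe_inv]
      group
    rw [h5]
    exact h4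
  refine ⟨((c : G) * g⁻¹)⁻¹, Subgroup.inv_mem _ hm, ?_⟩
  have hcx : (c : G) * x = x * (c : G) := by
    have := c.2
    rw [Subgroup.mem_centralizer_iff] at this
    exact (this x rfl).symm
  have hcx' : (c : G)⁻¹ * x * (c : G) = x := by
    calc (c : G)⁻¹ * x * (c : G) = (c : G)⁻¹ * (x * (c : G)) := by group
      _ = (c : G)⁻¹ * ((c : G) * x) := by rw [hcx]
      _ = x := by group
  calc ((c : G) * g⁻¹)⁻¹ * x * ((c : G) * g⁻¹)⁻¹⁻¹ = g * ((c : G)⁻¹ * x * (c : G)) * g⁻¹ := by group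
    _ = g * x * g⁻¹ := by rw [hcx']

end classcorr

end Cfsg.Agent.Helper77
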