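import Mathlib
import Cfsg.Agent.Lib.Helper77.Nil

set_option autoImplicit false
set_option linter.unusedSectionVars false

namespace Cfsg.Agent.Helper77

open Cfsg Cfsg.Agent.Helper79

universe u

section ft1Q

variable {G : Type u} [Group G] [Fintype G] {M : Ideal AlgInt} [hp : M.IsPrime]

/-- A predicate on functions closed under the operations used to build block idempotents. -/
structure IsConvClosed (Q : (G → ℂ) → Prop) : Prop where
  delta : Q (delta : G → ℂ)
  conv : ∀ {a b : G → ℂ}, Q a → Q b → Q (conv a b)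
  sub : ∀ {a b : G → ℂ}, Q a → Q b → Q (a - b)
  smul : ∀ (c : ℂ) {a : G → ℂ}, Q a → Q (c • a)

theorem IsConvClosed.convList {Q : (G → ℂ) → Prop} (hQ : IsConvClosed Q) (l : List (G → ℂ))
    (h : ∀ a ∈ l, Q a) : Q (convList l) := by
  induction l with
  | nil => exact hQ.delta
  | cons a l ih =>
    exact hQ.conv (h a (List.mem_cons_self)) (ih fun b hb => h b (List.mem_cons_of_mem _ hb))

/-- **Fundamental theorem with support control**: the block idempotent lies in any conv-closed
family containing class sums separating the block from the other characters. -/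
theorem exists_blockIdem_of {B : Set (IrrCharacter G)} (hB : IsPBlock M B)
    (Q : (G → ℂ) → Prop) (hQ : IsConvClosed Q) {χ₀ : IrrCharacter G} (hχ₀ : χ₀ ∈ B)
    (hsep : ∀ ψ : IrrCharacter G, ψ ∉ B → ∃ g : G, Q (classInd g) ∧
      ¬ MemLocalIdeal M (centralChar (χ₀ : G → ℂ) g - centralChar (ψ : G → ℂ) g)) :
    ∃ w : G → ℂ, IsClassFunction G w ∧ IsRValued M w ∧ Q w ∧
      ∀ χ : IrrCharacter G, omega (χ : G → ℂ) w = by classical exact if χ ∈ B then 1 else 0 := by
  classical
  choose! gsel hgselQ hgsel using hsep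
  let S : Finset (IrrCharacter G) := Finset.univ.filter (fun ψ => ψ ∉ B)
  let fac : IrrCharacter G → (G → ℂ) := fun ψ =>
    classInd (gsel ψ) - (centralChar (ψ : G → ℂ) (gsel ψ)) • (delta : G → ℂ)
  let z₀ : G → ℂ := convList (S.toList.map fac)
  have hfac_cl : ∀ ψ, IsClassFunction G (fac ψ) := fun ψ =>
    isClassFunction_sub (isClassFunction_classInd _) (isClassFunction_smul _ isClassFunction_delta)
  have hfac_R : ∀ ψ, IsRValued M (fac ψ) := fun ψ =>
    isRValued_sub (isRValued_classInd _)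
      (isRValued_smul (memLocalRing_centralChar ψ.2 _) isRValued_delta)
  have hfac_Q : ∀ ψ ∈ S, Q (fac ψ) := fun ψ hψ =>
    hQ.sub (hgselQ ψ (Finset.mem_filter.mp hψ).2) (hQ.smul _ hQ.delta)
  have hz₀_cl : IsClassFunction G z₀ := isClassFunction_convList _ (by
    intro a ha
    obtain ⟨ψ, _, rfl⟩ := List.mem_map.mp ha
    exact hfac_cl ψ)
  have hz₀_R : IsRValued M z₀ := isRValued_convList _ (by
    intro a ha
    obtain ⟨ψ, _, rfl⟩ := List.mem_map.mp ha
    exact hfac_R ψ)
  have hz₀_Q : Q z₀ := hQ.convList _ (by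
    intro a ha
    obtain ⟨ψ, hψ, rfl⟩ := List.mem_map.mp ha
    exact hfac_Q ψ (Finset.mem_toList.mp hψ))
  have homega_fac : ∀ (χ ψ : IrrCharacter G), omega (χ : G → ℂ) (fac ψ) =
      centralChar (χ : G → ℂ) (gsel ψ) - centralChar (ψ : G → ℂ) (gsel ψ) := by
    intro χ ψ
    simp only [fac]
    rw [omega_sub, omega_smul, omega_classInd_of_irr χ.2, omega_delta_of_irr χ.2, mul_one]
  have hz₀ : ∀ χ : IrrCharacter G, omega (χ : G → ℂ) z₀ =
      ∏ ψ ∈ S, (centralChar (χ : G → ℂ) (gsel ψ) - centralChar (ψ : G → ℂ) (gsel ψ)) := by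
    intro χ
    simp only [z₀]
    rw [omega_convList χ.2 _ (by
      intro a ha
      obtain ⟨ψ, _, rfl⟩ := List.mem_map.mp ha
      exact hfac_cl ψ), List.map_map, Finset.prod_map_toList]
    refine Finset.prod_congr rfl fun ψ _ => ?_
    exact homega_fac χ ψ
  have hz₀_out : ∀ χ : IrrCharacter G, χ ∉ B → omega (χ : G → ℂ) z₀ = 0 := by
    intro χ hχ
    rw [hz₀ χ]
    exact Finset.prod_eq_zero (Finset.mem_filter.mpr ⟨Finset.mem_univ _, hχ⟩) (sub_self _)
  have hz₀_in : ∀ χ : IrrCharacter G, χ ∈ B → MemLocalRing M (omega (χ : G → ℂ) z₀) ∧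
      ¬ MemLocalIdeal M (omega (χ : G → ℂ) z₀) := by
    intro χ hχ
    rw [hz₀ χ]
    have hall : ∀ ψ ∈ S,
        MemLocalRing M (centralChar (χ : G → ℂ) (gsel ψ) - centralChar (ψ : G → ℂ) (gsel ψ)) ∧
        ¬ MemLocalIdeal M
          (centralChar (χ : G → ℂ) (gsel ψ) - centralChar (ψ : G → ℂ) (gsel ψ)) := by
      intro ψ hψ
      exact sep_factor hB hχ₀ hχ (hgsel ψ (Finset.mem_filter.mp hψ).2)
    exact ⟨memLocalRing_prod _ _ fun ψ hψ => (hall ψ hψ).1, not_memLocalIdeal_prod _ _ hall⟩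
  -- second step
  let T : Finset (IrrCharacter G) := Finset.univ.filter (fun χ => χ ∈ B)
  let fac2 : IrrCharacter G → (G → ℂ) := fun χ =>
    (delta : G → ℂ) - (omega (χ : G → ℂ) z₀)⁻¹ • z₀
  have hfac2_cl : ∀ χ, IsClassFunction G (fac2 χ) := fun χ =>
    isClassFunction_sub isClassFunction_delta (isClassFunction_smul _ hz₀_cl)
  have hfac2_R : ∀ χ ∈ T, IsRValued M (fac2 χ) := fun χ hχ =>
    isRValued_sub isRValued_delta
      (isRValued_smul (memLocalRing_inv (hz₀_in χ (Finset.mem_filter.mp hχ).2).1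
        (hz₀_in χ (Finset.mem_filter.mp hχ).2).2) hz₀_R)
  have hfac2_Q : ∀ χ, Q (fac2 χ) := fun χ => hQ.sub hQ.delta (hQ.smul _ hz₀_Q)
  let w : G → ℂ := (delta : G → ℂ) - convList (T.toList.map fac2)
  have hlist_cl : ∀ a ∈ T.toList.map fac2, IsClassFunction G a := by
    intro a ha
    obtain ⟨χ, _, rfl⟩ := List.mem_map.mp ha
    exact hfac2_cl χ
  refine ⟨w, isClassFunction_sub isClassFunction_delta (isClassFunction_convList _ hlist_cl),
    isRValued_sub isRValued_delta (isRValued_convList _ ?_),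
    hQ.sub hQ.delta (hQ.convList _ ?_), ?_⟩
  · intro a ha
    obtain ⟨χ, hχ, rfl⟩ := List.mem_map.mp ha
    exact hfac2_R χ (Finset.mem_toList.mp hχ)
  · intro a ha
    obtain ⟨χ, hχ, rfl⟩ := List.mem_map.mp ha
    exact hfac2_Q χ
  · intro χ'
    simp only [w]
    rw [omega_sub, omega_delta_of_irr χ'.2, omega_convList χ'.2 _ hlist_cl, List.map_map,
      Finset.prod_map_toList]
    have hfac2 : ∀ χ : IrrCharacter G, (omega (χ' : G → ℂ) ∘ fac2) χ =
        1 - (omega (χ : G → ℂ) z₀)⁻¹ * omega (χ' : G → ℂ) z₀ := by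
      intro χ
      simp only [Function.comp_apply, fac2]
      rw [omega_sub, omega_smul, omega_delta_of_irr χ'.2]
    simp_rw [hfac2]
    by_cases hχ' : χ' ∈ B
    · rw [if_pos hχ']
      have hne : omega (χ' : G → ℂ) z₀ ≠ 0 := by
        intro h0
        apply (hz₀_in χ' hχ').2
        rw [h0]
        exact memLocalIdeal_zero hp.ne_top
      rw [Finset.prod_eq_zero (i := χ') (Finset.mem_filter.mpr ⟨Finset.mem_univ _, hχ'⟩)
        (by rw [inv_mul_cancel₀ hne, sub_self])]
      simp
    · rw [if_neg hχ', hz₀_out χ' hχ']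
      simp

/-- The block idempotent itself has property `Q`. -/
theorem blockCoeff_of_isConvClosed {B : Set (IrrCharacter G)} (hB : IsPBlock M B)
    (Q : (G → ℂ) → Prop) (hQ : IsConvClosed Q) {χ₀ : IrrCharacter G} (hχ₀ : χ₀ ∈ B)
    (hsep : ∀ ψ : IrrCharacter G, ψ ∉ B → ∃ g : G, Q (classInd g) ∧
      ¬ MemLocalIdeal M (centralChar (χ₀ : G → ℂ) g - centralChar (ψ : G → ℂ) g)) :
    Q (blockCoeff B) := by
  obtain ⟨w, hw_cl, -, hwQ, hw⟩ := exists_blockIdem_of hB Q hQ hχ₀ hsep
  have : w = blockCoeff B := by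
    apply eq_of_omega_eq hw_cl (isClassFunction_blockCoeff B)
    intro χ
    rw [hw χ, omega_blockCoeff]
  rw [← this]
  exact hwQ

end ft1Q

section support

variable {G : Type u} [Group G] [Fintype G]

/-- functions vanishing outside a normal subgroup form a conv-closed family -/
theorem isConvClosed_support (C : Subgroup G) [C.Normal] :
    IsConvClosed (fun a : G → ℂ => ∀ g, g ∉ C → a g = 0) where
  delta := by
    classical
    intro g hg
    unfold Helper77.delta
    rw [if_neg]
    rintro rfl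
    exact hg C.one_mem
  conv := by
    intro a b ha hb g hg
    unfold Helper77.conv
    refine Finset.sum_eq_zero fun x _ => ?_
    by_cases hx : x ∈ C
    · rw [hb (x⁻¹ * g) (fun h => hg (by simpa using C.mul_mem hx h)), mul_zero]
    · rw [ha x hx, zero_mul]
  sub := by
    intro a b ha hb g hg
    simp [ha g hg, hb g hg]
  smul := by
    intro c a ha g hg
    simp [ha g hg]

theorem classInd_support (C : Subgroup G) [hC : C.Normal] {g : G} (hg : g ∈ C) :
    ∀ x, x ∉ C → classInd g x = 0 := by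
  classical
  intro x hx
  unfold classInd
  rw [if_neg]
  intro h
  obtain ⟨k, hk⟩ := isConj_iff.mp h
  exact hx (hk ▸ hC.conj_mem g hg k)

end support

end Cfsg.Agent.Helper77
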