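import Mathlib
import Cfsg.Agent.Lib.Helper77.ClassCorr
import Cfsg.Agent.Lib.Helper77.Radical
import Cfsg.Agent.Lib.Helper77.DefectInd
import Cfsg.Agent.Lib.Helper77.Support
import Cfsg.Agent.S4653

set_option autoImplicit false
set_option linter.unusedSectionVars false
set_option linter.style.haveILetI false

namespace Cfsg.Agent.Helper77

open Cfsg Cfsg.Agent.Helper79

universe u

section general

variable {G : Type u} [Group G] [Fintype G] {p : ℕ} {M : Ideal AlgInt}

theorem defectLE_of_isDefectGroup [Fact p.Prime] (hM : IsPModular p M)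
    {B : Set (IrrCharacter G)} (hB : IsPBlock M B) {D : Subgroup G}
    (hD : IsDefectGroup p M B D) : DefectLE p M D (blockCoeff B) := by
  haveI := isPrime_of_isPModular hM
  obtain ⟨g, hg, P, rfl⟩ := hD
  obtain ⟨χ, hχ⟩ := nonempty_of_isPBlock hB
  exact defectLE_blockCoeff hM hB g P hχ (hg.2.2 χ hχ)

theorem isPGroup_of_isDefectGroup [Fact p.Prime] {B : Set (IrrCharacter G)} {D : Subgroup G}
    (hD : IsDefectGroup p M B D) : IsPGroup p D := by
  obtain ⟨g, _, P, rfl⟩ := hD
  exact sylow_map_isPGroup g P

theorem card_le_of_defectLE [Fact p.Prime] {B : Set (IrrCharacter G)} {S E : Subgroup G}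
    (hS : DefectLE p M S (blockCoeff B)) (hE : IsDefectGroup p M B E) :
    Nat.card E ≤ Nat.card S := by
  obtain ⟨g, hg, P, rfl⟩ := hE
  obtain ⟨x, hx⟩ := hS g hg.2.1 _ (sylow_map_isPGroup g P) (sylow_map_le_centralizer g P)
  have h1 := Subgroup.card_le_of_le hx
  rwa [Subgroup.card_map_of_injective (MulAut.conj x).injective] at h1

theorem card_eq_of_isDefectGroup [Fact p.Prime] (hM : IsPModular p M)
    {B : Set (IrrCharacter G)} (hB : IsPBlock M B) {D E : Subgroup G}
    (hD : IsDefectGroup p M B D) (hE : IsDefectGroup p M B E) : Nat.card D = Nat.card E :=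
  le_antisymm (card_le_of_defectLE (defectLE_of_isDefectGroup hM hB hE) hD)
    (card_le_of_defectLE (defectLE_of_isDefectGroup hM hB hD) hE)

theorem memLocalIdeal_omega_sub_of_eqMod [hp : M.IsPrime] {χ a b : G → ℂ}
    (hχ : IsIrrCharacter G χ) (ha : IsClassFunction G a) (hb : IsClassFunction G b)
    (h : EqMod M a b) : MemLocalIdeal M (omega χ a - omega χ b) := by
  rw [← omega_sub]
  exact memLocalIdeal_omega_of_eqMod_zero hχ (isClassFunction_sub ha hb) (fun g => h g)

theorem omega_restr_congr_of_isInducedBlock [hp : M.IsPrime] (H : Subgroup G) [Fintype H]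
    {b : Set (IrrCharacter H)} {B : Set (IrrCharacter G)} (hind : IsInducedBlock M H b B)
    {ξ : IrrCharacter H} (hξ : ξ ∈ b) {χ : IrrCharacter G} (hχ : χ ∈ B) {z : G → ℂ}
    (hz : IsClassFunction G z) (hzR : IsRValued M z) :
    MemLocalIdeal M (omega (ξ : H → ℂ) (restr H z) - omega (χ : G → ℂ) z) := by
  classical
  haveI : Fintype (ConjClasses G) := Fintype.ofFinite _
  rw [← wsum_wOf, wsum_eq_sum_conjClasses _ hz,
    omega_eq_sum_conjClasses (isClassFunction_of_isIrrCharacter χ.2) hz,
    ← Finset.sum_sub_distrib]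
  refine memLocalIdeal_sum _ _ fun K _ => ?_
  rw [← mul_sub, ← inducedCentralChar_eq_wsum]
  exact memLocalIdeal_mul_left (hzR _) (hind.2.2 ξ hξ χ hχ _)

end general

section lift

variable {G : Type u} [Group G] [Fintype G] {p : ℕ} {M : Ideal AlgInt}

theorem defectLE_sum [hp : M.IsPrime] (S : Subgroup G) {ι : Type*} (s : Finset ι)
    (a : ι → G → ℂ) (h : ∀ i ∈ s, DefectLE p M S (a i)) : DefectLE p M S (∑ i ∈ s, a i) := by
  classical
  induction s using Finset.induction_on with
  | empty => simpa using defectLE_zero (p := p) (M := M) S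
  | insert i s hi ih =>
    rw [Finset.sum_insert hi]
    exact defectLE_add S (h i (Finset.mem_insert_self i s))
      (ih fun j hj => h j (Finset.mem_insert_of_mem hj))

theorem isConj_coe_of_isConj {H : Subgroup G} {x y : H} (h : IsConj x y) :
    IsConj (x : G) (y : G) := by
  obtain ⟨k, hk⟩ := isConj_iff.mp h
  exact isConj_iff.mpr ⟨(k : G), by rw [← hk]; simp⟩

/-- **Lifting**: a central element of `N_G(D)` supported on classes of defect exactly `D` inside
`C_G(D)` is, modulo the local ideal, the Brauer image of a central element of `G` of defect at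
most `D`. -/
theorem exists_lift_of_isMaxPIn [Fact p.Prime] (hM : IsPModular p M) (D : Subgroup G)
    (hD : IsPGroup p D) [Fintype (Subgroup.normalizer (D : Set G))]
    {ε : Subgroup.normalizer (D : Set G) → ℂ}
    (hε : IsClassFunction (Subgroup.normalizer (D : Set G)) ε) (hεR : IsRValued M ε)
    (hsupp : ∀ x : Subgroup.normalizer (D : Set G),
      (x : G) ∉ Subgroup.centralizer (D : Set G) → ε x = 0)
    (hmax : ∀ x : Subgroup.normalizer (D : Set G), ¬ MemLocalIdeal M (ε x) →
      IsMaxPIn p D (x : G)) :
    ∃ z : G → ℂ, IsClassFunction G z ∧ IsRValued M z ∧ DefectLE p M D z ∧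
      EqMod M (cutC D (Subgroup.normalizer (D : Set G)) z) ε := by
  classical
  haveI hpr := isPrime_of_isPModular hM
  haveI : Fintype (ConjClasses (Subgroup.normalizer (D : Set G))) := Fintype.ofFinite _
  let coef : ConjClasses (Subgroup.normalizer (D : Set G)) → ℂ := fun L =>
    if MemLocalIdeal M (ε (Quotient.out L)) then 0 else ε (Quotient.out L)
  have hcoefR : ∀ L, MemLocalRing M (coef L) := by
    intro L
    simp only [coef]
    split_ifs
    · exact memLocalRing_zero hpr.ne_top
    · exact hεR _
  -- good classes centralize D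
  have hcent : ∀ x : Subgroup.normalizer (D : Set G), ¬ MemLocalIdeal M (ε x) →
      D ≤ Subgroup.centralizer ({(x : G)} : Set G) := by
    intro x hx u hu
    have hxC : (x : G) ∈ Subgroup.centralizer (D : Set G) := by
      by_contra hcon
      apply hx
      rw [hsupp x hcon]
      exact memLocalIdeal_zero hpr.ne_top
    rw [Subgroup.mem_centralizer_iff]
    intro y hy
    rw [Set.mem_singleton_iff] at hy
    subst hy
    exact (hxC u hu).symm
  let z : G → ℂ := ∑ L : ConjClasses (Subgroup.normalizer (D : Set G)),
    coef L • classInd ((Quotient.out L : Subgroup.normalizer (D : Set G)) : G)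
  refine ⟨z, ?_, ?_, ?_, ?_⟩
  · intro g h
    simp only [z, Finset.sum_apply, Pi.smul_apply]
    refine Finset.sum_congr rfl fun L _ => ?_
    rw [isClassFunction_classInd _ g h]
  · intro g
    simp only [z, Finset.sum_apply, Pi.smul_apply, smul_eq_mul]
    exact memLocalRing_sum _ _ fun L _ => memLocalRing_mul (hcoefR L) (isRValued_classInd _ g)
  · refine defectLE_sum D _ _ fun L _ => ?_
    by_cases hL : MemLocalIdeal M (ε (Quotient.out L))
    · simp only [coef]
      rw [if_pos hL, zero_smul]
      exact defectLE_zero D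
    · obtain ⟨D', hD'⟩ := exists_sylow_centralizer_of_isMaxPIn hD (hcent _ hL) (hmax _ hL)
      have := defectLE_classInd (p := p) (M := M)
        ((Quotient.out L : Subgroup.normalizer (D : Set G)) : G) D'
      rw [hD'] at this
      exact defectLE_smul D (hcoefR L) this
  · intro c
    by_cases hc : (c : G) ∈ Subgroup.centralizer (D : Set G)
    · rw [cutC_of_mem _ _ _ hc]
      simp only [z, Finset.sum_apply, Pi.smul_apply, smul_eq_mul]
      have hDc : D ≤ Subgroup.centralizer ({(c : G)} : Set G) := by
        intro u hu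
        rw [Subgroup.mem_centralizer_iff]
        intro y hy
        rw [Set.mem_singleton_iff] at hy
        subst hy
        exact (hc u hu).symm
      have hout : IsConj (Quotient.out (ConjClasses.mk c)) c := by
        rw [← ConjClasses.mk_eq_mk_iff_isConj, mk_out_conjClasses]
      have hεc : ε (Quotient.out (ConjClasses.mk c)) = ε c := by
        obtain ⟨k, hk⟩ := isConj_iff.mp hout
        have h2 := hε (Quotient.out (ConjClasses.mk c)) k
        rw [hk] at h2
        exact h2.symm
      rw [Finset.sum_eq_single (ConjClasses.mk c)]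
      · have h1 : classInd ((Quotient.out (ConjClasses.mk c) :
            Subgroup.normalizer (D : Set G)) : G) (c : G) = 1 := by
          unfold classInd
          rw [if_pos (isConj_coe_of_isConj hout)]
        rw [h1, mul_one]
        simp only [coef]
        rw [hεc]
        by_cases hbad : MemLocalIdeal M (ε c)
        · rw [if_pos hbad, zero_sub]
          exact memLocalIdeal_neg hbad
        · rw [if_neg hbad, sub_self]
          exact memLocalIdeal_zero hpr.ne_top
      · intro L _ hL
        by_cases hbad : MemLocalIdeal M (ε (Quotient.out L))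
        · simp only [coef]
          rw [if_pos hbad, zero_mul]
        · have h0 : classInd ((Quotient.out L : Subgroup.normalizer (D : Set G)) : G) (c : G)
              = 0 := by
            unfold classInd
            rw [if_neg]
            intro hconj
            obtain ⟨g, hg⟩ := isConj_iff.mp hconj
            have hy : D ≤ Subgroup.centralizer
                ({g * ((Quotient.out L : Subgroup.normalizer (D : Set G)) : G) * g⁻¹} : Set G) := by
              rw [hg]
              exact hDc
            obtain ⟨n, hn, hn2⟩ := exists_normalizer_conj_of_isMaxPIn hD (hcent _ hbad)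
              (hmax _ hbad) g hy
            apply hL
            rw [← mk_out_conjClasses L]
            apply ConjClasses.mk_eq_mk_iff_isConj.mpr
            refine isConj_iff.mpr ⟨⟨n, hn⟩, ?_⟩
            apply Subtype.ext
            simp only [Subgroup.coe_mul, Subgroup.coe_inv]
            rw [hn2, hg]
          rw [h0, mul_zero]
      · intro h
        exact absurd (Finset.mem_univ _) h
    · rw [cutC_of_notMem _ _ _ hc, hsupp c hc, sub_self]
      exact memLocalIdeal_zero hpr.ne_top

end lift

section fmt

variable {G : Type u} [Group G] [Fintype G] {p : ℕ} {M : Ideal AlgInt}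

/-- A normal `p`-subgroup lies in every defect group. -/
theorem normal_le_of_isDefectGroup [Fact p.Prime] (hM : IsPModular p M)
    {B : Set (IrrCharacter G)} (hB : IsPBlock M B) {D : Subgroup G}
    (hD : IsDefectGroup p M B D) (N : Subgroup G) [N.Normal] (hN2 : IsPGroup p N) : N ≤ D := by
  classical
  haveI hpr := isPrime_of_isPModular hM
  obtain ⟨g, hg, P, rfl⟩ := hD
  obtain ⟨χ, hχ⟩ := nonempty_of_isPBlock hB
  have hnot := hg.2.2 χ hχ
  have hgN : g ∈ Subgroup.centralizer (N : Set G) := by
    by_contra hcon
    exact hnot (memLocalIdeal_centralChar_of_notMem_centralizer hM N hN2 g hcon χ.2)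
  have hNC : N ≤ Subgroup.centralizer ({g} : Set G) := by
    intro u hu
    rw [Subgroup.mem_centralizer_iff]
    intro y hy
    rw [Set.mem_singleton_iff] at hy
    subst hy
    exact (hgN u hu).symm
  have hnorm : (N.subgroupOf (Subgroup.centralizer ({g} : Set G))).Normal := inferInstance
  have hpg : IsPGroup p (N.subgroupOf (Subgroup.centralizer ({g} : Set G))) :=
    hN2.comap_subtype
  have hle := hpg.le_sylow_of_normal P
  intro u hu
  exact ⟨⟨u, hNC hu⟩, hle (Subgroup.mem_subgroupOf.mpr hu), rfl⟩

theorem card_subgroupOf_of_le {H K : Subgroup G} (h : H ≤ K) :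
    Nat.card (H.subgroupOf K) = Nat.card H :=
  Nat.card_congr (Subgroup.subgroupOfEquivOfLe h).toEquiv

theorem le_centralizer_singleton_iff {D : Subgroup G} {x : G} :
    D ≤ Subgroup.centralizer ({x} : Set G) ↔ x ∈ Subgroup.centralizer (D : Set G) := by
  constructor
  · intro h
    rw [Subgroup.mem_centralizer_iff]
    intro u hu
    have := h hu
    rw [Subgroup.mem_centralizer_iff] at this
    exact (this x rfl).symm
  · intro h u hu
    rw [Subgroup.mem_centralizer_iff]
    intro y hy
    rw [Set.mem_singleton_iff] at hy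
    subst hy
    exact (h u hu).symm

/-- The block idempotent of a block of `N_G(D)` with defect group `D` lifts. -/
theorem exists_lift_blockCoeff [Fact p.Prime] (hM : IsPModular p M) (D : Subgroup G)
    (hD : IsPGroup p D) [Fintype (Subgroup.normalizer (D : Set G))]
    {b : Set (IrrCharacter (Subgroup.normalizer (D : Set G)))} (hb : IsPBlock M b)
    (hbD : IsDefectGroup p M b (D.subgroupOf (Subgroup.normalizer (D : Set G)))) :
    ∃ z : G → ℂ, IsClassFunction G z ∧ IsRValued M z ∧ DefectLE p M D z ∧
      EqMod M (cutC D (Subgroup.normalizer (D : Set G)) z) (blockCoeff b) := by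
  classical
  haveI hpr := isPrime_of_isPModular hM
  have hDN : D ≤ Subgroup.normalizer (D : Set G) := Subgroup.le_normalizer
  haveI : (D.subgroupOf (Subgroup.normalizer (D : Set G))).Normal :=
    (Subgroup.normal_subgroupOf_iff_le_normalizer hDN).mpr le_rfl
  refine exists_lift_of_isMaxPIn hM D hD (isClassFunction_blockCoeff b) (isRValued_blockCoeff hb)
    ?_ ?_
  · intro x hx
    refine Cfsg.Agent.S4653.result p M hM (D.subgroupOf (Subgroup.normalizer (D : Set G)))
      hD.comap_subtype b hb x ?_
    intro hcon
    apply hx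
    rw [Subgroup.mem_centralizer_iff] at hcon ⊢
    intro v hv
    have := hcon ⟨v, hDN hv⟩ (Subgroup.mem_subgroupOf.mpr hv)
    exact congrArg Subtype.val this
  · intro x hx R hR hDR hRN hRx
    have hdef := defectLE_of_isDefectGroup hM hb hbD
    have hcen : R.subgroupOf (Subgroup.normalizer (D : Set G)) ≤
        Subgroup.centralizer ({x} : Set (Subgroup.normalizer (D : Set G))) := by
      intro r hr
      rw [Subgroup.mem_centralizer_iff]
      intro y hy
      rw [Set.mem_singleton_iff] at hy
      subst hy
      have h1 := hRx (Subgroup.mem_subgroupOf.mp hr)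
      rw [Subgroup.mem_centralizer_iff] at h1
      exact Subtype.ext (h1 _ rfl)
    obtain ⟨n, hn⟩ := hdef x hx _ hR.comap_subtype hcen
    have h0 := Subgroup.card_le_of_le hn
    rw [Subgroup.card_map_of_injective (MulAut.conj n).injective] at h0
    have h1 : Nat.card R ≤ Nat.card D := by
      rw [← card_subgroupOf_of_le hRN, ← card_subgroupOf_of_le hDN]
      exact h0
    exact (Subgroup.eq_of_le_of_card_ge hDR h1).symm

theorem omega_lift_blockCoeff [Fact p.Prime] (hM : IsPModular p M) (D : Subgroup G)
    (hD : IsPGroup p D) [Fintype (Subgroup.normalizer (D : Set G))]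
    (b : Set (IrrCharacter (Subgroup.normalizer (D : Set G))))
    {z : G → ℂ} (hz : IsClassFunction G z) (hzR : IsRValued M z)
    (hzE : EqMod M (cutC D (Subgroup.normalizer (D : Set G)) z) (blockCoeff b))
    (ξ : IrrCharacter (Subgroup.normalizer (D : Set G))) :
    MemLocalIdeal M (omega (ξ : Subgroup.normalizer (D : Set G) → ℂ)
      (restr (Subgroup.normalizer (D : Set G)) z) - by classical exact if ξ ∈ b then 1 else 0) := by
  classical
  haveI hpr := isPrime_of_isPModular hM
  have hDN : D ≤ Subgroup.normalizer (D : Set G) := Subgroup.le_normalizer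
  have hf : ∀ u ∈ Subgroup.normalizer (D : Set G), ∀ x, z (u * x * u⁻¹) = z x :=
    fun u _ x => hz x u
  have h1 := omega_restr_sub_cutC hM D (Subgroup.normalizer (D : Set G)) hD hDN le_rfl ξ.2 hf hzR
  have h2 := memLocalIdeal_omega_sub_of_eqMod ξ.2 (isClassFunction_cutC le_rfl hf)
    (isClassFunction_blockCoeff b) hzE
  rw [omega_blockCoeff] at h2
  have := memLocalIdeal_add h1 h2
  rwa [sub_add_sub_cancel] at this

/-- **First Main Theorem, part (i)**. -/
theorem fmt_forward [Fact p.Prime] (hM : IsPModular p M) (D : Subgroup G)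
    (hD : IsPGroup p D) [Fintype (Subgroup.normalizer (D : Set G))]
    {b : Set (IrrCharacter (Subgroup.normalizer (D : Set G)))} (hb : IsPBlock M b)
    (hbD : IsDefectGroup p M b (D.subgroupOf (Subgroup.normalizer (D : Set G)))) :
    ∃ B : Set (IrrCharacter G), IsPBlock M B ∧ IsDefectGroup p M B D ∧
      IsInducedBlock M (Subgroup.normalizer (D : Set G)) b B := by
  classical
  haveI hpr := isPrime_of_isPModular hM
  have hDN : D ≤ Subgroup.normalizer (D : Set G) := Subgroup.le_normalizer
  have hCN : Subgroup.centralizer (D : Set G) ≤ Subgroup.normalizer (D : Set G) :=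
    Subgroup.centralizer_le_normalizer _
  obtain ⟨ξ, hξ⟩ := nonempty_of_isPBlock hb
  have hw := isModHom_wOf hM D (Subgroup.normalizer (D : Set G)) hD hDN hCN le_rfl ξ.2
  obtain ⟨B, hB, hB1⟩ := hw.exists_block
  have hind := isInducedBlock_of_isModHom (Subgroup.normalizer (D : Set G)) hb hξ hw hB hB1
  refine ⟨B, hB, ?_, hind⟩
  obtain ⟨E, hE, hDE⟩ := exists_isDefectGroup_of_isInducedBlock hM _ hind _ hbD
  rw [Subgroup.map_subgroupOf_eq_of_le hDN] at hDE
  obtain ⟨z, hz, hzR, hzD, hzE⟩ := exists_lift_blockCoeff hM D hD hb hbD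
  obtain ⟨χ, hχ⟩ := nonempty_of_isPBlock hB
  have h1 := hw.congr_omega hB hB1 hχ hz hzR
  rw [wsum_wOf] at h1
  have h2 := omega_lift_blockCoeff hM D hD b hz hzR hzE ξ
  rw [if_pos hξ] at h2
  have hne : ¬ MemLocalIdeal M (omega (χ : G → ℂ) z) := by
    intro h3
    have h4 := memLocalIdeal_sub (memLocalIdeal_add h1 h3) h2
    have e : omega (ξ : Subgroup.normalizer (D : Set G) → ℂ)
        (restr (Subgroup.normalizer (D : Set G)) z) - omega (χ : G → ℂ) z + omega (χ : G → ℂ) z -
        (omega (ξ : Subgroup.normalizer (D : Set G) → ℂ)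
        (restr (Subgroup.normalizer (D : Set G)) z) - 1) = 1 := by ring
    rw [e] at h4
    exact not_memLocalIdeal_one h4
  have hQ := (isConvIdeal_defectLE hM D).blockCoeff_mem hB ⟨hz, hzR, hzD⟩ hχ hne
  have hcard : Nat.card E ≤ Nat.card D := card_le_of_defectLE hQ.2.2 hE
  have : D = E := Subgroup.eq_of_le_of_card_ge hDE hcard
  rw [this]
  exact hE

/-- **First Main Theorem, part (ii), existence**. -/
theorem fmt_exists [Fact p.Prime] (hM : IsPModular p M) (D : Subgroup G)
    (hD : IsPGroup p D) [Fintype (Subgroup.normalizer (D : Set G))]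
    {B : Set (IrrCharacter G)} (hB : IsPBlock M B) (hBD : IsDefectGroup p M B D) :
    ∃ b : Set (IrrCharacter (Subgroup.normalizer (D : Set G))), IsPBlock M b ∧
      IsDefectGroup p M b (D.subgroupOf (Subgroup.normalizer (D : Set G))) ∧
      IsInducedBlock M (Subgroup.normalizer (D : Set G)) b B := by
  classical
  haveI hpr := isPrime_of_isPModular hM
  have hDN : D ≤ Subgroup.normalizer (D : Set G) := Subgroup.le_normalizer
  have hCN : Subgroup.centralizer (D : Set G) ≤ Subgroup.normalizer (D : Set G) :=
    Subgroup.centralizer_le_normalizer _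
  haveI : (D.subgroupOf (Subgroup.normalizer (D : Set G))).Normal :=
    (Subgroup.normal_subgroupOf_iff_le_normalizer hDN).mpr le_rfl
  have hf : ∀ u ∈ Subgroup.normalizer (D : Set G), ∀ x,
      blockCoeff B (u * x * u⁻¹) = blockCoeff B x :=
    fun u _ x => isClassFunction_blockCoeff B x u
  have hfD : ∀ u ∈ D, ∀ x, blockCoeff B (u * x * u⁻¹) = blockCoeff B x :=
    fun u _ x => isClassFunction_blockCoeff B x u
  have hε : IsClassFunction _ (cutC D (Subgroup.normalizer (D : Set G)) (blockCoeff B)) :=
    isClassFunction_cutC le_rfl hf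
  have hεR : IsRValued M (cutC D (Subgroup.normalizer (D : Set G)) (blockCoeff B)) :=
    isRValued_cutC D _ (isRValued_blockCoeff hB)
  have hidem : EqMod M (conv (cutC D (Subgroup.normalizer (D : Set G)) (blockCoeff B))
      (cutC D (Subgroup.normalizer (D : Set G)) (blockCoeff B)))
      (cutC D (Subgroup.normalizer (D : Set G)) (blockCoeff B)) := by
    obtain ⟨r, hr, hreq⟩ := cutC_conv hM D (Subgroup.normalizer (D : Set G)) hD hCN
      (blockCoeff B) (blockCoeff B) (isRValued_blockCoeff hB) (isRValued_blockCoeff hB) hfD hfD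
    rw [conv_blockCoeff_self] at hreq
    intro g
    have hg := congrFun hreq g
    simp only [Pi.add_apply, Pi.smul_apply, smul_eq_mul] at hg
    rw [hg]
    have : conv (cutC D (Subgroup.normalizer (D : Set G)) (blockCoeff B))
        (cutC D (Subgroup.normalizer (D : Set G)) (blockCoeff B)) g -
        (conv (cutC D (Subgroup.normalizer (D : Set G)) (blockCoeff B))
        (cutC D (Subgroup.normalizer (D : Set G)) (blockCoeff B)) g + (p : ℂ) * r g) =
        -((p : ℂ) * r g) := by ring
    rw [this]
    exact memLocalIdeal_neg (memLocalIdeal_mul_right (memLocalIdeal_natCast_self hM) (hr g))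
  obtain ⟨g, hg, S, hS⟩ := hBD
  have hgC : g ∈ Subgroup.centralizer (D : Set G) := by
    rw [← le_centralizer_singleton_iff, hS]
    exact sylow_map_le_centralizer g S
  have hne : ¬ MemLocalIdeal M (cutC D (Subgroup.normalizer (D : Set G)) (blockCoeff B)
      ⟨g, hCN hgC⟩) := by
    rw [cutC_of_mem _ _ _ hgC]
    exact hg.2.1
  obtain ⟨ξ, hξ1⟩ := exists_block_of_idem hε hεR hidem hne
  have hb : IsPBlock M (blockOf M (ξ : Subgroup.normalizer (D : Set G) → ℂ)) :=
    isPBlock_blockOf ξ
  have hξ := mem_blockOf_self (M := M) ξ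
  have hw := isModHom_wOf hM D (Subgroup.normalizer (D : Set G)) hD hDN hCN le_rfl ξ.2
  have hB1 : MemLocalIdeal M (wsum (wOf (Subgroup.normalizer (D : Set G))
      (ξ : Subgroup.normalizer (D : Set G) → ℂ)) (blockCoeff B) - 1) := by
    rw [wsum_wOf]
    have h1 := omega_restr_sub_cutC hM D (Subgroup.normalizer (D : Set G)) hD hDN le_rfl ξ.2 hf
      (isRValued_blockCoeff hB)
    have := memLocalIdeal_add h1 hξ1
    rwa [sub_add_sub_cancel] at this
  have hind := isInducedBlock_of_isModHom (Subgroup.normalizer (D : Set G)) hb hξ hw hB hB1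
  refine ⟨_, hb, ?_, hind⟩
  obtain ⟨E', hE'⟩ := exists_isDefectGroup (M := M) p hb
  have hle := normal_le_of_isDefectGroup hM hb hE'
    (D.subgroupOf (Subgroup.normalizer (D : Set G))) hD.comap_subtype
  obtain ⟨E, hE, hE'E⟩ := exists_isDefectGroup_of_isInducedBlock hM _ hind E' hE'
  have hcard := card_eq_of_isDefectGroup hM hB hE ⟨g, hg, S, hS⟩
  have h1 := Subgroup.card_le_of_le hE'E
  rw [Subgroup.card_map_of_injective (Subgroup.subtype_injective _), hcard,
    ← card_subgroupOf_of_le hDN] at h1
  have : D.subgroupOf (Subgroup.normalizer (D : Set G)) = E' :=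
    Subgroup.eq_of_le_of_card_ge hle h1
  rw [this]
  exact hE'

/-- **First Main Theorem, part (ii), uniqueness**. -/
theorem fmt_unique [Fact p.Prime] (hM : IsPModular p M) (D : Subgroup G)
    (hD : IsPGroup p D) [Fintype (Subgroup.normalizer (D : Set G))]
    {B : Set (IrrCharacter G)}
    {b b' : Set (IrrCharacter (Subgroup.normalizer (D : Set G)))} (hb : IsPBlock M b)
    (hbD : IsDefectGroup p M b (D.subgroupOf (Subgroup.normalizer (D : Set G))))
    (hind : IsInducedBlock M (Subgroup.normalizer (D : Set G)) b B)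
    (hind' : IsInducedBlock M (Subgroup.normalizer (D : Set G)) b' B) : b' = b := by
  classical
  haveI hpr := isPrime_of_isPModular hM
  obtain ⟨z, hz, hzR, hzD, hzE⟩ := exists_lift_blockCoeff hM D hD hb hbD
  obtain ⟨χ, hχ⟩ := nonempty_of_isPBlock hind.2.1
  obtain ⟨ξ, hξ⟩ := nonempty_of_isPBlock hb
  obtain ⟨ξ', hξ'⟩ := nonempty_of_isPBlock hind'.1
  have h1 := omega_restr_congr_of_isInducedBlock _ hind hξ hχ hz hzR
  have h1' := omega_restr_congr_of_isInducedBlock _ hind' hξ' hχ hz hzR
  have h2 := omega_lift_blockCoeff hM D hD b hz hzR hzE ξ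
  have h2' := omega_lift_blockCoeff hM D hD b hz hzR hzE ξ'
  rw [if_pos hξ] at h2
  by_cases hmem : ξ' ∈ b
  · exact eq_of_isPBlock_of_mem hind'.1 hb hξ' hmem
  · exfalso
    rw [if_neg hmem, sub_zero] at h2'
    -- ω_χ(z) ∈ MR
    have h3 : MemLocalIdeal M (omega (χ : G → ℂ) z) := by
      have := memLocalIdeal_sub h2' h1'
      rwa [sub_sub_cancel] at this
    have h4 : MemLocalIdeal M (omega (ξ : Subgroup.normalizer (D : Set G) → ℂ)
        (restr (Subgroup.normalizer (D : Set G)) z)) := by
      have := memLocalIdeal_add h1 h3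
      rwa [sub_add_cancel] at this
    have h5 := memLocalIdeal_sub h4 h2
    rw [sub_sub_cancel] at h5
    exact not_memLocalIdeal_one h5

end fmt

end Cfsg.Agent.Helper77
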