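import Mathlib
import Cfsg.Agent.Lib.Helper77.FMT

set_option autoImplicit false
set_option linter.unusedSectionVars false
set_option linter.style.haveILetI false

namespace Cfsg.Agent.Helper77

open Cfsg Cfsg.Agent.Helper79

universe u

section decomp

variable {G : Type u} [Group G] [Fintype G] {M : Ideal AlgInt} [hp : M.IsPrime]

theorem EqMod.conv_left {a a' b : G → ℂ} (hb : IsRValued M b) (h : EqMod M a a') :
    EqMod M (conv a b) (conv a' b) := by
  intro g
  unfold conv
  rw [← Finset.sum_sub_distrib]
  refine memLocalIdeal_sum _ _ fun x _ => ?_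
  rw [← sub_mul]
  exact memLocalIdeal_mul_right (h _) (hb _)

theorem conv_sum_right (a : G → ℂ) {ι : Type*} (s : Finset ι) (f : ι → G → ℂ) :
    conv a (∑ i ∈ s, f i) = ∑ i ∈ s, conv a (f i) := by
  funext g
  unfold conv
  simp only [Finset.sum_apply, Finset.mul_sum]
  rw [Finset.sum_comm]

theorem eqMod_zero_iff {a : G → ℂ} : EqMod M a 0 ↔ ∀ g, MemLocalIdeal M (a g) := by
  unfold EqMod
  simp

/-- An idempotent modulo `M` has central character values `0` or `1` modulo `M`. -/
theorem memLocalIdeal_or_of_idem {ε : G → ℂ} (hε : IsClassFunction G ε)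
    (hεR : IsRValued M ε) (hidem : EqMod M (conv ε ε) ε) (χ : IrrCharacter G) :
    MemLocalIdeal M (omega (χ : G → ℂ) ε) ∨ MemLocalIdeal M (omega (χ : G → ℂ) ε - 1) := by
  have h1 := memLocalIdeal_omega_sub_of_eqMod χ.2 (isClassFunction_conv hε hε) hε hidem
  rw [omega_conv χ.2 hε hε] at h1
  have hR := memLocalRing_omega χ.2 hε hεR
  have e : omega (χ : G → ℂ) ε * omega (χ : G → ℂ) ε - omega (χ : G → ℂ) ε =
      omega (χ : G → ℂ) ε * (omega (χ : G → ℂ) ε - 1) := by ring
  rw [e] at h1
  exact memLocalIdeal_or_of_mul hR (memLocalRing_sub hR (memLocalRing_one hp.ne_top)) h1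

/-- If an idempotent modulo `M` is killed by the central character of the block `b`, then its
product with the block idempotent of `b` vanishes modulo `M`. -/
theorem eqMod_conv_blockCoeff_zero {ε : G → ℂ} (hε : IsClassFunction G ε)
    (hεR : IsRValued M ε) (hidem : EqMod M (conv ε ε) ε) {b : Set (IrrCharacter G)}
    (hb : IsPBlock M b) {ξ : IrrCharacter G} (hξ : ξ ∈ b)
    (h0 : MemLocalIdeal M (omega (ξ : G → ℂ) ε)) :
    ∀ g, MemLocalIdeal M (conv ε (blockCoeff b) g) := by
  classical
  have hcb := isClassFunction_blockCoeff b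
  have hRb := isRValued_blockCoeff hb
  have hd : IsClassFunction G (conv ε (blockCoeff b)) := isClassFunction_conv hε hcb
  have hdR : IsRValued M (conv ε (blockCoeff b)) := isRValued_conv hεR hRb
  have hid : conv (conv ε (blockCoeff b)) (conv ε (blockCoeff b)) =
      conv (conv ε ε) (blockCoeff b) := by
    apply eq_of_omega_eq (isClassFunction_conv hd hd)
      (isClassFunction_conv (isClassFunction_conv hε hε) hcb)
    intro χ
    rw [omega_conv χ.2 hd hd, omega_conv χ.2 hε hcb,
      omega_conv χ.2 (isClassFunction_conv hε hε) hcb, omega_conv χ.2 hε hε, omega_blockCoeff]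
    split_ifs <;> ring
  refine eqMod_zero_of_idem_of_radical hd hdR ?_ ?_
  · rw [hid]
    exact EqMod.conv_left hRb hidem
  · intro χ
    rw [omega_conv χ.2 hε hcb, omega_blockCoeff]
    by_cases hχ : χ ∈ b
    · rw [if_pos hχ, mul_one]
      have := memLocalIdeal_omega_sub (M := M) χ.2 ξ.2 (sameBlock_of_mem hb hχ hξ) hε hεR
      have h2 := memLocalIdeal_add this h0
      rwa [sub_add_cancel] at h2
    · rw [if_neg hχ, mul_zero]
      exact memLocalIdeal_zero hp.ne_top

theorem isClassFunction_delta_sub {ε : G → ℂ} (hε : IsClassFunction G ε) :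
    IsClassFunction G ((delta : G → ℂ) - ε) := isClassFunction_sub isClassFunction_delta hε

/-- If an idempotent modulo `M` has central character value `1` on the block `b`, then its
product with the block idempotent of `b` is that idempotent modulo `M`. -/
theorem eqMod_conv_blockCoeff_one {ε : G → ℂ} (hε : IsClassFunction G ε)
    (hεR : IsRValued M ε) (hidem : EqMod M (conv ε ε) ε) {b : Set (IrrCharacter G)}
    (hb : IsPBlock M b) {ξ : IrrCharacter G} (hξ : ξ ∈ b)
    (h1 : MemLocalIdeal M (omega (ξ : G → ℂ) ε - 1)) :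
    EqMod M (conv ε (blockCoeff b)) (blockCoeff b) := by
  classical
  have hε' : IsClassFunction G ((delta : G → ℂ) - ε) := isClassFunction_delta_sub hε
  have hεR' : IsRValued M ((delta : G → ℂ) - ε) := isRValued_sub isRValued_delta hεR
  have hidem' : EqMod M (conv ((delta : G → ℂ) - ε) ((delta : G → ℂ) - ε))
      ((delta : G → ℂ) - ε) := by
    have e : conv ((delta : G → ℂ) - ε) ((delta : G → ℂ) - ε) =
        (delta : G → ℂ) - ε - (ε - conv ε ε) := by
      apply eq_of_omega_eq (isClassFunction_conv hε' hε')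
        (isClassFunction_sub hε' (isClassFunction_sub hε (isClassFunction_conv hε hε)))
      intro χ
      rw [omega_conv χ.2 hε' hε', omega_sub, omega_sub, omega_sub, omega_sub,
        omega_conv χ.2 hε hε, omega_delta_of_irr χ.2]
      ring
    rw [e]
    intro g
    simp only [Pi.sub_apply]
    have := hidem g
    have e2 : (delta : G → ℂ) g - ε g - (ε g - conv ε ε g) - ((delta : G → ℂ) g - ε g) =
        conv ε ε g - ε g := by ring
    rw [e2]
    exact this
  have h0 : MemLocalIdeal M (omega (ξ : G → ℂ) ((delta : G → ℂ) - ε)) := by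
    rw [omega_sub, omega_delta_of_irr ξ.2]
    have := memLocalIdeal_neg h1
    rwa [neg_sub] at this
  have key := eqMod_conv_blockCoeff_zero hε' hεR' hidem' hb hξ h0
  intro g
  have := memLocalIdeal_neg (key g)
  rw [conv_sub_left, conv_delta_left] at this
  simpa using this

/-- An idempotent modulo `M` whose central character is `1` on exactly one block is congruent to
the idempotent of that block. -/
theorem eqMod_blockCoeff_of_unique {ε : G → ℂ} (hε : IsClassFunction G ε)
    (hεR : IsRValued M ε) (hidem : EqMod M (conv ε ε) ε) {c : Set (IrrCharacter G)}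
    (hc : IsPBlock M c) (h1 : ∀ ξ ∈ c, MemLocalIdeal M (omega (ξ : G → ℂ) ε - 1))
    (h0 : ∀ b : Set (IrrCharacter G), IsPBlock M b → b ≠ c → ∀ ξ ∈ b,
      MemLocalIdeal M (omega (ξ : G → ℂ) ε)) :
    EqMod M ε (blockCoeff c) := by
  classical
  have hdec : ε = ∑ b ∈ allBlocks M G, conv ε (blockCoeff b) := by
    rw [← conv_sum_right, sum_blockCoeff_allBlocks, conv_delta_right]
  intro g
  obtain ⟨ξc, hξc⟩ := nonempty_of_isPBlock hc
  have hcmem : c ∈ allBlocks M G := mem_allBlocks.mpr hc
  have e : ε g - blockCoeff c g = (conv ε (blockCoeff c) g - blockCoeff c g) +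
      ∑ b ∈ (allBlocks M G).erase c, conv ε (blockCoeff b) g := by
    conv_lhs => rw [hdec]
    rw [Finset.sum_apply, ← Finset.add_sum_erase _ _ hcmem]
    ring
  rw [e]
  refine memLocalIdeal_add (eqMod_conv_blockCoeff_one hε hεR hidem hc hξc (h1 ξc hξc) g) ?_
  refine memLocalIdeal_sum _ _ fun b hb => ?_
  rw [Finset.mem_erase] at hb
  have hbB := mem_allBlocks.mp hb.2
  obtain ⟨ξ, hξ⟩ := nonempty_of_isPBlock hbB
  exact eqMod_conv_blockCoeff_zero hε hεR hidem hbB hξ (h0 b hbB hb.1 ξ hξ) g

/-- Blocks with congruent idempotents are equal. -/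
theorem eq_of_eqMod_blockCoeff {b b' : Set (IrrCharacter G)} (hb : IsPBlock M b)
    (hb' : IsPBlock M b') (h : EqMod M (blockCoeff b) (blockCoeff b')) : b = b' := by
  classical
  obtain ⟨ξ, hξ⟩ := nonempty_of_isPBlock hb
  have h1 := memLocalIdeal_omega_sub_of_eqMod ξ.2 (isClassFunction_blockCoeff b)
    (isClassFunction_blockCoeff b') h
  rw [omega_blockCoeff, omega_blockCoeff, if_pos hξ] at h1
  by_cases hmem : ξ ∈ b'
  · exact eq_of_isPBlock_of_mem hb hb' hξ hmem
  · rw [if_neg hmem, sub_zero] at h1
    exact absurd h1 not_memLocalIdeal_one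

end decomp

section brauerform

variable {G : Type u} [Group G] [Fintype G] {p : ℕ} {M : Ideal AlgInt}

theorem isClassFunction_cutC_blockCoeff (D : Subgroup G)
    [Fintype (Subgroup.normalizer (D : Set G))] (B : Set (IrrCharacter G)) :
    IsClassFunction _ (cutC D (Subgroup.normalizer (D : Set G)) (blockCoeff B)) :=
  isClassFunction_cutC le_rfl (fun u _ x => isClassFunction_blockCoeff B x u)

theorem isRValued_cutC_blockCoeff [hpr : M.IsPrime] (D : Subgroup G)
    [Fintype (Subgroup.normalizer (D : Set G))] {B : Set (IrrCharacter G)} (hB : IsPBlock M B) :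
    IsRValued M (cutC D (Subgroup.normalizer (D : Set G)) (blockCoeff B)) :=
  isRValued_cutC D _ (isRValued_blockCoeff hB)

theorem eqMod_conv_cutC_blockCoeff [Fact p.Prime] (hM : IsPModular p M) (D : Subgroup G)
    (hD : IsPGroup p D) [Fintype (Subgroup.normalizer (D : Set G))]
    {B : Set (IrrCharacter G)} (hB : IsPBlock M B) :
    EqMod M (conv (cutC D (Subgroup.normalizer (D : Set G)) (blockCoeff B))
      (cutC D (Subgroup.normalizer (D : Set G)) (blockCoeff B)))
      (cutC D (Subgroup.normalizer (D : Set G)) (blockCoeff B)) := by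
  classical
  haveI hpr := isPrime_of_isPModular hM
  have hCN : Subgroup.centralizer (D : Set G) ≤ Subgroup.normalizer (D : Set G) :=
    Subgroup.centralizer_le_normalizer _
  have hfD : ∀ u ∈ D, ∀ x, blockCoeff B (u * x * u⁻¹) = blockCoeff B x :=
    fun u _ x => isClassFunction_blockCoeff B x u
  obtain ⟨r, hr, hreq⟩ := cutC_conv hM D (Subgroup.normalizer (D : Set G)) hD hCN
    (blockCoeff B) (blockCoeff B) (isRValued_blockCoeff hB) (isRValued_blockCoeff hB) hfD hfD
  rw [conv_blockCoeff_self] at hreq
  intro g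
  have hg := congrFun hreq g
  simp only [Pi.add_apply, Pi.smul_apply, smul_eq_mul] at hg
  rw [hg]
  have : conv (cutC D (Subgroup.normalizer (D : Set G)) (blockCoeff B))
      (cutC D (Subgroup.normalizer (D : Set G)) (blockCoeff B)) g -
      (conv (cutC D (Subgroup.normalizer (D : Set G)) (blockCoeff B))
      (cutC D (Subgroup.normalizer (D : Set G)) (blockCoeff B)) g + (p : ℂ) * r g) =
      -((p : ℂ) * r g) := by ring
  rw [this]
  exact memLocalIdeal_neg (memLocalIdeal_mul_right (memLocalIdeal_natCast_self hM) (hr g))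

/-- A block of `N_G(D)` inducing a block with defect group `D` has defect group `D`. -/
theorem isDefectGroup_of_isInducedBlock [Fact p.Prime] (hM : IsPModular p M) (D : Subgroup G)
    (hD : IsPGroup p D) [Fintype (Subgroup.normalizer (D : Set G))]
    {B : Set (IrrCharacter G)} (hBD : IsDefectGroup p M B D)
    {b : Set (IrrCharacter (Subgroup.normalizer (D : Set G)))}
    (hind : IsInducedBlock M (Subgroup.normalizer (D : Set G)) b B) :
    IsDefectGroup p M b (D.subgroupOf (Subgroup.normalizer (D : Set G))) := by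
  classical
  haveI hpr := isPrime_of_isPModular hM
  have hDN : D ≤ Subgroup.normalizer (D : Set G) := Subgroup.le_normalizer
  haveI : (D.subgroupOf (Subgroup.normalizer (D : Set G))).Normal :=
    (Subgroup.normal_subgroupOf_iff_le_normalizer hDN).mpr le_rfl
  have hb := hind.1
  have hB := hind.2.1
  obtain ⟨E', hE'⟩ := exists_isDefectGroup (M := M) p hb
  have hle := normal_le_of_isDefectGroup hM hb hE'
    (D.subgroupOf (Subgroup.normalizer (D : Set G))) hD.comap_subtype
  obtain ⟨E, hE, hE'E⟩ := exists_isDefectGroup_of_isInducedBlock hM _ hind E' hE'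
  have hcard := card_eq_of_isDefectGroup hM hB hE hBD
  have h1 := Subgroup.card_le_of_le hE'E
  rw [Subgroup.card_map_of_injective (Subgroup.subtype_injective _), hcard,
    ← card_subgroupOf_of_le hDN] at h1
  have : D.subgroupOf (Subgroup.normalizer (D : Set G)) = E' :=
    Subgroup.eq_of_le_of_card_ge hle h1
  rw [this]
  exact hE'

theorem omega_cutC_blockCoeff_of_isInducedBlock [Fact p.Prime] (hM : IsPModular p M)
    (D : Subgroup G) (hD : IsPGroup p D) [Fintype (Subgroup.normalizer (D : Set G))]
    {B : Set (IrrCharacter G)} {c : Set (IrrCharacter (Subgroup.normalizer (D : Set G)))}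
    (hind : IsInducedBlock M (Subgroup.normalizer (D : Set G)) c B)
    {ξ : IrrCharacter (Subgroup.normalizer (D : Set G))} (hξ : ξ ∈ c) :
    MemLocalIdeal M (omega (ξ : Subgroup.normalizer (D : Set G) → ℂ)
      (cutC D (Subgroup.normalizer (D : Set G)) (blockCoeff B)) - 1) := by
  classical
  haveI hpr := isPrime_of_isPModular hM
  have hDN : D ≤ Subgroup.normalizer (D : Set G) := Subgroup.le_normalizer
  have hB := hind.2.1
  obtain ⟨χ, hχ⟩ := nonempty_of_isPBlock hB
  have hf : ∀ u ∈ Subgroup.normalizer (D : Set G), ∀ x,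
      blockCoeff B (u * x * u⁻¹) = blockCoeff B x :=
    fun u _ x => isClassFunction_blockCoeff B x u
  have h1 := omega_restr_congr_of_isInducedBlock _ hind hξ hχ (isClassFunction_blockCoeff B)
    (isRValued_blockCoeff hB)
  rw [omega_blockCoeff, if_pos hχ] at h1
  have h2 := omega_restr_sub_cutC hM D (Subgroup.normalizer (D : Set G)) hD hDN le_rfl ξ.2 hf
    (isRValued_blockCoeff hB)
  have := memLocalIdeal_sub h1 h2
  rwa [sub_sub_sub_cancel_left] at this

theorem isInducedBlock_of_omega_cutC [Fact p.Prime] (hM : IsPModular p M)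
    (D : Subgroup G) (hD : IsPGroup p D) [Fintype (Subgroup.normalizer (D : Set G))]
    {B : Set (IrrCharacter G)} (hB : IsPBlock M B)
    {b : Set (IrrCharacter (Subgroup.normalizer (D : Set G)))} (hb : IsPBlock M b)
    {ξ : IrrCharacter (Subgroup.normalizer (D : Set G))} (hξ : ξ ∈ b)
    (hξ1 : MemLocalIdeal M (omega (ξ : Subgroup.normalizer (D : Set G) → ℂ)
      (cutC D (Subgroup.normalizer (D : Set G)) (blockCoeff B)) - 1)) :
    IsInducedBlock M (Subgroup.normalizer (D : Set G)) b B := by
  classical
  haveI hpr := isPrime_of_isPModular hM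
  have hDN : D ≤ Subgroup.normalizer (D : Set G) := Subgroup.le_normalizer
  have hCN : Subgroup.centralizer (D : Set G) ≤ Subgroup.normalizer (D : Set G) :=
    Subgroup.centralizer_le_normalizer _
  have hf : ∀ u ∈ Subgroup.normalizer (D : Set G), ∀ x,
      blockCoeff B (u * x * u⁻¹) = blockCoeff B x :=
    fun u _ x => isClassFunction_blockCoeff B x u
  have hw := isModHom_wOf hM D (Subgroup.normalizer (D : Set G)) hD hDN hCN le_rfl ξ.2
  have hB1 : MemLocalIdeal M (wsum (wOf (Subgroup.normalizer (D : Set G))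
      (ξ : Subgroup.normalizer (D : Set G) → ℂ)) (blockCoeff B) - 1) := by
    rw [wsum_wOf]
    have h1 := omega_restr_sub_cutC hM D (Subgroup.normalizer (D : Set G)) hD hDN le_rfl ξ.2 hf
      (isRValued_blockCoeff hB)
    have := memLocalIdeal_add h1 hξ1
    rwa [sub_add_sub_cancel] at this
  exact isInducedBlock_of_isModHom (Subgroup.normalizer (D : Set G)) hb hξ hw hB hB1

/-- **First Main Theorem, Brauer form**: the Brauer image of the idempotent of a block with
defect group `D` is the idempotent of its correspondent. -/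
theorem fmt_brauer [Fact p.Prime] (hM : IsPModular p M) (D : Subgroup G)
    (hD : IsPGroup p D) [Fintype (Subgroup.normalizer (D : Set G))]
    {B : Set (IrrCharacter G)} (hBD : IsDefectGroup p M B D)
    {c : Set (IrrCharacter (Subgroup.normalizer (D : Set G)))}
    (hind : IsInducedBlock M (Subgroup.normalizer (D : Set G)) c B) :
    EqMod M (cutC D (Subgroup.normalizer (D : Set G)) (blockCoeff B)) (blockCoeff c) := by
  classical
  haveI hpr := isPrime_of_isPModular hM
  have hB := hind.2.1
  have hc := hind.1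
  have hε := isClassFunction_cutC_blockCoeff D B
  have hεR := isRValued_cutC_blockCoeff (M := M) D hB
  have hidem := eqMod_conv_cutC_blockCoeff hM D hD hB
  have hcD := isDefectGroup_of_isInducedBlock hM D hD hBD hind
  refine eqMod_blockCoeff_of_unique hε hεR hidem hc
    (fun ξ hξ => omega_cutC_blockCoeff_of_isInducedBlock hM D hD hind hξ) ?_
  intro b hb hne ξ hξ
  rcases memLocalIdeal_or_of_idem hε hεR hidem ξ with h | h
  · exact h
  · exfalso
    have hind' := isInducedBlock_of_omega_cutC hM D hD hB hb hξ h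
    exact hne (fmt_unique hM D hD hc hcD hind hind')

theorem isInducedBlock_of_eqMod [Fact p.Prime] (hM : IsPModular p M) (D : Subgroup G)
    (hD : IsPGroup p D) [Fintype (Subgroup.normalizer (D : Set G))]
    {B : Set (IrrCharacter G)} (hB : IsPBlock M B)
    {c : Set (IrrCharacter (Subgroup.normalizer (D : Set G)))} (hc : IsPBlock M c)
    (h : EqMod M (cutC D (Subgroup.normalizer (D : Set G)) (blockCoeff B)) (blockCoeff c)) :
    IsInducedBlock M (Subgroup.normalizer (D : Set G)) c B := by
  classical
  haveI hpr := isPrime_of_isPModular hM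
  obtain ⟨ξ, hξ⟩ := nonempty_of_isPBlock hc
  refine isInducedBlock_of_omega_cutC hM D hD hB hc hξ ?_
  have h1 := memLocalIdeal_omega_sub_of_eqMod ξ.2 (isClassFunction_cutC_blockCoeff D B)
    (isClassFunction_blockCoeff c) h
  rwa [omega_blockCoeff, if_pos hξ] at h1

/-- Two blocks induced from the same block coincide. -/
theorem isInducedBlock_unique [hpr : M.IsPrime] (H : Subgroup G) [Fintype H]
    {b : Set (IrrCharacter H)} {B B' : Set (IrrCharacter G)} (h : IsInducedBlock M H b B)
    (h' : IsInducedBlock M H b B') : B = B' := by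
  classical
  obtain ⟨ξ, hξ⟩ := nonempty_of_isPBlock h.1
  obtain ⟨χ, hχ⟩ := nonempty_of_isPBlock h.2.1
  obtain ⟨χ', hχ'⟩ := nonempty_of_isPBlock h'.2.1
  rw [eq_blockOf_of_mem h.2.1 hχ, eq_blockOf_of_mem h'.2.1 hχ']
  apply blockOf_eq_of_sameBlock
  intro g
  have h1 := h.2.2 ξ hξ χ hχ g
  have h2 := h'.2.2 ξ hξ χ' hχ' g
  have := memLocalIdeal_sub h1 h2
  rwa [sub_sub_sub_cancel_left] at this

end brauerform

end Cfsg.Agent.Helper77
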