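import Mathlib
import Cfsg.Agent.Lib.Helper77.ConjAct
import Cfsg.Agent.Lib.Helper77.MinMax

set_option autoImplicit false
set_option linter.unusedSectionVars false
set_option linter.style.haveILetI false

namespace Cfsg.Agent.Helper77

open Cfsg Cfsg.Agent.Helper79
open scoped ComplexConjugate

universe u

section transport

variable {A A' : Type u} [Group A] [Group A']

theorem centralizer_singleton_mapEquiv' (φ : A ≃* A') (n : A) :
    Subgroup.centralizer ({φ n} : Set A')
      = (Subgroup.centralizer ({n} : Set A)).map (φ : A →* A') := by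
  ext y
  simp only [Subgroup.mem_centralizer_iff, Set.mem_singleton_iff, forall_eq, Subgroup.mem_map,
    MonoidHom.coe_coe]
  constructor
  · intro h
    refine ⟨φ.symm y, ?_, φ.apply_symm_apply y⟩
    apply φ.injective
    rw [map_mul, map_mul, φ.apply_symm_apply]
    exact h
  · rintro ⟨z, hz, rfl⟩
    rw [← map_mul, ← map_mul, hz]

theorem centralChar_mapEquiv (φ : A ≃* A') (χ : A' → ℂ) (n : A) :
    centralChar (fun k => χ (φ k)) n = centralChar χ (φ n) := by
  unfold centralChar
  rw [centralizer_singleton_mapEquiv', Subgroup.index_map_equiv]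
  simp only [map_one]

/-- Transport of irreducible characters along a group isomorphism. -/
def mapIrr (φ : A ≃* A') (χ : IrrCharacter A) : IrrCharacter A' :=
  ⟨fun a' => (χ : A → ℂ) (φ.symm a'), isIrrCharacter_compEquiv χ.2 φ.symm⟩

theorem mapIrr_coe (φ : A ≃* A') (χ : IrrCharacter A) (a' : A') :
    (mapIrr φ χ : A' → ℂ) a' = (χ : A → ℂ) (φ.symm a') := rfl

theorem mapIrr_symm_mapIrr (φ : A ≃* A') (χ : IrrCharacter A) :
    mapIrr φ.symm (mapIrr φ χ) = χ := by
  apply Subtype.ext
  funext a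
  simp [mapIrr]

theorem mapIrr_mapIrr_symm (φ : A ≃* A') (χ : IrrCharacter A') :
    mapIrr φ (mapIrr φ.symm χ) = χ := by
  apply Subtype.ext
  funext a
  simp [mapIrr]

theorem mapIrr_injective (φ : A ≃* A') : Function.Injective (mapIrr φ) := by
  intro χ ψ h
  rw [← mapIrr_symm_mapIrr φ χ, h, mapIrr_symm_mapIrr]

/-- Transport of sets of irreducible characters. -/
def mapSet (φ : A ≃* A') (B : Set (IrrCharacter A)) : Set (IrrCharacter A') := mapIrr φ '' B

theorem mapSet_symm_mapSet (φ : A ≃* A') (B : Set (IrrCharacter A)) :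
    mapSet φ.symm (mapSet φ B) = B := by
  unfold mapSet
  rw [Set.image_image]
  simp_rw [mapIrr_symm_mapIrr]
  exact Set.image_id' B

theorem mapSet_mapSet_symm (φ : A ≃* A') (B : Set (IrrCharacter A')) :
    mapSet φ (mapSet φ.symm B) = B := by
  unfold mapSet
  rw [Set.image_image]
  simp_rw [mapIrr_mapIrr_symm]
  exact Set.image_id' B

theorem mapSet_injective (φ : A ≃* A') : Function.Injective (mapSet φ) := by
  intro B B' h
  rw [← mapSet_symm_mapSet φ B, h, mapSet_symm_mapSet]

variable {M : Ideal AlgInt}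

theorem centralChar_mapIrr (φ : A ≃* A') (χ : IrrCharacter A) (a' : A') :
    centralChar (mapIrr φ χ : A' → ℂ) a' = centralChar (χ : A → ℂ) (φ.symm a') :=
  centralChar_mapEquiv φ.symm (χ : A → ℂ) a'

theorem sameBlock_mapIrr (φ : A ≃* A') {χ ψ : IrrCharacter A}
    (h : SameBlock M (χ : A → ℂ) (ψ : A → ℂ)) :
    SameBlock M (mapIrr φ χ : A' → ℂ) (mapIrr φ ψ : A' → ℂ) := by
  intro a'
  rw [centralChar_mapIrr, centralChar_mapIrr]
  exact h _

theorem mapSet_blockOf (φ : A ≃* A') (χ : IrrCharacter A) :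
    mapSet φ (blockOf M (χ : A → ℂ)) = blockOf M (mapIrr φ χ : A' → ℂ) := by
  ext ψ
  constructor
  · rintro ⟨χ', hχ', rfl⟩
    exact sameBlock_mapIrr φ hχ'
  · intro hψ
    refine ⟨mapIrr φ.symm ψ, ?_, mapIrr_mapIrr_symm φ ψ⟩
    have h1 : SameBlock M (mapIrr φ χ : A' → ℂ) (ψ : A' → ℂ) := hψ
    have h2 := sameBlock_mapIrr φ.symm h1
    rw [mapIrr_symm_mapIrr] at h2
    exact h2

theorem isPBlock_mapSet (φ : A ≃* A') {B : Set (IrrCharacter A)} (hB : IsPBlock M B) :
    IsPBlock M (mapSet φ B) := by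
  obtain ⟨χ, rfl⟩ := hB
  exact ⟨mapIrr φ χ, mapSet_blockOf φ χ⟩

theorem blockCoeff_mapSet (φ : A ≃* A') (B : Set (IrrCharacter A)) (a' : A') :
    blockCoeff (mapSet φ B) a' = blockCoeff B (φ.symm a') := by
  unfold blockCoeff mapSet
  rw [finsum_mem_image (fun χ _ ψ _ h => mapIrr_injective φ h)]
  rw [Nat.card_congr φ.toEquiv]
  congr 1
  refine finsum_mem_congr rfl fun χ _ => ?_
  rw [mapIrr_coe, mapIrr_coe, map_one]

theorem mem_mapSet_iff (φ : A ≃* A') (B : Set (IrrCharacter A)) (χ : IrrCharacter A) :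
    mapIrr φ χ ∈ mapSet φ B ↔ χ ∈ B := by
  unfold mapSet
  exact (mapIrr_injective φ).mem_set_image

theorem isDefectClass_mapSet (φ : A ≃* A') {B : Set (IrrCharacter A)} {g : A}
    (hg : IsDefectClass M B g) : IsDefectClass M (mapSet φ B) (φ g) := by
  obtain ⟨h1, h2, h3⟩ := hg
  refine ⟨?_, ?_, ?_⟩
  · rw [blockCoeff_mapSet, φ.symm_apply_apply]; exact h1
  · rw [blockCoeff_mapSet, φ.symm_apply_apply]; exact h2
  · rintro _ ⟨χ, hχ, rfl⟩
    rw [centralChar_mapIrr, φ.symm_apply_apply]
    exact h3 χ hχ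

end transport

section defcard

variable {A : Type u} [Group A] [Fintype A] {p : ℕ} [Fact p.Prime] {M : Ideal AlgInt}

/-- Defect groups, characterized by their order. -/
theorem isDefectGroup_iff_card {B : Set (IrrCharacter A)} {D : Subgroup A} :
    IsDefectGroup p M B D ↔ ∃ g : A, IsDefectClass M B g ∧
      D ≤ Subgroup.centralizer ({g} : Set A) ∧ IsPGroup p D ∧
      Nat.card D = p ^ (Nat.card (Subgroup.centralizer ({g} : Set A))).factorization p := by
  constructor
  · rintro ⟨g, hg, S, rfl⟩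
    refine ⟨g, hg, sylow_map_le_centralizer g S, sylow_map_isPGroup g S, ?_⟩
    rw [Subgroup.card_map_of_injective (Subgroup.subtype_injective _)]
    exact S.card_eq_multiplicity
  · rintro ⟨g, hg, hle, hp, hcard⟩
    have hp' : IsPGroup p (D.subgroupOf (Subgroup.centralizer ({g} : Set A))) :=
      hp.comap_subtype
    obtain ⟨S, hS⟩ := hp'.exists_le_sylow
    refine ⟨g, hg, S, ?_⟩
    have h1 : Nat.card (S : Subgroup (Subgroup.centralizer ({g} : Set A))) ≤
        Nat.card (D.subgroupOf (Subgroup.centralizer ({g} : Set A))) := by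
      rw [S.card_eq_multiplicity, ← hcard]
      exact (Nat.card_congr (Subgroup.subgroupOfEquivOfLe hle).toEquiv).ge
    have h2 := Subgroup.eq_of_le_of_card_ge hS h1
    rw [← h2, Subgroup.map_subgroupOf_eq_of_le hle]

end defcard

section transport2

variable {A A' : Type u} [Group A] [Group A'] [Fintype A] [Fintype A'] {p : ℕ} [Fact p.Prime]
  {M : Ideal AlgInt}

theorem isDefectGroup_mapSet (φ : A ≃* A') {B : Set (IrrCharacter A)} {D : Subgroup A}
    (hD : IsDefectGroup p M B D) :
    IsDefectGroup p M (mapSet φ B) (D.map (φ : A →* A')) := by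
  rw [isDefectGroup_iff_card] at hD ⊢
  obtain ⟨g, hg, hle, hp, hcard⟩ := hD
  refine ⟨φ g, isDefectClass_mapSet φ hg, ?_, hp.map _, ?_⟩
  · rw [centralizer_singleton_mapEquiv']
    exact Subgroup.map_mono hle
  · rw [centralizer_singleton_mapEquiv',
      Subgroup.card_map_of_injective (f := (φ : A →* A')) φ.injective,
      Subgroup.card_map_of_injective (f := (φ : A →* A')) φ.injective]
    exact hcard

end transport2

end Cfsg.Agent.Helper77
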