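import Mathlib
import Cfsg.Agent.Lib.Helper77.Decomp
import Cfsg.Agent.Lib.Helper77.Transport

set_option autoImplicit false
set_option linter.unusedSectionVars false
set_option linter.style.haveILetI false

namespace Cfsg.Agent.Helper77

open Cfsg Cfsg.Agent.Helper79

universe u

section genH

variable {G : Type u} [Group G] [Fintype G] {p : ℕ} {M : Ideal AlgInt}

theorem isClassFunction_cutC_blockCoeff_gen {P H : Subgroup G}
    (hHN : H ≤ Subgroup.normalizer (P : Set G)) (B : Set (IrrCharacter G)) :
    IsClassFunction H (cutC P H (blockCoeff B)) :=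
  isClassFunction_cutC hHN (fun u _ x => isClassFunction_blockCoeff B x u)

theorem isRValued_cutC_blockCoeff_gen [hpr : M.IsPrime] (P H : Subgroup G)
    {B : Set (IrrCharacter G)} (hB : IsPBlock M B) :
    IsRValued M (cutC P H (blockCoeff B)) :=
  isRValued_cutC P H (isRValued_blockCoeff hB)

theorem eqMod_conv_cutC_blockCoeff_gen [Fact p.Prime] (hM : IsPModular p M) (P H : Subgroup G)
    [Fintype H] (hP : IsPGroup p P) (hCH : Subgroup.centralizer (P : Set G) ≤ H)
    {B : Set (IrrCharacter G)} (hB : IsPBlock M B) :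
    EqMod M (conv (cutC P H (blockCoeff B)) (cutC P H (blockCoeff B)))
      (cutC P H (blockCoeff B)) := by
  classical
  haveI hpr := isPrime_of_isPModular hM
  have hfD : ∀ u ∈ P, ∀ x, blockCoeff B (u * x * u⁻¹) = blockCoeff B x :=
    fun u _ x => isClassFunction_blockCoeff B x u
  obtain ⟨r, hr, hreq⟩ := cutC_conv hM P H hP hCH
    (blockCoeff B) (blockCoeff B) (isRValued_blockCoeff hB) (isRValued_blockCoeff hB) hfD hfD
  rw [conv_blockCoeff_self] at hreq
  intro g
  have hg := congrFun hreq g
  simp only [Pi.add_apply, Pi.smul_apply, smul_eq_mul] at hg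
  rw [hg]
  have : conv (cutC P H (blockCoeff B)) (cutC P H (blockCoeff B)) g -
      (conv (cutC P H (blockCoeff B)) (cutC P H (blockCoeff B)) g + (p : ℂ) * r g) =
      -((p : ℂ) * r g) := by ring
  rw [this]
  exact memLocalIdeal_neg (memLocalIdeal_mul_right (memLocalIdeal_natCast_self hM) (hr g))

theorem isInducedBlock_of_omega_cutC_gen [Fact p.Prime] (hM : IsPModular p M)
    (P H : Subgroup G) [Fintype H] (hP : IsPGroup p P) (hPH : P ≤ H)
    (hCH : Subgroup.centralizer (P : Set G) ≤ H) (hHN : H ≤ Subgroup.normalizer (P : Set G))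
    {B : Set (IrrCharacter G)} (hB : IsPBlock M B)
    {b : Set (IrrCharacter H)} (hb : IsPBlock M b)
    {ξ : IrrCharacter H} (hξ : ξ ∈ b)
    (hξ1 : MemLocalIdeal M (omega (ξ : H → ℂ) (cutC P H (blockCoeff B)) - 1)) :
    IsInducedBlock M H b B := by
  classical
  haveI hpr := isPrime_of_isPModular hM
  have hf : ∀ u ∈ H, ∀ x, blockCoeff B (u * x * u⁻¹) = blockCoeff B x :=
    fun u _ x => isClassFunction_blockCoeff B x u
  have hw := isModHom_wOf hM P H hP hPH hCH hHN ξ.2
  have hB1 : MemLocalIdeal M (wsum (wOf H (ξ : H → ℂ)) (blockCoeff B) - 1) := by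
    rw [wsum_wOf]
    have h1 := omega_restr_sub_cutC hM P H hP hPH hHN ξ.2 hf (isRValued_blockCoeff hB)
    have := memLocalIdeal_add h1 hξ1
    rwa [sub_add_sub_cancel] at this
  exact isInducedBlock_of_isModHom H hb hξ hw hB hB1

theorem omega_cutC_of_isInducedBlock_gen [Fact p.Prime] (hM : IsPModular p M)
    (P H : Subgroup G) [Fintype H] (hP : IsPGroup p P) (hPH : P ≤ H)
    (hHN : H ≤ Subgroup.normalizer (P : Set G))
    {B : Set (IrrCharacter G)} {c : Set (IrrCharacter H)}
    (hind : IsInducedBlock M H c B) {ξ : IrrCharacter H} (hξ : ξ ∈ c) :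
    MemLocalIdeal M (omega (ξ : H → ℂ) (cutC P H (blockCoeff B)) - 1) := by
  classical
  haveI hpr := isPrime_of_isPModular hM
  have hB := hind.2.1
  obtain ⟨χ, hχ⟩ := nonempty_of_isPBlock hB
  have hf : ∀ u ∈ H, ∀ x, blockCoeff B (u * x * u⁻¹) = blockCoeff B x :=
    fun u _ x => isClassFunction_blockCoeff B x u
  have h1 := omega_restr_congr_of_isInducedBlock _ hind hξ hχ (isClassFunction_blockCoeff B)
    (isRValued_blockCoeff hB)
  rw [omega_blockCoeff, if_pos hχ] at h1
  have h2 := omega_restr_sub_cutC hM P H hP hPH hHN ξ.2 hf (isRValued_blockCoeff hB)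
  have := memLocalIdeal_sub h1 h2
  rwa [sub_sub_sub_cancel_left] at this

/-- If `P` lies in a defect group of `B`, then `B` is induced from `H`. -/
theorem exists_isInducedBlock_of_le_defect [Fact p.Prime] (hM : IsPModular p M)
    (P H : Subgroup G) [Fintype H] (hP : IsPGroup p P) (hPH : P ≤ H)
    (hCH : Subgroup.centralizer (P : Set G) ≤ H) (hHN : H ≤ Subgroup.normalizer (P : Set G))
    {B : Set (IrrCharacter G)} (hB : IsPBlock M B) {D : Subgroup G}
    (hD : IsDefectGroup p M B D) (hPD : P ≤ D) :
    ∃ b : Set (IrrCharacter H), IsInducedBlock M H b B := by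
  classical
  haveI hpr := isPrime_of_isPModular hM
  obtain ⟨g, hg, S, hS⟩ := hD
  have hgC : g ∈ Subgroup.centralizer (P : Set G) := by
    rw [← le_centralizer_singleton_iff]
    refine hPD.trans ?_
    rw [hS]
    exact sylow_map_le_centralizer g S
  have hne : ¬ MemLocalIdeal M (cutC P H (blockCoeff B) ⟨g, hCH hgC⟩) := by
    rw [cutC_of_mem _ _ _ hgC]
    exact hg.2.1
  obtain ⟨ξ, hξ1⟩ := exists_block_of_idem (isClassFunction_cutC_blockCoeff_gen hHN B)
    (isRValued_cutC_blockCoeff_gen P H hB) (eqMod_conv_cutC_blockCoeff_gen hM P H hP hCH hB) hne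
  exact ⟨_, isInducedBlock_of_omega_cutC_gen hM P H hP hPH hCH hHN hB (isPBlock_blockOf ξ)
    (mem_blockOf_self ξ) hξ1⟩

/-- A block of `H` inducing a block with defect group `P` has defect group `P`. -/
theorem isDefectGroup_of_isInducedBlock_gen [Fact p.Prime] (hM : IsPModular p M)
    (P H : Subgroup G) [Fintype H] (hP : IsPGroup p P) (hPH : P ≤ H)
    (hHN : H ≤ Subgroup.normalizer (P : Set G))
    {B : Set (IrrCharacter G)} (hBD : IsDefectGroup p M B P)
    {b : Set (IrrCharacter H)} (hind : IsInducedBlock M H b B) :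
    IsDefectGroup p M b (P.subgroupOf H) := by
  classical
  haveI hpr := isPrime_of_isPModular hM
  haveI : (P.subgroupOf H).Normal := (Subgroup.normal_subgroupOf_iff_le_normalizer hPH).mpr hHN
  have hb := hind.1
  have hB := hind.2.1
  obtain ⟨E', hE'⟩ := exists_isDefectGroup (M := M) p hb
  have hle := normal_le_of_isDefectGroup hM hb hE' (P.subgroupOf H) hP.comap_subtype
  obtain ⟨E, hE, hE'E⟩ := exists_isDefectGroup_of_isInducedBlock hM _ hind E' hE'
  have hcard := card_eq_of_isDefectGroup hM hB hE hBD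
  have h1 := Subgroup.card_le_of_le hE'E
  rw [Subgroup.card_map_of_injective (Subgroup.subtype_injective _), hcard,
    ← card_subgroupOf_of_le hPH] at h1
  have : P.subgroupOf H = E' := Subgroup.eq_of_le_of_card_ge hle h1
  rw [this]
  exact hE'

/-- Conjugates of defect groups are defect groups. -/
theorem isDefectGroup_conj [Fact p.Prime] {B : Set (IrrCharacter G)} {D : Subgroup G}
    (hD : IsDefectGroup p M B D) (x : G) :
    IsDefectGroup p M B (D.map (MulAut.conj x).toMonoidHom) := by
  classical
  rw [isDefectGroup_iff_card] at hD ⊢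
  obtain ⟨g, hg, hle, hp, hcard⟩ := hD
  have hcen : Subgroup.centralizer ({x * g * x⁻¹} : Set G) =
      (Subgroup.centralizer ({g} : Set G)).map (MulAut.conj x).toMonoidHom := by
    have := centralizer_singleton_mapEquiv' (MulAut.conj x) g
    simpa [MulAut.conj_apply] using this
  refine ⟨x * g * x⁻¹, isDefectClass_conj hg x, ?_, hp.map _, ?_⟩
  · rw [hcen]
    exact Subgroup.map_mono hle
  · rw [hcen, Subgroup.card_map_of_injective (MulAut.conj x).injective,
      Subgroup.card_map_of_injective (MulAut.conj x).injective]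
    exact hcard

end genH

end Cfsg.Agent.Helper77
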