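import Mathlib
import Cfsg.Agent.Lib.Helper77.Decomp
import Cfsg.Agent.Lib.Helper77.Transport

set_option autoImplicit false
set_option linter.unusedSectionVars false
set_option linter.style.haveILetI false

namespace Cfsg.Agent.Helper77

open Cfsg Cfsg.Agent.Helper79

universe u

section normequiv

variable {G : Type u} [Group G]

theorem mem_normalizer_subgroupOf_iff {P H : Subgroup G} (hPH : P ≤ H) (y : H) :
    y ∈ Subgroup.normalizer ((P.subgroupOf H : Subgroup H) : Set H) ↔
      (y : G) ∈ Subgroup.normalizer (P : Set G) := by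
  rw [← Subgroup.subgroupOf_normalizer_eq hPH, Subgroup.mem_subgroupOf]

theorem mem_centralizer_subgroupOf_iff {P H : Subgroup G} (hPH : P ≤ H) (y : H) :
    y ∈ Subgroup.centralizer ((P.subgroupOf H : Subgroup H) : Set H) ↔
      (y : G) ∈ Subgroup.centralizer (P : Set G) := by
  constructor
  · intro hcon
    rw [Subgroup.mem_centralizer_iff] at hcon ⊢
    intro v hv
    have := hcon ⟨v, hPH hv⟩ (Subgroup.mem_subgroupOf.mpr hv)
    exact congrArg Subtype.val this
  · intro hcon
    rw [Subgroup.mem_centralizer_iff] at hcon ⊢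
    intro v hv
    apply Subtype.ext
    exact hcon v (Subgroup.mem_subgroupOf.mp hv)

/-- The normalizer of `P` computed inside a subgroup `H ≥ N_G(P)` is `N_G(P)`. -/
def normEquiv (P H : Subgroup G) (hPH : P ≤ H) (hH : Subgroup.normalizer (P : Set G) ≤ H) :
    ↥(Subgroup.normalizer ((P.subgroupOf H : Subgroup H) : Set H)) ≃*
      ↥(Subgroup.normalizer (P : Set G)) where
  toFun y := ⟨((y : H) : G), (mem_normalizer_subgroupOf_iff hPH y.1).mp y.2⟩
  invFun n := ⟨⟨(n : G), hH n.2⟩, (mem_normalizer_subgroupOf_iff hPH _).mpr n.2⟩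
  left_inv y := rfl
  right_inv n := rfl
  map_mul' a b := rfl

theorem normEquiv_apply_coe (P H : Subgroup G) (hPH : P ≤ H)
    (hH : Subgroup.normalizer (P : Set G) ≤ H)
    (y : ↥(Subgroup.normalizer ((P.subgroupOf H : Subgroup H) : Set H))) :
    ((normEquiv P H hPH hH y : ↥(Subgroup.normalizer (P : Set G))) : G) = ((y : H) : G) := rfl

theorem normEquiv_symm_apply_coe (P H : Subgroup G) (hPH : P ≤ H)
    (hH : Subgroup.normalizer (P : Set G) ≤ H) (n : ↥(Subgroup.normalizer (P : Set G))) :
    ((((normEquiv P H hPH hH).symm n :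
      ↥(Subgroup.normalizer ((P.subgroupOf H : Subgroup H) : Set H))) : H) : G) = (n : G) := rfl

theorem map_normEquiv_subgroupOf (P H : Subgroup G) (hPH : P ≤ H)
    (hH : Subgroup.normalizer (P : Set G) ≤ H) :
    ((P.subgroupOf H).subgroupOf (Subgroup.normalizer ((P.subgroupOf H : Subgroup H) : Set H))).map
      ((normEquiv P H hPH hH : _ ≃* _) : _ →* _) = P.subgroupOf (Subgroup.normalizer (P : Set G)) := by
  ext n
  simp only [Subgroup.mem_map, Subgroup.mem_subgroupOf, MonoidHom.coe_coe]
  constructor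
  · rintro ⟨y, hy, rfl⟩
    exact hy
  · intro hn
    exact ⟨(normEquiv P H hPH hH).symm n, hn, (normEquiv P H hPH hH).apply_symm_apply n⟩

theorem map_normEquiv_symm_subgroupOf (P H : Subgroup G) (hPH : P ≤ H)
    (hH : Subgroup.normalizer (P : Set G) ≤ H) :
    (P.subgroupOf (Subgroup.normalizer (P : Set G))).map
      (((normEquiv P H hPH hH).symm : _ ≃* _) : _ →* _) =
    (P.subgroupOf H).subgroupOf (Subgroup.normalizer ((P.subgroupOf H : Subgroup H) : Set H)) := by
  ext n
  simp only [Subgroup.mem_map, Subgroup.mem_subgroupOf, MonoidHom.coe_coe]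
  constructor
  · rintro ⟨y, hy, rfl⟩
    exact hy
  · intro hn
    exact ⟨normEquiv P H hPH hH n, hn, (normEquiv P H hPH hH).symm_apply_apply n⟩

end normequiv

section corr

variable {G : Type u} [Group G] [Fintype G] {p : ℕ} {M : Ideal AlgInt}

/-- Block idempotents of `N_G(D)` vanish outside `C_G(D)`. -/
theorem blockCoeff_eq_zero_of_notMem_centralizer [Fact p.Prime] (hM : IsPModular p M)
    (D : Subgroup G) (hD : IsPGroup p D) [Fintype (Subgroup.normalizer (D : Set G))]
    {b : Set (IrrCharacter (Subgroup.normalizer (D : Set G)))} (hb : IsPBlock M b)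
    (x : Subgroup.normalizer (D : Set G)) (hx : (x : G) ∉ Subgroup.centralizer (D : Set G)) :
    blockCoeff b x = 0 := by
  classical
  have hDN : D ≤ Subgroup.normalizer (D : Set G) := Subgroup.le_normalizer
  haveI : (D.subgroupOf (Subgroup.normalizer (D : Set G))).Normal :=
    (Subgroup.normal_subgroupOf_iff_le_normalizer hDN).mpr le_rfl
  refine Cfsg.Agent.S4653.result p M hM (D.subgroupOf (Subgroup.normalizer (D : Set G)))
    hD.comap_subtype b hb x ?_
  intro hcon
  exact hx ((mem_centralizer_subgroupOf_iff hDN x).mp hcon)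

theorem subgroupBlockCoeff_of_mem (H : Subgroup G) (c : Set (IrrCharacter H)) (h : H) :
    subgroupBlockCoeff H c (h : G) = blockCoeff c h := by
  classical
  unfold subgroupBlockCoeff
  rw [dif_pos h.2]

/-- The relation of S4670 between a block of `G` and a block of `H`, in terms of their first
main theorem correspondents. -/
theorem rel_iff_eq_mapSet [Fact p.Prime] (hM : IsPModular p M) (P H : Subgroup G)
    (hP : IsPGroup p P) (hPH : P ≤ H) (hH : Subgroup.normalizer (P : Set G) ≤ H)
    [Fintype H] [Fintype (Subgroup.normalizer (P : Set G))]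
    [Fintype (Subgroup.normalizer ((P.subgroupOf H : Subgroup H) : Set H))]
    {B : Set (IrrCharacter G)} {b : Set (IrrCharacter (Subgroup.normalizer (P : Set G)))}
    (hb : IsPBlock M b)
    (hBb : EqMod M (cutC P (Subgroup.normalizer (P : Set G)) (blockCoeff B)) (blockCoeff b))
    {c : Set (IrrCharacter H)}
    {c₁ : Set (IrrCharacter (Subgroup.normalizer ((P.subgroupOf H : Subgroup H) : Set H)))}
    (hc₁ : IsPBlock M c₁)
    (hcc₁ : EqMod M (cutC (P.subgroupOf H)
      (Subgroup.normalizer ((P.subgroupOf H : Subgroup H) : Set H)) (blockCoeff c))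
      (blockCoeff c₁)) :
    (∀ x : G, x ∈ Subgroup.centralizer (P : Set G) →
      MemLocalIdeal M (blockCoeff B x - subgroupBlockCoeff H c x)) ↔
    b = mapSet (normEquiv P H hPH hH) c₁ := by
  classical
  haveI hpr := isPrime_of_isPModular hM
  have hCN : Subgroup.centralizer (P : Set G) ≤ Subgroup.normalizer (P : Set G) :=
    Subgroup.centralizer_le_normalizer _
  -- pointwise comparison on the centralizer
  have key : ∀ n : Subgroup.normalizer (P : Set G), (n : G) ∈ Subgroup.centralizer (P : Set G) →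
      MemLocalIdeal M ((blockCoeff B (n : G) - subgroupBlockCoeff H c (n : G)) -
        (blockCoeff b n - blockCoeff (mapSet (normEquiv P H hPH hH) c₁) n)) := by
    intro n hn
    have h1 := hBb n
    rw [cutC_of_mem _ _ _ hn] at h1
    have h2 := hcc₁ ((normEquiv P H hPH hH).symm n)
    have hmem : ((((normEquiv P H hPH hH).symm n :
        ↥(Subgroup.normalizer ((P.subgroupOf H : Subgroup H) : Set H))) : H)) ∈
        Subgroup.centralizer ((P.subgroupOf H : Subgroup H) : Set H) :=
      (mem_centralizer_subgroupOf_iff hPH _).mpr hn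
    rw [cutC_of_mem _ _ _ hmem] at h2
    rw [blockCoeff_mapSet]
    have e1 : subgroupBlockCoeff H c (n : G) = blockCoeff c
        (((normEquiv P H hPH hH).symm n :
        ↥(Subgroup.normalizer ((P.subgroupOf H : Subgroup H) : Set H))) : H) :=
      subgroupBlockCoeff_of_mem H c (((normEquiv P H hPH hH).symm n :
        ↥(Subgroup.normalizer ((P.subgroupOf H : Subgroup H) : Set H))) : H)
    rw [e1]
    have := memLocalIdeal_sub h1 h2
    convert this using 1
    ring
  constructor
  · intro hrel
    refine eq_of_eqMod_blockCoeff hb (isPBlock_mapSet _ hc₁) ?_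
    intro n
    by_cases hn : (n : G) ∈ Subgroup.centralizer (P : Set G)
    · have := memLocalIdeal_sub (hrel _ hn) (key n hn)
      rwa [sub_sub_cancel] at this
    · rw [blockCoeff_eq_zero_of_notMem_centralizer hM P hP hb n hn, blockCoeff_mapSet,
        blockCoeff_eq_zero_of_notMem_centralizer hM (P.subgroupOf H) hP.comap_subtype hc₁ _
          (fun hcon => hn ((mem_centralizer_subgroupOf_iff hPH _).mp hcon)), sub_self]
      exact memLocalIdeal_zero hpr.ne_top
  · intro hbeq x hx
    have h := key ⟨x, hCN hx⟩ hx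
    rw [hbeq, sub_self, sub_zero] at h
    exact h

/-- **Brauer correspondence over a subgroup containing the normalizer** (S4670). -/
theorem brauer_corr_over [Fact p.Prime] (hM : IsPModular p M) (P H : Subgroup G)
    (hP : IsPGroup p P) (hH : Subgroup.normalizer (P : Set G) ≤ H) :
    (∀ B : Set (IrrCharacter G), IsPBlock M B → IsDefectGroup p M B P →
      ∃! c : Set (IrrCharacter H), IsPBlock M c ∧ IsDefectGroup p M c (P.subgroupOf H) ∧
        ∀ x : G, x ∈ Subgroup.centralizer (P : Set G) →
          MemLocalIdeal M (blockCoeff B x - subgroupBlockCoeff H c x)) ∧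
    (∀ c : Set (IrrCharacter H), IsPBlock M c → IsDefectGroup p M c (P.subgroupOf H) →
      ∃! B : Set (IrrCharacter G), IsPBlock M B ∧ IsDefectGroup p M B P ∧
        ∀ x : G, x ∈ Subgroup.centralizer (P : Set G) →
          MemLocalIdeal M (blockCoeff B x - subgroupBlockCoeff H c x)) := by
  classical
  haveI hpr := isPrime_of_isPModular hM
  have hPH : P ≤ H := Subgroup.le_normalizer.trans hH
  haveI : Fintype H := Fintype.ofFinite _
  haveI : Fintype (Subgroup.normalizer (P : Set G)) := Fintype.ofFinite _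
  haveI : Fintype (Subgroup.normalizer ((P.subgroupOf H : Subgroup H) : Set H)) :=
    Fintype.ofFinite _
  have hP' : IsPGroup p (P.subgroupOf H) := hP.comap_subtype
  constructor
  · intro B hB hBD
    obtain ⟨b, hb, hbD, hind⟩ := fmt_exists hM P hP hB hBD
    have hBb := fmt_brauer hM P hP hBD hind
    have hc₁ : IsPBlock M (mapSet (normEquiv P H hPH hH).symm b) := isPBlock_mapSet _ hb
    have hc₁D : IsDefectGroup p M (mapSet (normEquiv P H hPH hH).symm b)
        ((P.subgroupOf H).subgroupOf
          (Subgroup.normalizer ((P.subgroupOf H : Subgroup H) : Set H))) := by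
      have := isDefectGroup_mapSet (normEquiv P H hPH hH).symm hbD
      rwa [map_normEquiv_symm_subgroupOf] at this
    obtain ⟨c, hc, hcD, hindc⟩ := fmt_forward hM (P.subgroupOf H) hP' hc₁ hc₁D
    have hcc₁ := fmt_brauer hM (P.subgroupOf H) hP' hcD hindc
    refine ⟨c, ⟨hc, hcD, ?_⟩, ?_⟩
    · rw [rel_iff_eq_mapSet hM P H hP hPH hH hb hBb hc₁ hcc₁, mapSet_mapSet_symm]
    · rintro c' ⟨hc', hc'D, hrel'⟩
      obtain ⟨c'₁, hc'₁, hc'₁D, hindc'⟩ := fmt_exists hM (P.subgroupOf H) hP' hc' hc'D
      have hc'c'₁ := fmt_brauer hM (P.subgroupOf H) hP' hc'D hindc'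
      rw [rel_iff_eq_mapSet hM P H hP hPH hH hb hBb hc'₁ hc'c'₁] at hrel'
      have : c'₁ = mapSet (normEquiv P H hPH hH).symm b := by
        rw [hrel', mapSet_symm_mapSet]
      subst this
      exact isInducedBlock_unique _ hindc' hindc
  · intro c hc hcD
    obtain ⟨c₁, hc₁, hc₁D, hindc⟩ := fmt_exists hM (P.subgroupOf H) hP' hc hcD
    have hcc₁ := fmt_brauer hM (P.subgroupOf H) hP' hcD hindc
    have hb : IsPBlock M (mapSet (normEquiv P H hPH hH) c₁) := isPBlock_mapSet _ hc₁
    have hbD : IsDefectGroup p M (mapSet (normEquiv P H hPH hH) c₁)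
        (P.subgroupOf (Subgroup.normalizer (P : Set G))) := by
      have := isDefectGroup_mapSet (normEquiv P H hPH hH) hc₁D
      rwa [map_normEquiv_subgroupOf] at this
    obtain ⟨B, hB, hBD, hind⟩ := fmt_forward hM P hP hb hbD
    have hBb := fmt_brauer hM P hP hBD hind
    refine ⟨B, ⟨hB, hBD, ?_⟩, ?_⟩
    · rw [rel_iff_eq_mapSet hM P H hP hPH hH hb hBb hc₁ hcc₁]
    · rintro B' ⟨hB', hB'D, hrel'⟩
      obtain ⟨b', hb', hb'D, hind'⟩ := fmt_exists hM P hP hB' hB'D
      have hB'b' := fmt_brauer hM P hP hB'D hind'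
      rw [rel_iff_eq_mapSet hM P H hP hPH hH hb' hB'b' hc₁ hcc₁] at hrel'
      subst hrel'
      exact isInducedBlock_unique _ hind' hind

end corr

end Cfsg.Agent.Helper77
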