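import Mathlib
import Cfsg.Agent.Lib.Helper77.Extended
import Cfsg.Agent.Lib.Helper77.BrauerCorr
import Cfsg.Agent.Lib.Helper77.NormalPair

set_option autoImplicit false
set_option linter.unusedSectionVars false
set_option linter.style.haveILetI false

namespace Cfsg.Agent.Helper77

open Cfsg Cfsg.Agent.Helper79

universe u

section helpers

variable {G : Type u} [Group G] [Fintype G] {M : Ideal AlgInt}

theorem extZ_restr_of_support {K : Subgroup G} {a : G → ℂ} (h : ∀ g, g ∉ K → a g = 0) :
    extZ K (restr K a) = a := by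
  funext g
  by_cases hg : g ∈ K
  · rw [extZ_of_mem' K _ hg]; rfl
  · rw [extZ_of_notMem K _ hg, h g hg]

theorem restr_extZ (K : Subgroup G) (f : K → ℂ) : restr K (extZ K f) = f := by
  funext k
  exact extZ_of_mem K f k

theorem restr_conv_of_support (K : Subgroup G) [Fintype K] {a b : G → ℂ}
    (ha : ∀ g, g ∉ K → a g = 0) (hb : ∀ g, g ∉ K → b g = 0) :
    conv (restr K a) (restr K b) = restr K (conv a b) := by
  conv_rhs => rw [← extZ_restr_of_support ha, ← extZ_restr_of_support hb, conv_extZ, restr_extZ]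

theorem conv_comp_conj (a b : G → ℂ) (u : G) :
    conv (fun x => a (u * x * u⁻¹)) (fun x => b (u * x * u⁻¹)) =
      fun x => conv a b (u * x * u⁻¹) := by
  funext x
  unfold conv
  rw [← Equiv.sum_comp (MulAut.conj u).toEquiv (fun y => a y * b (y⁻¹ * (u * x * u⁻¹)))]
  refine Finset.sum_congr rfl fun y _ => ?_
  have h1 : (MulAut.conj u).toEquiv y = u * y * u⁻¹ := by simp [MulAut.conj_apply]
  rw [h1]
  have : (u * y * u⁻¹)⁻¹ * (u * x * u⁻¹) = u * (y⁻¹ * x) * u⁻¹ := by group
  rw [this]

theorem conv_sum_left {ι : Type*} (s : Finset ι) (f : ι → G → ℂ) (b : G → ℂ) :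
    conv (∑ i ∈ s, f i) b = ∑ i ∈ s, conv (f i) b := by
  funext g
  unfold conv
  simp only [Finset.sum_apply, Finset.sum_mul]
  rw [Finset.sum_comm]

theorem omega_sum (χ : G → ℂ) {ι : Type*} (s : Finset ι) (a : ι → G → ℂ) :
    omega χ (∑ i ∈ s, a i) = ∑ i ∈ s, omega χ (a i) := by
  rw [omega_eq_wsum, wsum_sum]
  refine Finset.sum_congr rfl fun i _ => ?_
  rw [omega_eq_wsum]

variable [hp : M.IsPrime]

theorem eqMod_sum {ι : Type*} (s : Finset ι) (f g : ι → G → ℂ)
    (h : ∀ i ∈ s, EqMod M (f i) (g i)) : EqMod M (∑ i ∈ s, f i) (∑ i ∈ s, g i) := by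
  intro x
  rw [Finset.sum_apply, Finset.sum_apply, ← Finset.sum_sub_distrib]
  exact memLocalIdeal_sum _ _ fun i hi => h i hi x

theorem eqMod_extZ (K : Subgroup G) {a a' : K → ℂ} (h : EqMod M a a') :
    EqMod M (extZ K a) (extZ K a') := by
  intro g
  by_cases hg : g ∈ K
  · rw [extZ_of_mem' K _ hg, extZ_of_mem' K _ hg]; exact h _
  · rw [extZ_of_notMem K _ hg, extZ_of_notMem K _ hg, sub_self]
    exact memLocalIdeal_zero hp.ne_top

theorem eqMod_restr (K : Subgroup G) {a a' : G → ℂ} (h : EqMod M a a') :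
    EqMod M (restr K a) (restr K a') := fun k => h k

theorem conv_comm_of_class {a b : G → ℂ} (ha : IsClassFunction G a) (hb : IsClassFunction G b) :
    conv a b = conv b a := by
  apply eq_of_omega_eq (isClassFunction_conv ha hb) (isClassFunction_conv hb ha)
  intro χ
  rw [omega_conv χ.2 ha hb, omega_conv χ.2 hb ha, mul_comm]

theorem omega_sum_blockCoeff (O : Finset (Set (IrrCharacter G)))
    (hO : ∀ f ∈ O, IsPBlock M f) (θ : IrrCharacter G) :
    omega (θ : G → ℂ) (∑ f ∈ O, blockCoeff f) =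
      by classical exact if blockOf M (θ : G → ℂ) ∈ O then 1 else 0 := by
  classical
  rw [omega_sum]
  simp_rw [omega_blockCoeff]
  by_cases h : blockOf M (θ : G → ℂ) ∈ O
  · rw [if_pos h, Finset.sum_eq_single (blockOf M (θ : G → ℂ))]
    · rw [if_pos (mem_blockOf_self θ)]
    · intro f hf hne
      rw [if_neg]
      intro hθ
      exact hne (eq_blockOf_of_mem (hO f hf) hθ)
    · intro h'
      exact absurd h h'
  · rw [if_neg h]
    refine Finset.sum_eq_zero fun f hf => ?_
    rw [if_neg]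
    intro hθ
    apply h
    rw [← eq_blockOf_of_mem (hO f hf) hθ]
    exact hf

end helpers

section orbit

variable {G : Type u} [Group G] [Fintype G] {M : Ideal AlgInt}

theorem conjSet_conjSet_inv (K : Subgroup G) (u : G) (hu : u ∈ Subgroup.normalizer (K : Set G))
    (hu' : u⁻¹ ∈ Subgroup.normalizer (K : Set G)) (f : Set (IrrCharacter K)) :
    conjSet K u hu (conjSet K u⁻¹ hu' f) = f := by
  have h1 : (1 : G) ∈ Subgroup.normalizer (K : Set G) := Subgroup.one_mem _
  rw [← conjSet_mul K u u⁻¹ hu hu' (by rw [mul_inv_cancel]; exact h1),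
    conjSet_congr K (mul_inv_cancel u) _ h1, conjSet_one]

theorem conjSet_inv_conjSet (K : Subgroup G) (u : G) (hu : u ∈ Subgroup.normalizer (K : Set G))
    (hu' : u⁻¹ ∈ Subgroup.normalizer (K : Set G)) (f : Set (IrrCharacter K)) :
    conjSet K u⁻¹ hu' (conjSet K u hu f) = f := by
  have h1 : (1 : G) ∈ Subgroup.normalizer (K : Set G) := Subgroup.one_mem _
  rw [← conjSet_mul K u⁻¹ u hu' hu (by rw [inv_mul_cancel]; exact h1),
    conjSet_congr K (inv_mul_cancel u) _ h1, conjSet_one]

/-- **Orbit lemma**: if the idempotent of a block `c` of `N` is supported on the normal subgroup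
`L`, then the blocks of `L` on which it does not vanish form a single `N`-orbit. -/
theorem exists_conj_of_omega_one [hpr : M.IsPrime] (L N : Subgroup G) [Fintype L] [Fintype N]
    (hLN : L ≤ N) (hNL : N ≤ Subgroup.normalizer (L : Set G))
    {c : Set (IrrCharacter N)} (hc : IsPBlock M c)
    (hsupp : ∀ g, g ∉ L → subgroupBlockCoeff N c g = 0)
    {b b' : Set (IrrCharacter L)} (hb : IsPBlock M b) (hb' : IsPBlock M b')
    {θ : IrrCharacter L} (hθ : θ ∈ b) {θ' : IrrCharacter L} (hθ' : θ' ∈ b')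
    (h1 : MemLocalIdeal M (omega (θ : L → ℂ) (restr L (subgroupBlockCoeff N c)) - 1))
    (h1' : MemLocalIdeal M (omega (θ' : L → ℂ) (restr L (subgroupBlockCoeff N c)) - 1)) :
    ∃ n, ∃ hn : n ∈ N, b' = conjSet L n (hNL hn) b := by
  classical
  by_contra hcon
  push Not at hcon
  have hεcN : ∀ u ∈ N, ∀ x, subgroupBlockCoeff N c (u * x * u⁻¹) = subgroupBlockCoeff N c x :=
    fun u hu x => subgroupBlockCoeff_conj_of_mem N c u hu x
  have hγcl : IsClassFunction L (restr L (subgroupBlockCoeff N c)) :=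
    isClassFunction_restr L (fun u hu x => hεcN u (hLN hu) x)
  have hεcR : IsRValued M (subgroupBlockCoeff N c) := isRValued_subgroupBlockCoeff N hc
  have hγR : IsRValued M (restr L (subgroupBlockCoeff N c)) := isRValued_restr L hεcR
  have hεc_ext : extZ L (restr L (subgroupBlockCoeff N c)) = subgroupBlockCoeff N c :=
    extZ_restr_of_support hsupp
  have hγidem : conv (restr L (subgroupBlockCoeff N c)) (restr L (subgroupBlockCoeff N c)) =
      restr L (subgroupBlockCoeff N c) := by
    rw [restr_conv_of_support L hsupp hsupp, conv_subgroupBlockCoeff_self]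
  have hγidem' : EqMod M (conv (restr L (subgroupBlockCoeff N c))
      (restr L (subgroupBlockCoeff N c))) (restr L (subgroupBlockCoeff N c)) := by
    rw [hγidem]; exact EqMod.refl _
  -- Step 2
  have step2 : EqMod M (conv (subgroupBlockCoeff L b) (subgroupBlockCoeff N c))
      (subgroupBlockCoeff L b) := by
    have e : conv (subgroupBlockCoeff L b) (subgroupBlockCoeff N c) =
        extZ L (conv (blockCoeff b) (restr L (subgroupBlockCoeff N c))) := by
      rw [← conv_extZ, hεc_ext]
      rfl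
    rw [e]
    show EqMod M (extZ L (conv (blockCoeff b) (restr L (subgroupBlockCoeff N c))))
      (extZ L (blockCoeff b))
    apply eqMod_extZ
    rw [conv_comm_of_class (isClassFunction_blockCoeff b) hγcl]
    exact eqMod_conv_blockCoeff_one hγcl hγR hγidem' hb hθ h1
  -- Step 3
  have step3 : ∀ n (hn : n ∈ N),
      EqMod M (conv (subgroupBlockCoeff L (conjSet L n (hNL hn) b)) (subgroupBlockCoeff N c))
        (subgroupBlockCoeff L (conjSet L n (hNL hn) b)) := by
    intro n hn
    have e1 : subgroupBlockCoeff L (conjSet L n (hNL hn) b) =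
        fun g => subgroupBlockCoeff L b (n⁻¹ * g * n⁻¹⁻¹) := by
      funext g; rw [subgroupBlockCoeff_conjSet, inv_inv]
    have e2 : subgroupBlockCoeff N c = fun g => subgroupBlockCoeff N c (n⁻¹ * g * n⁻¹⁻¹) := by
      funext g; exact (hεcN n⁻¹ (N.inv_mem hn) g).symm
    have e3 : conv (subgroupBlockCoeff L (conjSet L n (hNL hn) b)) (subgroupBlockCoeff N c) =
        fun g => conv (subgroupBlockCoeff L b) (subgroupBlockCoeff N c) (n⁻¹ * g * n⁻¹⁻¹) := by
      rw [← conv_comp_conj, ← e1, ← e2]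
    rw [e3]
    intro g
    rw [e1]
    exact step2 _
  -- the orbit
  let O : Finset (Set (IrrCharacter L)) :=
    Finset.univ.image (fun n : N => conjSet L (n : G) (hNL n.2) b)
  have hO_block : ∀ f ∈ O, IsPBlock M f := by
    intro f hf
    obtain ⟨n, -, rfl⟩ := Finset.mem_image.mp hf
    exact isPBlock_conjSet L _ _ hb
  have hbO : b ∈ O := by
    refine Finset.mem_image.mpr ⟨1, Finset.mem_univ _, ?_⟩
    exact conjSet_one L _ b
  have hb'O : b' ∉ O := by
    intro h
    obtain ⟨n, -, hn⟩ := Finset.mem_image.mp h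
    exact hcon n n.2 hn.symm
  have hE_ext : (∑ f ∈ O, subgroupBlockCoeff L f) = extZ L (∑ f ∈ O, blockCoeff f) := by
    simp only [subgroupBlockCoeff_eq_extZ]
    rw [extZ_sum]
  have hE_restr : restr L (∑ f ∈ O, subgroupBlockCoeff L f) = ∑ f ∈ O, blockCoeff f := by
    rw [hE_ext, restr_extZ]
  have hE_suppL : ∀ g, g ∉ L → (∑ f ∈ O, subgroupBlockCoeff L f) g = 0 := by
    intro g hg
    rw [hE_ext, extZ_of_notMem _ _ hg]
  have hE_suppN : ∀ g, g ∉ N → (∑ f ∈ O, subgroupBlockCoeff L f) g = 0 :=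
    fun g hg => hE_suppL g (fun h => hg (hLN h))
  have hE_R : IsRValued M (∑ f ∈ O, subgroupBlockCoeff L f) := by
    intro g
    rw [Finset.sum_apply]
    exact memLocalRing_sum _ _ fun f hf => isRValued_subgroupBlockCoeff L (hO_block f hf) g
  have hE_c : EqMod M (conv (∑ f ∈ O, subgroupBlockCoeff L f) (subgroupBlockCoeff N c))
      (∑ f ∈ O, subgroupBlockCoeff L f) := by
    rw [conv_sum_left]
    refine eqMod_sum _ _ _ fun f hf => ?_
    obtain ⟨n, -, rfl⟩ := Finset.mem_image.mp hf
    exact step3 n n.2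
  have hE_inv : ∀ u ∈ N, ∀ x, (∑ f ∈ O, subgroupBlockCoeff L f) (u * x * u⁻¹) =
      (∑ f ∈ O, subgroupBlockCoeff L f) x := by
    intro u hu x
    have hu' : u⁻¹ ∈ N := N.inv_mem hu
    rw [Finset.sum_apply, Finset.sum_apply]
    refine Finset.sum_nbij' (fun f => conjSet L u⁻¹ (hNL hu') f)
      (fun f => conjSet L u (hNL hu) f) ?_ ?_ ?_ ?_ ?_
    · intro f hf
      obtain ⟨n, -, rfl⟩ := Finset.mem_image.mp hf
      refine Finset.mem_image.mpr ⟨⟨u⁻¹ * n, N.mul_mem hu' n.2⟩, Finset.mem_univ _, ?_⟩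
      exact conjSet_mul L u⁻¹ n _ _ _ b
    · intro f hf
      obtain ⟨n, -, rfl⟩ := Finset.mem_image.mp hf
      refine Finset.mem_image.mpr ⟨⟨u * n, N.mul_mem hu n.2⟩, Finset.mem_univ _, ?_⟩
      exact conjSet_mul L u n _ _ _ b
    · intro f _
      exact conjSet_conjSet_inv L u _ _ f
    · intro f _
      exact conjSet_inv_conjSet L u _ _ f
    · intro f _
      rw [subgroupBlockCoeff_conjSet, inv_inv]
  have hEN_cl : IsClassFunction N (restr N (∑ f ∈ O, subgroupBlockCoeff L f)) :=
    isClassFunction_restr N hE_inv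
  have hEN_R : IsRValued M (restr N (∑ f ∈ O, subgroupBlockCoeff L f)) :=
    isRValued_restr N hE_R
  have hεc_suppN : ∀ g, g ∉ N → subgroupBlockCoeff N c g = 0 :=
    fun g hg => hsupp g (fun h => hg (hLN h))
  have hrestr_c : restr N (subgroupBlockCoeff N c) = blockCoeff c := restr_extZ N _
  have hEN_c : EqMod M (conv (restr N (∑ f ∈ O, subgroupBlockCoeff L f)) (blockCoeff c))
      (restr N (∑ f ∈ O, subgroupBlockCoeff L f)) := by
    rw [← hrestr_c, restr_conv_of_support N hE_suppN hεc_suppN]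
    exact eqMod_restr N hE_c
  have hsum_cl : IsClassFunction L (∑ f ∈ O, blockCoeff f) := by
    intro g h
    rw [Finset.sum_apply, Finset.sum_apply]
    exact Finset.sum_congr rfl fun f _ => isClassFunction_blockCoeff f g h
  have hEE : conv (∑ f ∈ O, subgroupBlockCoeff L f) (∑ f ∈ O, subgroupBlockCoeff L f) =
      ∑ f ∈ O, subgroupBlockCoeff L f := by
    rw [hE_ext, conv_extZ]
    congr 1
    apply eq_of_omega_eq (isClassFunction_conv hsum_cl hsum_cl) hsum_cl
    intro χ
    rw [omega_conv χ.2 hsum_cl hsum_cl, omega_sum_blockCoeff O hO_block χ]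
    split_ifs <;> simp
  have hEN_idem : EqMod M (conv (restr N (∑ f ∈ O, subgroupBlockCoeff L f))
      (restr N (∑ f ∈ O, subgroupBlockCoeff L f)))
      (restr N (∑ f ∈ O, subgroupBlockCoeff L f)) := by
    rw [restr_conv_of_support N hE_suppN hE_suppN, hEE]
    exact EqMod.refl _
  obtain ⟨ξ, hξ⟩ := nonempty_of_isPBlock hc
  have hrestrL_cl : IsClassFunction L (restr L (∑ f ∈ O, subgroupBlockCoeff L f)) := by
    rw [hE_restr]; exact hsum_cl
  rcases memLocalIdeal_or_of_idem hEN_cl hEN_R hEN_idem ξ with h0 | h1c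
  · have hz := eqMod_conv_blockCoeff_zero hEN_cl hEN_R hEN_idem hc hξ h0
    have hEN0 : ∀ y, MemLocalIdeal M (restr N (∑ f ∈ O, subgroupBlockCoeff L f) y) := fun y => by
      have := memLocalIdeal_sub (hz y) (hEN_c y)
      rwa [sub_sub_cancel] at this
    have hL0 : ∀ x : L, MemLocalIdeal M (restr L (∑ f ∈ O, subgroupBlockCoeff L f) x) :=
      fun x => hEN0 ⟨x, hLN x.2⟩
    have := memLocalIdeal_omega_of_eqMod_zero θ.2 hrestrL_cl hL0
    rw [hE_restr, omega_sum_blockCoeff O hO_block θ, if_pos (by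
      rw [← eq_blockOf_of_mem hb hθ]; exact hbO)] at this
    exact not_memLocalIdeal_one this
  · have h2 := eqMod_conv_blockCoeff_one hEN_cl hEN_R hEN_idem hc hξ h1c
    have hENc : EqMod M (restr N (∑ f ∈ O, subgroupBlockCoeff L f)) (blockCoeff c) :=
      (hEN_c.symm).trans h2
    have hLγ : EqMod M (restr L (∑ f ∈ O, subgroupBlockCoeff L f))
        (restr L (subgroupBlockCoeff N c)) := by
      intro x
      have := hENc ⟨x, hLN x.2⟩
      have e : restr L (subgroupBlockCoeff N c) x = blockCoeff c ⟨x, hLN x.2⟩ :=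
        extZ_of_mem' N _ (hLN x.2)
      rw [e]
      exact this
    have h3 := memLocalIdeal_omega_sub_of_eqMod θ'.2 hrestrL_cl hγcl hLγ
    rw [hE_restr, omega_sum_blockCoeff O hO_block θ', if_neg (by
      rw [← eq_blockOf_of_mem hb' hθ']; exact hb'O)] at h3
    have h4 := memLocalIdeal_neg (memLocalIdeal_add h3 h1')
    have e : -(0 - omega (θ' : L → ℂ) (restr L (subgroupBlockCoeff N c)) +
        (omega (θ' : L → ℂ) (restr L (subgroupBlockCoeff N c)) - 1)) = 1 := by ring
    rw [e] at h4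
    exact not_memLocalIdeal_one h4

end orbit

section ext

variable {G : Type u} [Group G] [Fintype G] {p : ℕ} {M : Ideal AlgInt}

theorem normalizer_le_normalizer_sup_centralizer (P : Subgroup G) :
    Subgroup.normalizer (P : Set G) ≤
      Subgroup.normalizer ((P ⊔ Subgroup.centralizer (P : Set G) : Subgroup G) : Set G) := by
  intro n hn
  have h1 := Subgroup.mem_normalizer_iff_map_conj_eq.mp hn
  have h2 := Subgroup.mem_normalizer_iff_map_conj_eq.mp
    (normalizer_le_normalizer_centralizer P hn)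
  rw [Subgroup.mem_normalizer_iff_map_conj_eq, Subgroup.map_sup, h1, h2]

/-- **Extended First Main Theorem** (S0973). -/
theorem extended_fmt [Fact p.Prime] (hM : IsPModular p M) {B : Set (IrrCharacter G)}
    (hB : IsPBlock M B) (P : Subgroup G) (hBP : IsDefectGroup p M B P) :
    (∃ b : Set (IrrCharacter ↥(P ⊔ Subgroup.centralizer (P : Set G))),
      IsDefectGroup p M b (P.subgroupOf (P ⊔ Subgroup.centralizer (P : Set G))) ∧
      IsInducedBlock M (P ⊔ Subgroup.centralizer (P : Set G)) b B) ∧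
    ∀ b b' : Set (IrrCharacter ↥(P ⊔ Subgroup.centralizer (P : Set G))),
      IsInducedBlock M (P ⊔ Subgroup.centralizer (P : Set G)) b B →
      IsInducedBlock M (P ⊔ Subgroup.centralizer (P : Set G)) b' B →
      ∃ n ∈ Subgroup.normalizer (P : Set G), ∀ θ ∈ b, ∃ θ' ∈ b',
        ∀ x : ↥(P ⊔ Subgroup.centralizer (P : Set G)),
        ∀ hx : n * (x : G) * n⁻¹ ∈ P ⊔ Subgroup.centralizer (P : Set G),
          (θ' : ↥(P ⊔ Subgroup.centralizer (P : Set G)) → ℂ) x =
            (θ : ↥(P ⊔ Subgroup.centralizer (P : Set G)) → ℂ) ⟨n * (x : G) * n⁻¹, hx⟩ := by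
  classical
  haveI hpr := isPrime_of_isPModular hM
  have hP : IsPGroup p P := isPGroup_of_isDefectGroup hBP
  haveI : Fintype ↥(P ⊔ Subgroup.centralizer (P : Set G)) := Fintype.ofFinite _
  haveI : Fintype ↥(Subgroup.normalizer (P : Set G)) := Fintype.ofFinite _
  have hPL : P ≤ P ⊔ Subgroup.centralizer (P : Set G) := le_sup_left
  have hCL : Subgroup.centralizer (P : Set G) ≤ P ⊔ Subgroup.centralizer (P : Set G) :=
    le_sup_right
  have hLN : P ⊔ Subgroup.centralizer (P : Set G) ≤ Subgroup.normalizer (P : Set G) :=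
    sup_le Subgroup.le_normalizer (Subgroup.centralizer_le_normalizer _)
  have hNL := normalizer_le_normalizer_sup_centralizer P
  constructor
  · obtain ⟨b, hind⟩ := exists_isInducedBlock_of_le_defect hM P _ hP hPL hCL hLN hB hBP le_rfl
    exact ⟨b, isDefectGroup_of_isInducedBlock_gen hM P _ hP hPL hLN hBP hind, hind⟩
  · intro b b' hind hind'
    obtain ⟨c, hc, hcD, hindc⟩ := fmt_exists hM P hP hB hBP
    have hBc := fmt_brauer hM P hP hBP hindc
    have hsupp : ∀ g, g ∉ P ⊔ Subgroup.centralizer (P : Set G) →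
        subgroupBlockCoeff (Subgroup.normalizer (P : Set G)) c g = 0 := by
      intro g hg
      rw [subgroupBlockCoeff_eq_extZ]
      by_cases hgN : g ∈ Subgroup.normalizer (P : Set G)
      · rw [extZ_of_mem' _ _ hgN]
        exact blockCoeff_eq_zero_of_notMem_centralizer hM P hP hc ⟨g, hgN⟩
          (fun h => hg (hCL h))
      · exact extZ_of_notMem _ _ hgN
    have hγ : EqMod M (cutC P (P ⊔ Subgroup.centralizer (P : Set G)) (blockCoeff B))
        (restr (P ⊔ Subgroup.centralizer (P : Set G))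
          (subgroupBlockCoeff (Subgroup.normalizer (P : Set G)) c)) := by
      intro x
      have e : restr (P ⊔ Subgroup.centralizer (P : Set G))
          (subgroupBlockCoeff (Subgroup.normalizer (P : Set G)) c) x =
          blockCoeff c ⟨x, hLN x.2⟩ := extZ_of_mem' _ _ (hLN x.2)
      rw [e]
      by_cases hx : (x : G) ∈ Subgroup.centralizer (P : Set G)
      · rw [cutC_of_mem _ _ _ hx]
        have := hBc ⟨x, hLN x.2⟩
        rwa [cutC_of_mem P (Subgroup.normalizer (P : Set G)) (blockCoeff B)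
          (h := ⟨x, hLN x.2⟩) hx] at this
      · rw [cutC_of_notMem _ _ _ hx,
          blockCoeff_eq_zero_of_notMem_centralizer hM P hP hc ⟨x, hLN x.2⟩ hx, sub_self]
        exact memLocalIdeal_zero hpr.ne_top
    have hγcl : IsClassFunction _ (restr (P ⊔ Subgroup.centralizer (P : Set G))
        (subgroupBlockCoeff (Subgroup.normalizer (P : Set G)) c)) :=
      isClassFunction_restr _ (fun u hu x => subgroupBlockCoeff_conj_of_mem _ c u (hLN hu) x)
    have key : ∀ {b₀ : Set (IrrCharacter ↥(P ⊔ Subgroup.centralizer (P : Set G)))},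
        IsInducedBlock M (P ⊔ Subgroup.centralizer (P : Set G)) b₀ B →
        ∀ {θ : IrrCharacter ↥(P ⊔ Subgroup.centralizer (P : Set G))}, θ ∈ b₀ →
        MemLocalIdeal M (omega (θ : ↥(P ⊔ Subgroup.centralizer (P : Set G)) → ℂ)
          (restr (P ⊔ Subgroup.centralizer (P : Set G))
            (subgroupBlockCoeff (Subgroup.normalizer (P : Set G)) c)) - 1) := by
      intro b₀ hind₀ θ hθ
      have h1 := omega_cutC_of_isInducedBlock_gen hM P _ hP hPL hLN hind₀ hθ
      have h2 := memLocalIdeal_omega_sub_of_eqMod θ.2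
        (isClassFunction_cutC_blockCoeff_gen hLN B) hγcl hγ
      have := memLocalIdeal_sub h1 h2
      rwa [sub_sub_sub_cancel_left] at this
    obtain ⟨θ, hθ⟩ := nonempty_of_isPBlock hind.1
    obtain ⟨θ', hθ'⟩ := nonempty_of_isPBlock hind'.1
    obtain ⟨n, hn, hbn⟩ := exists_conj_of_omega_one _ _ hLN hNL hc hsupp hind.1 hind'.1 hθ hθ'
      (key hind hθ) (key hind' hθ')
    refine ⟨n⁻¹, Subgroup.inv_mem _ hn, fun ψ hψ =>
      ⟨conjIrr _ n (hNL hn) ψ, by rw [hbn]; exact ⟨ψ, hψ, rfl⟩, ?_⟩⟩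
    intro x hx
    show conjFun _ n (hNL hn) ψ.1 x = ψ.1 ⟨n⁻¹ * (x : G) * n⁻¹⁻¹, hx⟩
    unfold conjFun
    refine congrArg ψ.1 ?_
    apply Subtype.ext
    rw [conjEquivOf_symm_apply_coe]
    simp

end ext

end Cfsg.Agent.Helper77
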