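import Mathlib
import Cfsg.Agent.Lib.Helper77.Transport
import Cfsg.Agent.Lib.Helper77.SubpairChain

set_option autoImplicit false
set_option linter.unusedSectionVars false
set_option linter.style.haveILetI false

namespace Cfsg.Agent.Helper77

open Cfsg Cfsg.Agent.Helper79

universe u

section centEquiv

variable {G : Type u} [Group G]

theorem conj_mem_centralizer_map {Q : Subgroup G} (x : G) {c : G}
    (hc : c ∈ Subgroup.centralizer (Q : Set G)) :
    x * c * x⁻¹ ∈ Subgroup.centralizer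
      ((Q.map (MulAut.conj x).toMonoidHom : Subgroup G) : Set G) := by
  rw [Subgroup.mem_centralizer_iff] at hc ⊢
  rintro _ ⟨u, hu, rfl⟩
  have := hc u hu
  simp only [MulEquiv.coe_toMonoidHom, MulAut.conj_apply]
  have h1 : x * u * x⁻¹ * (x * c * x⁻¹) = x * (u * c) * x⁻¹ := by group
  have h2 : x * c * x⁻¹ * (x * u * x⁻¹) = x * (c * u) * x⁻¹ := by group
  rw [h1, h2, this]

theorem conj_inv_mem_centralizer_of_map {Q : Subgroup G} (x : G) {c : G}
    (hc : c ∈ Subgroup.centralizer
      ((Q.map (MulAut.conj x).toMonoidHom : Subgroup G) : Set G)) :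
    x⁻¹ * c * x ∈ Subgroup.centralizer (Q : Set G) := by
  rw [Subgroup.mem_centralizer_iff] at hc ⊢
  intro u hu
  have := hc (x * u * x⁻¹) ⟨u, hu, by simp [MulAut.conj_apply]⟩
  have h1 : u * (x⁻¹ * c * x) = x⁻¹ * (x * u * x⁻¹ * c) * x := by group
  have h2 : x⁻¹ * c * x * u = x⁻¹ * (c * (x * u * x⁻¹)) * x := by group
  rw [h1, h2, this]

/-- Conjugation by `x` as an isomorphism `C_G(Q) ≃ C_G(xQx⁻¹)`. -/
def centEquiv (Q : Subgroup G) (x : G) :
    Subgroup.centralizer (Q : Set G) ≃*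
      Subgroup.centralizer ((Q.map (MulAut.conj x).toMonoidHom : Subgroup G) : Set G) where
  toFun c := ⟨x * c * x⁻¹, conj_mem_centralizer_map x c.2⟩
  invFun c := ⟨x⁻¹ * c * x, conj_inv_mem_centralizer_of_map x c.2⟩
  left_inv c := by apply Subtype.ext; simp [mul_assoc]
  right_inv c := by apply Subtype.ext; simp [mul_assoc]
  map_mul' a b := by
    apply Subtype.ext
    show x * ((a * b : Subgroup.centralizer (Q : Set G)) : G) * x⁻¹ =
      (x * (a : G) * x⁻¹) * (x * (b : G) * x⁻¹)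
    rw [Subgroup.coe_mul]
    group

theorem centEquiv_apply_coe (Q : Subgroup G) (x : G) (c : Subgroup.centralizer (Q : Set G)) :
    ((centEquiv Q x c : _) : G) = x * c * x⁻¹ := rfl

theorem centEquiv_symm_apply_coe (Q : Subgroup G) (x : G)
    (c : Subgroup.centralizer ((Q.map (MulAut.conj x).toMonoidHom : Subgroup G) : Set G)) :
    (((centEquiv Q x).symm c : _) : G) = x⁻¹ * c * x := rfl

theorem conjBlock_eq_mapSet (Q : Subgroup G) (x : G)
    (f : Set (IrrCharacter (Subgroup.centralizer (Q : Set G)))) :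
    conjBlock Q x f = mapSet (centEquiv Q x) f := by
  ext ξ'
  constructor
  · rintro ⟨ξ, hξ, h⟩
    refine ⟨ξ, hξ, ?_⟩
    apply Subtype.ext
    funext c'
    rw [mapIrr_coe]
    refine (h ((centEquiv Q x).symm c') c' ?_).symm
    rw [centEquiv_symm_apply_coe]
    group
  · rintro ⟨ξ, hξ, rfl⟩
    refine ⟨ξ, hξ, ?_⟩
    intro c c' hcc'
    rw [mapIrr_coe]
    refine congrArg ξ.1 ?_
    apply Subtype.ext
    rw [centEquiv_symm_apply_coe, hcc']
    group

/-- The relation "`(Q', f')` is the conjugate of `(Q, f)` by `x`". -/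
def ConjRel (x : G) (Q Q' : Subgroup G)
    (f : Set (IrrCharacter (Subgroup.centralizer (Q : Set G))))
    (f' : Set (IrrCharacter (Subgroup.centralizer (Q' : Set G)))) : Prop :=
  Q' = Q.map (MulAut.conj x).toMonoidHom ∧
    ∀ ξ' : IrrCharacter (Subgroup.centralizer (Q' : Set G)), ξ' ∈ f' ↔
      ∃ ξ ∈ f, ∀ (c : Subgroup.centralizer (Q : Set G))
        (c' : Subgroup.centralizer (Q' : Set G)), (c' : G) = x * (c : G) * x⁻¹ →
        (ξ' : _ → ℂ) c' = (ξ : Subgroup.centralizer (Q : Set G) → ℂ) c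

theorem conjRel_conjBlock (x : G) (Q : Subgroup G)
    (f : Set (IrrCharacter (Subgroup.centralizer (Q : Set G)))) :
    ConjRel x Q (Q.map (MulAut.conj x).toMonoidHom) f (conjBlock Q x f) :=
  ⟨rfl, fun _ => Iff.rfl⟩

theorem ConjRel.eq_conjBlock {x : G} {Q : Subgroup G}
    {f : Set (IrrCharacter (Subgroup.centralizer (Q : Set G)))}
    {f' : Set (IrrCharacter (Subgroup.centralizer
      ((Q.map (MulAut.conj x).toMonoidHom : Subgroup G) : Set G)))}
    (h : ConjRel x Q (Q.map (MulAut.conj x).toMonoidHom) f f') : f' = conjBlock Q x f :=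
  Set.ext fun ξ' => h.2 ξ'

theorem ConjRel.exists_of_eq (x : G) (Q Q' : Subgroup G)
    (f : Set (IrrCharacter (Subgroup.centralizer (Q : Set G))))
    (h : Q' = Q.map (MulAut.conj x).toMonoidHom) :
    ∃ f' : Set (IrrCharacter (Subgroup.centralizer (Q' : Set G))), ConjRel x Q Q' f f' := by
  subst h
  exact ⟨_, conjRel_conjBlock x Q f⟩

theorem ConjRel.unique {x : G} {Q Q' : Subgroup G}
    {f : Set (IrrCharacter (Subgroup.centralizer (Q : Set G)))}
    {f' f'' : Set (IrrCharacter (Subgroup.centralizer (Q' : Set G)))}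
    (h : ConjRel x Q Q' f f') (h' : ConjRel x Q Q' f f'') : f' = f'' :=
  Set.ext fun ξ' => (h.2 ξ').trans (h'.2 ξ').symm

end centEquiv

section transportPairs

variable {G : Type u} [Group G] {p : ℕ} {M : Ideal AlgInt}

theorem brauerOmega_centEquiv (Q : Subgroup G) (x : G) (β β' : G → ℂ)
    (hβ : ∀ c ∈ Subgroup.centralizer (Q : Set G), β' (x * c * x⁻¹) = β c)
    (ξ : Subgroup.centralizer (Q : Set G) → ℂ) :
    brauerOmega (Q.map (MulAut.conj x).toMonoidHom) β'
      (fun c' => ξ ((centEquiv Q x).symm c')) = brauerOmega Q β ξ := by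
  unfold brauerOmega
  rw [← finsum_comp_equiv (centEquiv Q x).toEquiv]
  refine finsum_congr fun c => ?_
  simp only [MulEquiv.toEquiv_eq_coe, EquivLike.coe_coe, MulEquiv.symm_apply_apply, map_one]
  rw [centEquiv_apply_coe, hβ c c.2]

theorem isBrauerPair_conjBlock {Q : Subgroup G}
    {f : Set (IrrCharacter (Subgroup.centralizer (Q : Set G)))} (x : G)
    (h : IsBrauerPair p M Q f) :
    IsBrauerPair p M (Q.map (MulAut.conj x).toMonoidHom) (conjBlock Q x f) := by
  refine ⟨h.1.map _, ?_⟩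
  rw [conjBlock_eq_mapSet]
  exact isPBlock_mapSet _ h.2

theorem isBrauerPairOf_conjBlock [Fintype G] {B : Set (IrrCharacter G)} {Q : Subgroup G}
    {f : Set (IrrCharacter (Subgroup.centralizer (Q : Set G)))} (x : G)
    (h : IsBrauerPairOf p M B Q f) :
    IsBrauerPairOf p M B (Q.map (MulAut.conj x).toMonoidHom) (conjBlock Q x f) := by
  refine ⟨isBrauerPair_conjBlock x h.1, h.2.1, ?_⟩
  rw [conjBlock_eq_mapSet]
  rintro _ ⟨ξ, hξ, rfl⟩
  have := brauerOmega_centEquiv Q x (blockCoeff B) (blockCoeff B)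
    (fun c _ => isClassFunction_blockCoeff B c x) (ξ : Subgroup.centralizer (Q : Set G) → ℂ)
  have e : ((mapIrr (centEquiv Q x) ξ : IrrCharacter _) : _ → ℂ) =
      fun c' => (ξ : Subgroup.centralizer (Q : Set G) → ℂ) ((centEquiv Q x).symm c') := rfl
  rw [e, this]
  exact h.2.2 ξ hξ

theorem subgroupBlockCoeff_mapSet_centEquiv (Q : Subgroup G) (x : G)
    (f : Set (IrrCharacter (Subgroup.centralizer (Q : Set G)))) (g : G) :
    subgroupBlockCoeff (Subgroup.centralizer
      ((Q.map (MulAut.conj x).toMonoidHom : Subgroup G) : Set G))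
      (mapSet (centEquiv Q x) f) (x * g * x⁻¹) =
    subgroupBlockCoeff (Subgroup.centralizer (Q : Set G)) f g := by
  classical
  unfold subgroupBlockCoeff
  by_cases hg : g ∈ Subgroup.centralizer (Q : Set G)
  · rw [dif_pos hg, dif_pos (conj_mem_centralizer_map x hg), blockCoeff_mapSet]
    congr 1
    apply Subtype.ext
    rw [centEquiv_symm_apply_coe]
    group
  · have hg' : x * g * x⁻¹ ∉ Subgroup.centralizer
        ((Q.map (MulAut.conj x).toMonoidHom : Subgroup G) : Set G) := by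
      intro hcon
      apply hg
      have := conj_inv_mem_centralizer_of_map x hcon
      have e : x⁻¹ * (x * g * x⁻¹) * x = g := by group
      rwa [e] at this
    rw [dif_neg hg, dif_neg hg']

theorem stabilizesBlock_conjBlock {Q : Subgroup G}
    {f : Set (IrrCharacter (Subgroup.centralizer (Q : Set G)))} (x u : G)
    (hu : StabilizesBlock (Subgroup.centralizer (Q : Set G)) f u) :
    StabilizesBlock (Subgroup.centralizer
      ((Q.map (MulAut.conj x).toMonoidHom : Subgroup G) : Set G)) (conjBlock Q x f)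
      (x * u * x⁻¹) := by
  obtain ⟨hu1, hu2⟩ := hu
  constructor
  · have h1 := Subgroup.le_normalizer_map (H := Subgroup.centralizer (Q : Set G))
      (MulAut.conj x).toMonoidHom
    have h2 : x * u * x⁻¹ ∈ (Subgroup.normalizer
        ((Subgroup.centralizer (Q : Set G) : Subgroup G) : Set G)).map
        (MulAut.conj x).toMonoidHom := ⟨u, hu1, by simp [MulAut.conj_apply]⟩
    have h3 := h1 h2
    have e : (Subgroup.centralizer (Q : Set G)).map (MulAut.conj x).toMonoidHom =
        Subgroup.centralizer ((Q.map (MulAut.conj x).toMonoidHom : Subgroup G) : Set G) := by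
      ext y
      constructor
      · rintro ⟨c, hc, rfl⟩
        exact conj_mem_centralizer_map x hc
      · intro hy
        refine ⟨x⁻¹ * y * x, conj_inv_mem_centralizer_of_map x hy, ?_⟩
        simp [MulAut.conj_apply, mul_assoc]
    rwa [e] at h3
  · rw [conjBlock_eq_mapSet]
    rintro _ ⟨χ₁, hχ₁, rfl⟩
    obtain ⟨χ₂, hχ₂, hc⟩ := hu2 χ₁ hχ₁
    refine ⟨mapIrr (centEquiv Q x) χ₂, ⟨χ₂, hχ₂, rfl⟩, ?_⟩
    intro k k' hk
    rw [mapIrr_coe, mapIrr_coe]
    apply hc
    rw [centEquiv_symm_apply_coe, centEquiv_symm_apply_coe, hk]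
    group

theorem isNormalSubpair_conjBlock {Q P : Subgroup G}
    {f : Set (IrrCharacter (Subgroup.centralizer (Q : Set G)))}
    {e : Set (IrrCharacter (Subgroup.centralizer (P : Set G)))} (x : G)
    (h : IsNormalSubpair p M Q f P e) :
    IsNormalSubpair p M (Q.map (MulAut.conj x).toMonoidHom) (conjBlock Q x f)
      (P.map (MulAut.conj x).toMonoidHom) (conjBlock P x e) := by
  obtain ⟨h1, h2, h3, h4, h5, h6⟩ := h
  refine ⟨isBrauerPair_conjBlock x h1, isBrauerPair_conjBlock x h2, Subgroup.map_mono h3, ?_,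
    ?_, ?_⟩
  · exact (Subgroup.map_mono h4).trans (Subgroup.le_normalizer_map _)
  · rintro _ ⟨u, hu, rfl⟩
    have := stabilizesBlock_conjBlock x u (h5 u hu)
    simpa [MulAut.conj_apply] using this
  · rw [conjBlock_eq_mapSet P]
    rintro _ ⟨ξ, hξ, rfl⟩
    have := brauerOmega_centEquiv P x
      (subgroupBlockCoeff (Subgroup.centralizer (Q : Set G)) f)
      (subgroupBlockCoeff (Subgroup.centralizer
        ((Q.map (MulAut.conj x).toMonoidHom : Subgroup G) : Set G)) (conjBlock Q x f))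
      (fun c _ => by rw [conjBlock_eq_mapSet, subgroupBlockCoeff_mapSet_centEquiv])
      (ξ : Subgroup.centralizer (P : Set G) → ℂ)
    have e' : ((mapIrr (centEquiv P x) ξ : IrrCharacter _) : _ → ℂ) =
        fun c' => (ξ : Subgroup.centralizer (P : Set G) → ℂ) ((centEquiv P x).symm c') := rfl
    rw [e', this]
    exact h6 ξ hξ

theorem subpairLE_conjBlock {Q P : Subgroup G}
    {f : Set (IrrCharacter (Subgroup.centralizer (Q : Set G)))}
    {e : Set (IrrCharacter (Subgroup.centralizer (P : Set G)))} (x : G)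
    (h : SubpairLE p M Q f P e) :
    SubpairLE p M (Q.map (MulAut.conj x).toMonoidHom) (conjBlock Q x f)
      (P.map (MulAut.conj x).toMonoidHom) (conjBlock P x e) := by
  unfold SubpairLE at h ⊢
  exact Relation.ReflTransGen.lift (p := NormalSubpairRel p M)
    (fun a : BrauerPairIdx G => (⟨a.1.map (MulAut.conj x).toMonoidHom, conjBlock a.1 x a.2⟩ :
      BrauerPairIdx G))
    (fun a b hab => isNormalSubpair_conjBlock x hab) _ _ h

theorem ConjRel.isNormalSubpair {x : G} {Q Q' P P' : Subgroup G}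
    {f : Set (IrrCharacter (Subgroup.centralizer (Q : Set G)))}
    {f' : Set (IrrCharacter (Subgroup.centralizer (Q' : Set G)))}
    {e : Set (IrrCharacter (Subgroup.centralizer (P : Set G)))}
    {e' : Set (IrrCharacter (Subgroup.centralizer (P' : Set G)))}
    (hf : ConjRel x Q Q' f f') (he : ConjRel x P P' e e')
    (h : IsNormalSubpair p M Q f P e) : IsNormalSubpair p M Q' f' P' e' := by
  obtain ⟨rfl, hf2⟩ := hf
  obtain ⟨rfl, he2⟩ := he
  have e1 : f' = conjBlock Q x f := Set.ext fun ξ' => hf2 ξ'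
  have e2 : e' = conjBlock P x e := Set.ext fun ξ' => he2 ξ'
  rw [e1, e2]
  exact isNormalSubpair_conjBlock x h

theorem ConjRel.subpairLE {x : G} {Q Q' P P' : Subgroup G}
    {f : Set (IrrCharacter (Subgroup.centralizer (Q : Set G)))}
    {f' : Set (IrrCharacter (Subgroup.centralizer (Q' : Set G)))}
    {e : Set (IrrCharacter (Subgroup.centralizer (P : Set G)))}
    {e' : Set (IrrCharacter (Subgroup.centralizer (P' : Set G)))}
    (hf : ConjRel x Q Q' f f') (he : ConjRel x P P' e e')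
    (h : SubpairLE p M Q f P e) : SubpairLE p M Q' f' P' e' := by
  obtain ⟨rfl, hf2⟩ := hf
  obtain ⟨rfl, he2⟩ := he
  have e1 : f' = conjBlock Q x f := Set.ext fun ξ' => hf2 ξ'
  have e2 : e' = conjBlock P x e := Set.ext fun ξ' => he2 ξ'
  rw [e1, e2]
  exact subpairLE_conjBlock x h

theorem ConjRel.isBrauerPairOf [Fintype G] {x : G} {Q Q' : Subgroup G}
    {f : Set (IrrCharacter (Subgroup.centralizer (Q : Set G)))}
    {f' : Set (IrrCharacter (Subgroup.centralizer (Q' : Set G)))}
    (hf : ConjRel x Q Q' f f') {B : Set (IrrCharacter G)}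
    (h : IsBrauerPairOf p M B Q f) : IsBrauerPairOf p M B Q' f' := by
  obtain ⟨rfl, hf2⟩ := hf
  have e1 : f' = conjBlock Q x f := Set.ext fun ξ' => hf2 ξ'
  rw [e1]
  exact isBrauerPairOf_conjBlock x h

theorem ConjRel.comp {x y : G} {Q Q' Q'' : Subgroup G}
    {f : Set (IrrCharacter (Subgroup.centralizer (Q : Set G)))}
    {f' : Set (IrrCharacter (Subgroup.centralizer (Q' : Set G)))}
    {f'' : Set (IrrCharacter (Subgroup.centralizer (Q'' : Set G)))}
    (h : ConjRel x Q Q' f f') (h' : ConjRel y Q' Q'' f' f'') :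
    ConjRel (y * x) Q Q'' f f'' := by
  obtain ⟨rfl, hf2⟩ := h
  obtain ⟨rfl, hf3⟩ := h'
  refine ⟨?_, ?_⟩
  · ext g
    simp only [Subgroup.mem_map, MulEquiv.coe_toMonoidHom, MulAut.conj_apply]
    constructor
    · rintro ⟨_, ⟨u, hu, rfl⟩, rfl⟩
      exact ⟨u, hu, by group⟩
    · rintro ⟨u, hu, rfl⟩
      exact ⟨x * u * x⁻¹, ⟨u, hu, rfl⟩, by group⟩
  · intro ξ''
    rw [hf3]
    constructor
    · rintro ⟨ξ', hξ', h1⟩
      obtain ⟨ξ, hξ, h2⟩ := (hf2 ξ').mp hξ'
      refine ⟨ξ, hξ, ?_⟩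
      intro c c'' hc
      have hc' : x * (c : G) * x⁻¹ ∈ Subgroup.centralizer
          ((Q.map (MulAut.conj x).toMonoidHom : Subgroup G) : Set G) :=
        conj_mem_centralizer_map x c.2
      rw [h1 ⟨x * c * x⁻¹, hc'⟩ c'' (by rw [hc]; group), h2 c ⟨x * c * x⁻¹, hc'⟩ rfl]
    · rintro ⟨ξ, hξ, h1⟩
      refine ⟨mapIrr (centEquiv Q x) ξ, ?_, ?_⟩
      · rw [hf2]
        refine ⟨ξ, hξ, ?_⟩
        intro c c' hc
        rw [mapIrr_coe]
        refine congrArg ξ.1 ?_
        apply Subtype.ext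
        rw [centEquiv_symm_apply_coe, hc]
        group
      · intro c' c'' hc
        rw [mapIrr_coe]
        apply h1
        rw [hc, centEquiv_symm_apply_coe]
        group

theorem conjRel_conjSet (Q : Subgroup G) (n : G) (hn : n ∈ Subgroup.normalizer (Q : Set G))
    (hn' : n ∈ Subgroup.normalizer ((Subgroup.centralizer (Q : Set G) : Subgroup G) : Set G))
    (f : Set (IrrCharacter (Subgroup.centralizer (Q : Set G)))) :
    ConjRel n Q Q f (conjSet (Subgroup.centralizer (Q : Set G)) n hn' f) := by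
  refine ⟨(Subgroup.mem_normalizer_iff_map_conj_eq.mp hn).symm, ?_⟩
  intro ξ'
  constructor
  · rintro ⟨ξ, hξ, rfl⟩
    exact ⟨ξ, hξ, isConjCharOf_conjFun _ n hn' ξ.1⟩
  · rintro ⟨ξ, hξ, h⟩
    refine ⟨ξ, hξ, ?_⟩
    apply Subtype.ext
    exact (eq_conjFun_of_isConjCharOf _ n hn' h).symm

end transportPairs

end Cfsg.Agent.Helper77
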