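import Mathlib
import Cfsg.Agent.Lib.Helper77.PairConj
import Cfsg.Agent.Lib.Helper77.ExtFMT

set_option autoImplicit false
set_option linter.unusedSectionVars false
set_option linter.style.haveILetI false

namespace Cfsg.Agent.Helper77

open Cfsg Cfsg.Agent.Helper79

universe u

section orbit2

variable {G : Type u} [Group G] [Fintype G] {M : Ideal AlgInt}

/-- The orbit of a block of `L` under a subgroup `N` normalizing `L`. -/
noncomputable def orbitFinset (L N : Subgroup G) [Fintype N]
    (hNL : N ≤ Subgroup.normalizer (L : Set G)) (b : Set (IrrCharacter L)) :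
    Finset (Set (IrrCharacter L)) := by
  classical exact Finset.univ.image (fun n : N => conjSet L (n : G) (hNL n.2) b)

theorem mem_orbitFinset {L N : Subgroup G} [Fintype N]
    {hNL : N ≤ Subgroup.normalizer (L : Set G)} {b f : Set (IrrCharacter L)} :
    f ∈ orbitFinset L N hNL b ↔ ∃ n, ∃ hn : n ∈ N, f = conjSet L n (hNL hn) b := by
  classical
  unfold orbitFinset
  rw [Finset.mem_image]
  constructor
  · rintro ⟨n, -, rfl⟩
    exact ⟨n, n.2, rfl⟩
  · rintro ⟨n, hn, rfl⟩
    exact ⟨⟨n, hn⟩, Finset.mem_univ _, rfl⟩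

theorem self_mem_orbitFinset (L N : Subgroup G) [Fintype N]
    (hNL : N ≤ Subgroup.normalizer (L : Set G)) (b : Set (IrrCharacter L)) :
    b ∈ orbitFinset L N hNL b :=
  mem_orbitFinset.mpr ⟨1, N.one_mem, (conjSet_one L _ b).symm⟩

theorem isPBlock_of_mem_orbitFinset {L N : Subgroup G} [Fintype N]
    {hNL : N ≤ Subgroup.normalizer (L : Set G)} {b f : Set (IrrCharacter L)}
    (hb : IsPBlock M b) (hf : f ∈ orbitFinset L N hNL b) : IsPBlock M f := by
  obtain ⟨n, hn, rfl⟩ := mem_orbitFinset.mp hf
  exact isPBlock_conjSet L _ _ hb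

theorem conjSet_mem_orbitFinset {L N : Subgroup G} [Fintype N]
    {hNL : N ≤ Subgroup.normalizer (L : Set G)} {b f : Set (IrrCharacter L)}
    (hf : f ∈ orbitFinset L N hNL b) (u : G) (hu : u ∈ N) :
    conjSet L u (hNL hu) f ∈ orbitFinset L N hNL b := by
  obtain ⟨n, hn, rfl⟩ := mem_orbitFinset.mp hf
  exact mem_orbitFinset.mpr ⟨u * n, N.mul_mem hu hn, (conjSet_mul L u n _ _ _ b).symm⟩

theorem conjSet_mem_orbitFinset_iff {L N : Subgroup G} [Fintype N]
    {hNL : N ≤ Subgroup.normalizer (L : Set G)} {b f : Set (IrrCharacter L)}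
    (u : G) (hu : u ∈ N) :
    conjSet L u (hNL hu) f ∈ orbitFinset L N hNL b ↔ f ∈ orbitFinset L N hNL b := by
  constructor
  · intro h
    have := conjSet_mem_orbitFinset h u⁻¹ (N.inv_mem hu)
    rwa [conjSet_inv_conjSet] at this
  · intro h
    exact conjSet_mem_orbitFinset h u hu

/-- The sum of the idempotents of the blocks in an orbit, as a function on `G`. -/
noncomputable def orbitSum (L N : Subgroup G) [Fintype N]
    (hNL : N ≤ Subgroup.normalizer (L : Set G)) (b : Set (IrrCharacter L)) : G → ℂ :=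
  ∑ f ∈ orbitFinset L N hNL b, subgroupBlockCoeff L f

theorem orbitSum_conj (L N : Subgroup G) [Fintype N]
    (hNL : N ≤ Subgroup.normalizer (L : Set G)) (b : Set (IrrCharacter L))
    (u : G) (hu : u ∈ N) (x : G) :
    orbitSum L N hNL b (u * x * u⁻¹) = orbitSum L N hNL b x := by
  classical
  have hu' : u⁻¹ ∈ N := N.inv_mem hu
  unfold orbitSum
  rw [Finset.sum_apply, Finset.sum_apply]
  refine Finset.sum_nbij' (fun f => conjSet L u⁻¹ (hNL hu') f)
    (fun f => conjSet L u (hNL hu) f) ?_ ?_ ?_ ?_ ?_
  · intro f hf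
    exact conjSet_mem_orbitFinset hf u⁻¹ hu'
  · intro f hf
    exact conjSet_mem_orbitFinset hf u hu
  · intro f _
    exact conjSet_conjSet_inv L u _ _ f
  · intro f _
    exact conjSet_inv_conjSet L u _ _ f
  · intro f _
    rw [subgroupBlockCoeff_conjSet, inv_inv]

theorem orbitSum_eq_extZ (L N : Subgroup G) [Fintype N]
    (hNL : N ≤ Subgroup.normalizer (L : Set G)) (b : Set (IrrCharacter L)) :
    orbitSum L N hNL b = extZ L (∑ f ∈ orbitFinset L N hNL b, blockCoeff f) := by
  unfold orbitSum
  simp only [subgroupBlockCoeff_eq_extZ]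
  rw [extZ_sum]

theorem restr_orbitSum (L N : Subgroup G) [Fintype N]
    (hNL : N ≤ Subgroup.normalizer (L : Set G)) (b : Set (IrrCharacter L)) :
    restr L (orbitSum L N hNL b) = ∑ f ∈ orbitFinset L N hNL b, blockCoeff f := by
  rw [orbitSum_eq_extZ, restr_extZ]

theorem orbitSum_of_notMem (L N : Subgroup G) [Fintype N]
    (hNL : N ≤ Subgroup.normalizer (L : Set G)) (b : Set (IrrCharacter L)) {g : G}
    (hg : g ∉ L) : orbitSum L N hNL b g = 0 := by
  rw [orbitSum_eq_extZ, extZ_of_notMem _ _ hg]

theorem isRValued_orbitSum [hpr : M.IsPrime] (L N : Subgroup G) [Fintype L] [Fintype N]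
    (hNL : N ≤ Subgroup.normalizer (L : Set G)) {b : Set (IrrCharacter L)}
    (hb : IsPBlock M b) : IsRValued M (orbitSum L N hNL b) := by
  intro g
  unfold orbitSum
  rw [Finset.sum_apply]
  exact memLocalRing_sum _ _ fun f hf =>
    isRValued_subgroupBlockCoeff L (isPBlock_of_mem_orbitFinset hb hf) g

theorem omega_restr_orbitSum [hpr : M.IsPrime] (L N : Subgroup G) [Fintype L] [Fintype N]
    (hNL : N ≤ Subgroup.normalizer (L : Set G)) {b : Set (IrrCharacter L)}
    (hb : IsPBlock M b) (θ : IrrCharacter L) :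
    omega (θ : L → ℂ) (restr L (orbitSum L N hNL b)) =
      by classical exact if blockOf M (θ : L → ℂ) ∈ orbitFinset L N hNL b then 1 else 0 := by
  rw [restr_orbitSum]
  exact omega_sum_blockCoeff _ (fun f hf => isPBlock_of_mem_orbitFinset hb hf) θ

end orbit2

section pieces

variable {G : Type u} [Group G] [Fintype G] {p : ℕ} {M : Ideal AlgInt}

open Classical in
/-- The non-stable blocks contribute nothing modulo `M` to an invariant weighted sum. -/
theorem memLocalIdeal_sum_nonstable (hM : IsPModular p M) (K R : Subgroup G) [Fintype K]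
    (hR : IsPGroup p R) (hRK : R ≤ Subgroup.normalizer (K : Set G))
    (t : Set (IrrCharacter K) → ℂ)
    (htinv : ∀ u (hu : u ∈ R) f, t (conjSet K u (hRK hu) f) = t f)
    (htR : ∀ f, IsPBlock M f → MemLocalRing M (t f)) :
    MemLocalIdeal M (∑ f ∈ (allBlocks M K).filter (fun f => ¬ IsStableSet K R hRK f), t f) := by
  classical
  haveI hpr := isPrime_of_isPModular hM
  have hp0 : (p : ℂ) ≠ 0 := by exact_mod_cast hM.1.ne_zero
  letI := nonStableAction M K R hRK
  haveI : Fintype (NonStableBlock M K R hRK) := by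
    unfold NonStableBlock
    exact Fintype.ofFinite _
  have hkey := memLocalRing_sum_div_of_no_fixedPoints hM (P := R) hR
    (X := NonStableBlock M K R hRK)
    (fun f => by
      have hnot := f.2.2
      unfold IsStableSet at hnot
      push Not at hnot
      obtain ⟨x, hx, hne⟩ := hnot
      exact ⟨⟨x, hx⟩, fun h => hne (congrArg Subtype.val h)⟩)
    (fun f => t f.1)
    (fun u f => htinv u u.2 f.1)
    (fun f => htR f.1 f.2.1)
  have heq : ∑ f ∈ (allBlocks M K).filter (fun f => ¬ IsStableSet K R hRK f), t f =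
      ∑ f : NonStableBlock M K R hRK, t f.1 := by
    symm
    refine Finset.sum_bij (fun f _ => f.1) (fun f _ => ?_) (fun f _ g _ h => Subtype.ext h)
      (fun f hf => ?_) (fun f _ => rfl)
    · exact Finset.mem_filter.mpr ⟨mem_allBlocks.mpr f.2.1, f.2.2⟩
    · obtain ⟨h1, h2⟩ := Finset.mem_filter.mp hf
      exact ⟨⟨f, mem_allBlocks.mp h1, h2⟩, Finset.mem_univ _, rfl⟩
  rw [heq]
  have := memLocalIdeal_mul_right ((memLocalIdeal_natCast_iff hM p).mpr dvd_rfl) hkey
  rwa [mul_div_cancel₀ _ hp0] at this

/-- Upward existence of normal subpairs: a stable block of `C_G(P)` whose idempotent does not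
vanish on `C_G(R)` lies below some pair at `R`. -/
theorem exists_isNormalSubpair_above [Fact p.Prime] (hM : IsPModular p M) (P R : Subgroup G)
    (hR : IsPGroup p R) (hPR : P ≤ R) (hRN : R ≤ Subgroup.normalizer (P : Set G))
    {e : Set (IrrCharacter (Subgroup.centralizer (P : Set G)))} (he : IsPBlock M e)
    (hst : IsStableSet (Subgroup.centralizer (P : Set G)) R
      (hRN.trans (normalizer_le_normalizer_centralizer P)) e)
    {x : G} (hx : x ∈ Subgroup.centralizer (R : Set G))
    (hne : ¬ MemLocalIdeal M (subgroupBlockCoeff (Subgroup.centralizer (P : Set G)) e x)) :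
    ∃ g : Set (IrrCharacter (Subgroup.centralizer (R : Set G))),
      IsNormalSubpair p M P e R g := by
  classical
  haveI hpr := isPrime_of_isPModular hM
  haveI : Fintype (Subgroup.centralizer (P : Set G)) := Fintype.ofFinite _
  haveI : Fintype (Subgroup.centralizer (R : Set G)) := Fintype.ofFinite _
  have hP : IsPGroup p P := hR.to_le hPR
  have hCRP : Subgroup.centralizer (R : Set G) ≤ Subgroup.centralizer (P : Set G) :=
    Subgroup.centralizer_le (by exact_mod_cast hPR)
  have hβR : IsRValued M (subgroupBlockCoeff (Subgroup.centralizer (P : Set G)) e) :=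
    isRValued_subgroupBlockCoeff _ he
  have hβinvR : ∀ u ∈ R, ∀ y, subgroupBlockCoeff (Subgroup.centralizer (P : Set G)) e
      (u * y * u⁻¹) = subgroupBlockCoeff (Subgroup.centralizer (P : Set G)) e y :=
    subgroupBlockCoeff_conj_of_stable _ R _ hst
  have hβinvC : ∀ u ∈ Subgroup.centralizer (R : Set G), ∀ y,
      subgroupBlockCoeff (Subgroup.centralizer (P : Set G)) e (u * y * u⁻¹) =
        subgroupBlockCoeff (Subgroup.centralizer (P : Set G)) e y :=
    fun u hu y => subgroupBlockCoeff_conj_of_mem _ e u (hCRP hu) y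
  -- the restriction to C_G(R)
  have hacl : IsClassFunction (Subgroup.centralizer (R : Set G))
      (cutC R (Subgroup.centralizer (R : Set G))
        (subgroupBlockCoeff (Subgroup.centralizer (P : Set G)) e)) :=
    isClassFunction_cutC (Subgroup.centralizer_le_normalizer _) hβinvC
  have haR : IsRValued M (cutC R (Subgroup.centralizer (R : Set G))
      (subgroupBlockCoeff (Subgroup.centralizer (P : Set G)) e)) := isRValued_cutC R _ hβR
  have hidem : EqMod M (conv (cutC R (Subgroup.centralizer (R : Set G))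
      (subgroupBlockCoeff (Subgroup.centralizer (P : Set G)) e))
      (cutC R (Subgroup.centralizer (R : Set G))
      (subgroupBlockCoeff (Subgroup.centralizer (P : Set G)) e)))
      (cutC R (Subgroup.centralizer (R : Set G))
      (subgroupBlockCoeff (Subgroup.centralizer (P : Set G)) e)) := by
    obtain ⟨r, hr, hreq⟩ := cutC_conv hM R (Subgroup.centralizer (R : Set G)) hR le_rfl
      _ _ hβR hβR hβinvR hβinvR
    rw [conv_subgroupBlockCoeff_self] at hreq
    intro g
    have hg := congrFun hreq g
    simp only [Pi.add_apply, Pi.smul_apply, smul_eq_mul] at hg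
    rw [hg]
    have : ∀ a b : ℂ, a - (a + b) = -b := fun a b => by ring
    rw [this]
    exact memLocalIdeal_neg (memLocalIdeal_mul_right (memLocalIdeal_natCast_self hM) (hr g))
  have hne' : ¬ MemLocalIdeal M (cutC R (Subgroup.centralizer (R : Set G))
      (subgroupBlockCoeff (Subgroup.centralizer (P : Set G)) e) ⟨x, hx⟩) := by
    rw [cutC_of_mem _ _ _ hx]
    exact hne
  obtain ⟨ξ, hξ1⟩ := exists_block_of_idem hacl haR hidem hne'
  rw [cutC_self] at hξ1
  refine ⟨blockOf M (ξ : Subgroup.centralizer (R : Set G) → ℂ), ⟨hP, he⟩,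
    ⟨hR, isPBlock_blockOf ξ⟩, hPR, hRN, ?_, ?_⟩
  · intro u hu
    rw [stabilizesBlock_iff_conjSet_eq _ u
      ((hRN.trans (normalizer_le_normalizer_centralizer P)) hu) he]
    exact hst u hu
  · intro ξ' hξ'
    have h1 := memLocalIdeal_brauerOmega_sub_of_invariant (M := M) R hβR hβinvC ξ'.2 ξ.2
      (sameBlock_symm hξ')
    rw [brauerOmega_eq_omega R _ (ξ : Subgroup.centralizer (R : Set G) → ℂ)] at h1
    have := memLocalIdeal_add h1 hξ1
    rwa [sub_add_sub_cancel] at this

/-- The Brauer homomorphism at `P` followed by a central character of `C_G(P)` is an algebra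
homomorphism modulo `M`. -/
theorem isModHom_wOf_centralizer (hM : IsPModular p M) (P : Subgroup G)
    [Fintype (Subgroup.centralizer (P : Set G))] (hP : IsPGroup p P)
    {ξ : Subgroup.centralizer (P : Set G) → ℂ}
    (hξ : IsIrrCharacter (Subgroup.centralizer (P : Set G)) ξ) :
    IsModHom M (wOf (Subgroup.centralizer (P : Set G)) ξ) := by
  haveI hpr := isPrime_of_isPModular hM
  have key : ∀ a : G → ℂ, wsum (wOf (Subgroup.centralizer (P : Set G)) ξ) a =
      brauerOmega P a ξ := by
    intro a
    rw [wsum_wOf, brauerOmega_eq_omega]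
    rfl
  refine ⟨?_, ?_, ?_⟩
  · intro a ha haR
    rw [key]
    exact memLocalRing_brauerOmega P ha haR hξ
  · rw [key, brauerOmega_delta P (irrChar_one_ne_zero hξ), sub_self]
    exact memLocalIdeal_zero hpr.ne_top
  · intro a b ha hb haR hbR
    rw [key, key, key]
    exact brauerOmega_conv hM P hP ha hb haR hbR hξ

end pieces

section main

variable {G : Type u} [Group G] [Fintype G] {p : ℕ} {M : Ideal AlgInt}

/-- Classes in the support of the orbit sum of a maximal Brauer pair have defect group `P`. -/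
theorem isMaxPIn_of_isMaximalBrauerPair [Fact p.Prime] (hM : IsPModular p M)
    {B : Set (IrrCharacter G)} {P : Subgroup G}
    {e : Set (IrrCharacter (Subgroup.centralizer (P : Set G)))}
    (hmax : IsMaximalBrauerPair p M B P e)
    [Fintype (Subgroup.normalizer (P : Set G))] [Fintype (Subgroup.centralizer (P : Set G))]
    (x : G) (hx : ¬ MemLocalIdeal M (orbitSum (Subgroup.centralizer (P : Set G))
      (Subgroup.normalizer (P : Set G)) (normalizer_le_normalizer_centralizer P) e x)) :
    IsMaxPIn p P x := by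
  classical
  haveI hpr := isPrime_of_isPModular hM
  obtain ⟨⟨⟨hP, he⟩, hB, hBe⟩, hmx⟩ := hmax
  have hNC := normalizer_le_normalizer_centralizer P
  intro R hR hPR hRN hRx
  by_contra hne
  have hxR : x ∈ Subgroup.centralizer (R : Set G) := le_centralizer_singleton_iff.mp hRx
  have hRK : R ≤ Subgroup.normalizer
      ((Subgroup.centralizer (P : Set G) : Subgroup G) : Set G) := hRN.trans hNC
  let t : Set (IrrCharacter (Subgroup.centralizer (P : Set G))) → ℂ := fun f =>
    if f ∈ orbitFinset (Subgroup.centralizer (P : Set G)) (Subgroup.normalizer (P : Set G)) hNC e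
    then subgroupBlockCoeff (Subgroup.centralizer (P : Set G)) f x else 0
  have htinv : ∀ u (hu : u ∈ R) f, t (conjSet _ u (hRK hu) f) = t f := by
    intro u hu f
    simp only [t]
    have hiff := conjSet_mem_orbitFinset_iff (hNL := hNC) (b := e) (f := f) u (hRN hu)
    by_cases hf : f ∈ orbitFinset (Subgroup.centralizer (P : Set G))
        (Subgroup.normalizer (P : Set G)) hNC e
    · rw [if_pos hf, if_pos (hiff.mpr hf), subgroupBlockCoeff_conjSet]
      congr 1
      have h1 := hRx hu
      rw [Subgroup.mem_centralizer_iff] at h1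
      have h2 := h1 x rfl
      rw [mul_assoc, h2, ← mul_assoc, inv_mul_cancel, one_mul]
    · rw [if_neg hf, if_neg (fun h => hf (hiff.mp h))]
  have htR : ∀ f, IsPBlock M f → MemLocalRing M (t f) := by
    intro f hf
    simp only [t]
    split_ifs
    · exact isRValued_subgroupBlockCoeff _ hf x
    · exact memLocalRing_zero hpr.ne_top
  have hns := memLocalIdeal_sum_nonstable hM _ R hR hRK t htinv htR
  have htot : ∑ f ∈ allBlocks M (Subgroup.centralizer (P : Set G)), t f =
      orbitSum (Subgroup.centralizer (P : Set G)) (Subgroup.normalizer (P : Set G)) hNC e x := by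
    simp only [t]
    rw [← Finset.sum_filter]
    unfold orbitSum
    rw [Finset.sum_apply]
    refine Finset.sum_congr ?_ fun _ _ => rfl
    ext f
    simp only [Finset.mem_filter, mem_allBlocks]
    exact ⟨fun h => h.2, fun h => ⟨isPBlock_of_mem_orbitFinset he h, h⟩⟩
  have hex : ∃ f ∈ (allBlocks M (Subgroup.centralizer (P : Set G))).filter
      (fun f => IsStableSet _ R hRK f), ¬ MemLocalIdeal M (t f) := by
    by_contra hcon
    push Not at hcon
    have h1 := memLocalIdeal_sum (M := M) _ t hcon
    have h2 := memLocalIdeal_add h1 hns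
    rw [Finset.sum_filter_add_sum_filter_not, htot] at h2
    exact hx h2
  obtain ⟨f, hfmem, hft⟩ := hex
  obtain ⟨hfB, hfst⟩ := Finset.mem_filter.mp hfmem
  have hfO : f ∈ orbitFinset (Subgroup.centralizer (P : Set G))
      (Subgroup.normalizer (P : Set G)) hNC e := by
    by_contra h
    apply hft
    simp only [t]
    rw [if_neg h]
    exact memLocalIdeal_zero hpr.ne_top
  have hfx : ¬ MemLocalIdeal M (subgroupBlockCoeff (Subgroup.centralizer (P : Set G)) f x) := by
    have := hft
    simp only [t] at this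
    rwa [if_pos hfO] at this
  obtain ⟨g, hg⟩ := exists_isNormalSubpair_above hM P R hR hPR hRN (mem_allBlocks.mp hfB) hfst
    hxR hfx
  obtain ⟨n, hn, rfl⟩ := mem_orbitFinset.mp hfO
  have hn' : n⁻¹ ∈ Subgroup.normalizer (P : Set G) := Subgroup.inv_mem _ hn
  have hrel1 : ConjRel n⁻¹ P P (conjSet (Subgroup.centralizer (P : Set G)) n (hNC hn) e) e := by
    have := conjRel_conjSet P n⁻¹ hn' (hNC hn')
      (conjSet (Subgroup.centralizer (P : Set G)) n (hNC hn) e)
    rwa [conjSet_inv_conjSet] at this
  have hrel2 := conjRel_conjBlock n⁻¹ R g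
  have hns' := hrel1.isNormalSubpair hrel2 hg
  have hle : SubpairLE p M P e _ _ := Relation.ReflTransGen.single hns'
  have hBpair : IsBrauerPairOf p M B _ (conjBlock R n⁻¹ g) :=
    (isBrauerPairOf_iff_of_subpairLE hM _ P _ e hns'.2.1 ⟨hP, he⟩ hle B hB).mpr
      ⟨⟨hP, he⟩, hB, hBe⟩
  have hRP := hmx _ _ hBpair hle
  have hcard : Nat.card R = Nat.card P := by
    rw [← hRP, Subgroup.card_map_of_injective (MulAut.conj n⁻¹).injective]
  exact hne (Subgroup.eq_of_le_of_card_ge hPR hcard.le).symm

/-- **Maximal Brauer pairs have defect groups as first components** (S4659). -/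
theorem isDefectGroup_of_isMaximalBrauerPair [Fact p.Prime] (hM : IsPModular p M)
    {B : Set (IrrCharacter G)} {P : Subgroup G}
    {e : Set (IrrCharacter (Subgroup.centralizer (P : Set G)))}
    (hmax : IsMaximalBrauerPair p M B P e) : IsDefectGroup p M B P := by
  classical
  haveI hpr := isPrime_of_isPModular hM
  haveI : Fintype (Subgroup.normalizer (P : Set G)) := Fintype.ofFinite _
  haveI : Fintype (Subgroup.centralizer (P : Set G)) := Fintype.ofFinite _
  have hmax' := hmax
  obtain ⟨⟨⟨hP, he⟩, hB, hBe⟩, hmx⟩ := hmax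
  have hNC := normalizer_le_normalizer_centralizer P
  have hCN : Subgroup.centralizer (P : Set G) ≤ Subgroup.normalizer (P : Set G) :=
    Subgroup.centralizer_le_normalizer _
  have hEcl : IsClassFunction (Subgroup.normalizer (P : Set G))
      (restr (Subgroup.normalizer (P : Set G)) (orbitSum _ _ hNC e)) :=
    isClassFunction_restr _ (orbitSum_conj _ _ hNC e)
  have hER : IsRValued M (restr (Subgroup.normalizer (P : Set G)) (orbitSum _ _ hNC e)) :=
    isRValued_restr _ (isRValued_orbitSum _ _ hNC he)
  have hsupp : ∀ x : Subgroup.normalizer (P : Set G),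
      (x : G) ∉ Subgroup.centralizer (P : Set G) →
      restr (Subgroup.normalizer (P : Set G)) (orbitSum _ _ hNC e) x = 0 :=
    fun x hx => orbitSum_of_notMem _ _ hNC e hx
  have hmaxP : ∀ x : Subgroup.normalizer (P : Set G),
      ¬ MemLocalIdeal M (restr (Subgroup.normalizer (P : Set G)) (orbitSum _ _ hNC e) x) →
      IsMaxPIn p P (x : G) := fun x hx => isMaxPIn_of_isMaximalBrauerPair hM hmax' x hx
  obtain ⟨z, hz, hzR, hzD, hzE⟩ := exists_lift_of_isMaxPIn hM P hP hEcl hER hsupp hmaxP
  obtain ⟨ξ, hξ⟩ := nonempty_of_isPBlock he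
  have hw := isModHom_wOf_centralizer hM P hP ξ.2
  have hB1 : MemLocalIdeal M (wsum (wOf (Subgroup.centralizer (P : Set G))
      (ξ : Subgroup.centralizer (P : Set G) → ℂ)) (blockCoeff B) - 1) := by
    rw [wsum_wOf]
    have := hBe ξ hξ
    rw [brauerOmega_eq_omega] at this
    exact this
  obtain ⟨χ, hχ⟩ := nonempty_of_isPBlock hB
  have h1 := hw.congr_omega hB hB1 hχ hz hzR
  rw [wsum_wOf] at h1
  have h2 : EqMod M (restr (Subgroup.centralizer (P : Set G)) z)
      (restr (Subgroup.centralizer (P : Set G)) (orbitSum _ _ hNC e)) := by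
    intro c
    have := hzE ⟨c, hCN c.2⟩
    rwa [cutC_of_mem P (Subgroup.normalizer (P : Set G)) z (h := ⟨c, hCN c.2⟩) c.2] at this
  have hzcl : IsClassFunction (Subgroup.centralizer (P : Set G))
      (restr (Subgroup.centralizer (P : Set G)) z) :=
    isClassFunction_restr _ (fun u _ x => hz x u)
  have hEclC : IsClassFunction (Subgroup.centralizer (P : Set G))
      (restr (Subgroup.centralizer (P : Set G)) (orbitSum _ _ hNC e)) :=
    isClassFunction_restr _ (fun u hu x => orbitSum_conj _ _ hNC e u (hCN hu) x)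
  have h3 := memLocalIdeal_omega_sub_of_eqMod ξ.2 hzcl hEclC h2
  rw [omega_restr_orbitSum _ _ hNC he ξ, if_pos (by
    rw [← eq_blockOf_of_mem he hξ]; exact self_mem_orbitFinset _ _ hNC e)] at h3
  have hne : ¬ MemLocalIdeal M (omega (χ : G → ℂ) z) := by
    intro h4
    have h5 := memLocalIdeal_sub (memLocalIdeal_add h1 h4) h3
    have e1 : ∀ a b : ℂ, a - b + b - (a - 1) = 1 := fun a b => by ring
    rw [e1] at h5
    exact not_memLocalIdeal_one h5
  have hQ := (isConvIdeal_defectLE hM P).blockCoeff_mem hB ⟨hz, hzR, hzD⟩ hχ hne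
  obtain ⟨D, hD⟩ := exists_isDefectGroup (M := M) p hB
  have hcard : Nat.card D ≤ Nat.card P := card_le_of_defectLE hQ.2.2 hD
  have hdefD := defectLE_of_isDefectGroup hM hB hD
  have hex : ∃ c : Subgroup.centralizer (P : Set G), ¬ MemLocalIdeal M (blockCoeff B c) := by
    by_contra hcon
    push Not at hcon
    have h6 := memLocalIdeal_omega_of_eqMod_zero ξ.2
      (isClassFunction_restrict (Subgroup.centralizer (P : Set G)) (isClassFunction_blockCoeff B))
      hcon
    have h7 := hBe ξ hξ
    rw [brauerOmega_eq_omega] at h7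
    have := memLocalIdeal_sub h6 h7
    rw [sub_sub_cancel] at this
    exact not_memLocalIdeal_one this
  obtain ⟨c, hc⟩ := hex
  obtain ⟨y, hy⟩ := hdefD c hc P hP (le_centralizer_singleton_iff.mpr c.2)
  have hPD : P.map (MulAut.conj y).toMonoidHom = D := by
    refine Subgroup.eq_of_le_of_card_ge hy ?_
    rw [Subgroup.card_map_of_injective (MulAut.conj y).injective]
    exact hcard
  have hP' : P = D.map (MulAut.conj y⁻¹).toMonoidHom := by
    rw [← hPD, Subgroup.map_map]
    ext g
    simp [MulAut.conj_apply, mul_assoc]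
  rw [hP']
  exact isDefectGroup_conj hD y⁻¹

end main

end Cfsg.Agent.Helper77
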