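import Mathlib
import Cfsg.Agent.Lib.Helper77.MaxPair

set_option autoImplicit false
set_option linter.unusedSectionVars false
set_option linter.style.haveILetI false

namespace Cfsg.Agent.Helper77

open Cfsg Cfsg.Agent.Helper79

universe u

section conjugacy

variable {G : Type u} [Group G] [Fintype G] {p : ℕ} {M : Ideal AlgInt}

/-- Every Brauer pair of `B` lies below a maximal one. -/
theorem exists_maximal_above (B : Set (IrrCharacter G)) :
    ∀ (n : ℕ) (Q : Subgroup G) (f : Set (IrrCharacter (Subgroup.centralizer (Q : Set G)))),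
      IsBrauerPairOf p M B Q f → Nat.card G - Nat.card Q = n →
      ∃ (P : Subgroup G) (e : Set (IrrCharacter (Subgroup.centralizer (P : Set G)))),
        IsMaximalBrauerPair p M B P e ∧ SubpairLE p M Q f P e := by
  intro n
  induction n using Nat.strong_induction_on with
  | _ n ih =>
    intro Q f hQf hn
    by_cases hmax : IsMaximalBrauerPair p M B Q f
    · exact ⟨Q, f, hmax, Relation.ReflTransGen.refl⟩
    · unfold IsMaximalBrauerPair at hmax
      push Not at hmax
      obtain ⟨R, g, hRg, hle, hne⟩ := hmax hQf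
      have hQR : Q ≤ R := le_of_reflTransGen hle
      have hlt : Q < R := lt_of_le_of_ne hQR (Ne.symm hne)
      have hcard : Nat.card Q < Nat.card R := card_lt_of_lt hlt
      have hRG : Nat.card R ≤ Nat.card G := Subgroup.card_le_card_group R
      obtain ⟨P, e, hPe, hle'⟩ := ih (Nat.card G - Nat.card R) (by omega) R g hRg rfl
      exact ⟨P, e, hPe, hle.trans hle'⟩

/-- Defect groups are conjugate. -/
theorem exists_conj_eq_of_isDefectGroup [Fact p.Prime] (hM : IsPModular p M)
    {B : Set (IrrCharacter G)} (hB : IsPBlock M B) {D D' : Subgroup G}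
    (hD : IsDefectGroup p M B D) (hD' : IsDefectGroup p M B D') :
    ∃ y : G, D'.map (MulAut.conj y).toMonoidHom = D := by
  have hdefD := defectLE_of_isDefectGroup hM hB hD
  have hcard := card_eq_of_isDefectGroup hM hB hD hD'
  obtain ⟨g', hg', S', rfl⟩ := hD'
  obtain ⟨y, hy⟩ := hdefD g' hg'.2.1 _ (sylow_map_isPGroup g' S')
    (sylow_map_le_centralizer g' S')
  refine ⟨y, Subgroup.eq_of_le_of_card_ge hy ?_⟩
  rw [Subgroup.card_map_of_injective (MulAut.conj y).injective]
  exact hcard.le

theorem ConjRel.subpairLE_conjBlock_of {x : G} {Q Q'' P : Subgroup G}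
    {f : Set (IrrCharacter (Subgroup.centralizer (Q : Set G)))}
    {f'' : Set (IrrCharacter (Subgroup.centralizer (Q'' : Set G)))}
    {e : Set (IrrCharacter (Subgroup.centralizer (P : Set G)))}
    (h : ConjRel x Q Q'' f f'') (hle : SubpairLE p M Q'' f'' P e) :
    SubpairLE p M (Q.map (MulAut.conj x).toMonoidHom) (conjBlock Q x f) P e := by
  obtain ⟨rfl, h2⟩ := h
  have e1 : f'' = conjBlock Q x f := Set.ext fun ξ' => h2 ξ'
  rw [← e1]
  exact hle

/-- Two maximal Brauer pairs of `B` with the same first component are conjugate under its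
normalizer. -/
theorem exists_conjSet_eq_of_isBrauerPairOf [Fact p.Prime] (hM : IsPModular p M)
    {B : Set (IrrCharacter G)} {P : Subgroup G} (hPD : IsDefectGroup p M B P)
    {e e₁ : Set (IrrCharacter (Subgroup.centralizer (P : Set G)))}
    (he : IsBrauerPairOf p M B P e) (he₁ : IsBrauerPairOf p M B P e₁) :
    ∃ n, ∃ hn : n ∈ Subgroup.normalizer (P : Set G),
      e = conjSet (Subgroup.centralizer (P : Set G)) n
        (normalizer_le_normalizer_centralizer P hn) e₁ := by
  classical
  haveI hpr := isPrime_of_isPModular hM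
  haveI : Fintype (Subgroup.normalizer (P : Set G)) := Fintype.ofFinite _
  haveI : Fintype (Subgroup.centralizer (P : Set G)) := Fintype.ofFinite _
  have hP := he.1.1
  have hB := he.2.1
  have hNC := normalizer_le_normalizer_centralizer P
  have hCN : Subgroup.centralizer (P : Set G) ≤ Subgroup.normalizer (P : Set G) :=
    Subgroup.centralizer_le_normalizer _
  obtain ⟨c, hc, hcD, hindc⟩ := fmt_exists hM P hP hB hPD
  have hBc := fmt_brauer hM P hP hPD hindc
  have hsupp : ∀ g, g ∉ Subgroup.centralizer (P : Set G) →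
      subgroupBlockCoeff (Subgroup.normalizer (P : Set G)) c g = 0 := by
    intro g hg
    rw [subgroupBlockCoeff_eq_extZ]
    by_cases hgN : g ∈ Subgroup.normalizer (P : Set G)
    · rw [extZ_of_mem' _ _ hgN]
      exact blockCoeff_eq_zero_of_notMem_centralizer hM P hP hc ⟨g, hgN⟩ hg
    · exact extZ_of_notMem _ _ hgN
  have hγ : EqMod M (restr (Subgroup.centralizer (P : Set G))
      (subgroupBlockCoeff (Subgroup.normalizer (P : Set G)) c))
      (restr (Subgroup.centralizer (P : Set G)) (blockCoeff B)) := by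
    intro x
    have e1 : restr (Subgroup.centralizer (P : Set G))
        (subgroupBlockCoeff (Subgroup.normalizer (P : Set G)) c) x =
        blockCoeff c ⟨x, hCN x.2⟩ := extZ_of_mem' _ _ (hCN x.2)
    rw [e1]
    have := hBc ⟨x, hCN x.2⟩
    rw [cutC_of_mem P (Subgroup.normalizer (P : Set G)) (blockCoeff B)
      (h := ⟨x, hCN x.2⟩) x.2] at this
    have h2 := memLocalIdeal_neg this
    rwa [neg_sub] at h2
  have hγcl : IsClassFunction _ (restr (Subgroup.centralizer (P : Set G))
      (subgroupBlockCoeff (Subgroup.normalizer (P : Set G)) c)) :=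
    isClassFunction_restr _ (fun u hu x => subgroupBlockCoeff_conj_of_mem _ c u (hCN hu) x)
  have hBcl : IsClassFunction _ (restr (Subgroup.centralizer (P : Set G)) (blockCoeff B)) :=
    isClassFunction_restr _ (fun u _ x => isClassFunction_blockCoeff B x u)
  have key : ∀ {e₀ : Set (IrrCharacter (Subgroup.centralizer (P : Set G)))},
      IsBrauerPairOf p M B P e₀ → ∀ {ξ : IrrCharacter (Subgroup.centralizer (P : Set G))},
      ξ ∈ e₀ → MemLocalIdeal M (omega (ξ : Subgroup.centralizer (P : Set G) → ℂ)
        (restr (Subgroup.centralizer (P : Set G))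
          (subgroupBlockCoeff (Subgroup.normalizer (P : Set G)) c)) - 1) := by
    intro e₀ he₀ ξ hξ
    have h1 : MemLocalIdeal M (omega (ξ : Subgroup.centralizer (P : Set G) → ℂ)
        (restr (Subgroup.centralizer (P : Set G)) (blockCoeff B)) - 1) := by
      have h0 := he₀.2.2 ξ hξ
      rw [brauerOmega_eq_omega] at h0
      exact h0
    have h2 := memLocalIdeal_omega_sub_of_eqMod ξ.2 hγcl hBcl hγ
    have := memLocalIdeal_add h2 h1
    rwa [sub_add_sub_cancel] at this
  obtain ⟨ξ, hξ⟩ := nonempty_of_isPBlock he.1.2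
  obtain ⟨ξ₁, hξ₁⟩ := nonempty_of_isPBlock he₁.1.2
  exact exists_conj_of_omega_one _ _ hCN hNC hc hsupp he₁.1.2 he.1.2 hξ₁ hξ
    (key he₁ hξ₁) (key he hξ)

/-- **Conjugacy of maximal Brauer pairs** (S4660). -/
theorem exists_conj_subpairLE [Fact p.Prime] (hM : IsPModular p M)
    {B : Set (IrrCharacter G)} {P Q : Subgroup G}
    {e : Set (IrrCharacter (Subgroup.centralizer (P : Set G)))}
    {f : Set (IrrCharacter (Subgroup.centralizer (Q : Set G)))}
    (hmax : IsMaximalBrauerPair p M B P e) (hQf : IsBrauerPairOf p M B Q f) :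
    ∃ x : G, SubpairLE p M (Q.map (MulAut.conj x).toMonoidHom) (conjBlock Q x f) P e := by
  classical
  have hB := hQf.2.1
  obtain ⟨P₁, e₁, hmax₁, hle₁⟩ := exists_maximal_above (p := p) (M := M) B _ Q f hQf rfl
  have hPD := isDefectGroup_of_isMaximalBrauerPair hM hmax
  have hP₁D := isDefectGroup_of_isMaximalBrauerPair hM hmax₁
  obtain ⟨y, hy⟩ := exists_conj_eq_of_isDefectGroup hM hB hPD hP₁D
  obtain ⟨e₁', hrel⟩ := ConjRel.exists_of_eq y P₁ P e₁ hy.symm
  have hle₂ : SubpairLE p M (Q.map (MulAut.conj y).toMonoidHom) (conjBlock Q y f) P e₁' :=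
    (conjRel_conjBlock y Q f).subpairLE hrel hle₁
  have he₁' : IsBrauerPairOf p M B P e₁' := hrel.isBrauerPairOf hmax₁.1
  obtain ⟨n, hn, hen⟩ := exists_conjSet_eq_of_isBrauerPairOf hM hPD hmax.1 he₁'
  have hrel₂ : ConjRel n P P e₁' e := by
    have := conjRel_conjSet P n hn (normalizer_le_normalizer_centralizer P hn) e₁'
    rwa [← hen] at this
  have hle₃ := (conjRel_conjBlock n (Q.map (MulAut.conj y).toMonoidHom)
    (conjBlock Q y f)).subpairLE hrel₂ hle₂
  have hcomp := (conjRel_conjBlock y Q f).comp (conjRel_conjBlock n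
    (Q.map (MulAut.conj y).toMonoidHom) (conjBlock Q y f))
  exact ⟨n * y, hcomp.subpairLE_conjBlock_of hle₃⟩

end conjugacy

end Cfsg.Agent.Helper77
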