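import Mathlib
import Cfsg.Agent.Lib.Helper77.PairConjugacy
import Cfsg.Agent.Lib.Helper77.Subpairs
import Cfsg.Agent.Lib.Helper77.Principal

set_option autoImplicit false
set_option linter.unusedSectionVars false
set_option linter.style.haveILetI false

namespace Cfsg.Agent.Helper77

open Cfsg Cfsg.Agent.Helper79

universe u

section third

variable {G : Type u} [Group G] [Fintype G] {p : ℕ} {M : Ideal AlgInt}

/-- The Brauer map followed by the trivial central character is the augmentation modulo `M`. -/
theorem brauerOmega_trivIrr_sub_sum (hM : IsPModular p M) (R : Subgroup G)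
    [Fintype (Subgroup.centralizer (R : Set G))] (hR : IsPGroup p R) (β : G → ℂ)
    (hβR : IsRValued M β) (hβinv : ∀ u ∈ R, ∀ x, β (u * x * u⁻¹) = β x) :
    MemLocalIdeal M (brauerOmega R β
      ((trivIrr (Subgroup.centralizer (R : Set G)) : IrrCharacter _) :
        Subgroup.centralizer (R : Set G) → ℂ) - ∑ g, β g) := by
  classical
  haveI hpr := isPrime_of_isPModular hM
  have hp0 : (p : ℂ) ≠ 0 := by exact_mod_cast hM.1.ne_zero
  have h1 : brauerOmega R β ((trivIrr (Subgroup.centralizer (R : Set G)) : IrrCharacter _) :
      Subgroup.centralizer (R : Set G) → ℂ) = ∑ x : Subgroup.centralizer (R : Set G), β x := by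
    unfold brauerOmega
    rw [finsum_eq_sum_of_fintype]
    refine Finset.sum_congr rfl fun x _ => ?_
    simp [trivIrr_apply]
  have h2 : ∑ x : Subgroup.centralizer (R : Set G), β x =
      ∑ g ∈ Finset.univ.filter (fun g => g ∈ Subgroup.centralizer (R : Set G)), β g := by
    rw [Finset.sum_subtype (Finset.univ.filter (fun g => g ∈ Subgroup.centralizer (R : Set G)))
      (p := fun g => g ∈ Subgroup.centralizer (R : Set G)) (by simp) β]
  have h3 := Finset.sum_filter_add_sum_filter_not Finset.univ
    (fun g => g ∈ Subgroup.centralizer (R : Set G)) β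
  have h4 := memLocalRing_sum_compl_centralizer hM R hR β hβinv hβR
  have h5 := memLocalIdeal_mul_right ((memLocalIdeal_natCast_iff hM p).mpr dvd_rfl) h4
  rw [mul_div_cancel₀ _ hp0] at h5
  rw [h1, h2, ← h3]
  have : ∀ a b : ℂ, a - (a + b) = -b := fun a b => by ring
  rw [this]
  exact memLocalIdeal_neg h5

theorem sum_blockCoeff_principalBlock (M : Ideal AlgInt) [M.IsPrime] :
    ∑ g, blockCoeff (principalBlock M G) g = 1 := by
  classical
  have h := omega_blockCoeff (principalBlock M G) (trivIrr G)
  rw [if_pos (trivIrr_mem_principalBlock M)] at h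
  unfold omega at h
  simpa [trivIrr_apply] using h

theorem sum_subgroupBlockCoeff_principalBlock (M : Ideal AlgInt) [M.IsPrime] (K : Subgroup G)
    [Fintype K] : ∑ g, subgroupBlockCoeff K (principalBlock M K) g = 1 := by
  classical
  rw [← sum_subgroup_eq K (fun g => subgroupBlockCoeff K (principalBlock M K) g)
    (fun x hx => by rw [subgroupBlockCoeff_eq_extZ, extZ_of_notMem _ _ hx])]
  rw [← sum_blockCoeff_principalBlock (G := K) M]
  refine Finset.sum_congr rfl fun y _ => ?_
  rw [subgroupBlockCoeff_eq_extZ, extZ_of_mem]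

/-- All members of the principal block of `C_G(R)` see an invariant element with augmentation
`1` as `1`. -/
theorem brauerOmega_principal_of_sum_one (hM : IsPModular p M) (R : Subgroup G)
    [Fintype (Subgroup.centralizer (R : Set G))] (hR : IsPGroup p R) (β : G → ℂ)
    (hβR : IsRValued M β) (hβinv : ∀ u ∈ R, ∀ x, β (u * x * u⁻¹) = β x)
    (hβC : ∀ u ∈ Subgroup.centralizer (R : Set G), ∀ x, β (u * x * u⁻¹) = β x)
    (hsum : ∑ g, β g = 1)
    {ξ : IrrCharacter (Subgroup.centralizer (R : Set G))}
    (hξ : ξ ∈ principalBlock M (Subgroup.centralizer (R : Set G))) :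
    MemLocalIdeal M (brauerOmega R β (ξ : Subgroup.centralizer (R : Set G) → ℂ) - 1) := by
  haveI hpr := isPrime_of_isPModular hM
  have h1 := brauerOmega_trivIrr_sub_sum hM R hR β hβR hβinv
  rw [hsum] at h1
  have h2 := memLocalIdeal_brauerOmega_sub_of_invariant (M := M) R hβR hβC ξ.2
    (trivIrr (Subgroup.centralizer (R : Set G))).2 (sameBlock_symm hξ)
  have := memLocalIdeal_add h2 h1
  rwa [sub_add_sub_cancel] at this

/-- `(Q, b₀(C_G(Q)))` is a Brauer pair of the principal block. -/
theorem isBrauerPairOf_principal [Fact p.Prime] (hM : IsPModular p M) (Q : Subgroup G)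
    (hQ : IsPGroup p Q) :
    IsBrauerPairOf p M (principalBlock M G) Q
      (principalBlock M (Subgroup.centralizer (Q : Set G))) := by
  classical
  haveI hpr := isPrime_of_isPModular hM
  haveI : Fintype (Subgroup.centralizer (Q : Set G)) := Fintype.ofFinite _
  refine ⟨⟨hQ, isPBlock_principalBlock M⟩, isPBlock_principalBlock M, fun ξ hξ => ?_⟩
  exact brauerOmega_principal_of_sum_one hM Q hQ _
    (isRValued_blockCoeff (isPBlock_principalBlock M))
    (fun u _ x => isClassFunction_blockCoeff _ x u)
    (fun u _ x => isClassFunction_blockCoeff _ x u)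
    (sum_blockCoeff_principalBlock M) hξ

theorem conjSet_principalBlock (K : Subgroup G) (x : G)
    (hx : x ∈ Subgroup.normalizer (K : Set G)) :
    conjSet K x hx (principalBlock M K) = principalBlock M K := by
  rw [principalBlock_eq, conjSet_blockOf]
  congr 1

/-- Normal inclusion of principal Brauer pairs. -/
theorem isNormalSubpair_principal [Fact p.Prime] (hM : IsPModular p M) (Q R : Subgroup G)
    (hR : IsPGroup p R) (hQR : Q ≤ R) (hRN : R ≤ Subgroup.normalizer (Q : Set G)) :
    IsNormalSubpair p M Q (principalBlock M (Subgroup.centralizer (Q : Set G))) R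
      (principalBlock M (Subgroup.centralizer (R : Set G))) := by
  classical
  haveI hpr := isPrime_of_isPModular hM
  haveI : Fintype (Subgroup.centralizer (Q : Set G)) := Fintype.ofFinite _
  haveI : Fintype (Subgroup.centralizer (R : Set G)) := Fintype.ofFinite _
  have hRK := hRN.trans (normalizer_le_normalizer_centralizer Q)
  have hCRQ : Subgroup.centralizer (R : Set G) ≤ Subgroup.centralizer (Q : Set G) :=
    Subgroup.centralizer_le (by exact_mod_cast hQR)
  have hst : IsStableSet (Subgroup.centralizer (Q : Set G)) R hRK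
      (principalBlock M (Subgroup.centralizer (Q : Set G))) :=
    fun u hu => conjSet_principalBlock _ u (hRK hu)
  refine ⟨⟨hR.to_le hQR, isPBlock_principalBlock M⟩, ⟨hR, isPBlock_principalBlock M⟩, hQR, hRN,
    ?_, ?_⟩
  · intro u hu
    rw [stabilizesBlock_iff_conjSet_eq _ u (hRK hu) (isPBlock_principalBlock M)]
    exact hst u hu
  · intro ξ hξ
    exact brauerOmega_principal_of_sum_one hM R hR _
      (isRValued_subgroupBlockCoeff _ (isPBlock_principalBlock M))
      (subgroupBlockCoeff_conj_of_stable _ R hRK hst)
      (fun u hu x => subgroupBlockCoeff_conj_of_mem _ _ u (hCRQ hu) x)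
      (sum_subgroupBlockCoeff_principalBlock M _) hξ

/-- Inclusion of principal Brauer pairs. -/
theorem subpairLE_principal [Fact p.Prime] (hM : IsPModular p M) :
    ∀ (n : ℕ) (S Q : Subgroup G), IsPGroup p S → Q ≤ S → Nat.card S - Nat.card Q = n →
      SubpairLE p M Q (principalBlock M (Subgroup.centralizer (Q : Set G))) S
        (principalBlock M (Subgroup.centralizer (S : Set G))) := by
  intro n
  induction n using Nat.strong_induction_on with
  | _ n ih =>
    intro S Q hS hQS hn
    by_cases hQeq : Q = S
    · subst hQeq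
      exact Relation.ReflTransGen.refl
    · have hlt : Q < S := lt_of_le_of_ne hQS hQeq
      have hQR := lt_inf_normalizer hS hlt
      have hRS : S ⊓ Subgroup.normalizer (Q : Set G) ≤ S := inf_le_left
      have hRN : S ⊓ Subgroup.normalizer (Q : Set G) ≤ Subgroup.normalizer (Q : Set G) :=
        inf_le_right
      have hcard : Nat.card S - Nat.card ↥(S ⊓ Subgroup.normalizer (Q : Set G)) < n := by
        have h1 := card_lt_of_lt hQR
        have h2 := Subgroup.card_le_of_le hRS
        omega
      have hle := ih _ hcard S _ hS hRS rfl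
      have hstep := isNormalSubpair_principal hM Q _ (hS.to_le hRS) hQR.le hRN
      exact Relation.ReflTransGen.head
        (show NormalSubpairRel p M ⟨Q, _⟩ ⟨S ⊓ Subgroup.normalizer (Q : Set G), _⟩ from hstep) hle

theorem mapSet_principalBlock {A A' : Type u} [Group A] [Group A'] [Fintype A] [Fintype A']
    (φ : A ≃* A') : mapSet φ (principalBlock M A) = principalBlock M A' := by
  rw [principalBlock_eq, mapSet_blockOf, principalBlock_eq]
  congr 1

/-- **Brauer's Third Main Theorem** for Brauer pairs (S4663). -/
theorem isBrauerPairOf_principalBlock_iff [Fact p.Prime] (hM : IsPModular p M) (Q : Subgroup G)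
    (hQ : IsPGroup p Q) (e : Set (IrrCharacter (Subgroup.centralizer (Q : Set G))))
    (he : IsPBlock M e) :
    IsBrauerPairOf p M (principalBlock M G) Q e ↔
      e = principalBlock M (Subgroup.centralizer (Q : Set G)) := by
  classical
  haveI hpr := isPrime_of_isPModular hM
  constructor
  · intro hQe
    obtain ⟨S⟩ : Nonempty (Sylow p G) := inferInstance
    have hSp : IsPGroup p (S : Subgroup G) := S.isPGroup'
    have hmaxS : IsMaximalBrauerPair p M (principalBlock M G) (S : Subgroup G)
        (principalBlock M (Subgroup.centralizer ((S : Subgroup G) : Set G))) := by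
      refine ⟨isBrauerPairOf_principal hM _ hSp, ?_⟩
      intro R g hRg hle
      have hSR : (S : Subgroup G) ≤ R := le_of_reflTransGen hle
      exact (S.is_maximal' hRg.1.1 hSR)
    obtain ⟨x, hle⟩ := exists_conj_subpairLE hM hmaxS hQe
    have hQS : Q.map (MulAut.conj x).toMonoidHom ≤ (S : Subgroup G) := le_of_reflTransGen hle
    have hle₀ := subpairLE_principal hM _ (S : Subgroup G) _ hSp hQS rfl
    have hblk : IsPBlock M (conjBlock Q x e) := (isBrauerPair_conjBlock x hQe.1).2
    have heq := subpairLE_unique hM (S : Subgroup G) _ ⟨hSp, isPBlock_principalBlock M⟩ _ _ hQS rfl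
      (conjBlock Q x e) (principalBlock M _) hblk hle (isPBlock_principalBlock M) hle₀
    haveI : Fintype (Subgroup.centralizer (Q : Set G)) := Fintype.ofFinite _
    haveI : Fintype (Subgroup.centralizer
      ((Q.map (MulAut.conj x).toMonoidHom : Subgroup G) : Set G)) := Fintype.ofFinite _
    rw [conjBlock_eq_mapSet, ← mapSet_principalBlock (M := M) (centEquiv Q x)] at heq
    exact mapSet_injective _ heq
  · rintro rfl
    exact isBrauerPairOf_principal hM Q hQ

end third

end Cfsg.Agent.Helper77
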