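import Mathlib
import Cfsg.Agent.Lib.Helper77.PairConjugacy

set_option autoImplicit false
set_option linter.unusedSectionVars false
set_option linter.style.haveILetI false

namespace Cfsg.Agent.Helper77

open Cfsg Cfsg.Agent.Helper79

universe u

section stab

variable {G : Type u} [Group G] [Fintype G]

theorem conjIrr_of_mem (K : Subgroup G) [Fintype K] (x : G) (hx : x ∈ Subgroup.normalizer (K : Set G))
    (hxK : x ∈ K) (χ : IrrCharacter K) : conjIrr K x hx χ = χ := by
  apply Subtype.ext
  funext k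
  show χ.1 ((conjEquivOf K x hx).symm k) = χ.1 k
  have hcl := isClassFunction_of_isIrrCharacter χ.2
  have h1 : (conjEquivOf K x hx).symm k = (⟨x, hxK⟩ : K)⁻¹ * k * (⟨x, hxK⟩ : K)⁻¹⁻¹ := by
    apply Subtype.ext
    rw [conjEquivOf_symm_apply_coe]
    simp
  rw [h1]
  exact hcl k _

theorem conjIrr_of_mem_centralizer (K : Subgroup G) (x : G)
    (hx : x ∈ Subgroup.normalizer (K : Set G))
    (hxK : x ∈ Subgroup.centralizer (K : Set G)) (χ : IrrCharacter K) : conjIrr K x hx χ = χ := by
  apply Subtype.ext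
  funext k
  show χ.1 ((conjEquivOf K x hx).symm k) = χ.1 k
  refine congrArg χ.1 ?_
  apply Subtype.ext
  rw [conjEquivOf_symm_apply_coe]
  have := hxK k k.2
  rw [mul_assoc, this, ← mul_assoc, inv_mul_cancel, one_mul]

/-- The stabilizer in `N_G(K)` of a set of irreducible characters of `K`. -/
def stabSub (K : Subgroup G) (f : Set (IrrCharacter K)) : Subgroup G where
  carrier := {x | ∃ hx : x ∈ Subgroup.normalizer (K : Set G), conjSet K x hx f = f}
  one_mem' := ⟨Subgroup.one_mem _, conjSet_one K _ f⟩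
  mul_mem' := by
    rintro x y ⟨hx, h1⟩ ⟨hy, h2⟩
    refine ⟨Subgroup.mul_mem _ hx hy, ?_⟩
    rw [conjSet_mul K x y hx hy, h2, h1]
  inv_mem' := by
    rintro x ⟨hx, h1⟩
    refine ⟨Subgroup.inv_mem _ hx, ?_⟩
    have h2 : conjSet K x⁻¹ (Subgroup.inv_mem _ hx) (conjSet K x hx f) = f := by
      rw [← conjSet_mul K x⁻¹ x (Subgroup.inv_mem _ hx) hx (by rw [inv_mul_cancel]; exact Subgroup.one_mem _)]
      rw [conjSet_congr K (inv_mul_cancel x) _ (Subgroup.one_mem _), conjSet_one]
    rw [h1] at h2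
    exact h2

theorem mem_stabSub {K : Subgroup G} {f : Set (IrrCharacter K)} {x : G} :
    x ∈ stabSub K f ↔ ∃ hx : x ∈ Subgroup.normalizer (K : Set G), conjSet K x hx f = f := Iff.rfl

theorem le_stabSub (K : Subgroup G) [Fintype K] (f : Set (IrrCharacter K)) : K ≤ stabSub K f := by
  intro x hx
  have hxN : x ∈ Subgroup.normalizer (K : Set G) := Subgroup.le_normalizer hx
  refine ⟨hxN, ?_⟩
  unfold conjSet
  have : conjIrr K x hxN = id := funext fun χ => conjIrr_of_mem K x hxN hx χ
  rw [this, Set.image_id]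

theorem centralizer_le_stabSub (K : Subgroup G) (f : Set (IrrCharacter K)) :
    Subgroup.centralizer (K : Set G) ≤ stabSub K f := by
  intro x hx
  have hxN : x ∈ Subgroup.normalizer (K : Set G) := Subgroup.centralizer_le_normalizer _ hx
  refine ⟨hxN, ?_⟩
  unfold conjSet
  have : conjIrr K x hxN = id := funext fun χ => conjIrr_of_mem_centralizer K x hxN hx χ
  rw [this, Set.image_id]

theorem isStableSet_of_le_stabSub {K P : Subgroup G}
    (hPK : P ≤ Subgroup.normalizer (K : Set G))
    {f : Set (IrrCharacter K)} (h : P ≤ stabSub K f) : IsStableSet K P hPK f := by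
  intro x hx
  obtain ⟨_, h2⟩ := h hx
  exact h2

end stab

section defect

variable {G : Type u} [Group G] [Fintype G] {p : ℕ} {M : Ideal AlgInt}

/-- A `p`-subgroup centralizing an element at which the block idempotent does not vanish modulo
the local ideal lies in a defect group. -/
theorem exists_isDefectGroup_ge_of_blockCoeff [Fact p.Prime] (hM : IsPModular p M)
    {B : Set (IrrCharacter G)} (hB : IsPBlock M B) {g : G}
    (hg : ¬ MemLocalIdeal M (blockCoeff B g)) (T : Subgroup G) (hT : IsPGroup p T)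
    (hTg : T ≤ Subgroup.centralizer ({g} : Set G)) :
    ∃ E : Subgroup G, IsDefectGroup p M B E ∧ T ≤ E := by
  haveI hpr := isPrime_of_isPModular hM
  obtain ⟨D₀, hD₀⟩ := exists_isDefectGroup p hB
  obtain ⟨x, hx⟩ := defectLE_of_isDefectGroup hM hB hD₀ g hg T hT hTg
  refine ⟨D₀.map (MulAut.conj x⁻¹).toMonoidHom, isDefectGroup_conj hD₀ x⁻¹, ?_⟩
  intro t ht
  refine ⟨x * t * x⁻¹, hx ⟨t, ht, by simp [MulAut.conj_apply]⟩, ?_⟩
  simp [mul_assoc]

end defect

section part1

variable {G : Type u} [Group G] [Fintype G] {p : ℕ} {M : Ideal AlgInt}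

/-- If the Brauer-map central character of an invariant coefficient function is `1` modulo the
local ideal, the function does not vanish modulo the local ideal on the centralizer. -/
theorem exists_not_memLocalIdeal_of_brauerOmega [hp : M.IsPrime] (R : Subgroup G)
    [Fintype (Subgroup.centralizer (R : Set G))] {β : G → ℂ}
    (hβ : ∀ u ∈ Subgroup.centralizer (R : Set G), ∀ x, β (u * x * u⁻¹) = β x)
    {ξ : Subgroup.centralizer (R : Set G) → ℂ}
    (hξ : IsIrrCharacter (Subgroup.centralizer (R : Set G)) ξ)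
    (h : MemLocalIdeal M (brauerOmega R β ξ - 1)) :
    ∃ x ∈ Subgroup.centralizer (R : Set G), ¬ MemLocalIdeal M (β x) := by
  by_contra hcon
  push Not at hcon
  rw [brauerOmega_eq_omega] at h
  have h1 : MemLocalIdeal M (omega ξ (restr (Subgroup.centralizer (R : Set G)) β)) :=
    memLocalIdeal_omega_of_eqMod_zero hξ (isClassFunction_restr _ hβ) (fun g => hcon g g.2)
  have h2 := memLocalIdeal_sub h1 h
  rw [show omega ξ (restr (Subgroup.centralizer (R : Set G)) β) -
    (omega ξ (fun x : Subgroup.centralizer (R : Set G) => β x) - 1) = 1 from by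
      unfold restr; ring] at h2
  exact not_memLocalIdeal_one h2

/-- Below `(P, e)`, the pair on `Q` is normal in the pair on `Q C_P(Q)`; consequently the
idempotent of `f` does not vanish on some element centralizing `Q C_P(Q)`. -/
theorem exists_mem_centralizer_not_memLocalIdeal [Fact p.Prime] (hM : IsPModular p M)
    {P Q : Subgroup G} {e : Set (IrrCharacter (Subgroup.centralizer (P : Set G)))}
    {f : Set (IrrCharacter (Subgroup.centralizer (Q : Set G)))}
    (hPe : IsBrauerPair p M P e) (hQP : Q ≤ P) (hf : IsPBlock M f)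
    (hle : SubpairLE p M Q f P e) (S : Subgroup G) (hSP : S ≤ P)
    (hSN : S ≤ Subgroup.normalizer (Q : Set G)) :
    ∃ x ∈ Subgroup.centralizer ((Q ⊔ S : Subgroup G) : Set G),
      ¬ MemLocalIdeal M (subgroupBlockCoeff (Subgroup.centralizer (Q : Set G)) f x) := by
  classical
  haveI hpr := isPrime_of_isPModular hM
  haveI : Fintype (Subgroup.centralizer ((Q ⊔ S : Subgroup G) : Set G)) := Fintype.ofFinite _
  haveI : Fintype (Subgroup.centralizer (Q : Set G)) := Fintype.ofFinite _
  set R : Subgroup G := Q ⊔ S with hR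
  have hRP : R ≤ P := sup_le hQP hSP
  have hQR : Q ≤ R := le_sup_left
  have hRN : R ≤ Subgroup.normalizer (Q : Set G) := sup_le Subgroup.le_normalizer hSN
  obtain ⟨g, hg, hgle⟩ := exists_subpairLE hM _ P R e hPe hRP rfl
  have hRg : IsBrauerPair p M R g := ⟨hPe.1.to_le hRP, hg⟩
  obtain ⟨f₀, hf₀, -⟩ := existsUnique_isNormalSubpair hM R Q g hRg hQR hRN
  have hf₀le : SubpairLE p M Q f₀ P e :=
    Relation.ReflTransGen.head (show NormalSubpairRel p M ⟨Q, f₀⟩ ⟨R, g⟩ from hf₀) hgle
  have hff₀ : f = f₀ := subpairLE_unique hM P e hPe _ Q hQP rfl f f₀ hf hle hf₀.1.2 hf₀le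
  subst hff₀
  obtain ⟨ξ, hξ⟩ := nonempty_of_isPBlock hg
  have hone := hf₀.2.2.2.2.2 ξ hξ
  have hCRQ : Subgroup.centralizer (R : Set G) ≤ Subgroup.centralizer (Q : Set G) :=
    Subgroup.centralizer_le (by exact_mod_cast hQR)
  exact exists_not_memLocalIdeal_of_brauerOmega R
    (fun u hu x => subgroupBlockCoeff_conj_of_mem _ f u (hCRQ hu) x) ξ.2 hone

/-- **S4661, first part**: `C_P(Q)` lies in a defect group of `f`. -/
theorem exists_isDefectGroup_ge_centralizer [Fact p.Prime] (hM : IsPModular p M)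
    {P Q : Subgroup G} {e : Set (IrrCharacter (Subgroup.centralizer (P : Set G)))}
    {f : Set (IrrCharacter (Subgroup.centralizer (Q : Set G)))}
    (hPe : IsBrauerPair p M P e) (hQP : Q ≤ P) (hf : IsPBlock M f)
    (hle : SubpairLE p M Q f P e) :
    ∃ D : Subgroup (Subgroup.centralizer (Q : Set G)), IsDefectGroup p M f D ∧
      (P ⊓ Subgroup.centralizer (Q : Set G)).subgroupOf (Subgroup.centralizer (Q : Set G)) ≤ D := by
  classical
  haveI hpr := isPrime_of_isPModular hM
  haveI : Fintype (Subgroup.centralizer (Q : Set G)) := Fintype.ofFinite _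
  obtain ⟨x, hx, hne⟩ := exists_mem_centralizer_not_memLocalIdeal hM hPe hQP hf hle
    (P ⊓ Subgroup.centralizer (Q : Set G)) inf_le_left
    (inf_le_right.trans (Subgroup.centralizer_le_normalizer _))
  have hxQ : x ∈ Subgroup.centralizer (Q : Set G) :=
    Subgroup.centralizer_le (by exact_mod_cast (le_sup_left : Q ≤ Q ⊔ _)) hx
  rw [subgroupBlockCoeff_eq_extZ, extZ_of_mem' _ _ hxQ] at hne
  refine exists_isDefectGroup_ge_of_blockCoeff hM hf hne _
    ((hPe.1.to_le inf_le_left).comap_subtype) ?_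
  intro t ht
  rw [Subgroup.mem_subgroupOf] at ht
  rw [Subgroup.mem_centralizer_iff]
  intro y hy
  rw [Set.mem_singleton_iff] at hy
  subst hy
  apply Subtype.ext
  rw [Subgroup.coe_mul, Subgroup.coe_mul]
  have := (Subgroup.mem_centralizer_iff.mp hx) (t : G)
    (by exact_mod_cast (le_sup_right : _ ≤ Q ⊔ _) ht)
  exact this.symm

end part1

section part2

variable {G : Type u} [Group G] [Fintype G] {p : ℕ} {M : Ideal AlgInt}

theorem le_centralizer_centralizer' (Q : Subgroup G) :
    Q ≤ Subgroup.centralizer ((Subgroup.centralizer (Q : Set G) : Subgroup G) : Set G) := by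
  intro q hq
  rw [Subgroup.mem_centralizer_iff]
  intro h hh
  exact ((Subgroup.mem_centralizer_iff.mp hh) q hq).symm

/-- **S4661, second part**. -/
theorem exists_conj_isDefectGroup_centralizer [Fact p.Prime] (hM : IsPModular p M)
    {B : Set (IrrCharacter G)}
    {P Q : Subgroup G} {e : Set (IrrCharacter (Subgroup.centralizer (P : Set G)))}
    {f : Set (IrrCharacter (Subgroup.centralizer (Q : Set G)))}
    (hmax : IsMaximalBrauerPair p M B P e) (hQP : Q ≤ P) (hf : IsPBlock M f)
    (hle : SubpairLE p M Q f P e) :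
    ∃ x : G, SubpairLE p M (Q.map (MulAut.conj x).toMonoidHom) (conjBlock Q x f) P e ∧
      IsDefectGroup p M (conjBlock Q x f)
        ((P ⊓ Subgroup.centralizer ((Q.map (MulAut.conj x).toMonoidHom : Subgroup G) : Set G)).subgroupOf
          (Subgroup.centralizer ((Q.map (MulAut.conj x).toMonoidHom : Subgroup G) : Set G))) := by
  classical
  haveI hpr := isPrime_of_isPModular hM
  haveI : Fintype (Subgroup.centralizer (Q : Set G)) := Fintype.ofFinite _
  have hPe : IsBrauerPair p M P e := hmax.1.1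
  have hB : IsPBlock M B := hmax.1.2.1
  have hQ : IsPGroup p Q := hPe.1.to_le hQP
  obtain ⟨D, hD⟩ := exists_isDefectGroup p hf
  have hD' := hD
  obtain ⟨x₀, hx₀, S₀, hDS⟩ := hD
  obtain ⟨D', hD'def⟩ : ∃ D' : Subgroup G, D' = D.map (Subgroup.centralizer (Q : Set G)).subtype := ⟨_, rfl⟩
  have hD'H : D' ≤ (Subgroup.centralizer (Q : Set G)) := hD'def ▸ Subgroup.map_subtype_le D
  have hDp : IsPGroup p D := isPGroup_of_isDefectGroup hD'
  have hD'p : IsPGroup p D' := hD'def ▸ hDp.map _
  have hD'N : D' ≤ Subgroup.normalizer (Q : Set G) :=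
    hD'H.trans (Subgroup.centralizer_le_normalizer _)
  have hR₂p : IsPGroup p (Q ⊔ D' : Subgroup G) := IsPGroup.to_sup_of_normal_left' hQ hD'p hD'N
  have hR₂N : Q ⊔ D' ≤ Subgroup.normalizer (Q : Set G) := sup_le Subgroup.le_normalizer hD'N
  have hst : IsStableSet (Subgroup.centralizer (Q : Set G)) (Q ⊔ D') (hR₂N.trans (normalizer_le_normalizer_centralizer Q)) f :=
    isStableSet_of_le_stabSub _ (sup_le
      ((le_centralizer_centralizer' Q).trans (centralizer_le_stabSub (Subgroup.centralizer (Q : Set G)) f))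
      (hD'H.trans (le_stabSub (Subgroup.centralizer (Q : Set G)) f)))
  -- the defect class representative centralizes `Q ⊔ D'`
  have hx₀R : (x₀ : G) ∈ Subgroup.centralizer ((Q ⊔ D' : Subgroup G) : Set G) := by
    rw [← le_centralizer_singleton_iff]
    refine sup_le ?_ ?_
    · intro q hq
      rw [Subgroup.mem_centralizer_iff]
      intro y hy
      rw [Set.mem_singleton_iff] at hy
      subst hy
      exact ((Subgroup.mem_centralizer_iff.mp x₀.2) q hq).symm
    · rw [hD'def]
      rintro _ ⟨d, hd, rfl⟩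
      rw [Subgroup.mem_centralizer_iff]
      intro y hy
      rw [Set.mem_singleton_iff] at hy
      subst hy
      have hd' : d ∈ Subgroup.centralizer ({x₀} : Set (Subgroup.centralizer (Q : Set G))) := by
        rw [hDS] at hd
        exact sylow_map_le_centralizer x₀ S₀ hd
      have := (Subgroup.mem_centralizer_iff.mp hd') x₀ rfl
      exact congrArg Subtype.val this
  have hne : ¬ MemLocalIdeal M (subgroupBlockCoeff (Subgroup.centralizer (Q : Set G)) f (x₀ : G)) := by
    rw [subgroupBlockCoeff_eq_extZ, extZ_of_mem]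
    exact hx₀.2.1
  obtain ⟨g₂, hg₂⟩ := exists_isNormalSubpair_above hM Q (Q ⊔ D') hR₂p le_sup_left hR₂N hf hst
    hx₀R hne
  have hQfB : IsBrauerPairOf p M B Q f :=
    (isBrauerPairOf_iff_of_subpairLE hM P Q e f hPe ⟨hQ, hf⟩ hle B hB).mp hmax.1
  have hR₂B : IsBrauerPairOf p M B (Q ⊔ D') g₂ :=
    (isBrauerPairOf_iff_of_subpairLE hM (Q ⊔ D') Q g₂ f hg₂.2.1 hg₂.1
      (Relation.ReflTransGen.single hg₂) B hB).mpr hQfB
  obtain ⟨x, hx⟩ := exists_conj_subpairLE hM hmax hR₂B
  have hle' : SubpairLE p M (Q.map (MulAut.conj x).toMonoidHom) (conjBlock Q x f) P e :=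
    Relation.ReflTransGen.head (show NormalSubpairRel p M
      ⟨Q.map (MulAut.conj x).toMonoidHom, conjBlock Q x f⟩
      ⟨(Q ⊔ D').map (MulAut.conj x).toMonoidHom, conjBlock (Q ⊔ D') x g₂⟩ from
      isNormalSubpair_conjBlock x hg₂) hx
  have hQxP : Q.map (MulAut.conj x).toMonoidHom ≤ P := le_of_reflTransGen hle'
  have hR₂xP : (Q ⊔ D').map (MulAut.conj x).toMonoidHom ≤ P := le_of_reflTransGen hx
  have hfx : IsPBlock M (conjBlock Q x f) := (isBrauerPair_conjBlock x ⟨hQ, hf⟩).2
  refine ⟨x, hle', ?_⟩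
  haveI : Fintype (Subgroup.centralizer
    ((Q.map (MulAut.conj x).toMonoidHom : Subgroup G) : Set G)) := Fintype.ofFinite _
  obtain ⟨D₂, hD₂, hle₂⟩ := exists_isDefectGroup_ge_centralizer hM hPe hQxP hfx hle'
  have hDx : IsDefectGroup p M (conjBlock Q x f)
      (D.map ((centEquiv Q x : (Subgroup.centralizer (Q : Set G)) ≃* _) : (Subgroup.centralizer (Q : Set G)) →* _)) := by
    rw [conjBlock_eq_mapSet]
    exact isDefectGroup_mapSet (centEquiv Q x) hD'
  have hcard : Nat.card D₂ = Nat.card (D.map ((centEquiv Q x : (Subgroup.centralizer (Q : Set G)) ≃* _) : (Subgroup.centralizer (Q : Set G)) →* _)) :=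
    card_eq_of_isDefectGroup hM hfx hD₂ hDx
  have hDle : D.map ((centEquiv Q x : (Subgroup.centralizer (Q : Set G)) ≃* _) : (Subgroup.centralizer (Q : Set G)) →* _) ≤
      (P ⊓ Subgroup.centralizer ((Q.map (MulAut.conj x).toMonoidHom : Subgroup G) : Set G)).subgroupOf
        (Subgroup.centralizer ((Q.map (MulAut.conj x).toMonoidHom : Subgroup G) : Set G)) := by
    rintro _ ⟨d, hd, rfl⟩
    rw [Subgroup.mem_subgroupOf]
    refine ⟨?_, Subtype.property _⟩
    apply hR₂xP
    refine ⟨(d : G), (le_sup_right : D' ≤ Q ⊔ D') (hD'def ▸ ⟨d, hd, rfl⟩), ?_⟩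
    simp only [MulEquiv.coe_toMonoidHom, MulAut.conj_apply]
    rfl
  have hge : Nat.card D₂ ≤ Nat.card ((P ⊓ Subgroup.centralizer
      ((Q.map (MulAut.conj x).toMonoidHom : Subgroup G) : Set G)).subgroupOf
        (Subgroup.centralizer ((Q.map (MulAut.conj x).toMonoidHom : Subgroup G) : Set G))) := by
    rw [hcard]
    exact Subgroup.card_le_of_le hDle
  rw [Subgroup.eq_of_le_of_card_ge hle₂ hge]
  exact hD₂

end part2

end Cfsg.Agent.Helper77
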