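import Mathlib
import Cfsg.Agent.Lib.Helper77.LocalDefect

set_option autoImplicit false
set_option linter.unusedSectionVars false
set_option linter.style.haveILetI false

namespace Cfsg.Agent.Helper77

open Cfsg Cfsg.Agent.Helper79

universe u

section idem

variable {A : Type u} [Group A] [Fintype A] {M : Ideal AlgInt}

theorem omega_zero' (χ : A → ℂ) : omega χ (0 : A → ℂ) = 0 := by
  unfold omega
  simp

theorem omega_eq_zero_or_one_of_idem {a : A → ℂ} (ha : IsClassFunction A a)
    (hidem : conv a a = a) (χ : IrrCharacter A) :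
    omega (χ : A → ℂ) a = 0 ∨ omega (χ : A → ℂ) a = 1 := by
  have h := omega_conv χ.2 ha ha
  rw [hidem] at h
  have h2 : omega (χ : A → ℂ) a * (omega (χ : A → ℂ) a - 1) = 0 := by
    linear_combination -h
  rcases mul_eq_zero.mp h2 with h3 | h3
  · exact Or.inl h3
  · exact Or.inr (sub_eq_zero.mp h3)

variable [hp : M.IsPrime]

theorem omega_eq_of_sameBlock_of_idem {a : A → ℂ} (ha : IsClassFunction A a)
    (haR : IsRValued M a) (hidem : conv a a = a) {χ ψ : IrrCharacter A}
    (h : SameBlock M (χ : A → ℂ) (ψ : A → ℂ)) :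
    omega (χ : A → ℂ) a = omega (ψ : A → ℂ) a := by
  have h1 := memLocalIdeal_omega_sub χ.2 ψ.2 h ha haR
  rcases omega_eq_zero_or_one_of_idem ha hidem χ with e1 | e1 <;>
    rcases omega_eq_zero_or_one_of_idem ha hidem ψ with e2 | e2
  · rw [e1, e2]
  · rw [e1, e2] at h1
    have := memLocalIdeal_neg h1
    rw [zero_sub, neg_neg] at this
    exact absurd this not_memLocalIdeal_one
  · rw [e1, e2, sub_zero] at h1
    exact absurd h1 not_memLocalIdeal_one
  · rw [e1, e2]

theorem exists_omega_ne_zero {a : A → ℂ} (ha : IsClassFunction A a) (hne : a ≠ 0) :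
    ∃ χ : IrrCharacter A, omega (χ : A → ℂ) a ≠ 0 := by
  by_contra hcon
  push Not at hcon
  apply hne
  have h0 : IsClassFunction A (0 : A → ℂ) := fun _ _ => rfl
  exact eq_of_omega_eq ha h0 (fun χ => by rw [hcon χ, omega_zero'])

/-- **Primitivity of block idempotents** among idempotents with coefficients in the local ring. -/
theorem eq_blockCoeff_of_idem_of_conv {B : Set (IrrCharacter A)} (hB : IsPBlock M B)
    {a : A → ℂ} (ha : IsClassFunction A a) (haR : IsRValued M a) (hidem : conv a a = a)
    (hle : conv a (blockCoeff B) = a) (hne : a ≠ 0) : a = blockCoeff B := by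
  classical
  obtain ⟨χ, hχ⟩ := exists_omega_ne_zero ha hne
  have hχ1 : omega (χ : A → ℂ) a = 1 := by
    rcases omega_eq_zero_or_one_of_idem ha hidem χ with h | h
    · exact absurd h hχ
    · exact h
  have hχB : χ ∈ B := by
    by_contra hcon
    have h := omega_conv χ.2 ha (isClassFunction_blockCoeff B)
    rw [hle, omega_blockCoeff, if_neg hcon, mul_zero] at h
    exact hχ h
  apply eq_of_omega_eq ha (isClassFunction_blockCoeff B)
  intro ψ
  rw [omega_blockCoeff]
  by_cases hψ : ψ ∈ B
  · rw [if_pos hψ, ← omega_eq_of_sameBlock_of_idem ha haR hidem (sameBlock_of_mem hB hχB hψ), hχ1]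
  · rw [if_neg hψ]
    have h := omega_conv ψ.2 ha (isClassFunction_blockCoeff B)
    rw [hle, omega_blockCoeff, if_neg hψ, mul_zero] at h
    exact h

/-- An idempotent class function with coefficients in the local ring is above some block. -/
theorem exists_block_le_of_idem {a : A → ℂ} (ha : IsClassFunction A a) (haR : IsRValued M a)
    (hidem : conv a a = a) (hne : a ≠ 0) :
    ∃ F : Set (IrrCharacter A), IsPBlock M F ∧ conv (blockCoeff F) a = blockCoeff F := by
  classical
  obtain ⟨χ, hχ⟩ := exists_omega_ne_zero ha hne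
  have hχ1 : omega (χ : A → ℂ) a = 1 := by
    rcases omega_eq_zero_or_one_of_idem ha hidem χ with h | h
    · exact absurd h hχ
    · exact h
  refine ⟨blockOf M (χ : A → ℂ), isPBlock_blockOf χ, ?_⟩
  apply eq_of_omega_eq (isClassFunction_conv (isClassFunction_blockCoeff _) ha)
    (isClassFunction_blockCoeff _)
  intro ψ
  rw [omega_conv ψ.2 (isClassFunction_blockCoeff _) ha, omega_blockCoeff]
  by_cases hψ : ψ ∈ blockOf M (χ : A → ℂ)
  · rw [if_pos hψ, one_mul, ← omega_eq_of_sameBlock_of_idem ha haR hidem hψ, hχ1]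
  · rw [if_neg hψ, zero_mul]

theorem blockCoeff_ne_zero {B : Set (IrrCharacter A)} (hB : IsPBlock M B) :
    blockCoeff B ≠ 0 := by
  classical
  intro h
  obtain ⟨χ, hχ⟩ := nonempty_of_isPBlock hB
  have := omega_blockCoeff B χ
  rw [if_pos hχ, h, omega_zero'] at this
  exact zero_ne_one this

end idem

section stable

variable {G : Type u} [Group G] [Fintype G] {M : Ideal AlgInt} [hp : M.IsPrime]

theorem extZ_injective (K : Subgroup G) {a b : K → ℂ} (h : extZ K a = extZ K b) : a = b := by
  rw [← restr_extZ K a, ← restr_extZ K b, h]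

/-- **A stable block of a normal subgroup supporting all block idempotents is a block of the
whole group.** -/
theorem exists_block_of_stable_normal {T C : Subgroup G} [Fintype T] [Fintype C] (hCT : C ≤ T)
    (hTN : T ≤ Subgroup.normalizer (C : Set G))
    {f : Set (IrrCharacter C)} (hf : IsPBlock M f) (hst : IsStableSet C T hTN f)
    (hsupp : ∀ F : Set (IrrCharacter T), IsPBlock M F → ∀ t : T, (t : G) ∉ C →
      blockCoeff F t = 0) :
    ∃ F : Set (IrrCharacter T), IsPBlock M F ∧
      ∀ t : T, blockCoeff F t = subgroupBlockCoeff C f (t : G) := by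
  classical
  have hsuppf : ∀ g, g ∉ T → subgroupBlockCoeff C f g = 0 := by
    intro g hg
    rw [subgroupBlockCoeff_eq_extZ]
    exact extZ_of_notMem _ _ (fun h => hg (hCT h))
  have hsuppfC : ∀ g, g ∉ C → subgroupBlockCoeff C f g = 0 := by
    intro g hg
    rw [subgroupBlockCoeff_eq_extZ]
    exact extZ_of_notMem _ _ hg
  have hu_cl : IsClassFunction T (restr T (subgroupBlockCoeff C f)) :=
    isClassFunction_restr T (fun v hv x => subgroupBlockCoeff_conj_of_stable C T hTN hst v hv x)
  have huR : IsRValued M (restr T (subgroupBlockCoeff C f)) :=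
    isRValued_restr T (isRValued_subgroupBlockCoeff C hf)
  have hidem : conv (restr T (subgroupBlockCoeff C f)) (restr T (subgroupBlockCoeff C f)) =
      restr T (subgroupBlockCoeff C f) := by
    rw [restr_conv_of_support T hsuppf hsuppf, conv_subgroupBlockCoeff_self]
  have hextu : extZ T (restr T (subgroupBlockCoeff C f)) = subgroupBlockCoeff C f :=
    extZ_restr_of_support hsuppf
  have hune : restr T (subgroupBlockCoeff C f) ≠ 0 := by
    intro h0
    apply blockCoeff_ne_zero hf
    funext c
    have := congrFun h0 ⟨(c : G), hCT c.2⟩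
    simp only [restr, Pi.zero_apply] at this
    rw [subgroupBlockCoeff_eq_extZ, extZ_of_mem] at this
    exact this
  obtain ⟨F, hF, hFu⟩ := exists_block_le_of_idem hu_cl huR hidem hune
  refine ⟨F, hF, ?_⟩
  have hv_cl := isClassFunction_blockCoeff F
  have hvR := isRValued_blockCoeff hF
  have hsv : ∀ g, g ∉ C → extZ T (blockCoeff F) g = 0 := by
    intro g hg
    by_cases hgT : g ∈ T
    · rw [extZ_of_mem' T _ hgT]
      exact hsupp F hF ⟨g, hgT⟩ hg
    · exact extZ_of_notMem _ _ hgT
  have hv'_cl : IsClassFunction C (restr C (extZ T (blockCoeff F))) :=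
    isClassFunction_restr C (fun w hw x => extZ_conj_of_class T hv_cl w (hCT hw) x)
  have hv'R : IsRValued M (restr C (extZ T (blockCoeff F))) :=
    isRValued_restr C (isRValued_extZ T hvR)
  have hv'idem : conv (restr C (extZ T (blockCoeff F))) (restr C (extZ T (blockCoeff F))) =
      restr C (extZ T (blockCoeff F)) := by
    rw [restr_conv_of_support C hsv hsv, conv_extZ, conv_blockCoeff_self]
  have hv'le : conv (restr C (extZ T (blockCoeff F))) (blockCoeff f) =
      restr C (extZ T (blockCoeff F)) := by
    have e1 : blockCoeff f = restr C (subgroupBlockCoeff C f) := by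
      rw [subgroupBlockCoeff_eq_extZ, restr_extZ]
    rw [e1, restr_conv_of_support C hsv hsuppfC]
    congr 1
    rw [← hextu, conv_extZ, hFu]
  have hv'ne : restr C (extZ T (blockCoeff F)) ≠ 0 := by
    intro h0
    apply blockCoeff_ne_zero hF
    apply extZ_injective T
    rw [← extZ_restr_of_support hsv, h0, extZ_zero, extZ_zero]
  have key := eq_blockCoeff_of_idem_of_conv hf hv'_cl hv'R hv'idem hv'le hv'ne
  intro t
  have h1 : extZ T (blockCoeff F) = subgroupBlockCoeff C f := by
    rw [← extZ_restr_of_support hsv, key, subgroupBlockCoeff_eq_extZ]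
  rw [← h1, extZ_of_mem]

end stable

end Cfsg.Agent.Helper77
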