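import Mathlib
import Cfsg.Agent.Lib.Helper77.Primitive

set_option autoImplicit false
set_option linter.unusedSectionVars false
set_option linter.style.haveILetI false

namespace Cfsg.Agent.Helper77

open Cfsg Cfsg.Agent.Helper79

universe u

section stabblock

variable {G : Type u} [Group G] [Fintype G] {p : ℕ} {M : Ideal AlgInt}

/-- Below `(P, e)`, the pair on `Q` is normal in the pair on `Q S` for `S ≤ N_P(Q)`. -/
theorem exists_isNormalSubpair_sup [Fact p.Prime] (hM : IsPModular p M)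
    {P Q : Subgroup G} {e : Set (IrrCharacter (Subgroup.centralizer (P : Set G)))}
    {f : Set (IrrCharacter (Subgroup.centralizer (Q : Set G)))}
    (hPe : IsBrauerPair p M P e) (hQP : Q ≤ P) (hf : IsPBlock M f)
    (hle : SubpairLE p M Q f P e) (S : Subgroup G) (hSP : S ≤ P)
    (hSN : S ≤ Subgroup.normalizer (Q : Set G)) :
    ∃ g : Set (IrrCharacter (Subgroup.centralizer ((Q ⊔ S : Subgroup G) : Set G))),
      IsNormalSubpair p M Q f (Q ⊔ S) g ∧ SubpairLE p M (Q ⊔ S) g P e := by
  classical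
  haveI hpr := isPrime_of_isPModular hM
  have hRP : Q ⊔ S ≤ P := sup_le hQP hSP
  have hQR : Q ≤ Q ⊔ S := le_sup_left
  have hRN : Q ⊔ S ≤ Subgroup.normalizer (Q : Set G) := sup_le Subgroup.le_normalizer hSN
  obtain ⟨g, hg, hgle⟩ := exists_subpairLE hM _ P (Q ⊔ S) e hPe hRP rfl
  have hRg : IsBrauerPair p M (Q ⊔ S) g := ⟨hPe.1.to_le hRP, hg⟩
  obtain ⟨f₀, hf₀, -⟩ := existsUnique_isNormalSubpair hM (Q ⊔ S) Q g hRg hQR hRN
  have hf₀le : SubpairLE p M Q f₀ P e :=
    Relation.ReflTransGen.head (show NormalSubpairRel p M ⟨Q, f₀⟩ ⟨Q ⊔ S, g⟩ from hf₀) hgle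
  have hff₀ : f = f₀ := subpairLE_unique hM P e hPe _ Q hQP rfl f f₀ hf hle hf₀.1.2 hf₀le
  subst hff₀
  exact ⟨g, hf₀, hgle⟩

variable {Q : Subgroup G} {f : Set (IrrCharacter (Subgroup.centralizer (Q : Set G)))}
  {T : Subgroup G}

theorem centralizer_le_of_hT [hpr : M.IsPrime] (hf : IsPBlock M f)
    (hT : ∀ y : G, y ∈ T ↔ y ∈ Subgroup.normalizer (Q : Set G) ∧
      StabilizesBlock (Subgroup.centralizer (Q : Set G)) f y) :
    Subgroup.centralizer (Q : Set G) ≤ T := by
  haveI : Fintype (Subgroup.centralizer (Q : Set G)) := Fintype.ofFinite _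
  intro c hc
  have hcN : c ∈ Subgroup.normalizer (Q : Set G) := Subgroup.centralizer_le_normalizer _ hc
  rw [hT]
  refine ⟨hcN, ?_⟩
  obtain ⟨h1, h2⟩ := le_stabSub (Subgroup.centralizer (Q : Set G)) f hc
  exact (stabilizesBlock_iff_conjSet_eq _ c h1 hf).mpr h2

theorem le_normalizer_of_hT
    (hT : ∀ y : G, y ∈ T ↔ y ∈ Subgroup.normalizer (Q : Set G) ∧
      StabilizesBlock (Subgroup.centralizer (Q : Set G)) f y) :
    T ≤ Subgroup.normalizer (Q : Set G) := fun y hy => ((hT y).mp hy).1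

theorem self_le_of_hT [hpr : M.IsPrime] (hf : IsPBlock M f)
    (hT : ∀ y : G, y ∈ T ↔ y ∈ Subgroup.normalizer (Q : Set G) ∧
      StabilizesBlock (Subgroup.centralizer (Q : Set G)) f y) :
    Q ≤ T := by
  intro q hq
  have hqN : q ∈ Subgroup.normalizer (Q : Set G) := Subgroup.le_normalizer hq
  rw [hT]
  refine ⟨hqN, ?_⟩
  obtain ⟨h1, h2⟩ := (le_centralizer_centralizer' Q).trans
    (centralizer_le_stabSub (Subgroup.centralizer (Q : Set G)) f) hq
  exact (stabilizesBlock_iff_conjSet_eq _ q h1 hf).mpr h2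

theorem isStableSet_of_hT [hpr : M.IsPrime] (hf : IsPBlock M f)
    (hT : ∀ y : G, y ∈ T ↔ y ∈ Subgroup.normalizer (Q : Set G) ∧
      StabilizesBlock (Subgroup.centralizer (Q : Set G)) f y) :
    IsStableSet (Subgroup.centralizer (Q : Set G)) T
      ((le_normalizer_of_hT hT).trans (normalizer_le_normalizer_centralizer Q)) f := by
  intro y hy
  exact (stabilizesBlock_iff_conjSet_eq _ y _ hf).mp ((hT y).mp hy).2

/-- Block idempotents of the stabilizer vanish off `C_G(Q)`. -/
theorem blockCoeff_eq_zero_of_hT [Fact p.Prime] (hM : IsPModular p M) (hQ : IsPGroup p Q)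
    (hQT : Q ≤ T) (hTN : T ≤ Subgroup.normalizer (Q : Set G))
    {F : Set (IrrCharacter T)} (hF : IsPBlock M F) (t : T)
    (ht : (t : G) ∉ Subgroup.centralizer (Q : Set G)) : blockCoeff F t = 0 := by
  classical
  haveI : Fintype T := Fintype.ofFinite _
  haveI : (Q.subgroupOf T).Normal := (Subgroup.normal_subgroupOf_iff_le_normalizer hQT).mpr hTN
  refine Cfsg.Agent.S4653.result p M hM (Q.subgroupOf T) hQ.comap_subtype F hF t ?_
  intro hcon
  exact ht ((mem_centralizer_subgroupOf_iff hQT t).mp hcon)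

/-- **The idempotent of `f` is a block idempotent of the stabilizer.** -/
theorem exists_block_of_hT [Fact p.Prime] (hM : IsPModular p M) (hQ : IsPGroup p Q)
    (hf : IsPBlock M f)
    (hT : ∀ y : G, y ∈ T ↔ y ∈ Subgroup.normalizer (Q : Set G) ∧
      StabilizesBlock (Subgroup.centralizer (Q : Set G)) f y) :
    ∃ F : Set (IrrCharacter T), IsPBlock M F ∧ ∀ t : T, blockCoeff F t =
      subgroupBlockCoeff (Subgroup.centralizer (Q : Set G)) f (t : G) := by
  classical
  haveI hpr := isPrime_of_isPModular hM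
  haveI : Fintype T := Fintype.ofFinite _
  haveI : Fintype (Subgroup.centralizer (Q : Set G)) := Fintype.ofFinite _
  exact exists_block_of_stable_normal (centralizer_le_of_hT hf hT)
    ((le_normalizer_of_hT hT).trans (normalizer_le_normalizer_centralizer Q)) hf
    (isStableSet_of_hT hf hT)
    (fun F hF t ht => blockCoeff_eq_zero_of_hT hM hQ (self_le_of_hT hf hT)
      (le_normalizer_of_hT hT) hF t ht)

/-- `N_P(Q)` stabilizes `f`. -/
theorem inf_normalizer_le_of_hT [Fact p.Prime] (hM : IsPModular p M)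
    {P : Subgroup G} {e : Set (IrrCharacter (Subgroup.centralizer (P : Set G)))}
    (hPe : IsBrauerPair p M P e) (hQP : Q ≤ P) (hf : IsPBlock M f)
    (hle : SubpairLE p M Q f P e)
    (hT : ∀ y : G, y ∈ T ↔ y ∈ Subgroup.normalizer (Q : Set G) ∧
      StabilizesBlock (Subgroup.centralizer (Q : Set G)) f y) :
    P ⊓ Subgroup.normalizer (Q : Set G) ≤ T := by
  obtain ⟨g, hg, -⟩ := exists_isNormalSubpair_sup hM hPe hQP hf hle
    (P ⊓ Subgroup.normalizer (Q : Set G)) inf_le_left inf_le_right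
  intro y hy
  rw [hT]
  exact ⟨hy.2, hg.2.2.2.2.1 y ((le_sup_right : _ ≤ Q ⊔ _) hy)⟩

/-- `N_P(Q)` lies in a defect group of the block of the stabilizer with idempotent that of `f`. -/
theorem exists_isDefectGroup_ge_normalizer [Fact p.Prime] (hM : IsPModular p M)
    {P : Subgroup G} {e : Set (IrrCharacter (Subgroup.centralizer (P : Set G)))}
    (hPe : IsBrauerPair p M P e) (hQP : Q ≤ P) (hf : IsPBlock M f)
    (hle : SubpairLE p M Q f P e)
    (hT : ∀ y : G, y ∈ T ↔ y ∈ Subgroup.normalizer (Q : Set G) ∧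
      StabilizesBlock (Subgroup.centralizer (Q : Set G)) f y)
    {F : Set (IrrCharacter T)} (hF : IsPBlock M F)
    (hFf : ∀ t : T, blockCoeff F t =
      subgroupBlockCoeff (Subgroup.centralizer (Q : Set G)) f (t : G)) :
    ∃ D : Subgroup T, IsDefectGroup p M F D ∧
      (P ⊓ Subgroup.normalizer (Q : Set G)).subgroupOf T ≤ D := by
  classical
  haveI hpr := isPrime_of_isPModular hM
  haveI : Fintype T := Fintype.ofFinite _
  obtain ⟨x, hx, hne⟩ := exists_mem_centralizer_not_memLocalIdeal hM hPe hQP hf hle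
    (P ⊓ Subgroup.normalizer (Q : Set G)) inf_le_left inf_le_right
  have hxQ : x ∈ Subgroup.centralizer (Q : Set G) :=
    Subgroup.centralizer_le (by exact_mod_cast (le_sup_left : Q ≤ Q ⊔ _)) hx
  have hxT : x ∈ T := centralizer_le_of_hT hf hT hxQ
  have hne' : ¬ MemLocalIdeal M (blockCoeff F ⟨x, hxT⟩) := by
    rw [hFf]
    exact hne
  refine exists_isDefectGroup_ge_of_blockCoeff hM hF hne' _
    ((hPe.1.to_le inf_le_left).comap_subtype) ?_
  intro t ht
  rw [Subgroup.mem_subgroupOf] at ht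
  rw [Subgroup.mem_centralizer_iff]
  intro y hy
  rw [Set.mem_singleton_iff] at hy
  subst hy
  apply Subtype.ext
  rw [Subgroup.coe_mul, Subgroup.coe_mul]
  have := (Subgroup.mem_centralizer_iff.mp hx) (t : G)
    (by exact_mod_cast (le_sup_right : _ ≤ Q ⊔ _) ht)
  exact this.symm

/-- The key step of S4662: if `|N_P(Q)|` is maximal among the conjugates of `(Q, f)` below
`(P, e)`, then `N_P(Q)` is a defect group of the block of the stabilizer. -/
theorem isDefectGroup_normalizer_of_maximal [Fact p.Prime] (hM : IsPModular p M)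
    {B : Set (IrrCharacter G)}
    {P : Subgroup G} {e : Set (IrrCharacter (Subgroup.centralizer (P : Set G)))}
    (hmax : IsMaximalBrauerPair p M B P e) (hQP : Q ≤ P) (hf : IsPBlock M f)
    (hle : SubpairLE p M Q f P e)
    (hmaxcard : ∀ y : G,
      SubpairLE p M (Q.map (MulAut.conj y).toMonoidHom) (conjBlock Q y f) P e →
      Nat.card (P ⊓ Subgroup.normalizer
        ((Q.map (MulAut.conj y).toMonoidHom : Subgroup G) : Set G) : Subgroup G) ≤
        Nat.card (P ⊓ Subgroup.normalizer (Q : Set G) : Subgroup G))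
    (hT : ∀ y : G, y ∈ T ↔ y ∈ Subgroup.normalizer (Q : Set G) ∧
      StabilizesBlock (Subgroup.centralizer (Q : Set G)) f y) :
    ∃ F : Set (IrrCharacter T), IsPBlock M F ∧
      (∀ t : T, blockCoeff F t =
        subgroupBlockCoeff (Subgroup.centralizer (Q : Set G)) f (t : G)) ∧
      IsDefectGroup p M F ((P ⊓ Subgroup.normalizer (Q : Set G)).subgroupOf T) := by
  classical
  haveI hpr := isPrime_of_isPModular hM
  haveI : Fintype T := Fintype.ofFinite _
  haveI : Fintype (Subgroup.centralizer (Q : Set G)) := Fintype.ofFinite _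
  have hPe : IsBrauerPair p M P e := hmax.1.1
  have hB : IsPBlock M B := hmax.1.2.1
  have hQ : IsPGroup p Q := hPe.1.to_le hQP
  obtain ⟨F, hF, hFf⟩ := exists_block_of_hT hM hQ hf hT
  obtain ⟨D, hD, hND⟩ := exists_isDefectGroup_ge_normalizer hM hPe hQP hf hle hT hF hFf
  refine ⟨F, hF, hFf, ?_⟩
  have hD' := hD
  obtain ⟨x₀, hx₀, S₀, hDS⟩ := hD
  have hQT := self_le_of_hT hf hT
  have hTN := le_normalizer_of_hT hT
  obtain ⟨D', hD'def⟩ : ∃ D' : Subgroup G, D' = D.map T.subtype := ⟨_, rfl⟩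
  have hD'T : D' ≤ T := hD'def ▸ Subgroup.map_subtype_le D
  have hDp : IsPGroup p D := isPGroup_of_isDefectGroup hD'
  have hD'p : IsPGroup p D' := hD'def ▸ hDp.map _
  have hD'N : D' ≤ Subgroup.normalizer (Q : Set G) := hD'T.trans hTN
  have hQD' : Q ≤ D' := by
    haveI : (Q.subgroupOf T).Normal :=
      (Subgroup.normal_subgroupOf_iff_le_normalizer hQT).mpr hTN
    have h1 : Q.subgroupOf T ≤ D :=
      normal_le_of_isDefectGroup hM hF hD' (Q.subgroupOf T) hQ.comap_subtype
    intro q hq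
    rw [hD'def]
    exact ⟨⟨q, hQT hq⟩, h1 (Subgroup.mem_subgroupOf.mpr hq), rfl⟩
  have hst : IsStableSet (Subgroup.centralizer (Q : Set G)) D'
      (hD'N.trans (normalizer_le_normalizer_centralizer Q)) f := by
    intro y hy
    exact isStableSet_of_hT hf hT y (hD'T hy)
  have hx₀D' : (x₀ : G) ∈ Subgroup.centralizer (D' : Set G) := by
    rw [← le_centralizer_singleton_iff, hD'def]
    rintro _ ⟨d, hd, rfl⟩
    rw [Subgroup.mem_centralizer_iff]
    intro y hy
    rw [Set.mem_singleton_iff] at hy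
    subst hy
    have hd' : d ∈ Subgroup.centralizer ({x₀} : Set T) := by
      rw [hDS] at hd
      exact sylow_map_le_centralizer x₀ S₀ hd
    have := (Subgroup.mem_centralizer_iff.mp hd') x₀ rfl
    exact congrArg Subtype.val this
  have hne : ¬ MemLocalIdeal M
      (subgroupBlockCoeff (Subgroup.centralizer (Q : Set G)) f (x₀ : G)) := by
    rw [← hFf]
    exact hx₀.2.1
  obtain ⟨g₂, hg₂⟩ := exists_isNormalSubpair_above hM Q D' hD'p hQD' hD'N hf hst hx₀D' hne
  have hQfB : IsBrauerPairOf p M B Q f :=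
    (isBrauerPairOf_iff_of_subpairLE hM P Q e f hPe ⟨hQ, hf⟩ hle B hB).mp hmax.1
  have hD'B : IsBrauerPairOf p M B D' g₂ :=
    (isBrauerPairOf_iff_of_subpairLE hM D' Q g₂ f hg₂.2.1 hg₂.1
      (Relation.ReflTransGen.single hg₂) B hB).mpr hQfB
  obtain ⟨y, hy⟩ := exists_conj_subpairLE hM hmax hD'B
  have hle' : SubpairLE p M (Q.map (MulAut.conj y).toMonoidHom) (conjBlock Q y f) P e :=
    Relation.ReflTransGen.head (show NormalSubpairRel p M
      ⟨Q.map (MulAut.conj y).toMonoidHom, conjBlock Q y f⟩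
      ⟨D'.map (MulAut.conj y).toMonoidHom, conjBlock D' y g₂⟩ from
      isNormalSubpair_conjBlock y hg₂) hy
  have hD'yP : D'.map (MulAut.conj y).toMonoidHom ≤ P := le_of_reflTransGen hy
  have hD'yN : D'.map (MulAut.conj y).toMonoidHom ≤
      Subgroup.normalizer ((Q.map (MulAut.conj y).toMonoidHom : Subgroup G) : Set G) :=
    (Subgroup.map_mono hD'N).trans (Subgroup.le_normalizer_map _)
  have h1 : Nat.card D' = Nat.card D := by
    rw [hD'def, Subgroup.card_map_of_injective (Subgroup.subtype_injective T)]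
  have h2 : Nat.card (D'.map (MulAut.conj y).toMonoidHom) = Nat.card D' :=
    Subgroup.card_map_of_injective (MulAut.conj y).injective
  have h3 : Nat.card (D'.map (MulAut.conj y).toMonoidHom) ≤
      Nat.card (P ⊓ Subgroup.normalizer
        ((Q.map (MulAut.conj y).toMonoidHom : Subgroup G) : Set G) : Subgroup G) :=
    Subgroup.card_le_of_le (le_inf hD'yP hD'yN)
  have h4 := hmaxcard y hle'
  have h5 : Nat.card ((P ⊓ Subgroup.normalizer (Q : Set G)).subgroupOf T) =
      Nat.card (P ⊓ Subgroup.normalizer (Q : Set G) : Subgroup G) :=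
    card_subgroupOf_of_le (inf_normalizer_le_of_hT hM hPe hQP hf hle hT)
  have hge : Nat.card D ≤ Nat.card ((P ⊓ Subgroup.normalizer (Q : Set G)).subgroupOf T) := by
    omega
  rw [Subgroup.eq_of_le_of_card_ge hND hge]
  exact hD'

theorem conjRel_one (Q : Subgroup G)
    (f : Set (IrrCharacter (Subgroup.centralizer (Q : Set G)))) : ConjRel 1 Q Q f f := by
  refine ⟨?_, fun ξ' => ⟨fun h => ⟨ξ', h, fun c c' hcc' => ?_⟩, ?_⟩⟩
  · ext g
    simp
  · refine congrArg ξ'.1 ?_
    apply Subtype.ext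
    rw [hcc']
    simp
  · rintro ⟨ξ, hξ, h⟩
    have : ξ' = ξ := by
      apply Subtype.ext
      funext c
      exact h c c (by simp)
    rw [this]
    exact hξ

/-- **S4662, second part**. -/
theorem exists_conj_isDefectGroup_normalizer [Fact p.Prime] (hM : IsPModular p M)
    {B : Set (IrrCharacter G)}
    {P : Subgroup G} {e : Set (IrrCharacter (Subgroup.centralizer (P : Set G)))}
    (hmax : IsMaximalBrauerPair p M B P e) (hQP : Q ≤ P) (hf : IsPBlock M f)
    (hle : SubpairLE p M Q f P e) :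
    ∃ x : G, SubpairLE p M (Q.map (MulAut.conj x).toMonoidHom) (conjBlock Q x f) P e ∧
      ∀ (T' : Subgroup G), (∀ y : G, y ∈ T' ↔
        y ∈ Subgroup.normalizer ((Q.map (MulAut.conj x).toMonoidHom : Subgroup G) : Set G) ∧
        StabilizesBlock (Subgroup.centralizer
          ((Q.map (MulAut.conj x).toMonoidHom : Subgroup G) : Set G)) (conjBlock Q x f) y) →
      ∃ F' : Set (IrrCharacter T'), IsPBlock M F' ∧
        (∀ t : T', blockCoeff F' t = subgroupBlockCoeff (Subgroup.centralizer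
          ((Q.map (MulAut.conj x).toMonoidHom : Subgroup G) : Set G)) (conjBlock Q x f) (t : G)) ∧
        IsDefectGroup p M F' ((P ⊓ Subgroup.normalizer
          ((Q.map (MulAut.conj x).toMonoidHom : Subgroup G) : Set G)).subgroupOf T') := by
  classical
  have hPe : IsBrauerPair p M P e := hmax.1.1
  have hQ : IsPGroup p Q := hPe.1.to_le hQP
  let s : Finset G := Finset.univ.filter
    (fun x => SubpairLE p M (Q.map (MulAut.conj x).toMonoidHom) (conjBlock Q x f) P e)
  have hs : s.Nonempty :=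
    ⟨1, Finset.mem_filter.mpr ⟨Finset.mem_univ _, (conjRel_one Q f).subpairLE_conjBlock_of hle⟩⟩
  obtain ⟨x₁, hx₁s, hx₁max⟩ := Finset.exists_max_image s
    (fun x => Nat.card (P ⊓ Subgroup.normalizer
      ((Q.map (MulAut.conj x).toMonoidHom : Subgroup G) : Set G) : Subgroup G)) hs
  have hle₁ := (Finset.mem_filter.mp hx₁s).2
  refine ⟨x₁, hle₁, fun T' hT' => ?_⟩
  have hQ₁P : Q.map (MulAut.conj x₁).toMonoidHom ≤ P := le_of_reflTransGen hle₁
  have hf₁ : IsPBlock M (conjBlock Q x₁ f) := (isBrauerPair_conjBlock x₁ ⟨hQ, hf⟩).2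
  refine isDefectGroup_normalizer_of_maximal hM hmax hQ₁P hf₁ hle₁ ?_ hT'
  intro y hy
  have hcomp := (conjRel_conjBlock x₁ Q f).comp
    (conjRel_conjBlock y (Q.map (MulAut.conj x₁).toMonoidHom) (conjBlock Q x₁ f))
  have hle₂ := hcomp.subpairLE_conjBlock_of hy
  have hmem : y * x₁ ∈ s := Finset.mem_filter.mpr ⟨Finset.mem_univ _, hle₂⟩
  have := hx₁max (y * x₁) hmem
  rw [hcomp.1]
  exact this

end stabblock

end Cfsg.Agent.Helper77
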