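import Mathlib
import Cfsg.Agent.Lib.Helper77.StabBlock

set_option autoImplicit false
set_option linter.unusedSectionVars false
set_option linter.style.haveILetI false

namespace Cfsg.Agent.Helper77

open Cfsg Cfsg.Agent.Helper79

universe u

section prelim

variable {G : Type u} [Group G] [Fintype G] {M : Ideal AlgInt}

theorem omega_conjFun (K : Subgroup G) [Fintype K] (x : G)
    (hx : x ∈ Subgroup.normalizer (K : Set G))
    (χ : K → ℂ) {v : K → ℂ} (hv : ∀ k : K, v (conjEquivOf K x hx k) = v k) :
    omega (conjFun K x hx χ) v = omega χ v := by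
  unfold omega conjFun
  rw [map_one]
  congr 1
  rw [← Equiv.sum_comp (conjEquivOf K x hx).toEquiv]
  refine Finset.sum_congr rfl fun k _ => ?_
  simp only [MulEquiv.toEquiv_eq_coe, MulEquiv.coe_toEquiv, MulEquiv.symm_apply_apply]
  rw [hv]

theorem isClassFunction_finset_sum {A : Type u} [Group A] {ι : Type*} (s : Finset ι)
    (a : ι → A → ℂ) (h : ∀ i ∈ s, IsClassFunction A (a i)) :
    IsClassFunction A (∑ i ∈ s, a i) := by
  intro g k
  simp only [Finset.sum_apply]
  exact Finset.sum_congr rfl fun i hi => h i hi g k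

theorem conv_sum_blockCoeff_self {A : Type u} [Group A] [Fintype A] [hp : M.IsPrime]
    (O : Finset (Set (IrrCharacter A))) (hO : ∀ f ∈ O, IsPBlock M f) :
    conv (∑ f ∈ O, blockCoeff f) (∑ f ∈ O, blockCoeff f) = ∑ f ∈ O, blockCoeff f := by
  classical
  have hcl := isClassFunction_finset_sum O (fun f => blockCoeff f)
    (fun f _ => isClassFunction_blockCoeff f)
  apply eq_of_omega_eq (isClassFunction_conv hcl hcl) hcl
  intro θ
  rw [omega_conv θ.2 hcl hcl, omega_sum_blockCoeff O hO θ]
  split_ifs <;> simp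

end prelim

section trace

variable {G : Type u} [Group G] [Fintype G] {p : ℕ} {M : Ideal AlgInt}

/-- **S4654**: over a normal `p`-subgroup, the idempotent of `e` is a block idempotent of its
stabilizer and the idempotent of `B` is the trace of the idempotent of `e`. -/
theorem normal_trace [Fact p.Prime] (hM : IsPModular p M) (P : Subgroup G) [P.Normal]
    (hP : IsPGroup p P) {B : Set (IrrCharacter G)}
    {e : Set (IrrCharacter (Subgroup.centralizer (P : Set G)))}
    (hBe : IsBrauerPairOf p M B P e) (T : Subgroup G)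
    (hT : ∀ x : G, x ∈ T ↔ StabilizesBlock (Subgroup.centralizer (P : Set G)) e x) :
    (∃ E : Set (IrrCharacter T), IsPBlock M E ∧ ∀ t : T, blockCoeff E t =
      subgroupBlockCoeff (Subgroup.centralizer (P : Set G)) e (t : G)) ∧
    ∀ g : G, blockCoeff B g = (Nat.card T : ℂ)⁻¹ *
      ∑ x : G, subgroupBlockCoeff (Subgroup.centralizer (P : Set G)) e (x⁻¹ * g * x) := by
  classical
  haveI hpr := isPrime_of_isPModular hM
  haveI : Fintype T := Fintype.ofFinite _
  haveI : Fintype (Subgroup.centralizer (P : Set G)) := Fintype.ofFinite _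
  have he : IsPBlock M e := hBe.1.2
  have hB : IsPBlock M B := hBe.2.1
  haveI hCn : (Subgroup.centralizer (P : Set G)).Normal := inferInstance
  have hNtop : ∀ x : G, x ∈ Subgroup.normalizer
      ((Subgroup.centralizer (P : Set G) : Subgroup G) : Set G) := fun x => by
    rw [Subgroup.normalizer_eq_top]
    trivial
  have hstab : ∀ x, x ∈ T ↔ conjSet (Subgroup.centralizer (P : Set G)) x (hNtop x) e = e :=
    fun x => (hT x).trans (stabilizesBlock_iff_conjSet_eq _ x (hNtop x) he)
  have hCT : Subgroup.centralizer (P : Set G) ≤ T := fun c hc => (hstab c).mpr (by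
    obtain ⟨h1, h2⟩ := le_stabSub (Subgroup.centralizer (P : Set G)) e hc
    exact h2)
  have hPT : P ≤ T := fun q hq => (hstab q).mpr (by
    obtain ⟨h1, h2⟩ := ((le_centralizer_centralizer' P).trans
      (centralizer_le_stabSub (Subgroup.centralizer (P : Set G)) e)) hq
    exact h2)
  have hTN : T ≤ Subgroup.normalizer
      ((Subgroup.centralizer (P : Set G) : Subgroup G) : Set G) := fun x _ => hNtop x
  have hst : IsStableSet (Subgroup.centralizer (P : Set G)) T hTN e :=
    fun x hx => (hstab x).mp hx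
  have hTNP : T ≤ Subgroup.normalizer (P : Set G) := fun x _ => by
    rw [Subgroup.normalizer_eq_top]
    trivial
  refine ⟨exists_block_of_stable_normal hCT hTN he hst
    (fun F hF t ht => blockCoeff_eq_zero_of_hT hM hP hPT hTNP hF t ht), ?_⟩
  have hN : (⊤ : Subgroup G) ≤ Subgroup.normalizer
      ((Subgroup.centralizer (P : Set G) : Subgroup G) : Set G) := fun x _ => hNtop x
  have hOblock : ∀ c ∈ orbitFinset (Subgroup.centralizer (P : Set G)) ⊤ hN e, IsPBlock M c :=
    fun c hc => isPBlock_of_mem_orbitFinset he hc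
  have hw_cl : IsClassFunction G (orbitSum (Subgroup.centralizer (P : Set G)) ⊤ hN e) :=
    fun g k => orbitSum_conj _ ⊤ hN e k (Subgroup.mem_top k) g
  have hwR : IsRValued M (orbitSum (Subgroup.centralizer (P : Set G)) ⊤ hN e) :=
    isRValued_orbitSum _ ⊤ hN he
  have hw_ext := orbitSum_eq_extZ (Subgroup.centralizer (P : Set G)) ⊤ hN e
  have hw_idem : conv (orbitSum (Subgroup.centralizer (P : Set G)) ⊤ hN e)
      (orbitSum (Subgroup.centralizer (P : Set G)) ⊤ hN e) =
      orbitSum (Subgroup.centralizer (P : Set G)) ⊤ hN e := by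
    rw [hw_ext, conv_extZ, conv_sum_blockCoeff_self _ hOblock]
  have hsB : ∀ g, g ∉ Subgroup.centralizer (P : Set G) → blockCoeff B g = 0 :=
    fun g hg => Cfsg.Agent.S4653.result p M hM P hP B hB g hg
  have hv_cl : IsClassFunction (Subgroup.centralizer (P : Set G))
      (restr (Subgroup.centralizer (P : Set G)) (blockCoeff B)) :=
    isClassFunction_restr _ (fun u _ x => isClassFunction_blockCoeff B x u)
  have hvR : IsRValued M (restr (Subgroup.centralizer (P : Set G)) (blockCoeff B)) :=
    isRValued_restr _ (isRValued_blockCoeff hB)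
  have hv_idem : conv (restr (Subgroup.centralizer (P : Set G)) (blockCoeff B))
      (restr (Subgroup.centralizer (P : Set G)) (blockCoeff B)) =
      restr (Subgroup.centralizer (P : Set G)) (blockCoeff B) := by
    rw [restr_conv_of_support _ hsB hsB, conv_blockCoeff_self]
  have hv_inv : ∀ x (k : Subgroup.centralizer (P : Set G)),
      restr (Subgroup.centralizer (P : Set G)) (blockCoeff B)
        (conjEquivOf (Subgroup.centralizer (P : Set G)) x (hNtop x) k) =
      restr (Subgroup.centralizer (P : Set G)) (blockCoeff B) k :=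
    fun x k => isClassFunction_blockCoeff B (k : G) x
  have hξ1 : ∀ ξ ∈ e, omega (ξ : Subgroup.centralizer (P : Set G) → ℂ)
      (restr (Subgroup.centralizer (P : Set G)) (blockCoeff B)) = 1 := by
    intro ξ hξ
    have h1 := hBe.2.2 ξ hξ
    rw [brauerOmega_eq_omega] at h1
    rcases omega_eq_zero_or_one_of_idem hv_cl hv_idem ξ with h | h
    · exfalso
      have h2 : omega (ξ : Subgroup.centralizer (P : Set G) → ℂ)
          (fun x : Subgroup.centralizer (P : Set G) => blockCoeff B x) = 0 := h
      rw [h2, zero_sub] at h1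
      have := memLocalIdeal_neg h1
      rw [neg_neg] at this
      exact not_memLocalIdeal_one this
    · exact h
  have hθ1 : ∀ θ : IrrCharacter (Subgroup.centralizer (P : Set G)),
      blockOf M (θ : Subgroup.centralizer (P : Set G) → ℂ) ∈
        orbitFinset (Subgroup.centralizer (P : Set G)) ⊤ hN e →
      omega (θ : Subgroup.centralizer (P : Set G) → ℂ)
        (restr (Subgroup.centralizer (P : Set G)) (blockCoeff B)) = 1 := by
    intro θ hθ
    obtain ⟨n, hn, hc⟩ := mem_orbitFinset.mp hθ
    have hθmem : θ ∈ conjSet (Subgroup.centralizer (P : Set G)) n (hN hn) e :=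
      hc ▸ mem_blockOf_self θ
    obtain ⟨ξ, hξ, rfl⟩ := hθmem
    show omega (conjFun (Subgroup.centralizer (P : Set G)) n _ ξ.1) _ = 1
    rw [omega_conjFun _ n _ ξ.1 (hv_inv n), hξ1 ξ hξ]
  have hs_cl := isClassFunction_finset_sum
    (orbitFinset (Subgroup.centralizer (P : Set G)) ⊤ hN e) (fun f => blockCoeff f)
    (fun f _ => isClassFunction_blockCoeff f)
  have hw_le : conv (orbitSum (Subgroup.centralizer (P : Set G)) ⊤ hN e) (blockCoeff B) =
      orbitSum (Subgroup.centralizer (P : Set G)) ⊤ hN e := by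
    have hBext : blockCoeff B = extZ (Subgroup.centralizer (P : Set G))
        (restr (Subgroup.centralizer (P : Set G)) (blockCoeff B)) :=
      (extZ_restr_of_support hsB).symm
    rw [hw_ext]
    conv_lhs => rw [hBext]
    rw [conv_extZ]
    congr 1
    apply eq_of_omega_eq (isClassFunction_conv hs_cl hv_cl) hs_cl
    intro θ
    rw [omega_conv θ.2 hs_cl hv_cl, omega_sum_blockCoeff _ hOblock θ]
    by_cases h : blockOf M (θ : Subgroup.centralizer (P : Set G) → ℂ) ∈
        orbitFinset (Subgroup.centralizer (P : Set G)) ⊤ hN e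
    · rw [if_pos h, hθ1 θ h, mul_one]
    · rw [if_neg h, zero_mul]
  have hw_ne : orbitSum (Subgroup.centralizer (P : Set G)) ⊤ hN e ≠ 0 := by
    intro h0
    obtain ⟨ξ, hξ⟩ := nonempty_of_isPBlock he
    have h1 := omega_restr_orbitSum (Subgroup.centralizer (P : Set G)) ⊤ hN he ξ
    rw [if_pos (by rw [← eq_blockOf_of_mem he hξ]; exact self_mem_orbitFinset _ ⊤ hN e), h0] at h1
    have h2 : restr (Subgroup.centralizer (P : Set G)) (0 : G → ℂ) = 0 := rfl
    rw [h2, omega_zero'] at h1
    exact zero_ne_one h1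
  have hwB : orbitSum (Subgroup.centralizer (P : Set G)) ⊤ hN e = blockCoeff B :=
    eq_blockCoeff_of_idem_of_conv hB hw_cl hwR hw_idem hw_le hw_ne
  intro g
  have hcount : ∑ x : G, subgroupBlockCoeff (Subgroup.centralizer (P : Set G)) e (x⁻¹ * g * x) =
      (Nat.card T : ℂ) * orbitSum (Subgroup.centralizer (P : Set G)) ⊤ hN e g := by
    have h1 : ∀ x : G, subgroupBlockCoeff (Subgroup.centralizer (P : Set G)) e (x⁻¹ * g * x) =
        subgroupBlockCoeff (Subgroup.centralizer (P : Set G))
          (conjSet (Subgroup.centralizer (P : Set G)) x (hNtop x) e) g :=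
      fun x => (subgroupBlockCoeff_conjSet _ x (hNtop x) e g).symm
    simp_rw [h1]
    rw [← Finset.sum_fiberwise_of_maps_to (s := Finset.univ)
      (t := orbitFinset (Subgroup.centralizer (P : Set G)) ⊤ hN e)
      (g := fun x => conjSet (Subgroup.centralizer (P : Set G)) x (hNtop x) e)
      (fun x _ => mem_orbitFinset.mpr ⟨x, Subgroup.mem_top x, rfl⟩)]
    unfold orbitSum
    rw [Finset.sum_apply, Finset.mul_sum]
    refine Finset.sum_congr rfl fun c hc => ?_
    rw [Finset.sum_congr rfl (fun x hx => by rw [(Finset.mem_filter.mp hx).2])]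
    rw [Finset.sum_const, nsmul_eq_mul]
    congr 1
    obtain ⟨x₀, _hn, hx₀⟩ := mem_orbitFinset.mp hc
    rw [Nat.card_eq_fintype_card, ← Finset.card_univ]
    norm_cast
    have hmemT : ∀ x ∈ Finset.univ.filter
        (fun i => conjSet (Subgroup.centralizer (P : Set G)) i (hNtop i) e = c),
        x₀⁻¹ * x ∈ T := by
      intro x hx
      rw [hstab, conjSet_mul _ x₀⁻¹ x (hNtop _) (hNtop x), (Finset.mem_filter.mp hx).2, hx₀]
      exact conjSet_inv_conjSet _ x₀ _ _ e
    refine Finset.card_bij' (fun x hx => (⟨x₀⁻¹ * x, hmemT x hx⟩ : T))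
      (fun t _ => x₀ * (t : G)) ?_ ?_ ?_ ?_
    · intro x hx
      exact Finset.mem_univ _
    · intro t _
      refine Finset.mem_filter.mpr ⟨Finset.mem_univ _, ?_⟩
      rw [conjSet_mul _ x₀ (t : G) (hNtop x₀) (hNtop _), (hstab t).mp t.2, hx₀]
    · intro x hx
      simp
    · intro t _
      apply Subtype.ext
      simp
  have hT0 : (Nat.card T : ℂ) ≠ 0 := by
    have : 0 < Nat.card T := Nat.card_pos
    exact_mod_cast this.ne'
  rw [hcount, ← hwB, ← mul_assoc, inv_mul_cancel₀ hT0, one_mul]

end trace

end Cfsg.Agent.Helper77
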