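import Mathlib
import Cfsg.Agent.Lib.Helper77.NormalTrace

set_option autoImplicit false
set_option linter.unusedSectionVars false
set_option linter.style.haveILetI false

namespace Cfsg.Agent.Helper77

open Cfsg Cfsg.Agent.Helper79

universe u

section normequiv'

variable {G : Type u} [Group G]

/-- The normalizer of `P` computed inside a subgroup `H ≥ P` is `N_G(P) ∩ H`. -/
def normEquiv' (P H : Subgroup G) (hPH : P ≤ H) :
    ↥(Subgroup.normalizer ((P.subgroupOf H : Subgroup H) : Set H)) ≃*
      ↥(Subgroup.normalizer (P : Set G) ⊓ H) where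
  toFun y := ⟨((y : H) : G), ⟨(mem_normalizer_subgroupOf_iff hPH y.1).mp y.2, y.1.2⟩⟩
  invFun n := ⟨⟨(n : G), n.2.2⟩, (mem_normalizer_subgroupOf_iff hPH _).mpr n.2.1⟩
  left_inv y := rfl
  right_inv n := rfl
  map_mul' a b := rfl

theorem normEquiv'_symm_apply_coe (P H : Subgroup G) (hPH : P ≤ H)
    (n : ↥(Subgroup.normalizer (P : Set G) ⊓ H)) :
    ((((normEquiv' P H hPH).symm n :
      ↥(Subgroup.normalizer ((P.subgroupOf H : Subgroup H) : Set H))) : H) : G) = (n : G) := rfl

end normequiv'

section relorbit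

variable {G : Type u} [Group G] [Fintype G] {p : ℕ} {M : Ideal AlgInt}

/-- **Relative orbit lemma**: if `P ≤ C_G(Q)` is a defect group of the block `f` of `C_G(Q)`,
the blocks `e` of `C_G(P)` with `(Q, f) ⊴ (P, e)` form a single orbit under
`N_G(P) ∩ C_G(Q)`. -/
theorem exists_conjSet_eq_of_isNormalSubpair [Fact p.Prime] (hM : IsPModular p M)
    {P Q : Subgroup G} {f : Set (IrrCharacter (Subgroup.centralizer (Q : Set G)))}
    (hf : IsPBlock M f) (hQP : Q ≤ P) (hPC : P ≤ Subgroup.centralizer (Q : Set G))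
    (hPD : IsDefectGroup p M f (P.subgroupOf (Subgroup.centralizer (Q : Set G))))
    {e₁ e₂ : Set (IrrCharacter (Subgroup.centralizer (P : Set G)))}
    (h₁ : IsNormalSubpair p M Q f P e₁) (h₂ : IsNormalSubpair p M Q f P e₂) :
    ∃ n, ∃ hn : n ∈ Subgroup.normalizer (P : Set G) ⊓ Subgroup.centralizer (Q : Set G),
      e₂ = conjSet (Subgroup.centralizer (P : Set G)) n
        (normalizer_le_normalizer_centralizer P hn.1) e₁ := by
  classical
  haveI hpr := isPrime_of_isPModular hM
  haveI : Fintype (Subgroup.centralizer (Q : Set G)) := Fintype.ofFinite _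
  haveI : Fintype (Subgroup.centralizer (P : Set G)) := Fintype.ofFinite _
  haveI : Fintype ↥(Subgroup.normalizer (P : Set G) ⊓ Subgroup.centralizer (Q : Set G)) :=
    Fintype.ofFinite _
  haveI : Fintype (Subgroup.normalizer ((P.subgroupOf (Subgroup.centralizer (Q : Set G)) :
    Subgroup (Subgroup.centralizer (Q : Set G))) : Set (Subgroup.centralizer (Q : Set G)))) :=
    Fintype.ofFinite _
  have hP : IsPGroup p P := h₁.2.1.1
  have hP'p : IsPGroup p (P.subgroupOf (Subgroup.centralizer (Q : Set G))) := hP.comap_subtype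
  obtain ⟨c₀, hc₀, -, hind⟩ := fmt_exists hM (P.subgroupOf (Subgroup.centralizer (Q : Set G)))
    hP'p hf hPD
  have hbr := fmt_brauer hM (P.subgroupOf (Subgroup.centralizer (Q : Set G))) hP'p hPD hind
  have hc' : IsPBlock M (mapSet (normEquiv' P (Subgroup.centralizer (Q : Set G)) hPC) c₀) :=
    isPBlock_mapSet _ hc₀
  have hKN' : Subgroup.centralizer (P : Set G) ≤
      Subgroup.normalizer (P : Set G) ⊓ Subgroup.centralizer (Q : Set G) :=
    le_inf (Subgroup.centralizer_le_normalizer _) (Subgroup.centralizer_le (by exact_mod_cast hQP))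
  have hN'K : Subgroup.normalizer (P : Set G) ⊓ Subgroup.centralizer (Q : Set G) ≤
      Subgroup.normalizer ((Subgroup.centralizer (P : Set G) : Subgroup G) : Set G) :=
    inf_le_left.trans (normalizer_le_normalizer_centralizer P)
  have hPN' : P ≤ Subgroup.normalizer (P : Set G) ⊓ Subgroup.centralizer (Q : Set G) :=
    le_inf Subgroup.le_normalizer hPC
  have hsupp : ∀ g, g ∉ Subgroup.centralizer (P : Set G) →
      subgroupBlockCoeff (Subgroup.normalizer (P : Set G) ⊓ Subgroup.centralizer (Q : Set G))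
        (mapSet (normEquiv' P (Subgroup.centralizer (Q : Set G)) hPC) c₀) g = 0 := by
    intro g hg
    rw [subgroupBlockCoeff_eq_extZ]
    by_cases hgN : g ∈ Subgroup.normalizer (P : Set G) ⊓ Subgroup.centralizer (Q : Set G)
    · rw [extZ_of_mem' _ _ hgN]
      exact blockCoeff_eq_zero_of_hT hM hP hPN' inf_le_left hc' ⟨g, hgN⟩ hg
    · exact extZ_of_notMem _ _ hgN
  have hγ : EqMod M (restr (Subgroup.centralizer (P : Set G))
      (subgroupBlockCoeff (Subgroup.normalizer (P : Set G) ⊓ Subgroup.centralizer (Q : Set G))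
        (mapSet (normEquiv' P (Subgroup.centralizer (Q : Set G)) hPC) c₀)))
      (restr (Subgroup.centralizer (P : Set G))
        (subgroupBlockCoeff (Subgroup.centralizer (Q : Set G)) f)) := by
    intro k
    have hkN' : (k : G) ∈ Subgroup.normalizer (P : Set G) ⊓ Subgroup.centralizer (Q : Set G) :=
      hKN' k.2
    have hkC : (k : G) ∈ Subgroup.centralizer (Q : Set G) := hkN'.2
    show MemLocalIdeal M (subgroupBlockCoeff _ _ (k : G) - subgroupBlockCoeff _ f (k : G))
    rw [subgroupBlockCoeff_eq_extZ, extZ_of_mem' _ _ hkN', blockCoeff_mapSet,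
      subgroupBlockCoeff_eq_extZ, extZ_of_mem' _ _ hkC]
    have h := hbr ((normEquiv' P (Subgroup.centralizer (Q : Set G)) hPC).symm ⟨k, hkN'⟩)
    rw [cutC_of_mem (P.subgroupOf (Subgroup.centralizer (Q : Set G))) _ (blockCoeff f)
      (h := (normEquiv' P (Subgroup.centralizer (Q : Set G)) hPC).symm ⟨k, hkN'⟩)
      ((mem_centralizer_subgroupOf_iff hPC ⟨(k : G), hkC⟩).mpr k.2)] at h
    have h2 := memLocalIdeal_neg h
    rw [neg_sub] at h2
    exact h2
  have hcl1 : IsClassFunction (Subgroup.centralizer (P : Set G))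
      (restr (Subgroup.centralizer (P : Set G))
      (subgroupBlockCoeff (Subgroup.normalizer (P : Set G) ⊓ Subgroup.centralizer (Q : Set G))
        (mapSet (normEquiv' P (Subgroup.centralizer (Q : Set G)) hPC) c₀))) :=
    isClassFunction_restr _ (fun u hu x => subgroupBlockCoeff_conj_of_mem _ _ u (hKN' hu) x)
  have hcl2 : IsClassFunction (Subgroup.centralizer (P : Set G))
      (restr (Subgroup.centralizer (P : Set G))
        (subgroupBlockCoeff (Subgroup.centralizer (Q : Set G)) f)) :=
    isClassFunction_restr _ (fun u hu x => subgroupBlockCoeff_conj_of_mem _ f u (hKN' hu).2 x)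
  have key : ∀ {e₀ : Set (IrrCharacter (Subgroup.centralizer (P : Set G)))},
      IsNormalSubpair p M Q f P e₀ → ∀ {ξ : IrrCharacter (Subgroup.centralizer (P : Set G))},
      ξ ∈ e₀ → MemLocalIdeal M (omega (ξ : Subgroup.centralizer (P : Set G) → ℂ)
        (restr (Subgroup.centralizer (P : Set G))
          (subgroupBlockCoeff (Subgroup.normalizer (P : Set G) ⊓ Subgroup.centralizer (Q : Set G))
            (mapSet (normEquiv' P (Subgroup.centralizer (Q : Set G)) hPC) c₀))) - 1) := by
    intro e₀ he₀ ξ hξ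
    have h1 : MemLocalIdeal M (omega (ξ : Subgroup.centralizer (P : Set G) → ℂ)
        (restr (Subgroup.centralizer (P : Set G))
          (subgroupBlockCoeff (Subgroup.centralizer (Q : Set G)) f)) - 1) := by
      have h0 := he₀.2.2.2.2.2 ξ hξ
      rw [brauerOmega_eq_omega] at h0
      exact h0
    have h2 := memLocalIdeal_omega_sub_of_eqMod ξ.2 hcl1 hcl2 hγ
    have := memLocalIdeal_add h2 h1
    rwa [sub_add_sub_cancel] at this
  obtain ⟨ξ₁, hξ₁⟩ := nonempty_of_isPBlock h₁.2.1.2
  obtain ⟨ξ₂, hξ₂⟩ := nonempty_of_isPBlock h₂.2.1.2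
  exact exists_conj_of_omega_one _ _ hKN' hN'K hc' hsupp h₁.2.1.2 h₂.2.1.2 hξ₁ hξ₂
    (key h₁ hξ₁) (key h₂ hξ₂)

end relorbit

end Cfsg.Agent.Helper77
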