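import Mathlib
import Cfsg.Agent.Lib.Helper77.RelOrbit

set_option autoImplicit false
set_option linter.unusedSectionVars false
set_option linter.style.haveILetI false

namespace Cfsg.Agent.Helper77

open Cfsg Cfsg.Agent.Helper79

universe u

section prelim

variable {G : Type u} [Group G] [Fintype G] {p : ℕ} {M : Ideal AlgInt}

/-- Every Brauer pair of `B` is at most as large as a maximal one. -/
theorem card_le_of_isBrauerPairOf [Fact p.Prime] (hM : IsPModular p M)
    {B : Set (IrrCharacter G)} {P R : Subgroup G}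
    {e : Set (IrrCharacter (Subgroup.centralizer (P : Set G)))}
    {g : Set (IrrCharacter (Subgroup.centralizer (R : Set G)))}
    (hmax : IsMaximalBrauerPair p M B P e) (hRg : IsBrauerPairOf p M B R g) :
    Nat.card R ≤ Nat.card P := by
  obtain ⟨x, hx⟩ := exists_conj_subpairLE hM hmax hRg
  have h1 : R.map (MulAut.conj x).toMonoidHom ≤ P := le_of_reflTransGen hx
  have h2 := Subgroup.card_le_of_le h1
  rwa [Subgroup.card_map_of_injective (MulAut.conj x).injective] at h2

/-- A Brauer pair of `B` of maximal order is maximal. -/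
theorem isMaximalBrauerPair_of_card_eq [Fact p.Prime] (hM : IsPModular p M)
    {B : Set (IrrCharacter G)} {P R : Subgroup G}
    {e : Set (IrrCharacter (Subgroup.centralizer (P : Set G)))}
    {g : Set (IrrCharacter (Subgroup.centralizer (R : Set G)))}
    (hmax : IsMaximalBrauerPair p M B P e) (hRg : IsBrauerPairOf p M B R g)
    (hcard : Nat.card R = Nat.card P) : IsMaximalBrauerPair p M B R g := by
  refine ⟨hRg, fun R' g' hR'g' hle => ?_⟩
  have h1 : R ≤ R' := le_of_reflTransGen hle
  have h2 := card_le_of_isBrauerPairOf hM hmax hR'g'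
  exact (Subgroup.eq_of_le_of_card_ge h1 (by omega)).symm

/-- Above a Brauer pair `(Q, f)` of `B` there is a Brauer pair of `B` on `Q D` for every defect
group `D` of `f`. -/
theorem exists_pair_above_defect [Fact p.Prime] (hM : IsPModular p M)
    {B : Set (IrrCharacter G)} {Q : Subgroup G}
    {f : Set (IrrCharacter (Subgroup.centralizer (Q : Set G)))}
    (hQf : IsBrauerPairOf p M B Q f)
    {D : Subgroup (Subgroup.centralizer (Q : Set G))} (hD : IsDefectGroup p M f D) :
    ∃ g₂ : Set (IrrCharacter (Subgroup.centralizer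
        ((Q ⊔ D.map (Subgroup.centralizer (Q : Set G)).subtype : Subgroup G) : Set G))),
      IsNormalSubpair p M Q f (Q ⊔ D.map (Subgroup.centralizer (Q : Set G)).subtype) g₂ ∧
      IsBrauerPairOf p M B (Q ⊔ D.map (Subgroup.centralizer (Q : Set G)).subtype) g₂ := by
  classical
  haveI hpr := isPrime_of_isPModular hM
  haveI : Fintype (Subgroup.centralizer (Q : Set G)) := Fintype.ofFinite _
  have hQ : IsPGroup p Q := hQf.1.1
  have hf : IsPBlock M f := hQf.1.2
  have hB : IsPBlock M B := hQf.2.1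
  have hD' := hD
  obtain ⟨x₀, hx₀, S₀, hDS⟩ := hD
  obtain ⟨D', hD'def⟩ : ∃ D' : Subgroup G,
    D' = D.map (Subgroup.centralizer (Q : Set G)).subtype := ⟨_, rfl⟩
  rw [← hD'def]
  have hD'H : D' ≤ (Subgroup.centralizer (Q : Set G)) := hD'def ▸ Subgroup.map_subtype_le D
  have hDp : IsPGroup p D := isPGroup_of_isDefectGroup hD'
  have hD'p : IsPGroup p D' := hD'def ▸ hDp.map _
  have hD'N : D' ≤ Subgroup.normalizer (Q : Set G) :=
    hD'H.trans (Subgroup.centralizer_le_normalizer _)
  have hR₂p : IsPGroup p (Q ⊔ D' : Subgroup G) := IsPGroup.to_sup_of_normal_left' hQ hD'p hD'N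
  have hR₂N : Q ⊔ D' ≤ Subgroup.normalizer (Q : Set G) := sup_le Subgroup.le_normalizer hD'N
  have hst : IsStableSet (Subgroup.centralizer (Q : Set G)) (Q ⊔ D')
      (hR₂N.trans (normalizer_le_normalizer_centralizer Q)) f :=
    isStableSet_of_le_stabSub _ (sup_le
      ((le_centralizer_centralizer' Q).trans
        (centralizer_le_stabSub (Subgroup.centralizer (Q : Set G)) f))
      (hD'H.trans (le_stabSub (Subgroup.centralizer (Q : Set G)) f)))
  have hx₀R : (x₀ : G) ∈ Subgroup.centralizer ((Q ⊔ D' : Subgroup G) : Set G) := by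
    rw [← le_centralizer_singleton_iff]
    refine sup_le ?_ ?_
    · intro q hq
      rw [Subgroup.mem_centralizer_iff]
      intro y hy
      rw [Set.mem_singleton_iff] at hy
      subst hy
      exact ((Subgroup.mem_centralizer_iff.mp x₀.2) q hq).symm
    · rw [hD'def]
      rintro _ ⟨d, hd, rfl⟩
      rw [Subgroup.mem_centralizer_iff]
      intro y hy
      rw [Set.mem_singleton_iff] at hy
      subst hy
      have hd' : d ∈ Subgroup.centralizer ({x₀} : Set (Subgroup.centralizer (Q : Set G))) := by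
        rw [hDS] at hd
        exact sylow_map_le_centralizer x₀ S₀ hd
      have := (Subgroup.mem_centralizer_iff.mp hd') x₀ rfl
      exact congrArg Subtype.val this
  have hne : ¬ MemLocalIdeal M (subgroupBlockCoeff (Subgroup.centralizer (Q : Set G)) f
      (x₀ : G)) := by
    rw [subgroupBlockCoeff_eq_extZ, extZ_of_mem]
    exact hx₀.2.1
  obtain ⟨g₂, hg₂⟩ := exists_isNormalSubpair_above hM Q (Q ⊔ D') hR₂p le_sup_left hR₂N hf hst
    hx₀R hne
  exact ⟨g₂, hg₂, (isBrauerPairOf_iff_of_subpairLE hM (Q ⊔ D') Q g₂ f hg₂.2.1 hg₂.1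
      (Relation.ReflTransGen.single hg₂) B hB).mpr hQf⟩

/-- If `P` centralizes `Q` and `(Q, f)` lies below the maximal pair `(P, e)`, then `P` is a
defect group of `f`. -/
theorem isDefectGroup_of_le_centralizer [Fact p.Prime] (hM : IsPModular p M)
    {B : Set (IrrCharacter G)} {P Q : Subgroup G}
    {e : Set (IrrCharacter (Subgroup.centralizer (P : Set G)))}
    {f : Set (IrrCharacter (Subgroup.centralizer (Q : Set G)))}
    (hmax : IsMaximalBrauerPair p M B P e) (hQP : Q ≤ P) (hf : IsPBlock M f)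
    (hle : SubpairLE p M Q f P e) (hPC : P ≤ Subgroup.centralizer (Q : Set G)) :
    IsDefectGroup p M f (P.subgroupOf (Subgroup.centralizer (Q : Set G))) := by
  classical
  have hPe : IsBrauerPair p M P e := hmax.1.1
  have hB : IsPBlock M B := hmax.1.2.1
  have hQ : IsPGroup p Q := hPe.1.to_le hQP
  have hQfB : IsBrauerPairOf p M B Q f :=
    (isBrauerPairOf_iff_of_subpairLE hM P Q e f hPe ⟨hQ, hf⟩ hle B hB).mp hmax.1
  obtain ⟨D, hD, hleD⟩ := exists_isDefectGroup_ge_centralizer hM hPe hQP hf hle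
  rw [inf_eq_left.mpr hPC] at hleD
  obtain ⟨g₂, -, hg₂B⟩ := exists_pair_above_defect hM hQfB hD
  have h1 := card_le_of_isBrauerPairOf hM hmax hg₂B
  have h2 : Nat.card (D.map (Subgroup.centralizer (Q : Set G)).subtype) ≤
      Nat.card (Q ⊔ D.map (Subgroup.centralizer (Q : Set G)).subtype : Subgroup G) :=
    Subgroup.card_le_of_le le_sup_right
  rw [Subgroup.card_map_of_injective (Subgroup.subtype_injective _)] at h2
  have h3 : Nat.card (P.subgroupOf (Subgroup.centralizer (Q : Set G))) = Nat.card P :=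
    card_subgroupOf_of_le hPC
  rw [Subgroup.eq_of_le_of_card_ge hleD (by omega)]
  exact hD

end prelim

section factor

variable {G : Type u} [Group G] [Fintype G] {p : ℕ} {M : Ideal AlgInt}

theorem mem_stabSub_of_stabilizesBlock [hpr : M.IsPrime] {K : Subgroup G}
    {f : Set (IrrCharacter K)} (hf : IsPBlock M f) {x : G} (h : StabilizesBlock K f x) :
    x ∈ stabSub K f :=
  ⟨h.1, (stabilizesBlock_iff_conjSet_eq K x h.1 hf).mp h⟩

theorem stabilizesBlock_of_mem_stabSub [hpr : M.IsPrime] {K : Subgroup G}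
    {f : Set (IrrCharacter K)} (hf : IsPBlock M f) {x : G} (h : x ∈ stabSub K f) :
    StabilizesBlock K f x := by
  obtain ⟨h1, h2⟩ := h
  exact (stabilizesBlock_iff_conjSet_eq K x h1 hf).mpr h2

/-- An element of `N_G(Q)` stabilizing `f` fixes the pair `(Q, f)`. -/
theorem conjRel_self_of_stabilizes [hpr : M.IsPrime] {Q : Subgroup G}
    {f : Set (IrrCharacter (Subgroup.centralizer (Q : Set G)))} (hf : IsPBlock M f) {x : G}
    (hxN : x ∈ Subgroup.normalizer (Q : Set G))
    (hxst : StabilizesBlock (Subgroup.centralizer (Q : Set G)) f x) : ConjRel x Q Q f f := by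
  have h := conjRel_conjSet Q x hxN hxst.1 f
  rwa [(stabilizesBlock_iff_conjSet_eq _ x hxst.1 hf).mp hxst] at h

/-- **S4682, first part**: for an abelian maximal pair `(P, e)` and `(Q, f) ≤ (P, e)`, the
stabilizer of `(Q, f)` is contained in `N_G(P, e) C_G(Q)`. -/
theorem stabilizer_factorization [Fact p.Prime] (hM : IsPModular p M)
    {B : Set (IrrCharacter G)} {P Q : Subgroup G}
    {e : Set (IrrCharacter (Subgroup.centralizer (P : Set G)))}
    {f : Set (IrrCharacter (Subgroup.centralizer (Q : Set G)))}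
    (hmax : IsMaximalBrauerPair p M B P e) (hab : ∀ x ∈ P, ∀ y ∈ P, x * y = y * x)
    (hQP : Q ≤ P) (hf : IsPBlock M f) (hle : SubpairLE p M Q f P e) {x : G}
    (hxN : x ∈ Subgroup.normalizer (Q : Set G))
    (hxst : StabilizesBlock (Subgroup.centralizer (Q : Set G)) f x) :
    ∃ y, y ∈ Subgroup.normalizer (P : Set G) ∧
      StabilizesBlock (Subgroup.centralizer (P : Set G)) e y ∧
      ∃ c ∈ Subgroup.centralizer (Q : Set G), x = y * c := by
  classical
  haveI hpr := isPrime_of_isPModular hM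
  haveI : Fintype (Subgroup.centralizer (Q : Set G)) := Fintype.ofFinite _
  haveI : Fintype (Subgroup.centralizer (P : Set G)) := Fintype.ofFinite _
  have hPe : IsBrauerPair p M P e := hmax.1.1
  have hP : IsPGroup p P := hPe.1
  have hPC : P ≤ Subgroup.centralizer (Q : Set G) := by
    intro u hu
    rw [Subgroup.mem_centralizer_iff]
    intro q hq
    exact hab q (hQP hq) u hu
  -- the conjugate pair
  have hrelQ : ConjRel x Q Q f f := conjRel_self_of_stabilizes hf hxN hxst
  have hrelP := conjRel_conjBlock x P e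
  have hle₁ : SubpairLE p M Q f (P.map (MulAut.conj x).toMonoidHom) (conjBlock P x e) :=
    hrelQ.subpairLE hrelP hle
  have hB₁ : IsBrauerPairOf p M B (P.map (MulAut.conj x).toMonoidHom) (conjBlock P x e) :=
    hrelP.isBrauerPairOf hmax.1
  have hcard₁ : Nat.card (P.map (MulAut.conj x).toMonoidHom) = Nat.card P :=
    Subgroup.card_map_of_injective (MulAut.conj x).injective
  have hmax₁ := isMaximalBrauerPair_of_card_eq hM hmax hB₁ hcard₁
  have hQP₁ : Q ≤ P.map (MulAut.conj x).toMonoidHom := le_of_reflTransGen hle₁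
  have hP₁C : P.map (MulAut.conj x).toMonoidHom ≤ Subgroup.centralizer (Q : Set G) := by
    rintro _ ⟨u, hu, rfl⟩
    rw [Subgroup.mem_centralizer_iff]
    intro q hq
    obtain ⟨v, hv, hvq⟩ := hQP₁ hq
    rw [← hvq]
    simp only [MulEquiv.coe_toMonoidHom, MulAut.conj_apply]
    have := hab v hv u hu
    calc x * v * x⁻¹ * (x * u * x⁻¹) = x * (v * u) * x⁻¹ := by group
      _ = x * (u * v) * x⁻¹ := by rw [this]
      _ = x * u * x⁻¹ * (x * v * x⁻¹) := by group
  have hD := isDefectGroup_of_le_centralizer hM hmax hQP hf hle hPC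
  have hD₁ := isDefectGroup_of_le_centralizer hM hmax₁ hQP₁ hf hle₁ hP₁C
  obtain ⟨c, hc⟩ := exists_conj_eq_of_isDefectGroup hM hf hD hD₁
  -- `y₀ = c x` normalizes `P`
  have hy₀le : P.map (MulAut.conj ((c : G) * x)).toMonoidHom ≤ P := by
    rintro _ ⟨u, hu, rfl⟩
    have h1 : x * u * x⁻¹ ∈ P.map (MulAut.conj x).toMonoidHom := ⟨u, hu, rfl⟩
    have h2 : (⟨x * u * x⁻¹, hP₁C h1⟩ : Subgroup.centralizer (Q : Set G)) ∈
        (P.map (MulAut.conj x).toMonoidHom).subgroupOf (Subgroup.centralizer (Q : Set G)) :=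
      Subgroup.mem_subgroupOf.mpr h1
    have h3 : (MulAut.conj c).toMonoidHom ⟨x * u * x⁻¹, hP₁C h1⟩ ∈
        P.subgroupOf (Subgroup.centralizer (Q : Set G)) := by
      rw [← hc]
      exact ⟨_, h2, rfl⟩
    have h4 := Subgroup.mem_subgroupOf.mp h3
    simp only [MulEquiv.coe_toMonoidHom, MulAut.conj_apply] at h4 ⊢
    convert h4 using 1
    simp only [Subgroup.coe_mul, Subgroup.coe_inv]
    group
  have hy₀eq : P.map (MulAut.conj ((c : G) * x)).toMonoidHom = P :=
    Subgroup.eq_of_le_of_card_ge hy₀le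
      (by rw [Subgroup.card_map_of_injective (MulAut.conj ((c : G) * x)).injective])
  have hy₀N : (c : G) * x ∈ Subgroup.normalizer (P : Set G) :=
    Subgroup.mem_normalizer_iff_map_conj_eq.mpr hy₀eq
  have hcN : (c : G) ∈ Subgroup.normalizer (Q : Set G) :=
    Subgroup.centralizer_le_normalizer _ c.2
  have hy₀Q : (c : G) * x ∈ Subgroup.normalizer (Q : Set G) :=
    Subgroup.mul_mem _ hcN hxN
  have hy₀st : StabilizesBlock (Subgroup.centralizer (Q : Set G)) f ((c : G) * x) :=
    stabilizesBlock_of_mem_stabSub hf (Subgroup.mul_mem _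
      (le_stabSub (Subgroup.centralizer (Q : Set G)) f c.2)
      (mem_stabSub_of_stabilizesBlock hf hxst))
  -- the second pair on `P`
  have hy₀K := normalizer_le_normalizer_centralizer P hy₀N
  have hrel₂ := conjRel_conjSet P ((c : G) * x) hy₀N hy₀K e
  have hrelQ₂ : ConjRel ((c : G) * x) Q Q f f := conjRel_self_of_stabilizes hf hy₀Q hy₀st
  have hle₂ : SubpairLE p M Q f P (conjSet (Subgroup.centralizer (P : Set G))
      ((c : G) * x) hy₀K e) := hrelQ₂.subpairLE hrel₂ hle
  have hPe₂ : IsBrauerPair p M P (conjSet (Subgroup.centralizer (P : Set G))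
      ((c : G) * x) hy₀K e) := ⟨hP, isPBlock_conjSet _ _ _ hPe.2⟩
  have hPNQ : P ≤ Subgroup.normalizer (Q : Set G) :=
    hPC.trans (Subgroup.centralizer_le_normalizer _)
  have h₁ : IsNormalSubpair p M Q f P e := by
    obtain ⟨f₀, hf₀, -⟩ := existsUnique_isNormalSubpair hM P Q e hPe hQP hPNQ
    rw [eq_of_subpairLE_of_isNormalSubpair hM P Q e f₀ f hf₀ hf hle]
    exact hf₀
  have h₂ : IsNormalSubpair p M Q f P (conjSet (Subgroup.centralizer (P : Set G))
      ((c : G) * x) hy₀K e) := by
    obtain ⟨f₀, hf₀, -⟩ := existsUnique_isNormalSubpair hM P Q _ hPe₂ hQP hPNQ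
    rw [eq_of_subpairLE_of_isNormalSubpair hM P Q _ f₀ f hf₀ hf hle₂]
    exact hf₀
  obtain ⟨n, hn, hen⟩ := exists_conjSet_eq_of_isNormalSubpair hM hf hQP hPC hD h₂ h₁
  have hnK := normalizer_le_normalizer_centralizer P hn.1
  have hyN : n * ((c : G) * x) ∈ Subgroup.normalizer (P : Set G) :=
    Subgroup.mul_mem _ hn.1 hy₀N
  have hyK := normalizer_le_normalizer_centralizer P hyN
  have hyst : StabilizesBlock (Subgroup.centralizer (P : Set G)) e (n * ((c : G) * x)) := by
    rw [stabilizesBlock_iff_conjSet_eq _ _ hyK hPe.2, conjSet_mul _ n ((c : G) * x) hnK hy₀K]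
    exact hen.symm
  have hyQ : n * ((c : G) * x) ∈ Subgroup.normalizer (Q : Set G) :=
    Subgroup.mul_mem _ (Subgroup.centralizer_le_normalizer _ hn.2) hy₀Q
  refine ⟨n * ((c : G) * x), hyN, hyst, (n * ((c : G) * x))⁻¹ * (n * (c : G))⁻¹ *
    (n * ((c : G) * x)), ?_, by group⟩
  have hyC := normalizer_le_normalizer_centralizer Q hyQ
  have hnc : (n * (c : G))⁻¹ ∈ Subgroup.centralizer (Q : Set G) :=
    Subgroup.inv_mem _ (Subgroup.mul_mem _ hn.2 c.2)
  exact (Subgroup.mem_normalizer_iff''.mp hyC _).mp hnc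

/-- Elements of `N_G(P, e) ∩ N_G(Q)` stabilize the unique subpair `(Q, f)` of `(P, e)`. -/
theorem stabilizesBlock_of_stabilizes_above [Fact p.Prime] (hM : IsPModular p M)
    {P Q : Subgroup G}
    {e : Set (IrrCharacter (Subgroup.centralizer (P : Set G)))}
    {f : Set (IrrCharacter (Subgroup.centralizer (Q : Set G)))}
    (hPe : IsBrauerPair p M P e) (hQP : Q ≤ P) (hf : IsPBlock M f)
    (hle : SubpairLE p M Q f P e) {y : G} (hyP : y ∈ Subgroup.normalizer (P : Set G))
    (hyst : StabilizesBlock (Subgroup.centralizer (P : Set G)) e y)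
    (hyQ : y ∈ Subgroup.normalizer (Q : Set G)) :
    StabilizesBlock (Subgroup.centralizer (Q : Set G)) f y := by
  classical
  haveI hpr := isPrime_of_isPModular hM
  haveI : Fintype (Subgroup.centralizer (Q : Set G)) := Fintype.ofFinite _
  have hyC := normalizer_le_normalizer_centralizer Q hyQ
  have hrelQ := conjRel_conjSet Q y hyQ hyC f
  have hrelP : ConjRel y P P e e := conjRel_self_of_stabilizes hPe.2 hyP hyst
  have hle' := hrelQ.subpairLE hrelP hle
  have hf' : IsPBlock M (conjSet (Subgroup.centralizer (Q : Set G)) y hyC f) :=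
    isPBlock_conjSet _ _ _ hf
  have := subpairLE_unique hM P e hPe _ Q hQP rfl _ f hf' hle' hf hle
  exact (stabilizesBlock_iff_conjSet_eq _ y hyC hf).mpr this

/-- **S4682, second part**. -/
theorem stabilizer_index_eq [Fact p.Prime] (hM : IsPModular p M)
    {B : Set (IrrCharacter G)} {P Q : Subgroup G}
    {e : Set (IrrCharacter (Subgroup.centralizer (P : Set G)))}
    {f : Set (IrrCharacter (Subgroup.centralizer (Q : Set G)))}
    (hmax : IsMaximalBrauerPair p M B P e) (hab : ∀ x ∈ P, ∀ y ∈ P, x * y = y * x)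
    (hQP : Q ≤ P) (hf : IsPBlock M f) (hle : SubpairLE p M Q f P e)
    (TQ : Subgroup G) (hTQ : ∀ y : G, y ∈ TQ ↔ y ∈ Subgroup.normalizer (Q : Set G) ∧
      StabilizesBlock (Subgroup.centralizer (Q : Set G)) f y)
    (TP : Subgroup G) (hTP : ∀ y : G, y ∈ TP ↔ y ∈ Subgroup.normalizer (P : Set G) ∧
      StabilizesBlock (Subgroup.centralizer (P : Set G)) e y) :
    ((Subgroup.centralizer (Q : Set G)).subgroupOf TQ).index =
      ((TP ⊓ Subgroup.centralizer (Q : Set G)).subgroupOf
        (TP ⊓ Subgroup.normalizer (Q : Set G))).index := by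
  classical
  haveI hpr := isPrime_of_isPModular hM
  have hPe : IsBrauerPair p M P e := hmax.1.1
  have hATQ : TP ⊓ Subgroup.normalizer (Q : Set G) ≤ TQ := by
    intro y hy
    obtain ⟨hyTP, hyQ⟩ := hy
    obtain ⟨hyP, hyst⟩ := (hTP y).mp hyTP
    exact (hTQ y).mpr ⟨hyQ, stabilizesBlock_of_stabilizes_above hM hPe hQP hf hle hyP hyst hyQ⟩
  have hCTQ : Subgroup.centralizer (Q : Set G) ≤ TQ := centralizer_le_of_hT hf hTQ
  have hTQN : TQ ≤ Subgroup.normalizer
      ((Subgroup.centralizer (Q : Set G) : Subgroup G) : Set G) :=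
    (le_normalizer_of_hT hTQ).trans (normalizer_le_normalizer_centralizer Q)
  haveI : ((Subgroup.centralizer (Q : Set G)).subgroupOf TQ).Normal :=
    (Subgroup.normal_subgroupOf_iff_le_normalizer hCTQ).mpr hTQN
  have hsup : (TP ⊓ Subgroup.normalizer (Q : Set G)).subgroupOf TQ ⊔
      (Subgroup.centralizer (Q : Set G)).subgroupOf TQ = ⊤ := by
    rw [eq_top_iff]
    intro t _
    obtain ⟨hxN, hxst⟩ := (hTQ t).mp t.2
    obtain ⟨y, hyN, hyst, c, hc, hxyc⟩ :=
      stabilizer_factorization hM hmax hab hQP hf hle hxN hxst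
    have hyTP : y ∈ TP := (hTP y).mpr ⟨hyN, hyst⟩
    have hyQ : y ∈ Subgroup.normalizer (Q : Set G) := by
      have : y = (t : G) * c⁻¹ := by rw [hxyc]; group
      rw [this]
      exact Subgroup.mul_mem _ hxN
        (Subgroup.inv_mem _ (Subgroup.centralizer_le_normalizer _ hc))
    have hyA : y ∈ TP ⊓ Subgroup.normalizer (Q : Set G) := ⟨hyTP, hyQ⟩
    have ht : t = (⟨y, hATQ hyA⟩ : TQ) * (⟨c, hCTQ hc⟩ : TQ) := Subtype.ext hxyc
    rw [ht]
    exact Subgroup.mul_mem_sup (Subgroup.mem_subgroupOf.mpr hyA) (Subgroup.mem_subgroupOf.mpr hc)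
  have h1 : ((Subgroup.centralizer (Q : Set G)).subgroupOf TQ).index =
      ((Subgroup.centralizer (Q : Set G)).subgroupOf TQ).relIndex
        ((TP ⊓ Subgroup.normalizer (Q : Set G)).subgroupOf TQ) := by
    rw [← Subgroup.relIndex_sup_right, hsup, Subgroup.relIndex_top_right]
  rw [h1, Subgroup.relIndex_subgroupOf hATQ, ← Subgroup.inf_relIndex_right]
  have h2 : Subgroup.centralizer (Q : Set G) ⊓ (TP ⊓ Subgroup.normalizer (Q : Set G)) =
      TP ⊓ Subgroup.centralizer (Q : Set G) := by
    ext z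
    simp only [Subgroup.mem_inf]
    constructor
    · rintro ⟨h1, h2, -⟩
      exact ⟨h2, h1⟩
    · rintro ⟨h1, h2⟩
      exact ⟨h2, h1, Subgroup.centralizer_le_normalizer _ h2⟩
  rw [h2]
  rfl

end factor

end Cfsg.Agent.Helper77
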