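import Mathlib
import Cfsg.Agent.Lib.Helper77.AbelianDefect

set_option autoImplicit false
set_option linter.unusedSectionVars false
set_option linter.style.haveILetI false

namespace Cfsg.Agent.Helper77

open Cfsg Cfsg.Agent.Helper79

universe u

section fixedsum

variable {p : ℕ} {M : Ideal AlgInt}

/-- A `p`-group acting on a finite set: a sum of a function with values in the local ring that is
invariant modulo the local ideal and lies in the local ideal at all fixed points, lies in the
local ideal. -/
theorem memLocalIdeal_sum_of_fixedPoints (hM : IsPModular p M) {P : Type*} [Group P]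
    [Finite P] (hP : IsPGroup p P) {X : Type*} [Fintype X] [MulAction P X]
    (φ : X → ℂ) (hφ : ∀ (u : P) (x : X), MemLocalIdeal M (φ (u • x) - φ x))
    (hR : ∀ x, MemLocalRing M (φ x))
    (hfix : ∀ x : X, (∀ u : P, u • x = x) → MemLocalIdeal M (φ x)) :
    MemLocalIdeal M (∑ x, φ x) := by
  classical
  haveI hpr := isPrime_of_isPModular hM
  haveI : Fact p.Prime := ⟨hM.1⟩
  haveI : Fintype (MulAction.orbitRel.Quotient P X) := Fintype.ofFinite _
  rw [← Finset.sum_fiberwise (s := Finset.univ)
    (g := fun x : X => (Quotient.mk'' x : MulAction.orbitRel.Quotient P X)) (f := φ)]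
  refine memLocalIdeal_sum _ _ fun ω _ => ?_
  set x₀ : X := ω.out with hx₀
  have hmem : ∀ x : X, (Quotient.mk'' x : MulAction.orbitRel.Quotient P X) = ω ↔
      x ∈ MulAction.orbit P x₀ := by
    intro x
    rw [← MulAction.orbitRel_apply, ← @Quotient.eq'' _ (MulAction.orbitRel P X), hx₀,
      Quotient.out_eq']
  have hsplit : ∑ x ∈ Finset.univ.filter
      (fun x : X => (Quotient.mk'' x : MulAction.orbitRel.Quotient P X) = ω), φ x =
      ∑ x ∈ Finset.univ.filter
        (fun x : X => (Quotient.mk'' x : MulAction.orbitRel.Quotient P X) = ω), (φ x - φ x₀) +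
      ((Finset.univ.filter
        (fun x : X => (Quotient.mk'' x : MulAction.orbitRel.Quotient P X) = ω)).card : ℂ) *
          φ x₀ := by
    rw [Finset.sum_sub_distrib, Finset.sum_const, nsmul_eq_mul]
    ring
  rw [hsplit]
  refine memLocalIdeal_add (memLocalIdeal_sum _ _ fun x hx => ?_) ?_
  · obtain ⟨u, rfl⟩ := (hmem x).mp (Finset.mem_filter.mp hx).2
    exact hφ u x₀
  · have hcard : (Finset.univ.filter
        (fun x : X => (Quotient.mk'' x : MulAction.orbitRel.Quotient P X) = ω)).card =
        Nat.card (MulAction.orbit P x₀) := by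
      rw [Nat.card_eq_fintype_card, Fintype.card_subtype]
      congr 1
      ext x
      simp only [Finset.mem_filter, Finset.mem_univ, true_and]
      exact hmem x
    obtain ⟨n, hn⟩ := hP.card_orbit x₀
    rw [hcard, hn]
    rcases Nat.eq_zero_or_pos n with h0 | hpos
    · subst h0
      rw [pow_zero] at hn
      rw [pow_zero, Nat.cast_one, one_mul]
      apply hfix
      intro u
      haveI : Subsingleton (MulAction.orbit P x₀) := (Nat.card_eq_one_iff_unique.mp hn).1
      have := Subsingleton.elim (⟨u • x₀, MulAction.mem_orbit x₀ u⟩ : MulAction.orbit P x₀)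
        ⟨x₀, MulAction.mem_orbit_self x₀⟩
      exact Subtype.ext_iff.mp this
    · refine memLocalIdeal_mul_right ?_ (hR x₀)
      exact (memLocalIdeal_natCast_iff hM _).mpr (dvd_pow_self p hpos.ne')

end fixedsum

section classaction

variable {G : Type u} [Group G]

/-- The normalizer of `C` acts on the conjugacy classes of `C`. -/
@[instance_reducible]
noncomputable def conjClassAction (C : Subgroup G) :
    MulAction ↥(Subgroup.normalizer (C : Set G)) (ConjClasses ↥C) where
  smul n K := ConjClasses.map (conjEquivOf C (n : G) n.2).toMonoidHom K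
  one_smul K := by
    induction K using Quotient.inductionOn with
    | _ a =>
      show ConjClasses.mk ((conjEquivOf C ((1 : ↥(Subgroup.normalizer (C : Set G))) : G) _) a) =
        ConjClasses.mk a
      congr 1
      apply Subtype.ext
      rw [conjEquivOf_apply_coe]
      simp
  mul_smul m n K := by
    induction K using Quotient.inductionOn with
    | _ a =>
      show ConjClasses.mk ((conjEquivOf C ((m * n : ↥(Subgroup.normalizer (C : Set G))) : G) _) a) =
        ConjClasses.mk ((conjEquivOf C (m : G) _) ((conjEquivOf C (n : G) _) a))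
      congr 1
      apply Subtype.ext
      rw [conjEquivOf_apply_coe, conjEquivOf_apply_coe, conjEquivOf_apply_coe]
      simp [mul_assoc]

theorem conjClassAction_smul_mk (C : Subgroup G) (n : ↥(Subgroup.normalizer (C : Set G)))
    (a : C) :
    (conjClassAction C).smul n (ConjClasses.mk a) =
      ConjClasses.mk (conjEquivOf C (n : G) n.2 a) := rfl

theorem apply_out_mk {A : Type u} [Group A] {a : A → ℂ} (ha : IsClassFunction A a) (k : A) :
    a (Quotient.out (ConjClasses.mk k)) = a k := by
  have h1 : ConjClasses.mk (Quotient.out (ConjClasses.mk k)) = ConjClasses.mk k := by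
    rw [← ConjClasses.quotient_mk_eq_mk]
    exact Quotient.out_eq _
  obtain ⟨c, hc⟩ := isConj_iff.mp (ConjClasses.mk_eq_mk_iff_isConj.mp h1)
  have h2 : a k = a (c * Quotient.out (ConjClasses.mk k) * c⁻¹) := by rw [hc]
  rw [h2]
  exact (ha _ c).symm

end classaction

section fixedclass

variable {G : Type u} [Group G] [Fintype G] {p : ℕ} {M : Ideal AlgInt}

/-- **A stable block has a stable class in its support**: if the `p`-group `Y` stabilizes the
block `e` of `C`, some conjugacy class of `C` on which the idempotent of `e` does not vanish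
modulo the local ideal is `Y`-stable. -/
theorem exists_fixed_class [Fact p.Prime] (hM : IsPModular p M) {C T : Subgroup G} [Fintype C]
    (hTN : T ≤ Subgroup.normalizer (C : Set G)) {e : Set (IrrCharacter C)} (he : IsPBlock M e)
    (hst : IsStableSet C T hTN e) {Y : Subgroup G} (hYT : Y ≤ T) (hY : IsPGroup p Y) :
    ∃ g : C, ¬ MemLocalIdeal M (blockCoeff e g) ∧
      ∀ y ∈ Y, ∃ c : C, y * (g : G) * y⁻¹ = (c : G) * (g : G) * (c : G)⁻¹ := by
  classical
  haveI hpr := isPrime_of_isPModular hM
  haveI : Fintype (ConjClasses C) := Fintype.ofFinite _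
  letI := conjClassAction C
  have hY' : IsPGroup p (Y.subgroupOf (Subgroup.normalizer (C : Set G))) := hY.comap_subtype
  obtain ⟨θ, hθ⟩ := nonempty_of_isPBlock he
  have hθcl := isClassFunction_of_isIrrCharacter θ.2
  have hecl := isClassFunction_blockCoeff e
  have hsum : ∑ K : ConjClasses C, blockCoeff e (Quotient.out K) *
      centralChar (θ : C → ℂ) (Quotient.out K) = 1 := by
    rw [← omega_eq_sum_conjClasses hθcl hecl, omega_blockCoeff, if_pos hθ]
  by_contra hcon
  push Not at hcon
  have hkey : MemLocalIdeal M (∑ K : ConjClasses C, blockCoeff e (Quotient.out K) *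
      centralChar (θ : C → ℂ) (Quotient.out K)) := by
    refine memLocalIdeal_sum_of_fixedPoints hM hY'
      (fun K : ConjClasses C => blockCoeff e (Quotient.out K) *
        centralChar (θ : C → ℂ) (Quotient.out K)) ?_ ?_ ?_
    · intro u K
      have hK : K = ConjClasses.mk (Quotient.out K) := (mk_out_conjClasses K).symm
      have huT : ((u : ↥(Subgroup.normalizer (C : Set G))) : G) ∈ T :=
        hYT (Subgroup.mem_subgroupOf.mp u.2)
      have hsm : u • K = ConjClasses.mk (conjEquivOf C ((u : ↥(Subgroup.normalizer (C : Set G))) : G)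
          (u : ↥(Subgroup.normalizer (C : Set G))).2 (Quotient.out K)) := by
        conv_lhs => rw [hK]
        rfl
      rw [hsm, apply_out_mk hecl, apply_out_mk (fun g h => centralChar_conj hθcl g h)]
      -- blockCoeff is invariant
      have h1 : blockCoeff e (conjEquivOf C ((u : ↥(Subgroup.normalizer (C : Set G))) : G)
          (u : ↥(Subgroup.normalizer (C : Set G))).2 (Quotient.out K)) =
          blockCoeff e (Quotient.out K) := by
        have hu' : ((u : ↥(Subgroup.normalizer (C : Set G))) : G)⁻¹ ∈ T := T.inv_mem huT
        have h2 := blockCoeff_conjSet C _ (hTN hu') e (Quotient.out K)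
        rw [hst _ hu'] at h2
        rw [h2]
        refine congrArg (blockCoeff e) ?_
        apply Subtype.ext
        rw [conjEquivOf_symm_apply_coe, conjEquivOf_apply_coe, inv_inv]
      rw [h1, ← mul_sub]
      refine memLocalIdeal_mul_left (memLocalRing_blockCoeff he _) ?_
      -- central characters agree modulo the local ideal
      have hu' : ((u : ↥(Subgroup.normalizer (C : Set G))) : G)⁻¹ ∈ T := T.inv_mem huT
      have h3 := centralChar_conjFun C _ (hTN hu') (θ : C → ℂ)
        (Quotient.out K)
      have h4 : (conjEquivOf C _ (hTN hu')).symm (Quotient.out K) =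
          conjEquivOf C ((u : ↥(Subgroup.normalizer (C : Set G))) : G)
            (u : ↥(Subgroup.normalizer (C : Set G))).2 (Quotient.out K) := by
        apply Subtype.ext
        rw [conjEquivOf_symm_apply_coe, conjEquivOf_apply_coe, inv_inv]
      rw [h4] at h3
      rw [← h3]
      have hmem : conjIrr C _ (hTN hu') θ ∈ e := by
        have : conjIrr C _ (hTN hu') θ ∈ conjSet C _ (hTN hu') e := ⟨θ, hθ, rfl⟩
        rwa [hst _ hu'] at this
      exact sameBlock_of_mem he hmem hθ _
    · intro K
      exact memLocalRing_mul (memLocalRing_blockCoeff he _) (memLocalRing_centralChar θ.2 _)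
    · intro K hK
      by_contra hne
      have hne' : ¬ MemLocalIdeal M (blockCoeff e (Quotient.out K)) := fun h =>
        hne (memLocalIdeal_mul_right h (memLocalRing_centralChar θ.2 _))
      obtain ⟨y, hy, hyc⟩ := hcon (Quotient.out K) hne'
      have hyN : y ∈ Subgroup.normalizer (C : Set G) := hTN (hYT hy)
      have hfix := hK ⟨⟨y, hyN⟩, Subgroup.mem_subgroupOf.mpr hy⟩
      have hKmk : K = ConjClasses.mk (Quotient.out K) := (mk_out_conjClasses K).symm
      have hsm : (⟨⟨y, hyN⟩, Subgroup.mem_subgroupOf.mpr hy⟩ :
          Y.subgroupOf (Subgroup.normalizer (C : Set G))) • K =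
          ConjClasses.mk (conjEquivOf C y hyN (Quotient.out K)) := by
        conv_lhs => rw [hKmk]
        rfl
      rw [hsm] at hfix
      have hfix' : ConjClasses.mk (conjEquivOf C y hyN (Quotient.out K)) =
          ConjClasses.mk (Quotient.out K) := by rw [hfix, mk_out_conjClasses]
      obtain ⟨c, hc⟩ := isConj_iff.mp (ConjClasses.mk_eq_mk_iff_isConj.mp hfix'.symm)
      apply hyc c
      have := congrArg Subtype.val hc
      simp only [Subgroup.coe_mul, Subgroup.coe_inv, conjEquivOf_apply_coe] at this
      exact this.symm
  rw [hsum] at hkey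
  exact not_memLocalIdeal_one hkey

end fixedclass

end Cfsg.Agent.Helper77
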