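import Mathlib
import Cfsg.Agent.Lib.Helper77.FixedClass

set_option autoImplicit false
set_option linter.unusedSectionVars false
set_option linter.style.haveILetI false

namespace Cfsg.Agent.Helper77

open Cfsg Cfsg.Agent.Helper79

universe u

section grp

variable {G : Type u} [Group G]

theorem pow_mul_inv_pow_mem (K : Subgroup G) (y z : G)
    (hy : y ∈ Subgroup.normalizer (K : Set G)) (hzy : z * y⁻¹ ∈ K) :
    ∀ j : ℕ, z ^ j * (y ^ j)⁻¹ ∈ K := by
  intro j
  induction j with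
  | zero => simp
  | succ j ih =>
    have hyj : y ^ j ∈ Subgroup.normalizer (K : Set G) := Subgroup.pow_mem _ hy j
    have h1 : y ^ j * (z * y⁻¹) * (y ^ j)⁻¹ ∈ K := (Subgroup.mem_normalizer_iff.mp hyj _).mp hzy
    have h2 : z ^ (j + 1) * (y ^ (j + 1))⁻¹ =
        (z ^ j * (y ^ j)⁻¹) * (y ^ j * (z * y⁻¹) * (y ^ j)⁻¹) := by
      rw [pow_succ, pow_succ]
      group
    rw [h2]
    exact K.mul_mem ih h1

theorem isPGroup_zpowers_of_pow_eq_one {p : ℕ} {w : G} {j : ℕ} (hj : w ^ (p ^ j) = 1) :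
    IsPGroup p (Subgroup.zpowers w) := by
  rintro ⟨v, hv⟩
  obtain ⟨i, rfl⟩ := Subgroup.mem_zpowers_iff.mp hv
  refine ⟨j, ?_⟩
  apply Subtype.ext
  show (w ^ i) ^ (p ^ j) = 1
  rw [← zpow_natCast, ← zpow_mul, mul_comm, zpow_mul, zpow_natCast, hj, one_zpow]

end grp

section pelements

variable {G : Type u} [Group G] [Fintype G] {p : ℕ} {M : Ideal AlgInt}

/-- **`p`-elements of the stabilizer of a maximal Brauer pair `(P, e)` lie in `P C_G(P)`.** -/
theorem mem_sup_centralizer_of_isMaximalBrauerPair [Fact p.Prime] (hM : IsPModular p M)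
    {B : Set (IrrCharacter G)} {P : Subgroup G}
    {e : Set (IrrCharacter (Subgroup.centralizer (P : Set G)))}
    (hmax : IsMaximalBrauerPair p M B P e) {y : G}
    (hyN : y ∈ Subgroup.normalizer (P : Set G))
    (hyst : StabilizesBlock (Subgroup.centralizer (P : Set G)) e y) {k : ℕ}
    (hyk : y ^ (p ^ k) = 1) : y ∈ P ⊔ Subgroup.centralizer (P : Set G) := by
  classical
  haveI hpr := isPrime_of_isPModular hM
  have hp : p.Prime := Fact.out
  haveI : Fintype (Subgroup.centralizer (P : Set G)) := Fintype.ofFinite _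
  have hPe : IsBrauerPair p M P e := hmax.1.1
  have he : IsPBlock M e := hPe.2
  have hP : IsPGroup p P := hPe.1
  obtain ⟨T, hTdef⟩ : ∃ T : Subgroup G, T = Subgroup.normalizer (P : Set G) ⊓
    stabSub (Subgroup.centralizer (P : Set G)) e := ⟨_, rfl⟩
  have hT : ∀ z, z ∈ T ↔ z ∈ Subgroup.normalizer (P : Set G) ∧
      StabilizesBlock (Subgroup.centralizer (P : Set G)) e z := by
    intro z
    rw [hTdef]
    exact ⟨fun h => ⟨h.1, stabilizesBlock_of_mem_stabSub he h.2⟩,
      fun h => ⟨h.1, mem_stabSub_of_stabilizesBlock he h.2⟩⟩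
  haveI : Fintype T := Fintype.ofFinite _
  obtain ⟨F, hF, hFf, hFD⟩ := isDefectGroup_normalizer_of_maximal hM hmax le_rfl he
    Relation.ReflTransGen.refl (fun z _ => by
      rw [inf_eq_left.mpr (Subgroup.le_normalizer : P ≤ Subgroup.normalizer (P : Set G))]
      exact Subgroup.card_le_of_le inf_le_left) hT
  rw [inf_eq_left.mpr (Subgroup.le_normalizer : P ≤ Subgroup.normalizer (P : Set G))] at hFD
  have hPT : P ≤ T := self_le_of_hT he hT
  have hKT : Subgroup.centralizer (P : Set G) ≤ T := centralizer_le_of_hT he hT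
  have hTN : T ≤ Subgroup.normalizer (P : Set G) := le_normalizer_of_hT hT
  have hTNK : T ≤ Subgroup.normalizer
      ((Subgroup.centralizer (P : Set G) : Subgroup G) : Set G) :=
    hTN.trans (normalizer_le_normalizer_centralizer P)
  have hyT : y ∈ T := (hT y).mpr ⟨hyN, hyst⟩
  have hYp : IsPGroup p (Subgroup.zpowers y) := isPGroup_zpowers_of_pow_eq_one hyk
  have hYT : Subgroup.zpowers y ≤ T := (Subgroup.zpowers_le).mpr hyT
  obtain ⟨g, hg, hfix⟩ := exists_fixed_class hM hTNK he (isStableSet_of_hT he hT) hYT hYp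
  obtain ⟨c, hc⟩ := hfix y (Subgroup.mem_zpowers y)
  have hgT : (g : G) ∈ T := hKT g.2
  have hzT : (c : G)⁻¹ * y ∈ T := T.mul_mem (T.inv_mem (hKT c.2)) hyT
  have hzg : ((c : G)⁻¹ * y) * (g : G) * ((c : G)⁻¹ * y)⁻¹ = g := by
    have : ((c : G)⁻¹ * y) * (g : G) * ((c : G)⁻¹ * y)⁻¹ =
        (c : G)⁻¹ * (y * (g : G) * y⁻¹) * (c : G) := by group
    rw [this, hc]
    group
  have hne : ¬ MemLocalIdeal M (blockCoeff F ⟨(g : G), hgT⟩) := by
    rw [hFf, subgroupBlockCoeff_eq_extZ]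
    show ¬ MemLocalIdeal M (extZ _ (blockCoeff e) (g : G))
    rw [extZ_of_mem]
    exact hg
  have hdef := defectLE_of_isDefectGroup hM hF hFD
  haveI hnormal : (P.subgroupOf T).Normal :=
    (Subgroup.normal_subgroupOf_iff_le_normalizer hPT).mpr hTN
  have key1 : ∀ w : G, w ∈ T → w * (g : G) * w⁻¹ = g → (∃ j : ℕ, w ^ (p ^ j) = 1) → w ∈ P := by
    rintro w hwT hwg ⟨j, hj⟩
    have hj' : (⟨w, hwT⟩ : T) ^ (p ^ j) = 1 := Subtype.ext (by simpa using hj)
    have hSp : IsPGroup p (Subgroup.zpowers (⟨w, hwT⟩ : T)) := isPGroup_zpowers_of_pow_eq_one hj'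
    have hSc : Subgroup.zpowers (⟨w, hwT⟩ : T) ≤
        Subgroup.centralizer ({(⟨(g : G), hgT⟩ : T)} : Set T) := by
      rw [Subgroup.zpowers_le, Subgroup.mem_centralizer_iff]
      intro v hv
      rw [Set.mem_singleton_iff] at hv
      subst hv
      apply Subtype.ext
      show (g : G) * w = w * (g : G)
      calc (g : G) * w = (w * (g : G) * w⁻¹) * w := by rw [hwg]
        _ = w * (g : G) := by group
    obtain ⟨t, ht⟩ := hdef ⟨(g : G), hgT⟩ hne _ hSp hSc
    have h1 : (MulAut.conj t).toMonoidHom (⟨w, hwT⟩ : T) ∈ P.subgroupOf T :=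
      ht ⟨_, Subgroup.mem_zpowers _, rfl⟩
    have h2 := hnormal.conj_mem _ h1 t⁻¹
    have h3 : t⁻¹ * (MulAut.conj t).toMonoidHom (⟨w, hwT⟩ : T) * t⁻¹⁻¹ = ⟨w, hwT⟩ := by
      simp [MulAut.conj_apply, mul_assoc]
    rw [h3] at h2
    exact Subgroup.mem_subgroupOf.mp h2
  obtain ⟨A, m, hm, hN₀⟩ := Nat.exists_eq_pow_mul_and_not_dvd
    (Nat.card_pos (α := G)).ne' p hp.ne_one
  have hcopm : Nat.Coprime p m := (Nat.Prime.coprime_iff_not_dvd hp).mpr hm
  have hcop : Nat.Coprime (p ^ A) m := hcopm.pow_left A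
  obtain ⟨a, b, hab⟩ := Nat.isCoprime_iff_coprime.mpr hcop
  have hyA : y ^ (p ^ A) = 1 := by
    have h1 : orderOf y ∣ p ^ k := orderOf_dvd_of_pow_eq_one hyk
    obtain ⟨j, -, hoj⟩ := (Nat.dvd_prime_pow hp).mp h1
    have h2 : orderOf y ∣ Nat.card G := orderOf_dvd_natCard y
    rw [hoj, hN₀] at h2
    have h3 : p ^ j ∣ p ^ A := (hcopm.pow_left j).dvd_of_dvd_mul_right h2
    rw [← orderOf_dvd_iff_pow_eq_one, hoj]
    exact h3
  have hzy : ((c : G)⁻¹ * y) * y⁻¹ ∈ Subgroup.centralizer (P : Set G) := by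
    have : ((c : G)⁻¹ * y) * y⁻¹ = (c : G)⁻¹ := by group
    rw [this]
    exact Subgroup.inv_mem _ c.2
  have hz1 : ((c : G)⁻¹ * y) ^ (p ^ A) ∈ Subgroup.centralizer (P : Set G) := by
    have := pow_mul_inv_pow_mem (Subgroup.centralizer (P : Set G)) y ((c : G)⁻¹ * y)
      (hTNK hyT) hzy (p ^ A)
    rwa [hyA, inv_one, mul_one] at this
  have hzm_g : ((c : G)⁻¹ * y) ^ m * (g : G) * (((c : G)⁻¹ * y) ^ m)⁻¹ = g := by
    have hcomm : Commute ((c : G)⁻¹ * y) (g : G) := by
      show ((c : G)⁻¹ * y) * (g : G) = (g : G) * ((c : G)⁻¹ * y)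
      calc ((c : G)⁻¹ * y) * (g : G) =
          (((c : G)⁻¹ * y) * (g : G) * ((c : G)⁻¹ * y)⁻¹) * ((c : G)⁻¹ * y) := by group
        _ = (g : G) * ((c : G)⁻¹ * y) := by rw [hzg]
    have := (hcomm.pow_left m).eq
    rw [this]
    group
  have hz2 : ((c : G)⁻¹ * y) ^ m ∈ P := by
    refine key1 _ (T.pow_mem hzT m) hzm_g ⟨A, ?_⟩
    rw [← pow_mul, mul_comm, ← hN₀]
    exact pow_card_eq_one'
  have hzdec : (c : G)⁻¹ * y = (((c : G)⁻¹ * y) ^ (p ^ A)) ^ a * (((c : G)⁻¹ * y) ^ m) ^ b := by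
    calc (c : G)⁻¹ * y = ((c : G)⁻¹ * y) ^ (1 : ℤ) := (zpow_one _).symm
      _ = ((c : G)⁻¹ * y) ^ (a * ((p ^ A : ℕ) : ℤ) + b * (m : ℤ)) := by rw [hab]
      _ = _ := by
        rw [zpow_add, mul_comm a, mul_comm b, zpow_mul, zpow_mul, zpow_natCast, zpow_natCast]
  have hzmem : (c : G)⁻¹ * y ∈ P ⊔ Subgroup.centralizer (P : Set G) := by
    rw [hzdec]
    exact Subgroup.mul_mem _
      (Subgroup.zpow_mem _ ((le_sup_right : _ ≤ P ⊔ Subgroup.centralizer (P : Set G)) hz1) a)
      (Subgroup.zpow_mem _ ((le_sup_left : P ≤ P ⊔ Subgroup.centralizer (P : Set G)) hz2) b)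
  have hy_eq : y = (c : G) * ((c : G)⁻¹ * y) := by group
  rw [hy_eq]
  exact Subgroup.mul_mem _
    ((le_sup_right : _ ≤ P ⊔ Subgroup.centralizer (P : Set G)) c.2) hzmem

end pelements

section nilp

variable {G : Type u} [Group G] [Fintype G] {p : ℕ} {M : Ideal AlgInt}

/-- **S4687**: for an abelian maximal Brauer pair, the block is nilpotent iff the inertial
quotient is trivial. -/
theorem isNilpotentBlock_iff_of_abelian [Fact p.Prime] (hM : IsPModular p M)
    {B : Set (IrrCharacter G)} {P : Subgroup G}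
    {e : Set (IrrCharacter (Subgroup.centralizer (P : Set G)))}
    (hmax : IsMaximalBrauerPair p M B P e) (hab : ∀ x ∈ P, ∀ y ∈ P, x * y = y * x) :
    IsNilpotentBlock p M B ↔ ∀ x : G, x ∈ Subgroup.normalizer (P : Set G) →
      StabilizesBlock (Subgroup.centralizer (P : Set G)) e x →
      x ∈ Subgroup.centralizer (P : Set G) := by
  classical
  haveI hpr := isPrime_of_isPModular hM
  have hp : p.Prime := Fact.out
  haveI : Fintype (Subgroup.centralizer (P : Set G)) := Fintype.ofFinite _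
  have hPe : IsBrauerPair p M P e := hmax.1.1
  have he : IsPBlock M e := hPe.2
  have hB : IsPBlock M B := hmax.1.2.1
  have hPK : P ≤ Subgroup.centralizer (P : Set G) := by
    intro u hu
    rw [Subgroup.mem_centralizer_iff]
    intro v hv
    exact hab v hv u hu
  constructor
  · rintro ⟨-, hnil⟩ x hxN hxst
    obtain ⟨A, m, hm, hN₀⟩ := Nat.exists_eq_pow_mul_and_not_dvd
      (Nat.card_pos (α := G)).ne' p hp.ne_one
    have hcopm : Nat.Coprime p m := (Nat.Prime.coprime_iff_not_dvd hp).mpr hm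
    have hcop : Nat.Coprime (p ^ A) m := hcopm.pow_left A
    obtain ⟨a, b, hab'⟩ := Nat.isCoprime_iff_coprime.mpr hcop
    have hxS : x ∈ stabSub (Subgroup.centralizer (P : Set G)) e :=
      mem_stabSub_of_stabilizesBlock he hxst
    -- the `p`-regular part
    have h1 : x ^ (p ^ A) ∈ Subgroup.centralizer (P : Set G) := by
      refine hnil P e hmax.1 _ (Subgroup.pow_mem _ hxN _)
        (stabilizesBlock_of_mem_stabSub he (Subgroup.pow_mem _ hxS _)) ?_
      intro hdvd
      have h2 : orderOf (x ^ (p ^ A)) ∣ m := by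
        apply orderOf_dvd_of_pow_eq_one
        rw [← pow_mul, ← hN₀]
        exact pow_card_eq_one'
      exact hm (hdvd.trans h2)
    -- the `p`-part
    have h2 : x ^ m ∈ Subgroup.centralizer (P : Set G) := by
      have h3 := mem_sup_centralizer_of_isMaximalBrauerPair hM hmax
        (Subgroup.pow_mem _ hxN m)
        (stabilizesBlock_of_mem_stabSub he (Subgroup.pow_mem _ hxS m)) (k := A) (by
          rw [← pow_mul, mul_comm, ← hN₀]
          exact pow_card_eq_one')
      rwa [sup_eq_right.mpr hPK] at h3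
    have hdec : x = (x ^ (p ^ A)) ^ a * (x ^ m) ^ b := by
      calc x = x ^ (1 : ℤ) := (zpow_one _).symm
        _ = x ^ (a * ((p ^ A : ℕ) : ℤ) + b * (m : ℤ)) := by rw [hab']
        _ = _ := by
          rw [zpow_add, mul_comm a, mul_comm b, zpow_mul, zpow_mul, zpow_natCast, zpow_natCast]
    rw [hdec]
    exact Subgroup.mul_mem _ (Subgroup.zpow_mem _ h1 a) (Subgroup.zpow_mem _ h2 b)
  · intro hin
    refine ⟨hB, ?_⟩
    intro Q f hQf x hxN hxst _
    obtain ⟨z, hz⟩ := exists_conj_subpairLE hM hmax hQf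
    have hQzP : Q.map (MulAut.conj z).toMonoidHom ≤ P := le_of_reflTransGen hz
    have hfz : IsPBlock M (conjBlock Q z f) := (isBrauerPair_conjBlock z hQf.1).2
    have hxN' : z * x * z⁻¹ ∈ Subgroup.normalizer
        ((Q.map (MulAut.conj z).toMonoidHom : Subgroup G) : Set G) := by
      have h1 := Subgroup.le_normalizer_map (H := Q) (MulAut.conj z).toMonoidHom
      exact h1 ⟨x, hxN, by simp [MulAut.conj_apply]⟩
    have hxst' := stabilizesBlock_conjBlock z x hxst
    obtain ⟨y, hyN, hyst, c, hc, hxyc⟩ :=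
      stabilizer_factorization hM hmax hab hQzP hfz hz hxN' hxst'
    have hyK : y ∈ Subgroup.centralizer (P : Set G) := hin y hyN hyst
    have hyQ : y ∈ Subgroup.centralizer
        ((Q.map (MulAut.conj z).toMonoidHom : Subgroup G) : Set G) :=
      Subgroup.centralizer_le (by exact_mod_cast hQzP) hyK
    have hmem : z * x * z⁻¹ ∈ Subgroup.centralizer
        ((Q.map (MulAut.conj z).toMonoidHom : Subgroup G) : Set G) := by
      rw [hxyc]
      exact Subgroup.mul_mem _ hyQ hc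
    have := conj_inv_mem_centralizer_of_map z hmem
    have e1 : z⁻¹ * (z * x * z⁻¹) * z = x := by group
    rwa [e1] at this

end nilp

end Cfsg.Agent.Helper77
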