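import Mathlib
import Cfsg.Agent.Lib.Helper77.StabBlock
import Cfsg.Agent.Lib.Helper77.LocalDefect
import Cfsg.Agent.Lib.Helper77.ThirdMain
import Cfsg.Prelude.Def_BlockFusion

/-!
# The fusion system of a block: conjugacy, fully centralized and centric subgroups, and the
principal block.
-/

set_option autoImplicit false
set_option linter.unusedSectionVars false
set_option linter.style.haveILetI false

namespace Cfsg.Agent.Helper77

open Cfsg Cfsg.Agent.Helper79

universe u

section basics

variable {G : Type u} [Group G]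

theorem map_conj_centralizer (Q : Subgroup G) (x : G) :
    (Subgroup.centralizer (Q : Set G)).map (MulAut.conj x).toMonoidHom =
      Subgroup.centralizer ((Q.map (MulAut.conj x).toMonoidHom : Subgroup G) : Set G) := by
  ext y
  constructor
  · rintro ⟨c, hc, rfl⟩
    exact conj_mem_centralizer_map x hc
  · intro hy
    refine ⟨x⁻¹ * y * x, conj_inv_mem_centralizer_of_map x hy, ?_⟩
    simp [MulAut.conj_apply, mul_assoc]

theorem card_inf_centralizer_map_conj (Q : Subgroup G) (x : G) :
    Nat.card ↥(Q.map (MulAut.conj x).toMonoidHom ⊓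
      Subgroup.centralizer ((Q.map (MulAut.conj x).toMonoidHom : Subgroup G) : Set G)) =
    Nat.card ↥(Q ⊓ Subgroup.centralizer (Q : Set G)) := by
  rw [← map_conj_centralizer, ← Subgroup.map_inf_eq _ _ _ (MulAut.conj x).injective,
    Subgroup.card_map_of_injective (MulAut.conj x).injective]

theorem range_conjHom (Q : Subgroup G) (g : G) :
    (conjHom Q g).range = Q.map (MulAut.conj g).toMonoidHom := by
  ext y
  constructor
  · rintro ⟨u, rfl⟩
    exact ⟨u, u.2, rfl⟩
  · rintro ⟨u, hu, rfl⟩
    exact ⟨⟨u, hu⟩, rfl⟩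

theorem range_eq_map_of_conj {Q : Subgroup G} {φ : Q →* G} {g : G}
    (hg : ∀ u : Q, φ u = g * (u : G) * g⁻¹) :
    φ.range = Q.map (MulAut.conj g).toMonoidHom := by
  ext y
  constructor
  · rintro ⟨u, rfl⟩
    exact ⟨u, u.2, by rw [hg]; simp [MulAut.conj_apply]⟩
  · rintro ⟨u, hu, rfl⟩
    exact ⟨⟨u, hu⟩, by rw [hg]; simp [MulAut.conj_apply]⟩

end basics

section fusion

variable {G : Type u} [Group G] [Fintype G] {p : ℕ} {M : Ideal AlgInt}

/-- The lower pair of a subpair inclusion is a Brauer pair as soon as the upper one is. -/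
theorem isPBlock_of_subpairLE_left {Q P : Subgroup G}
    {f : Set (IrrCharacter (Subgroup.centralizer (Q : Set G)))}
    {e : Set (IrrCharacter (Subgroup.centralizer (P : Set G)))}
    (he : IsPBlock M e) (hle : SubpairLE p M Q f P e) : IsPBlock M f := by
  rcases Relation.ReflTransGen.cases_head hle with h | ⟨c, hc, -⟩
  · have h1 : Q = P := congrArg Sigma.fst h
    subst h1
    have h2 : f = e := eq_of_heq (Sigma.mk.inj h).2
    rw [h2]
    exact he
  · exact hc.1.2

/-- Conjugacy in the fusion system of a block. -/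
theorem isConj_iff_of_isBlockFusionSystemOn [Fact p.Prime] (hM : IsPModular p M)
    {B : Set (IrrCharacter G)} {P : Subgroup G}
    {e : Set (IrrCharacter (Subgroup.centralizer (P : Set G)))}
    {F : FusionSystem P} (hF : IsBlockFusionSystemOn p M B P e F)
    {Q : Subgroup G} {f : Set (IrrCharacter (Subgroup.centralizer (Q : Set G)))}
    (hQP : Q ≤ P) (hf : IsPBlock M f) (hle : SubpairLE p M Q f P e) (Q' : Subgroup G) :
    F.IsConj Q Q' ↔ ∃ g : G, Q' = Q.map (MulAut.conj g).toMonoidHom ∧
      SubpairLE p M (Q.map (MulAut.conj g).toMonoidHom) (conjBlock Q g f) P e := by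
  have hPe : IsBrauerPair p M P e := hF.1.1.1
  constructor
  · rintro ⟨φ, hφ, rfl⟩
    obtain ⟨-, g, hg, -, f', hle', hle''⟩ := (hF.2 Q φ).1 hφ
    have hf' : IsPBlock M f' := isPBlock_of_subpairLE_left hPe.2 hle'
    have heq : f' = f := subpairLE_unique hM P e hPe _ Q hQP rfl f' f hf' hle' hf hle
    subst heq
    exact ⟨g, range_eq_map_of_conj hg, hle''⟩
  · rintro ⟨g, rfl, hle''⟩
    refine ⟨conjHom Q g, (hF.2 Q _).2 ⟨hQP, g, fun u => rfl, le_of_reflTransGen hle'', f, hle,
      hle''⟩, range_conjHom Q g⟩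

/-- Defect groups of a block of `C_G(Q)` and of its conjugate have the same order. -/
theorem card_defectGroup_conjBlock [Fact p.Prime] (hM : IsPModular p M) {Q : Subgroup G}
    {f : Set (IrrCharacter (Subgroup.centralizer (Q : Set G)))} (hf : IsPBlock M f) (g : G)
    {D : Subgroup (Subgroup.centralizer (Q : Set G))}
    {D' : Subgroup (Subgroup.centralizer
      ((Q.map (MulAut.conj g).toMonoidHom : Subgroup G) : Set G))}
    (hD : IsDefectGroup p M f D) (hD' : IsDefectGroup p M (conjBlock Q g f) D') :
    Nat.card D' = Nat.card D := by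
  classical
  haveI : Fintype (Subgroup.centralizer (Q : Set G)) := Fintype.ofFinite _
  haveI : Fintype (Subgroup.centralizer
    ((Q.map (MulAut.conj g).toMonoidHom : Subgroup G) : Set G)) := Fintype.ofFinite _
  have hfx : IsPBlock M (conjBlock Q g f) := by
    rw [conjBlock_eq_mapSet]
    exact isPBlock_mapSet _ hf
  have hDx : IsDefectGroup p M (conjBlock Q g f)
      (D.map ((centEquiv Q g : (Subgroup.centralizer (Q : Set G)) ≃* _) :
        (Subgroup.centralizer (Q : Set G)) →* _)) := by
    rw [conjBlock_eq_mapSet]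
    exact isDefectGroup_mapSet (centEquiv Q g) hD
  exact (card_eq_of_isDefectGroup hM hfx hD' hDx).trans
    (Subgroup.card_map_of_injective (centEquiv Q g).injective)

theorem card_centralizerIn (P Q' : Subgroup G) :
    Nat.card ↥(FusionSystem.centralizerIn P Q') =
      Nat.card ((P ⊓ Subgroup.centralizer (Q' : Set G)).subgroupOf
        (Subgroup.centralizer (Q' : Set G))) :=
  (card_subgroupOf_of_le inf_le_right).symm

/-- **S4678**: fully centralized subgroups. -/
theorem isFullyCentralized_iff [Fact p.Prime] (hM : IsPModular p M)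
    {B : Set (IrrCharacter G)} {P : Subgroup G}
    {e : Set (IrrCharacter (Subgroup.centralizer (P : Set G)))}
    {F : FusionSystem P} (hF : IsBlockFusionSystemOn p M B P e F)
    {Q : Subgroup G} {f : Set (IrrCharacter (Subgroup.centralizer (Q : Set G)))}
    (hQP : Q ≤ P) (hf : IsPBlock M f) (hle : SubpairLE p M Q f P e) :
    F.IsFullyCentralized Q ↔ IsDefectGroup p M f
      ((P ⊓ Subgroup.centralizer (Q : Set G)).subgroupOf (Subgroup.centralizer (Q : Set G))) := by
  classical
  have hmax := hF.1
  have hPe : IsBrauerPair p M P e := hmax.1.1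
  have hQ : IsPGroup p Q := hPe.1.to_le hQP
  constructor
  · rintro ⟨-, hfc⟩
    obtain ⟨D, hD, hCD⟩ := exists_isDefectGroup_ge_centralizer hM hPe hQP hf hle
    obtain ⟨x, hxle, hxD⟩ := exists_conj_isDefectGroup_centralizer hM hmax hQP hf hle
    have hconj : F.IsConj Q (Q.map (MulAut.conj x).toMonoidHom) :=
      (isConj_iff_of_isBlockFusionSystemOn hM hF hQP hf hle _).2 ⟨x, rfl, hxle⟩
    have h1 := hfc _ hconj
    have h2 := card_defectGroup_conjBlock hM hf x hD hxD
    rw [card_centralizerIn, card_centralizerIn] at h1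
    have h3 : (P ⊓ Subgroup.centralizer (Q : Set G)).subgroupOf
        (Subgroup.centralizer (Q : Set G)) = D :=
      Subgroup.eq_of_le_of_card_ge hCD (by omega)
    rw [h3]
    exact hD
  · intro hdef
    refine ⟨hQP, fun Q' hQ' => ?_⟩
    obtain ⟨g, rfl, hgle⟩ := (isConj_iff_of_isBlockFusionSystemOn hM hF hQP hf hle _).1 hQ'
    have hfg : IsPBlock M (conjBlock Q g f) := (isBrauerPair_conjBlock g ⟨hQ, hf⟩).2
    have hQgP : Q.map (MulAut.conj g).toMonoidHom ≤ P := le_of_reflTransGen hgle
    obtain ⟨D', hD', hCD'⟩ := exists_isDefectGroup_ge_centralizer hM hPe hQgP hfg hgle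
    have h2 := card_defectGroup_conjBlock hM hf g hdef hD'
    have h3 := Subgroup.card_le_of_le hCD'
    rw [card_centralizerIn, card_centralizerIn]
    omega

/-- **S4680**: centric subgroups. -/
theorem isCentric_iff [Fact p.Prime] (hM : IsPModular p M)
    {B : Set (IrrCharacter G)} {P : Subgroup G}
    {e : Set (IrrCharacter (Subgroup.centralizer (P : Set G)))}
    {F : FusionSystem P} (hF : IsBlockFusionSystemOn p M B P e F)
    {Q : Subgroup G} {f : Set (IrrCharacter (Subgroup.centralizer (Q : Set G)))}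
    (hQP : Q ≤ P) (hf : IsPBlock M f) (hle : SubpairLE p M Q f P e) :
    F.IsCentric Q ↔ IsDefectGroup p M f
      ((Q ⊓ Subgroup.centralizer (Q : Set G)).subgroupOf (Subgroup.centralizer (Q : Set G))) := by
  classical
  have hmax := hF.1
  have hPe : IsBrauerPair p M P e := hmax.1.1
  have hQ : IsPGroup p Q := hPe.1.to_le hQP
  constructor
  · rintro ⟨-, hcen⟩
    obtain ⟨D, hD, hZD⟩ := exists_isDefectGroup_ge_centralizer hM (⟨hQ, hf⟩ : IsBrauerPair p M Q f)
      (le_refl Q) hf Relation.ReflTransGen.refl
    obtain ⟨x, hxle, hxD⟩ := exists_conj_isDefectGroup_centralizer hM hmax hQP hf hle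
    have hconj : F.IsConj Q (Q.map (MulAut.conj x).toMonoidHom) :=
      (isConj_iff_of_isBlockFusionSystemOn hM hF hQP hf hle _).2 ⟨x, rfl, hxle⟩
    have h1 : P ⊓ Subgroup.centralizer ((Q.map (MulAut.conj x).toMonoidHom : Subgroup G) : Set G) ≤
        Q.map (MulAut.conj x).toMonoidHom := hcen _ hconj
    have h2 := card_defectGroup_conjBlock hM hf x hD hxD
    have h4 : Nat.card ↥(P ⊓ Subgroup.centralizer
        ((Q.map (MulAut.conj x).toMonoidHom : Subgroup G) : Set G)) ≤
        Nat.card ↥(Q.map (MulAut.conj x).toMonoidHom ⊓ Subgroup.centralizer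
        ((Q.map (MulAut.conj x).toMonoidHom : Subgroup G) : Set G)) :=
      Subgroup.card_le_of_le (le_inf h1 inf_le_right)
    rw [card_inf_centralizer_map_conj] at h4
    rw [card_subgroupOf_of_le inf_le_right] at h2
    have h5 : (Q ⊓ Subgroup.centralizer (Q : Set G)).subgroupOf
        (Subgroup.centralizer (Q : Set G)) = D :=
      Subgroup.eq_of_le_of_card_ge hZD (by rw [card_subgroupOf_of_le inf_le_right]; omega)
    rw [h5]
    exact hD
  · intro hdef
    refine ⟨hQP, fun Q' hQ' => ?_⟩
    obtain ⟨g, rfl, hgle⟩ := (isConj_iff_of_isBlockFusionSystemOn hM hF hQP hf hle _).1 hQ'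
    have hQgP : Q.map (MulAut.conj g).toMonoidHom ≤ P := le_of_reflTransGen hgle
    have hfg : IsPBlock M (conjBlock Q g f) := (isBrauerPair_conjBlock g ⟨hQ, hf⟩).2
    obtain ⟨D', hD', hCD'⟩ := exists_isDefectGroup_ge_centralizer hM hPe hQgP hfg hgle
    have h2 := card_defectGroup_conjBlock hM hf g hdef hD'
    rw [card_subgroupOf_of_le inf_le_right, ← card_inf_centralizer_map_conj Q g] at h2
    have h3 := Subgroup.card_le_of_le hCD'
    rw [card_subgroupOf_of_le inf_le_right] at h3
    have h4 : Q.map (MulAut.conj g).toMonoidHom ⊓ Subgroup.centralizer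
        ((Q.map (MulAut.conj g).toMonoidHom : Subgroup G) : Set G) ≤
        P ⊓ Subgroup.centralizer ((Q.map (MulAut.conj g).toMonoidHom : Subgroup G) : Set G) :=
      inf_le_inf_right _ hQgP
    have h5 := Subgroup.eq_of_le_of_card_ge h4 (by omega)
    show P ⊓ Subgroup.centralizer ((Q.map (MulAut.conj g).toMonoidHom : Subgroup G) : Set G) ≤
      Q.map (MulAut.conj g).toMonoidHom
    rw [← h5]
    exact inf_le_left

/-- The Sylow pair of the principal block is maximal. -/
theorem isMaximalBrauerPair_principal [Fact p.Prime] (hM : IsPModular p M) (S : Sylow p G) :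
    IsMaximalBrauerPair p M (principalBlock M G) (S : Subgroup G)
      (principalBlock M (Subgroup.centralizer ((S : Subgroup G) : Set G))) := by
  refine ⟨isBrauerPairOf_principal hM _ S.isPGroup', ?_⟩
  intro R g hRg hle
  have hSR : (S : Subgroup G) ≤ R := le_of_reflTransGen hle
  exact (S.is_maximal' hRg.1.1 hSR)

theorem conjBlock_principalBlock (Q : Subgroup G) (g : G) :
    conjBlock Q g (principalBlock M (Subgroup.centralizer (Q : Set G))) =
      principalBlock M (Subgroup.centralizer
        ((Q.map (MulAut.conj g).toMonoidHom : Subgroup G) : Set G)) := by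
  classical
  haveI : Fintype (Subgroup.centralizer (Q : Set G)) := Fintype.ofFinite _
  haveI : Fintype (Subgroup.centralizer
    ((Q.map (MulAut.conj g).toMonoidHom : Subgroup G) : Set G)) := Fintype.ofFinite _
  rw [conjBlock_eq_mapSet, mapSet_principalBlock]

/-- **S4681**: the fusion system of the principal block is the fusion system of the group. -/
theorem hom_eq_of_principal [Fact p.Prime] (hM : IsPModular p M) (S : Sylow p G)
    (F : FusionSystem (S : Subgroup G))
    (hF : IsBlockFusionSystemOn p M (principalBlock M G) (S : Subgroup G)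
      (principalBlock M (Subgroup.centralizer ((S : Subgroup G) : Set G))) F) (Q : Subgroup G) :
    F.Hom Q = (groupFusionSystem (S : Subgroup G)).Hom Q := by
  have hSp : IsPGroup p (S : Subgroup G) := S.isPGroup'
  ext φ
  rw [hF.2 Q φ]
  constructor
  · rintro ⟨hQS, g, hg, hgS, -⟩
    refine ⟨hQS, fun x => ?_, g, hg⟩
    apply hgS
    exact ⟨x, x.2, by rw [hg]; simp [MulAut.conj_apply]⟩
  · rintro ⟨hQS, hφS, g, hg⟩
    have hgS : Q.map (MulAut.conj g).toMonoidHom ≤ (S : Subgroup G) := by
      rintro _ ⟨u, hu, rfl⟩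
      have := hφS ⟨u, hu⟩
      rw [hg] at this
      simpa [MulAut.conj_apply] using this
    refine ⟨hQS, g, hg, hgS, principalBlock M (Subgroup.centralizer (Q : Set G)),
      subpairLE_principal hM _ (S : Subgroup G) Q hSp hQS rfl, ?_⟩
    rw [conjBlock_principalBlock]
    exact subpairLE_principal hM _ (S : Subgroup G) _ hSp hgS rfl

end fusion

end Cfsg.Agent.Helper77
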