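import Mathlib
import Cfsg.Agent.Lib.Helper77.Induced

set_option autoImplicit false
set_option linter.unusedSectionVars false
set_option linter.style.haveILetI false

namespace Cfsg.Agent.Helper77

open Cfsg Cfsg.Agent.Helper79
open scoped ComplexConjugate

universe u

section left

variable {G : Type*} [Group G] [Fintype G]

/-- `omega` is multiplicative as soon as the left factor is central. -/
theorem omega_conv_left {χ : G → ℂ} (hχ : IsIrrCharacter G χ) {a : G → ℂ}
    (ha : IsClassFunction G a) (b : G → ℂ) :
    omega χ (conv a b) = omega χ a * omega χ b := by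
  obtain ⟨n, ρ, hirr, rfl⟩ := hχ
  have := hirr
  have h := opOf_conv ρ a b
  rw [opOf_eq_omega_smul ρ ha] at h
  have htr := congrArg (LinearMap.trace ℂ (Fin n → ℂ)) h
  rw [trace_opOf, smul_mul_assoc, one_mul, map_smul, trace_opOf, smul_eq_mul] at htr
  unfold omega at htr ⊢
  rw [htr]
  ring

end left

section cover

variable {G : Type u} [Group G] [Fintype G]

/-- extension by zero of `n ↦ θ n⁻¹` -/
noncomputable def extInv (N : Subgroup G) (θ : N → ℂ) : G → ℂ :=
  fun g => by classical exact if h : g ∈ N then θ ⟨g, h⟩⁻¹ else 0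

theorem extInv_of_mem (N : Subgroup G) (θ : N → ℂ) (n : N) : extInv N θ (n : G) = θ n⁻¹ := by
  classical
  unfold extInv
  rw [dif_pos n.2]

theorem extInv_of_notMem (N : Subgroup G) (θ : N → ℂ) {g : G} (hg : g ∉ N) :
    extInv N θ g = 0 := by
  classical
  unfold extInv
  rw [dif_neg hg]

theorem omega_inv_irr (N : Type u) [Group N] [Fintype N] (θ ψ : IrrCharacter N) :
    omega (ψ : N → ℂ) (fun n => (θ : N → ℂ) n⁻¹) =
      if ψ = θ then (Nat.card N : ℂ) / (ψ : N → ℂ) 1 else 0 := by
  have h := irr_orthonormal ψ θ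
  unfold pair at h
  unfold omega
  have hN : (Nat.card N : ℂ) ≠ 0 := by
    have : 0 < Nat.card N := Nat.card_pos
    exact_mod_cast this.ne'
  have hsum : ∑ g, (θ : N → ℂ) g⁻¹ * (ψ : N → ℂ) g =
      (Nat.card N : ℂ) * (if ψ = θ then 1 else 0) := by
    rw [← h, ← mul_assoc, mul_inv_cancel₀ hN, one_mul]
    refine Finset.sum_congr rfl fun g _ => ?_
    ring
  rw [hsum]
  split_ifs <;> simp

/-- **Covering**: if `θ` is a constituent of the restriction of `χ` to the normal subgroup `N`,
the central characters of `χ` and `θ` agree on central elements of `G` supported on `N`. -/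
theorem omega_eq_of_constituent (N : Subgroup G) [N.Normal] [Fintype N] (χ : IrrCharacter G)
    (θ : IrrCharacter N)
    (hne : classInner (fun n : N => (χ : G → ℂ) n) (θ : N → ℂ) ≠ 0) {a : G → ℂ}
    (ha : IsClassFunction G a) (hsupp : ∀ g, g ∉ N → a g = 0) :
    omega (χ : G → ℂ) a = omega (θ : N → ℂ) (restr N a) := by
  classical
  let E : G → ℂ := extInv N (θ : N → ℂ)
  let θinv : N → ℂ := fun n => (θ : N → ℂ) n⁻¹
  have hθinv_cl : IsClassFunction N θinv := by
    intro g h
    simp only [θinv]
    have : (h * g * h⁻¹)⁻¹ = h * g⁻¹ * h⁻¹ := by group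
    rw [this]
    exact irr_class θ g⁻¹ h
  have ha' : IsClassFunction N (restr N a) := isClassFunction_restr N (fun u _ x => ha x u)
  -- (1) omega χ E ≠ 0
  have h1 : omega (χ : G → ℂ) E ≠ 0 := by
    unfold omega
    have hsum : ∑ g, E g * (χ : G → ℂ) g =
        (Nat.card N : ℂ) * classInner (fun n : N => (χ : G → ℂ) n) (θ : N → ℂ) := by
      rw [← sum_subgroup_eq N (fun g => E g * (χ : G → ℂ) g)
        (fun x hx => by simp only [E]; rw [extInv_of_notMem N _ hx, zero_mul])]
      unfold classInner
      have hN : (Nat.card N : ℂ) ≠ 0 := by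
        have : 0 < Nat.card N := Nat.card_pos
        exact_mod_cast this.ne'
      rw [← mul_assoc, mul_inv_cancel₀ hN, one_mul]
      refine Finset.sum_congr rfl fun n _ => ?_
      simp only [E]
      rw [extInv_of_mem, irr_inv]
      ring
    rw [hsum]
    have hN : (Nat.card N : ℂ) ≠ 0 := by
      have : 0 < Nat.card N := Nat.card_pos
      exact_mod_cast this.ne'
    exact div_ne_zero (mul_ne_zero hN hne) (irr_one_ne_zero χ)
  -- (2) conv_N (restr a) θinv = c • θinv
  have h2 : conv (restr N a) θinv = omega (θ : N → ℂ) (restr N a) • θinv := by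
    apply eq_of_omega_eq (isClassFunction_conv ha' hθinv_cl) (isClassFunction_smul _ hθinv_cl)
    intro ψ
    rw [omega_conv ψ.2 ha' hθinv_cl, omega_smul, omega_inv_irr N θ ψ]
    by_cases hψ : ψ = θ
    · rw [if_pos hψ, hψ]
    · rw [if_neg hψ, mul_zero, mul_zero]
  -- (2') conv a E = c • E
  have h3 : conv a E = omega (θ : N → ℂ) (restr N a) • E := by
    funext x
    simp only [Pi.smul_apply, smul_eq_mul]
    by_cases hx : x ∈ N
    · have h4 := congrFun h2 ⟨x, hx⟩
      simp only [Pi.smul_apply, smul_eq_mul] at h4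
      have hE : E x = θinv ⟨x, hx⟩ := by
        simp only [E, θinv]
        exact extInv_of_mem N _ ⟨x, hx⟩
      rw [hE, ← h4]
      unfold conv
      rw [← sum_subgroup_eq N (fun y => a y * E (y⁻¹ * x))
        (fun y hy => by rw [hsupp y hy, zero_mul])]
      refine Finset.sum_congr rfl fun y _ => ?_
      simp only [restr, θinv, E]
      have : ((y : G))⁻¹ * x = ((y⁻¹ * ⟨x, hx⟩ : N) : G) := by simp
      rw [this, extInv_of_mem]
    · have hE : E x = 0 := extInv_of_notMem N _ hx
      rw [hE, mul_zero]
      unfold conv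
      refine Finset.sum_eq_zero fun y _ => ?_
      by_cases hy : y ∈ N
      · have : y⁻¹ * x ∉ N := by
          intro hcon
          apply hx
          have := N.mul_mem hy hcon
          simpa using this
        simp only [E]
        rw [extInv_of_notMem N _ this, mul_zero]
      · rw [hsupp y hy, zero_mul]
  have h5 := omega_conv_left χ.2 ha E
  rw [h3, omega_smul] at h5
  exact (mul_right_cancel₀ h1 h5).symm

end cover

end Cfsg.Agent.Helper77
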