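import Mathlib
import Cfsg.Agent.Lib.Helper77.BlockFusion
import Cfsg.Agent.Lib.Helper16.Cover
import Cfsg.Agent.Lib.Helper77.Cover

/-!
# Stable blocks of normal subgroups of `p`-power index (S4672).
-/

set_option autoImplicit false
set_option linter.unusedSectionVars false
set_option linter.style.haveILetI false

namespace Cfsg.Agent.Helper77

open Cfsg Cfsg.Agent.Helper79

universe u

section tcomp

variable {G : Type u} [Group G] [Fintype G] {p : ℕ} {M : Ideal AlgInt}

/-- The classes of `N` contained in the `G`-class of `x`. -/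
noncomputable def subclasses (N : Subgroup G) [Fintype (ConjClasses N)] (x : G) :
    Finset (ConjClasses N) := by
  classical
  exact Finset.univ.filter (fun K : ConjClasses N => IsConj x ((Quotient.out K : N) : G))

theorem mem_subclasses (N : Subgroup G) [Fintype (ConjClasses N)] (x : G) (K : ConjClasses N) :
    K ∈ subclasses N x ↔ IsConj x ((Quotient.out K : N) : G) := by
  classical
  unfold subclasses
  simp

/-- Expansion of the central character of `θ` at the truncated class sum. -/
theorem omega_restr_classInd (N : Subgroup G) [N.Normal] [Fintype N] [Fintype (ConjClasses N)]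
    (θ : IrrCharacter N) (x : G) :
    omega (θ : N → ℂ) (restr N (classInd x)) =
      ∑ K ∈ subclasses N x, centralChar (θ : N → ℂ) (Quotient.out K) := by
  classical
  have hcl : IsClassFunction N (restr N (classInd x)) :=
    isClassFunction_restr N (fun u _ y => isClassFunction_classInd x y u)
  rw [omega_eq_wsum, wsum_eq_sum_conjClasses _ hcl]
  unfold subclasses
  rw [Finset.sum_filter]
  refine Finset.sum_congr rfl fun K _ => ?_
  rw [← omega_eq_wsum, omega_classInd_of_irr θ.2]
  unfold restr classInd
  split_ifs <;> simp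

/-- A class of `N` in the `G`-class of `x ∈ N` is the image of the class of `x` under a
conjugation. -/
theorem exists_conj_of_mem_subclasses (N : Subgroup G) [hN : N.Normal] [Fintype (ConjClasses N)]
    (x' : N) {K : ConjClasses N} (hK : K ∈ subclasses N (x' : G)) :
    ∃ (g : G) (hg : g ∈ Subgroup.normalizer (N : Set G)),
      Quotient.out K = (conjEquivOf N g hg).symm x' := by
  rw [mem_subclasses] at hK
  obtain ⟨g, hg⟩ := isConj_iff.mp hK
  have hgN : g⁻¹ ∈ Subgroup.normalizer (N : Set G) := by
    rw [Subgroup.normalizer_eq_top]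
    exact Subgroup.mem_top _
  refine ⟨g⁻¹, hgN, ?_⟩
  apply Subtype.ext
  rw [conjEquivOf_symm_apply_coe, ← hg, inv_inv]

/-- **The covering computation**: for a `G`-stable block `c` of `N ⊴ G` and `x ∈ N`, the central
character of `θ ∈ c` at the truncated class sum of `x` is `m` times its value at the `N`-class sum
of `x`, `m` the number of `N`-classes in the `G`-class. -/
theorem exists_subclass_count [hpr : M.IsPrime] (N : Subgroup G) [hN : N.Normal] [Fintype N]
    {c : Set (IrrCharacter N)} (hc : IsPBlock M c) (hst : ∀ g : G, StabilizesBlock N c g)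
    (x' : N) :
    ∃ m : ℕ, m * (Subgroup.centralizer ({x'} : Set N)).index =
        (Subgroup.centralizer ({(x' : G)} : Set G)).index ∧
      ∀ θ ∈ c, MemLocalIdeal M (omega (θ : N → ℂ) (restr N (classInd (x' : G))) -
        (m : ℂ) * centralChar (θ : N → ℂ) x') := by
  classical
  haveI : Fintype (ConjClasses N) := Fintype.ofFinite _
  refine ⟨(subclasses N (x' : G)).card, ?_, ?_⟩
  · -- the count, via the trivial characters
    have h1 := omega_eq_of_constituent N (trivIrr G) (trivIrr N)
      (Cfsg.Agent.Helper16.classInner_trivIrr_ne_zero N (trivIrr G) (fun _ => rfl))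
      (isClassFunction_classInd (x' : G)) (classInd_support N x'.2)
    rw [omega_classInd_of_irr (trivIrr G).2, centralChar_trivIrr, omega_restr_classInd] at h1
    have h2 : ∀ K ∈ subclasses N (x' : G),
        centralChar ((trivIrr N : IrrCharacter N) : N → ℂ) (Quotient.out K) =
          ((Subgroup.centralizer ({x'} : Set N)).index : ℂ) := by
      intro K hK
      obtain ⟨g, hg, hgK⟩ := exists_conj_of_mem_subclasses N x' hK
      rw [centralChar_trivIrr, hgK, index_centralizer_mapEquiv]
    rw [Finset.sum_congr rfl h2, Finset.sum_const, nsmul_eq_mul] at h1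
    exact_mod_cast h1.symm
  · intro θ hθ
    rw [omega_restr_classInd]
    have h2 : ∀ K ∈ subclasses N (x' : G), MemLocalIdeal M
        (centralChar (θ : N → ℂ) (Quotient.out K) - centralChar (θ : N → ℂ) x') := by
      intro K hK
      obtain ⟨g, hg, hgK⟩ := exists_conj_of_mem_subclasses N x' hK
      rw [hgK, ← centralChar_conjFun N g hg]
      have hmem : conjIrr N g hg θ ∈ c := by
        have := (stabilizesBlock_iff_conjSet_eq N g hg hc).mp (hst g)
        rw [← this]
        exact ⟨θ, hθ, rfl⟩
      exact sameBlock_of_mem hc hmem hθ x'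
    have h3 : ∑ K ∈ subclasses N (x' : G), centralChar (θ : N → ℂ) (Quotient.out K) -
        ((subclasses N (x' : G)).card : ℂ) * centralChar (θ : N → ℂ) x' =
        ∑ K ∈ subclasses N (x' : G),
          (centralChar (θ : N → ℂ) (Quotient.out K) - centralChar (θ : N → ℂ) x') := by
      rw [Finset.sum_sub_distrib, Finset.sum_const, nsmul_eq_mul]
    rw [h3]
    exact memLocalIdeal_sum _ _ h2

end tcomp

section pindex

variable {G : Type u} [Group G] [Fintype G] {p : ℕ} {M : Ideal AlgInt}

/-- **S4672, first part**: a `G`-stable block of a normal subgroup of `p`-power index is a block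
idempotent of `G`. -/
theorem exists_block_of_pIndex [Fact p.Prime] (hM : IsPModular p M) (N : Subgroup G)
    [hN : N.Normal] (hidx : ∃ k : ℕ, N.index = p ^ k) {c : Set (IrrCharacter N)}
    (hc : IsPBlock M c) (hst : ∀ x : G, StabilizesBlock N c x) :
    ∃ B : Set (IrrCharacter G), IsPBlock M B ∧
      ∀ g : G, blockCoeff B g = subgroupBlockCoeff N c g := by
  classical
  haveI hpr := isPrime_of_isPModular hM
  haveI : Fintype (⊤ : Subgroup G) := Fintype.ofFinite _
  haveI : Fintype N := Fintype.ofFinite _
  have hTN : (⊤ : Subgroup G) ≤ Subgroup.normalizer (N : Set G) := by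
    rw [Subgroup.normalizer_eq_top]
  have hstab : IsStableSet N ⊤ hTN c := fun x hx =>
    (stabilizesBlock_iff_conjSet_eq N x (hTN hx) hc).mp (hst x)
  obtain ⟨F, hF, hFc⟩ := exists_block_of_stable_normal (le_top : N ≤ ⊤) hTN hc hstab
    (fun F hF t ht => by
      obtain ⟨k, hk⟩ := hidx
      haveI : (N.subgroupOf (⊤ : Subgroup G)).Normal := Subgroup.normal_subgroupOf
      refine Cfsg.Agent.Helper16.blockCoeff_eq_zero_of_pIndex hM (N.subgroupOf ⊤) ⟨k, ?_⟩ hF
        (g := t) (fun h => ht (Subgroup.mem_subgroupOf.mp h))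
      show N.relIndex ⊤ = p ^ k
      rw [Subgroup.relIndex_top_right, hk])
  refine ⟨mapSet (Subgroup.topEquiv : (⊤ : Subgroup G) ≃* G) F, isPBlock_mapSet _ hF, fun g => ?_⟩
  rw [blockCoeff_mapSet, hFc]
  rfl

/-- **S4672, second part**. -/
theorem pIndex_defect [Fact p.Prime] (hM : IsPModular p M) (N : Subgroup G) [hN : N.Normal]
    [Fintype N] (hidx : ∃ k : ℕ, N.index = p ^ k) {c : Set (IrrCharacter N)}
    (hc : IsPBlock M c) (hst : ∀ x : G, StabilizesBlock N c x) {B : Set (IrrCharacter G)}
    (hB : IsPBlock M B) (hBc : ∀ g : G, blockCoeff B g = subgroupBlockCoeff N c g)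
    {P : Subgroup G} (hP : IsDefectGroup p M B P) :
    N ⊔ P = ⊤ ∧ IsDefectGroup p M c ((P ⊓ N).subgroupOf N) := by
  classical
  haveI hpr := isPrime_of_isPModular hM
  have hp : p.Prime := Fact.out
  obtain ⟨k, hk⟩ := hidx
  obtain ⟨x, ⟨hxR, hxJ, hxω⟩, S, rfl⟩ := hP
  -- `x ∈ N`
  have hsuppB : ∀ g, g ∉ N → blockCoeff B g = 0 := by
    intro g hg
    rw [hBc, subgroupBlockCoeff_eq_extZ, extZ_of_notMem _ _ hg]
  have hxN : x ∈ N := by
    by_contra hcon
    apply hxJ
    rw [hsuppB x hcon]
    exact memLocalIdeal_zero hpr.ne_top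
  obtain ⟨x', hx'⟩ : ∃ x' : N, (x' : G) = x := ⟨⟨x, hxN⟩, rfl⟩
  have hrestrB : restr N (blockCoeff B) = blockCoeff c := by
    funext n
    show blockCoeff B (n : G) = _
    rw [hBc, subgroupBlockCoeff_eq_extZ, extZ_of_mem]
  -- covering
  obtain ⟨θ₀, hθ₀⟩ := nonempty_of_isPBlock hc
  obtain ⟨χ₀, hχ₀⟩ := Cfsg.Agent.Helper16.exists_lying_over N θ₀
  have hχ₀B : χ₀ ∈ B := by
    have h1 := omega_eq_of_constituent N χ₀ θ₀ hχ₀ (isClassFunction_blockCoeff B) hsuppB
    rw [hrestrB, omega_blockCoeff, omega_blockCoeff, if_pos hθ₀] at h1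
    by_contra hcon
    rw [if_neg hcon] at h1
    exact zero_ne_one h1
  -- the computation
  obtain ⟨m, hm, hmθ⟩ := exists_subclass_count N hc hst x'
  have h1 := omega_eq_of_constituent N χ₀ θ₀ hχ₀ (isClassFunction_classInd (x' : G))
    (classInd_support N x'.2)
  rw [omega_classInd_of_irr χ₀.2, hx'] at h1
  have hnotJ : ¬ MemLocalIdeal M ((m : ℂ) * centralChar (θ₀ : N → ℂ) x') := by
    intro hcon
    apply hxω χ₀ hχ₀B
    rw [h1, ← hx']
    have := memLocalIdeal_add (hmθ θ₀ hθ₀) hcon
    rwa [sub_add_cancel] at this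
  have hwR : MemLocalRing M (centralChar (θ₀ : N → ℂ) x') := memLocalRing_centralChar θ₀.2 x'
  have hmJ : ¬ MemLocalIdeal M (m : ℂ) := fun h => hnotJ (memLocalIdeal_mul_right h hwR)
  have hwJ : ¬ MemLocalIdeal M (centralChar (θ₀ : N → ℂ) x') :=
    fun h => hnotJ (memLocalIdeal_mul_left (memLocalRing_natCast m) h)
  have hpm : ¬ p ∣ m := fun h => hmJ ((memLocalIdeal_natCast_iff hM m).2 h)
  -- orders
  have hcardN := Subgroup.card_mul_index (Subgroup.centralizer ({x'} : Set N))
  have hcardG := Subgroup.card_mul_index (Subgroup.centralizer ({x} : Set G))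
  have hcardGN := Subgroup.card_mul_index N
  have hmapcard : Nat.card ((Subgroup.centralizer ({x'} : Set N)).map N.subtype) =
      Nat.card (Subgroup.centralizer ({x'} : Set N)) :=
    Subgroup.card_map_of_injective N.subtype_injective
  have hmaple : (Subgroup.centralizer ({x'} : Set N)).map N.subtype ≤
      Subgroup.centralizer ({x} : Set G) := by
    rintro _ ⟨n, hn, rfl⟩
    rw [SetLike.mem_coe, Subgroup.mem_centralizer_iff] at hn
    rw [Subgroup.mem_centralizer_iff]
    intro y hy
    rw [Set.mem_singleton_iff] at hy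
    subst hy
    have := hn x' rfl
    rw [← hx']
    exact congrArg Subtype.val this
  obtain ⟨r, hr⟩ := Subgroup.card_dvd_of_le hmaple
  rw [hmapcard] at hr
  rw [hx'] at hm
  have hb0 : 0 < Nat.card (Subgroup.centralizer ({x'} : Set N)) := Nat.card_pos
  have hh0 : 0 < (Subgroup.centralizer ({x'} : Set N)).index :=
    Nat.pos_of_ne_zero Subgroup.index_ne_zero_of_finite
  have hmr : m * r = p ^ k := by
    have e1 : Nat.card (Subgroup.centralizer ({x'} : Set N)) *
        (Subgroup.centralizer ({x'} : Set N)).index * (m * r) =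
        Nat.card (Subgroup.centralizer ({x'} : Set N)) *
        (Subgroup.centralizer ({x'} : Set N)).index * p ^ k := by
      calc Nat.card (Subgroup.centralizer ({x'} : Set N)) *
            (Subgroup.centralizer ({x'} : Set N)).index * (m * r)
          = (Nat.card (Subgroup.centralizer ({x'} : Set N)) * r) *
            (m * (Subgroup.centralizer ({x'} : Set N)).index) := by ring
        _ = Nat.card (Subgroup.centralizer ({x} : Set G)) *
            (Subgroup.centralizer ({x} : Set G)).index := by rw [← hr, hm]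
        _ = Nat.card G := hcardG
        _ = Nat.card N * p ^ k := by rw [← hk, hcardGN]
        _ = _ := by rw [hcardN]
    exact Nat.eq_of_mul_eq_mul_left (Nat.mul_pos hb0 hh0) e1
  have hm1 : m = 1 := by
    obtain ⟨j, -, hj⟩ := (Nat.dvd_prime_pow hp).1 (Dvd.intro r hmr)
    cases j with
    | zero => simpa using hj
    | succ j => exact absurd (hj ▸ dvd_pow_self p (Nat.succ_ne_zero j)) hpm
  subst hm1
  rw [one_mul] at hmr
  subst hmr
  -- `x'` is a defect class of `c`
  have hdc : IsDefectClass M c x' := by
    refine ⟨?_, ?_, fun θ hθ hcon => ?_⟩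
    · rw [← hrestrB]
      show MemLocalRing M (blockCoeff B (x' : G))
      rw [hx']
      exact hxR
    · rw [← hrestrB]
      show ¬ MemLocalIdeal M (blockCoeff B (x' : G))
      rw [hx']
      exact hxJ
    · apply hwJ
      have h2 := sameBlock_of_mem hc hθ hθ₀ x'
      have := memLocalIdeal_sub hcon h2
      rwa [sub_sub_cancel] at this
  -- cardinalities of `P` and `P ⊓ N`
  obtain ⟨P, hPdef⟩ : ∃ P : Subgroup G, P = (S : Subgroup (Subgroup.centralizer ({x} : Set G))).map
      (Subgroup.centralizer ({x} : Set G)).subtype := ⟨_, rfl⟩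
  rw [← hPdef]
  have hPle : P ≤ Subgroup.centralizer ({x} : Set G) := hPdef ▸ sylow_map_le_centralizer x S
  have hPp : IsPGroup p P := hPdef ▸ sylow_map_isPGroup x S
  have hPcard : Nat.card P = p ^ (Nat.card (Subgroup.centralizer ({x} : Set G))).factorization p := by
    rw [hPdef, Subgroup.card_map_of_injective (Subgroup.subtype_injective _)]
    exact S.card_eq_multiplicity
  have hfac : (Nat.card (Subgroup.centralizer ({x} : Set G))).factorization p =
      (Nat.card (Subgroup.centralizer ({x'} : Set N))).factorization p + k := by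
    rw [hr, Nat.factorization_mul hb0.ne' (pow_pos hp.pos k).ne', Finsupp.coe_add, Pi.add_apply,
      Nat.Prime.factorization_pow hp]
    simp
  have hrel : (P ⊓ N).relIndex P * Nat.card ↥(P ⊓ N) = Nat.card P := by
    have := Subgroup.card_mul_index ((P ⊓ N).subgroupOf P)
    rw [card_subgroupOf_of_le inf_le_left] at this
    rw [mul_comm]
    exact this
  rw [Subgroup.inf_relIndex_left] at hrel
  obtain ⟨j, hjk, hj⟩ := (Nat.dvd_prime_pow hp).1 (hk ▸ Subgroup.relIndex_dvd_index_of_normal N P)
  have hPNle : P ⊓ N ≤ (Subgroup.centralizer ({x'} : Set N)).map N.subtype := by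
    intro y hy
    have hyP : y ∈ P := (Subgroup.mem_inf.mp hy).1
    have hyN : y ∈ N := (Subgroup.mem_inf.mp hy).2
    refine ⟨⟨y, hyN⟩, ?_, rfl⟩
    rw [SetLike.mem_coe, Subgroup.mem_centralizer_iff]
    intro z hz
    rw [Set.mem_singleton_iff] at hz
    subst hz
    apply Subtype.ext
    have := (Subgroup.mem_centralizer_iff.mp (hPle hyP)) x rfl
    rw [Subgroup.coe_mul, Subgroup.coe_mul, hx']
    exact this
  obtain ⟨i, hi⟩ := IsPGroup.iff_card.mp (hPp.to_le (inf_le_left : P ⊓ N ≤ P))
  have hidvd : p ^ i ∣ Nat.card (Subgroup.centralizer ({x'} : Set N)) := by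
    rw [← hi, ← hmapcard]
    exact Subgroup.card_dvd_of_le hPNle
  have hile : i ≤ (Nat.card (Subgroup.centralizer ({x'} : Set N))).factorization p :=
    (hp.pow_dvd_iff_le_factorization hb0.ne').1 hidvd
  have hexp : (Nat.card (Subgroup.centralizer ({x'} : Set N))).factorization p + k = j + i := by
    have : p ^ ((Nat.card (Subgroup.centralizer ({x'} : Set N))).factorization p + k) =
        p ^ (j + i) := by
      rw [← hfac, ← hPcard, ← hrel, hj, hi, pow_add]
    exact Nat.pow_right_injective hp.two_le this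
  have hjk' : j = k := by omega
  have hi' : i = (Nat.card (Subgroup.centralizer ({x'} : Set N))).factorization p := by omega
  refine ⟨?_, ?_⟩
  · rw [← Subgroup.index_eq_one]
    have h3 := Subgroup.relIndex_mul_index (le_sup_left : N ≤ N ⊔ P)
    rw [Subgroup.relIndex_sup_left, hj, hjk', hk] at h3
    exact Nat.eq_of_mul_eq_mul_left (pow_pos hp.pos k) (by rw [h3, mul_one])
  · rw [isDefectGroup_iff_card]
    refine ⟨x', hdc, ?_, (hPp.to_le inf_le_left).comap_subtype, ?_⟩
    · intro d hd
      have hd' : (d : G) ∈ P ⊓ N := Subgroup.mem_subgroupOf.mp hd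
      obtain ⟨n, hn, hnd⟩ := hPNle hd'
      have : n = d := Subtype.ext hnd
      rwa [this] at hn
    · rw [card_subgroupOf_of_le inf_le_right, hi, hi']

end pindex

end Cfsg.Agent.Helper77
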