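import Mathlib
import Cfsg.Agent.Lib.Helper77.PIndexBlock

/-!
# Defect groups of a stable block of a normal subgroup whose idempotent is a block idempotent
of the whole group.
-/

set_option autoImplicit false
set_option linter.unusedSectionVars false
set_option linter.style.haveILetI false

namespace Cfsg.Agent.Helper77

open Cfsg Cfsg.Agent.Helper79

universe u

section stabledefect

variable {G : Type u} [Group G] [Fintype G] {p : ℕ} {M : Ideal AlgInt}

/-- Let `c` be a `G`-stable block of `N ⊴ G` whose idempotent is that of the block `B` of `G`,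
and `P` a defect group of `B`.  Then `[G : N P]` is prime to `p` and `P ∩ N` is a defect group
of `c`. -/
theorem stable_defect [Fact p.Prime] (hM : IsPModular p M) (N : Subgroup G) [hN : N.Normal]
    [Fintype N] {c : Set (IrrCharacter N)}
    (hc : IsPBlock M c) (hst : ∀ x : G, StabilizesBlock N c x) {B : Set (IrrCharacter G)}
    (hB : IsPBlock M B) (hBc : ∀ g : G, blockCoeff B g = subgroupBlockCoeff N c g)
    {P : Subgroup G} (hP : IsDefectGroup p M B P) :
    ¬ p ∣ (N ⊔ P).index ∧ IsDefectGroup p M c ((P ⊓ N).subgroupOf N) := by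
  classical
  haveI hpr := isPrime_of_isPModular hM
  have hp : p.Prime := Fact.out
  obtain ⟨x, ⟨hxR, hxJ, hxω⟩, S, rfl⟩ := hP
  -- `x ∈ N`
  have hsuppB : ∀ g, g ∉ N → blockCoeff B g = 0 := by
    intro g hg
    rw [hBc, subgroupBlockCoeff_eq_extZ, extZ_of_notMem _ _ hg]
  have hxN : x ∈ N := by
    by_contra hcon
    apply hxJ
    rw [hsuppB x hcon]
    exact memLocalIdeal_zero hpr.ne_top
  obtain ⟨x', hx'⟩ : ∃ x' : N, (x' : G) = x := ⟨⟨x, hxN⟩, rfl⟩
  have hrestrB : restr N (blockCoeff B) = blockCoeff c := by
    funext n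
    show blockCoeff B (n : G) = _
    rw [hBc, subgroupBlockCoeff_eq_extZ, extZ_of_mem]
  -- covering
  obtain ⟨θ₀, hθ₀⟩ := nonempty_of_isPBlock hc
  obtain ⟨χ₀, hχ₀⟩ := Cfsg.Agent.Helper16.exists_lying_over N θ₀
  have hχ₀B : χ₀ ∈ B := by
    have h1 := omega_eq_of_constituent N χ₀ θ₀ hχ₀ (isClassFunction_blockCoeff B) hsuppB
    rw [hrestrB, omega_blockCoeff, omega_blockCoeff, if_pos hθ₀] at h1
    by_contra hcon
    rw [if_neg hcon] at h1
    exact zero_ne_one h1
  -- the computation
  obtain ⟨m, hm, hmθ⟩ := exists_subclass_count N hc hst x'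
  have h1 := omega_eq_of_constituent N χ₀ θ₀ hχ₀ (isClassFunction_classInd (x' : G))
    (classInd_support N x'.2)
  rw [omega_classInd_of_irr χ₀.2, hx'] at h1
  have hnotJ : ¬ MemLocalIdeal M ((m : ℂ) * centralChar (θ₀ : N → ℂ) x') := by
    intro hcon
    apply hxω χ₀ hχ₀B
    rw [h1, ← hx']
    have := memLocalIdeal_add (hmθ θ₀ hθ₀) hcon
    rwa [sub_add_cancel] at this
  have hwR : MemLocalRing M (centralChar (θ₀ : N → ℂ) x') := memLocalRing_centralChar θ₀.2 x'
  have hmJ : ¬ MemLocalIdeal M (m : ℂ) := fun h => hnotJ (memLocalIdeal_mul_right h hwR)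
  have hwJ : ¬ MemLocalIdeal M (centralChar (θ₀ : N → ℂ) x') :=
    fun h => hnotJ (memLocalIdeal_mul_left (memLocalRing_natCast m) h)
  have hpm : ¬ p ∣ m := fun h => hmJ ((memLocalIdeal_natCast_iff hM m).2 h)
  have hm0 : m ≠ 0 := fun h => hpm (h ▸ dvd_zero p)
  -- orders
  have hcardN := Subgroup.card_mul_index (Subgroup.centralizer ({x'} : Set N))
  have hcardG := Subgroup.card_mul_index (Subgroup.centralizer ({x} : Set G))
  have hcardGN := Subgroup.card_mul_index N
  have hidx0 : N.index ≠ 0 := Subgroup.index_ne_zero_of_finite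
  have hmapcard : Nat.card ((Subgroup.centralizer ({x'} : Set N)).map N.subtype) =
      Nat.card (Subgroup.centralizer ({x'} : Set N)) :=
    Subgroup.card_map_of_injective N.subtype_injective
  rw [hx'] at hm
  have hb0 : 0 < Nat.card (Subgroup.centralizer ({x'} : Set N)) := Nat.card_pos
  have ha0 : 0 < Nat.card (Subgroup.centralizer ({x} : Set G)) := Nat.card_pos
  have hh0 : 0 < (Subgroup.centralizer ({x'} : Set N)).index :=
    Nat.pos_of_ne_zero Subgroup.index_ne_zero_of_finite
  have hkey : Nat.card (Subgroup.centralizer ({x} : Set G)) * m =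
      Nat.card (Subgroup.centralizer ({x'} : Set N)) * N.index := by
    have e1 : (Subgroup.centralizer ({x'} : Set N)).index *
        (Nat.card (Subgroup.centralizer ({x} : Set G)) * m) =
        (Subgroup.centralizer ({x'} : Set N)).index *
        (Nat.card (Subgroup.centralizer ({x'} : Set N)) * N.index) := by
      calc (Subgroup.centralizer ({x'} : Set N)).index *
            (Nat.card (Subgroup.centralizer ({x} : Set G)) * m)
          = Nat.card (Subgroup.centralizer ({x} : Set G)) *
            (m * (Subgroup.centralizer ({x'} : Set N)).index) := by ring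
        _ = Nat.card (Subgroup.centralizer ({x} : Set G)) *
            (Subgroup.centralizer ({x} : Set G)).index := by rw [hm]
        _ = Nat.card G := hcardG
        _ = Nat.card N * N.index := hcardGN.symm
        _ = (Nat.card (Subgroup.centralizer ({x'} : Set N)) *
            (Subgroup.centralizer ({x'} : Set N)).index) * N.index := by rw [hcardN]
        _ = _ := by ring
    exact Nat.eq_of_mul_eq_mul_left hh0 e1
  have hfac : (Nat.card (Subgroup.centralizer ({x} : Set G))).factorization p =
      (Nat.card (Subgroup.centralizer ({x'} : Set N))).factorization p +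
        N.index.factorization p := by
    have h2 := congrArg (fun n => n.factorization p) hkey
    simp only [Nat.factorization_mul ha0.ne' hm0, Nat.factorization_mul hb0.ne' hidx0,
      Finsupp.coe_add, Pi.add_apply, Nat.factorization_eq_zero_of_not_dvd hpm, add_zero] at h2
    exact h2
  -- `x'` is a defect class of `c`
  have hdc : IsDefectClass M c x' := by
    refine ⟨?_, ?_, fun θ hθ hcon => ?_⟩
    · rw [← hrestrB]
      show MemLocalRing M (blockCoeff B (x' : G))
      rw [hx']
      exact hxR
    · rw [← hrestrB]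
      show ¬ MemLocalIdeal M (blockCoeff B (x' : G))
      rw [hx']
      exact hxJ
    · apply hwJ
      have h2 := sameBlock_of_mem hc hθ hθ₀ x'
      have := memLocalIdeal_sub hcon h2
      rwa [sub_sub_cancel] at this
  -- cardinalities of `P` and `P ⊓ N`
  obtain ⟨P, hPdef⟩ : ∃ P : Subgroup G, P = (S : Subgroup (Subgroup.centralizer ({x} : Set G))).map
      (Subgroup.centralizer ({x} : Set G)).subtype := ⟨_, rfl⟩
  rw [← hPdef]
  have hPle : P ≤ Subgroup.centralizer ({x} : Set G) := hPdef ▸ sylow_map_le_centralizer x S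
  have hPp : IsPGroup p P := hPdef ▸ sylow_map_isPGroup x S
  have hPcard : Nat.card P = p ^ (Nat.card (Subgroup.centralizer ({x} : Set G))).factorization p := by
    rw [hPdef, Subgroup.card_map_of_injective (Subgroup.subtype_injective _)]
    exact S.card_eq_multiplicity
  have hrel : (P ⊓ N).relIndex P * Nat.card ↥(P ⊓ N) = Nat.card P := by
    have := Subgroup.card_mul_index ((P ⊓ N).subgroupOf P)
    rw [card_subgroupOf_of_le inf_le_left] at this
    rw [mul_comm]
    exact this
  rw [Subgroup.inf_relIndex_left] at hrel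
  obtain ⟨j, -, hj⟩ := (Nat.dvd_prime_pow hp).1 (hPcard ▸ Dvd.intro _ hrel)
  have hjk : j ≤ N.index.factorization p := by
    refine (hp.pow_dvd_iff_le_factorization hidx0).1 ?_
    rw [← hj]
    exact Subgroup.relIndex_dvd_index_of_normal N P
  have hPNle : P ⊓ N ≤ (Subgroup.centralizer ({x'} : Set N)).map N.subtype := by
    intro y hy
    have hyP : y ∈ P := (Subgroup.mem_inf.mp hy).1
    have hyN : y ∈ N := (Subgroup.mem_inf.mp hy).2
    refine ⟨⟨y, hyN⟩, ?_, rfl⟩
    rw [SetLike.mem_coe, Subgroup.mem_centralizer_iff]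
    intro z hz
    rw [Set.mem_singleton_iff] at hz
    subst hz
    apply Subtype.ext
    have := (Subgroup.mem_centralizer_iff.mp (hPle hyP)) x rfl
    rw [Subgroup.coe_mul, Subgroup.coe_mul, hx']
    exact this
  obtain ⟨i, hi⟩ := IsPGroup.iff_card.mp (hPp.to_le (inf_le_left : P ⊓ N ≤ P))
  have hidvd : p ^ i ∣ Nat.card (Subgroup.centralizer ({x'} : Set N)) := by
    rw [← hi, ← hmapcard]
    exact Subgroup.card_dvd_of_le hPNle
  have hile : i ≤ (Nat.card (Subgroup.centralizer ({x'} : Set N))).factorization p :=
    (hp.pow_dvd_iff_le_factorization hb0.ne').1 hidvd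
  have hexp : (Nat.card (Subgroup.centralizer ({x'} : Set N))).factorization p +
      N.index.factorization p = j + i := by
    have : p ^ ((Nat.card (Subgroup.centralizer ({x'} : Set N))).factorization p +
        N.index.factorization p) = p ^ (j + i) := by
      rw [← hfac, ← hPcard, ← hrel, hj, hi, pow_add]
    exact Nat.pow_right_injective hp.two_le this
  have hjk' : j = N.index.factorization p := by omega
  have hi' : i = (Nat.card (Subgroup.centralizer ({x'} : Set N))).factorization p := by omega
  refine ⟨?_, ?_⟩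
  · intro hdvd
    have h3 := Subgroup.relIndex_mul_index (le_sup_left : N ≤ N ⊔ P)
    rw [Subgroup.relIndex_sup_left, hj, hjk'] at h3
    have h4 : ¬ p ^ (N.index.factorization p + 1) ∣ N.index :=
      Nat.pow_succ_factorization_not_dvd hidx0 hp
    have h5 : p ^ N.index.factorization p * p ∣ p ^ N.index.factorization p * (N ⊔ P).index :=
      Nat.mul_dvd_mul_left _ hdvd
    rw [h3] at h5
    exact h4 (by rwa [pow_succ])
  · rw [isDefectGroup_iff_card]
    refine ⟨x', hdc, ?_, (hPp.to_le inf_le_left).comap_subtype, ?_⟩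
    · intro d hd
      have hd' : (d : G) ∈ P ⊓ N := Subgroup.mem_subgroupOf.mp hd
      obtain ⟨n, hn, hnd⟩ := hPNle hd'
      have : n = d := Subtype.ext hnd
      rwa [this] at hn
    · rw [card_subgroupOf_of_le inf_le_right, hi, hi']

end stabledefect

end Cfsg.Agent.Helper77
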