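import Mathlib
import Cfsg.Agent.Lib.Helper77.StableDefect

/-!
# Blocks of a local subgroup `H` with `C_G(Q) ≤ H ≤ N_G(Q, f)` sharing the idempotent of `f`.
-/

set_option autoImplicit false
set_option linter.unusedSectionVars false
set_option linter.style.haveILetI false

namespace Cfsg.Agent.Helper77

open Cfsg Cfsg.Agent.Helper79

universe u

section downset

variable {G : Type u} [Group G] {M : Ideal AlgInt}

/-- Transport of a set of characters of `N ≤ H` to the subgroup `N.subgroupOf H` of `↥H`. -/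
def downSet (H N : Subgroup G) (hNH : N ≤ H) (f : Set (IrrCharacter N)) :
    Set (IrrCharacter (N.subgroupOf H)) :=
  mapSet (Subgroup.subgroupOfEquivOfLe hNH).symm f

theorem isPBlock_downSet (H N : Subgroup G) (hNH : N ≤ H) {f : Set (IrrCharacter N)}
    (hf : IsPBlock M f) : IsPBlock M (downSet H N hNH f) :=
  isPBlock_mapSet _ hf

theorem mapSet_downSet (H N : Subgroup G) (hNH : N ≤ H) (f : Set (IrrCharacter N)) :
    mapSet (Subgroup.subgroupOfEquivOfLe hNH) (downSet H N hNH f) = f := by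
  unfold downSet
  exact mapSet_mapSet_symm (Subgroup.subgroupOfEquivOfLe hNH) f

theorem stabilizesBlock_downSet (H N : Subgroup G) (hNH : N ≤ H) {f : Set (IrrCharacter N)}
    (h : H) (hst : StabilizesBlock N f (h : G)) :
    StabilizesBlock (N.subgroupOf H) (downSet H N hNH f) h := by
  obtain ⟨h1, h2⟩ := hst
  refine ⟨?_, ?_⟩
  · rw [Subgroup.mem_normalizer_iff] at h1 ⊢
    intro y
    rw [Subgroup.mem_subgroupOf, Subgroup.mem_subgroupOf]
    exact h1 (y : G)
  · rintro _ ⟨χ, hχ, rfl⟩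
    obtain ⟨χ₂, hχ₂, hconj⟩ := h2 χ hχ
    refine ⟨mapIrr (Subgroup.subgroupOfEquivOfLe hNH).symm χ₂, ⟨χ₂, hχ₂, rfl⟩, ?_⟩
    intro k k' hkk'
    rw [mapIrr_coe, mapIrr_coe]
    apply hconj
    exact congrArg Subtype.val hkk'

theorem subgroupBlockCoeff_downSet (H N : Subgroup G) (hNH : N ≤ H) (f : Set (IrrCharacter N))
    (h : H) :
    subgroupBlockCoeff (N.subgroupOf H) (downSet H N hNH f) h = subgroupBlockCoeff N f (h : G) := by
  rw [subgroupBlockCoeff_eq_extZ, subgroupBlockCoeff_eq_extZ]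
  by_cases hh : (h : G) ∈ N
  · have hh' : h ∈ N.subgroupOf H := Subgroup.mem_subgroupOf.mpr hh
    rw [extZ_of_mem' _ _ hh, extZ_of_mem' _ _ hh']
    unfold downSet
    rw [blockCoeff_mapSet]
    rfl
  · have hh' : h ∉ N.subgroupOf H := fun hc => hh (Subgroup.mem_subgroupOf.mp hc)
    rw [extZ_of_notMem _ _ hh, extZ_of_notMem _ _ hh']

end downset

section localdefect

variable {G : Type u} [Group G] [Fintype G] {p : ℕ} {M : Ideal AlgInt}

/-- Let `f` be a block of `N`, `N ≤ H ≤ N_G(N)` with `H` stabilizing `f`, `F` the block of `H`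
with the idempotent of `f`, and `Δ` a defect group of `F`.  Then `[H : N Δ]` is prime to `p` and
`Δ ∩ N` is a defect group of `f`. -/
theorem local_defect [Fact p.Prime] (hM : IsPModular p M) (H N : Subgroup G) (hNH : N ≤ H)
    {f : Set (IrrCharacter N)} (hf : IsPBlock M f)
    (hst : ∀ h ∈ H, StabilizesBlock N f h)
    {F : Set (IrrCharacter H)} (hF : IsPBlock M F)
    (hFf : ∀ h : H, blockCoeff F h = subgroupBlockCoeff N f (h : G))
    {Δ : Subgroup H} (hΔ : IsDefectGroup p M F Δ) :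
    ¬ p ∣ (N.subgroupOf H ⊔ Δ).index ∧
      IsDefectGroup p M f ((Δ.map H.subtype ⊓ N).subgroupOf N) := by
  classical
  haveI : Fintype H := Fintype.ofFinite _
  haveI : Fintype N := Fintype.ofFinite _
  haveI : Fintype (N.subgroupOf H) := Fintype.ofFinite _
  haveI : (N.subgroupOf H).Normal :=
    (Subgroup.normal_subgroupOf_iff_le_normalizer hNH).mpr (fun h hh => (hst h hh).1)
  obtain ⟨h1, h2⟩ := stable_defect hM (N.subgroupOf H) (isPBlock_downSet H N hNH hf)
    (fun h => stabilizesBlock_downSet H N hNH h (hst h h.2)) hF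
    (fun h => by rw [hFf, subgroupBlockCoeff_downSet]) hΔ
  refine ⟨h1, ?_⟩
  have h3 := isDefectGroup_mapSet (Subgroup.subgroupOfEquivOfLe hNH) h2
  rw [mapSet_downSet] at h3
  have heq : ((Δ ⊓ N.subgroupOf H).subgroupOf (N.subgroupOf H)).map
      ((Subgroup.subgroupOfEquivOfLe hNH : _ ≃* _) : _ →* _) =
      (Δ.map H.subtype ⊓ N).subgroupOf N := by
    ext y
    rw [Subgroup.mem_subgroupOf, Subgroup.mem_inf]
    constructor
    · rintro ⟨z, hz, rfl⟩
      rw [SetLike.mem_coe, Subgroup.mem_subgroupOf, Subgroup.mem_inf] at hz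
      refine ⟨⟨(z : H), hz.1, rfl⟩, ?_⟩
      exact (Subgroup.subgroupOfEquivOfLe hNH z).2
    · rintro ⟨⟨d, hd, hdy⟩, -⟩
      have hdN : d ∈ N.subgroupOf H := by
        rw [Subgroup.mem_subgroupOf]
        show H.subtype d ∈ N
        rw [hdy]
        exact y.2
      refine ⟨⟨d, hdN⟩, ?_, ?_⟩
      · rw [SetLike.mem_coe, Subgroup.mem_subgroupOf, Subgroup.mem_inf]
        exact ⟨hd, hdN⟩
      · apply Subtype.ext
        exact hdy
  rw [heq] at h3
  exact h3

end localdefect

end Cfsg.Agent.Helper77
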