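import Mathlib
import Cfsg.Agent.Lib.Helper77.Inertial
import Cfsg.Agent.Lib.Helper78.Domination2
import Cfsg.Agent.Lib.Helper78.CentralDefect
import Cfsg.Agent.Lib.Helper78.NormalDefect

/-!
# Blocks with a central `p`-subgroup whose quotient block has defect zero; the characterization
of maximal Brauer pairs by a canonical character (S4828).
-/

set_option autoImplicit false

open Cfsg Cfsg.Agent.Helper79
open scoped ComplexConjugate

universe u

namespace Cfsg.Agent.Helper77

section central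

variable {H : Type u} [Group H] [Fintype H] {p : ℕ} {M : Ideal AlgInt}

/-- If a block `b` of `H` contains the inflation of a defect-zero character of `H ⧸ Z`, `Z` a
central `p`-subgroup, then every defect group of `b` lies in `Z`. -/
theorem defectGroup_le_of_defect_zero_quotient [Fact p.Prime] (hM : IsPModular p M)
    (Z : Subgroup H) [Z.Normal] (hZp : IsPGroup p Z) (hZc : Z ≤ Subgroup.center H)
    {b : Set (IrrCharacter H)} (hb : IsPBlock M b)
    (ψ : IrrCharacter (H ⧸ Z)) (hψ : inflate Z ψ ∈ b)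
    (hdz : ¬ p ∣ Nat.card (H ⧸ Z) / charDegree (ψ : H ⧸ Z → ℂ))
    {D : Subgroup H} (hD : IsDefectGroup p M b D) : D ≤ Z := by
  classical
  have hp : p.Prime := Fact.out
  have hpr := isPrime_of_isPModular hM
  have : Fintype (H ⧸ Z) := Fintype.ofFinite _
  obtain ⟨Bbar, hBbar, hsub, hdef⟩ := Cfsg.Agent.Helper78.exists_dominated_block hM Z hZp hb
  obtain ⟨ψ₁, hψ₁⟩ := nonempty_of_isPBlock hBbar
  have hsingle := (Cfsg.Agent.S0914.result p M hM ψ).1 hdz
  have hsame : SameBlock M (ψ : H ⧸ Z → ℂ) (ψ₁ : H ⧸ Z → ℂ) := by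
    apply Cfsg.Agent.Helper16.sameBlock_of_regular hM
    intro q hq
    obtain ⟨x, rfl, hx⟩ := Cfsg.Agent.Helper16.exists_regular_lift Z hZp q hq
    rw [Cfsg.Agent.Helper78.centralChar_inflate_of_regular Z hZp hZc ψ x hx,
      Cfsg.Agent.Helper78.centralChar_inflate_of_regular Z hZp hZc ψ₁ x hx]
    exact sameBlock_of_mem hb hψ (hsub ψ₁ hψ₁) x
  have hmem : ψ₁ ∈ blockOf M (ψ : H ⧸ Z → ℂ) := hsame
  rw [hsingle, Set.mem_singleton_iff] at hmem
  subst hmem
  have hBeq : Bbar = {ψ₁} := by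
    rw [← hsingle]
    exact eq_blockOf_of_mem hBbar hψ₁
  have hDbar : IsDefectGroup p M Bbar (D.map (QuotientGroup.mk' Z)) := (hdef _).2 ⟨D, hD, rfl⟩
  have hcard := Cfsg.Agent.Helper74.DO.card_defectGroup hM hBbar _ hDbar
  have hdef0 : blockDefect p Bbar = 0 := by
    rw [Cfsg.Agent.Helper74.DO.blockDefect_eq]
    obtain ⟨χ, hχ, hmin⟩ := Cfsg.Agent.Helper74.DO.exists_minVal (p := p) ⟨ψ₁, hψ₁⟩
    rw [hBeq, Set.mem_singleton_iff] at hχ
    subst hχ
    rw [← hmin]
    have hdvd := irr_degree_dvd_card χ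
    have hpos := (irr_one_eq χ).2
    obtain ⟨c, hc⟩ := hdvd
    have hq0 : Nat.card (H ⧸ Z) ≠ 0 := Nat.card_pos.ne'
    have hc0 : c ≠ 0 := by
      rintro rfl
      rw [mul_zero] at hc
      exact hq0 hc
    rw [hc, Nat.mul_div_cancel_left c hpos] at hdz
    rw [hc, Nat.factorization_mul hpos.ne' hc0, Finsupp.coe_add, Pi.add_apply,
      Nat.factorization_eq_zero_of_not_dvd hdz]
    omega
  rw [hdef0, pow_zero] at hcard
  have hbot : D.map (QuotientGroup.mk' Z) = ⊥ := Subgroup.card_eq_one.mp hcard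
  intro d hd
  have h1 : (QuotientGroup.mk' Z) d ∈ D.map (QuotientGroup.mk' Z) := Subgroup.mem_map_of_mem _ hd
  rw [hbot, Subgroup.mem_bot, QuotientGroup.mk'_apply, QuotientGroup.eq_one_iff] at h1
  exact h1

end central

section chain

variable {G : Type u} [Group G] [Fintype G] {p : ℕ} {M : Ideal AlgInt}

/-- A chain of normal inclusions ending on a different subgroup has a first proper step. -/
theorem exists_proper_step [hp : M.IsPrime] {a b : BrauerPairIdx G}
    (h : Relation.ReflTransGen (NormalSubpairRel p M) a b) (hne : b.1 ≠ a.1) :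
    ∃ c : BrauerPairIdx G, NormalSubpairRel p M a c ∧ c.1 ≠ a.1 := by
  refine Relation.ReflTransGen.head_induction_on
    (motive := fun a _ => b.1 ≠ a.1 → ∃ c : BrauerPairIdx G, NormalSubpairRel p M a c ∧ c.1 ≠ a.1)
    h ?_ ?_ hne
  · intro h
    exact absurd rfl h
  · intro a c hac hcb ih hne
    by_cases hca : c.1 = a.1
    · obtain ⟨A, fa⟩ := a
      obtain ⟨A', fc⟩ := c
      simp only at hca
      subst hca
      have := eq_of_isNormalSubpair_same A' fa fc hac
      subst this
      exact ih hne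
    · exact ⟨c, hac, hca⟩

end chain

section main

variable {G : Type u} [Group G] [Fintype G] {p : ℕ} {M : Ideal AlgInt}

/-- `Z(Q) = Q ∩ C_G(Q)` as a subgroup of `C_G(Q)`. -/
abbrev zsub (Q : Subgroup G) : Subgroup (Subgroup.centralizer (Q : Set G)) :=
  Q.subgroupOf (Subgroup.centralizer (Q : Set G))

theorem zsub_le_center (Q : Subgroup G) :
    zsub Q ≤ Subgroup.center (Subgroup.centralizer (Q : Set G)) := by
  intro z hz
  rw [Subgroup.mem_center_iff]
  intro c
  apply Subtype.ext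
  rw [Subgroup.coe_mul, Subgroup.coe_mul]
  exact ((Subgroup.mem_centralizer_iff.mp c.2) z (Subgroup.mem_subgroupOf.mp hz)).symm

instance zsub_normal (Q : Subgroup G) : (zsub Q).Normal := by
  constructor
  intro n hn g
  have h := Subgroup.mem_center_iff.mp (zsub_le_center Q hn) g
  rw [h, mul_inv_cancel_right]
  exact hn

theorem card_zsub (Q : Subgroup G) :
    Nat.card (zsub Q) = Nat.card ↥(Q ⊓ Subgroup.centralizer (Q : Set G)) := by
  unfold zsub
  rw [← Subgroup.inf_subgroupOf_right]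
  exact card_subgroupOf_of_le inf_le_right

/-- **S4828, forward direction (characters)**: the block of a maximal Brauer pair has defect group
`Z(Q)` and contains a canonical character. -/
theorem canonical_char_of_isMaximalBrauerPair [Fact p.Prime] (hM : IsPModular p M)
    {B : Set (IrrCharacter G)} {Q : Subgroup G}
    {e : Set (IrrCharacter (Subgroup.centralizer (Q : Set G)))}
    (hmax : IsMaximalBrauerPair p M B Q e) :
    ∃ θ ∈ e, (∀ z : Subgroup.centralizer (Q : Set G), (z : G) ∈ Q →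
        (θ : Subgroup.centralizer (Q : Set G) → ℂ) z =
          (θ : Subgroup.centralizer (Q : Set G) → ℂ) 1) ∧
      (charDegree (θ : Subgroup.centralizer (Q : Set G) → ℂ)).factorization p +
        (Nat.card ↥(Q ⊓ Subgroup.centralizer (Q : Set G))).factorization p =
        (Nat.card (Subgroup.centralizer (Q : Set G))).factorization p := by
  classical
  have hp : p.Prime := Fact.out
  have hpr := isPrime_of_isPModular hM
  haveI : Fintype (Subgroup.centralizer (Q : Set G)) := Fintype.ofFinite _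
  have hQe := hmax.1
  have he : IsPBlock M e := hQe.1.2
  have hQp : IsPGroup p Q := hQe.1.1
  obtain ⟨D, hD, hZD⟩ := exists_isDefectGroup_ge_centralizer hM hQe.1 (le_refl Q) he
    Relation.ReflTransGen.refl
  obtain ⟨g₂, hn, hB2⟩ := exists_pair_above_defect hM hQe hD
  have heq := hmax.2 _ g₂ hB2 (Relation.ReflTransGen.single hn)
  have hDle : D ≤ zsub Q := by
    intro d hd
    rw [Subgroup.mem_subgroupOf]
    have h1 : (d : G) ∈ Q ⊔ D.map (Subgroup.centralizer (Q : Set G)).subtype :=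
      Subgroup.mem_sup_right (Subgroup.mem_map_of_mem _ hd)
    rwa [heq] at h1
  have hDeq : D = zsub Q := le_antisymm hDle (by
    unfold zsub
    rw [← Subgroup.inf_subgroupOf_right]
    exact hZD)
  subst hDeq
  have hZp : IsPGroup p (zsub Q) := hQp.comap_subtype
  obtain ⟨θ, hθ, hconst⟩ :=
    Cfsg.Agent.Helper78.exists_mem_block_const_on_normal_pgroup hM (zsub Q) hZp he
  refine ⟨θ, hθ, fun z hz => hconst ⟨z, Subgroup.mem_subgroupOf.mpr hz⟩, ?_⟩
  have hker : zsub Q ≤ irrKer θ := fun z hz => (mem_irrKer θ z).2 (hconst ⟨z, hz⟩)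
  obtain ⟨ψ, hψ⟩ := exists_deflate (N := zsub Q) θ hker
  have hdz := Cfsg.Agent.Helper78.defect_zero_of_inflate_mem hM (zsub Q) he hD ψ
    (by rw [hψ]; exact hθ)
  have hdeg : charDegree (θ : Subgroup.centralizer (Q : Set G) → ℂ) =
      charDegree (ψ : Subgroup.centralizer (Q : Set G) ⧸ zsub Q → ℂ) := by
    rw [← hψ, charDegree_inflate]
  have hdvd := irr_degree_dvd_card ψ
  have hpos := (irr_one_eq ψ).2
  have hcardmul : Nat.card (Subgroup.centralizer (Q : Set G)) =
      Nat.card (Subgroup.centralizer (Q : Set G) ⧸ zsub Q) * Nat.card (zsub Q) :=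
    Subgroup.card_eq_card_quotient_mul_card_subgroup _
  have hq0 : Nat.card (Subgroup.centralizer (Q : Set G) ⧸ zsub Q) ≠ 0 := Nat.card_pos.ne'
  have hZ0 : Nat.card (zsub Q) ≠ 0 := Nat.card_pos.ne'
  have h1 : (Nat.card (Subgroup.centralizer (Q : Set G) ⧸ zsub Q)).factorization p ≤
      (charDegree (ψ : Subgroup.centralizer (Q : Set G) ⧸ zsub Q → ℂ)).factorization p :=
    (hp.pow_dvd_iff_le_factorization hpos.ne').1 hdz
  have h2 : (charDegree (ψ : Subgroup.centralizer (Q : Set G) ⧸ zsub Q → ℂ)).factorization p ≤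
      (Nat.card (Subgroup.centralizer (Q : Set G) ⧸ zsub Q)).factorization p :=
    (Nat.factorization_le_iff_dvd hpos.ne' hq0).2 hdvd p
  have h3 : (Nat.card (Subgroup.centralizer (Q : Set G))).factorization p =
      (Nat.card (Subgroup.centralizer (Q : Set G) ⧸ zsub Q)).factorization p +
        (Nat.card (zsub Q)).factorization p := by
    rw [hcardmul, Nat.factorization_mul hq0 hZ0, Finsupp.coe_add, Pi.add_apply]
  rw [hdeg, ← card_zsub]
  omega

/-- **S4828, backward direction**. -/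
theorem isMaximalBrauerPair_of_canonical_char [Fact p.Prime] (hM : IsPModular p M)
    {Q : Subgroup G} {e : Set (IrrCharacter (Subgroup.centralizer (Q : Set G)))}
    (he : IsBrauerPair p M Q e) (θ : IrrCharacter (Subgroup.centralizer (Q : Set G)))
    (hθ : θ ∈ e)
    (ha : ∀ z : Subgroup.centralizer (Q : Set G), (z : G) ∈ Q →
        (θ : Subgroup.centralizer (Q : Set G) → ℂ) z =
          (θ : Subgroup.centralizer (Q : Set G) → ℂ) 1)
    (hb : (charDegree (θ : Subgroup.centralizer (Q : Set G) → ℂ)).factorization p +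
        (Nat.card ↥(Q ⊓ Subgroup.centralizer (Q : Set G))).factorization p =
        (Nat.card (Subgroup.centralizer (Q : Set G))).factorization p)
    (hc : ∀ g : G, g ∈ Subgroup.normalizer (Q : Set G) →
      StabilizesBlock (Subgroup.centralizer (Q : Set G)) e g → (∃ k : ℕ, orderOf g = p ^ k) →
      g ∈ Q ⊔ Subgroup.centralizer (Q : Set G)) :
    ∃ B : Set (IrrCharacter G), IsMaximalBrauerPair p M B Q e := by
  classical
  have hp : p.Prime := Fact.out
  have hpr := isPrime_of_isPModular hM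
  haveI : Fintype (Subgroup.centralizer (Q : Set G)) := Fintype.ofFinite _
  obtain ⟨B, ⟨hB, hB1⟩, -⟩ := existsUnique_block_of_brauerPair hM Q he.1 e he.2
  have hQe : IsBrauerPairOf p M B Q e := ⟨he, hB, hB1⟩
  refine ⟨B, hQe, fun R g hRg hle => ?_⟩
  by_contra hne
  obtain ⟨⟨R₁, g₁⟩, hnorm, hne₁⟩ := exists_proper_step (a := ⟨Q, e⟩) (b := ⟨R, g⟩) hle hne
  have hnorm' : IsNormalSubpair p M Q e R₁ g₁ := hnorm
  obtain ⟨-, ⟨hR₁p, hg₁⟩, hQR₁, hR₁N, hstab, -⟩ := hnorm'
  -- the deflation of `θ`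
  have hZp : IsPGroup p (zsub Q) := he.1.comap_subtype
  have hker : zsub Q ≤ irrKer θ := fun z hz => (mem_irrKer θ z).2 (ha z (Subgroup.mem_subgroupOf.mp hz))
  obtain ⟨ψ, hψ⟩ := exists_deflate (N := zsub Q) θ hker
  have hdeg : charDegree (θ : Subgroup.centralizer (Q : Set G) → ℂ) =
      charDegree (ψ : Subgroup.centralizer (Q : Set G) ⧸ zsub Q → ℂ) := by
    rw [← hψ, charDegree_inflate]
  have hdvd := irr_degree_dvd_card ψ
  have hpos := (irr_one_eq ψ).2
  have hcardmul : Nat.card (Subgroup.centralizer (Q : Set G)) =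
      Nat.card (Subgroup.centralizer (Q : Set G) ⧸ zsub Q) * Nat.card (zsub Q) :=
    Subgroup.card_eq_card_quotient_mul_card_subgroup _
  have hq0 : Nat.card (Subgroup.centralizer (Q : Set G) ⧸ zsub Q) ≠ 0 := Nat.card_pos.ne'
  have hZ0 : Nat.card (zsub Q) ≠ 0 := Nat.card_pos.ne'
  have h3 : (Nat.card (Subgroup.centralizer (Q : Set G))).factorization p =
      (Nat.card (Subgroup.centralizer (Q : Set G) ⧸ zsub Q)).factorization p +
        (Nat.card (zsub Q)).factorization p := by
    rw [hcardmul, Nat.factorization_mul hq0 hZ0, Finsupp.coe_add, Pi.add_apply]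
  have hdz : ¬ p ∣ Nat.card (Subgroup.centralizer (Q : Set G) ⧸ zsub Q) /
      charDegree (ψ : Subgroup.centralizer (Q : Set G) ⧸ zsub Q → ℂ) := by
    obtain ⟨c, hcc⟩ := hdvd
    have hc0 : c ≠ 0 := by
      rintro rfl
      rw [mul_zero] at hcc
      exact hq0 hcc
    rw [hcc, Nat.mul_div_cancel_left c hpos]
    intro hpc
    have h4 : (Nat.card (Subgroup.centralizer (Q : Set G) ⧸ zsub Q)).factorization p =
        (charDegree (ψ : Subgroup.centralizer (Q : Set G) ⧸ zsub Q → ℂ)).factorization p +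
          c.factorization p := by
      rw [hcc, Nat.factorization_mul hpos.ne' hc0, Finsupp.coe_add, Pi.add_apply]
    have h5 : 0 < c.factorization p := hp.factorization_pos_of_dvd hc0 hpc
    rw [hdeg, ← card_zsub] at hb
    omega
  -- `R₁ ≤ Q C_G(Q)`
  have hR₁sup : R₁ ≤ Q ⊔ Subgroup.centralizer (Q : Set G) := by
    intro x hx
    refine hc x (hR₁N hx) (hstab x hx) ?_
    obtain ⟨k, hk⟩ := (IsPGroup.iff_orderOf.mp hR₁p) ⟨x, hx⟩
    exact ⟨k, by rw [← hk, Subgroup.orderOf_mk]⟩
  -- a defect group of `e` containing `C_{R₁}(Q)`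
  obtain ⟨D, hD, hRD⟩ := exists_isDefectGroup_ge_centralizer hM ⟨hR₁p, hg₁⟩ hQR₁ he.2
    (Relation.ReflTransGen.single hnorm)
  have hDZ : D ≤ zsub Q := defectGroup_le_of_defect_zero_quotient hM (zsub Q) hZp
    (zsub_le_center Q) he.2 ψ (by rw [hψ]; exact hθ) hdz hD
  apply hne₁
  refine le_antisymm ?_ hQR₁
  intro x hx
  have hx' := hR₁sup hx
  rw [← SetLike.mem_coe, Subgroup.coe_mul_of_right_le_normalizer_left Q _
    (Subgroup.centralizer_le_normalizer _)] at hx'
  obtain ⟨q, hq, c, hcC, rfl⟩ := hx'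
  have hcR : c ∈ R₁ := by
    have := R₁.mul_mem (R₁.inv_mem (hQR₁ hq)) hx
    rwa [inv_mul_cancel_left] at this
  have hcQ : c ∈ Q := by
    have h1 : (⟨c, hcC⟩ : Subgroup.centralizer (Q : Set G)) ∈
        (R₁ ⊓ Subgroup.centralizer (Q : Set G)).subgroupOf (Subgroup.centralizer (Q : Set G)) :=
      Subgroup.mem_subgroupOf.mpr ⟨hcR, hcC⟩
    exact Subgroup.mem_subgroupOf.mp (hDZ (hRD h1))
  exact Q.mul_mem hq hcQ

end main

end Cfsg.Agent.Helper77
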