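import Mathlib
import Cfsg.Agent.Lib.Helper77.BlockFusion

/-!
# Fully normalized subgroups in the fusion system of a block (S4679).
-/

set_option autoImplicit false
set_option linter.unusedSectionVars false
set_option linter.style.haveILetI false

namespace Cfsg.Agent.Helper77

open Cfsg Cfsg.Agent.Helper79

universe u

section conjstab

variable {G : Type u} [Group G]

theorem mem_centralizer_map_conj_iff (Q : Subgroup G) (x c : G) :
    x * c * x⁻¹ ∈ Subgroup.centralizer ((Q.map (MulAut.conj x).toMonoidHom : Subgroup G) : Set G) ↔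
      c ∈ Subgroup.centralizer (Q : Set G) := by
  constructor
  · intro h
    have := conj_inv_mem_centralizer_of_map x h
    have e : x⁻¹ * (x * c * x⁻¹) * x = c := by group
    rwa [e] at this
  · exact fun h => conj_mem_centralizer_map x h

theorem mem_normalizer_map_conj_iff (Q : Subgroup G) (x u : G) :
    x * u * x⁻¹ ∈ Subgroup.normalizer ((Q.map (MulAut.conj x).toMonoidHom : Subgroup G) : Set G) ↔
      u ∈ Subgroup.normalizer (Q : Set G) := by
  rw [Subgroup.mem_normalizer_iff, Subgroup.mem_normalizer_iff]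
  constructor
  · intro h q
    have h1 := h (x * q * x⁻¹)
    have e : x * u * x⁻¹ * (x * q * x⁻¹) * (x * u * x⁻¹)⁻¹ = x * (u * q * u⁻¹) * x⁻¹ := by group
    rw [e] at h1
    have h2 : ∀ z : G, x * z * x⁻¹ ∈ Q.map (MulAut.conj x).toMonoidHom ↔ z ∈ Q := by
      intro z
      constructor
      · rintro ⟨w, hw, hwz⟩
        have : w = z := by
          have : x * w * x⁻¹ = x * z * x⁻¹ := by simpa [MulAut.conj_apply] using hwz
          exact mul_left_cancel (mul_right_cancel this)
        rwa [← this]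
      · intro hz
        exact ⟨z, hz, by simp [MulAut.conj_apply]⟩
    rw [h2, h2] at h1
    exact h1
  · intro h q'
    have h2 : ∀ z : G, z ∈ Q.map (MulAut.conj x).toMonoidHom ↔ x⁻¹ * z * x ∈ Q := by
      intro z
      constructor
      · rintro ⟨w, hw, rfl⟩
        simpa [MulAut.conj_apply, mul_assoc] using hw
      · intro hz
        exact ⟨x⁻¹ * z * x, hz, by simp [MulAut.conj_apply, mul_assoc]⟩
    rw [h2, h2]
    have h1 := h (x⁻¹ * q' * x)
    have e : x⁻¹ * (x * u * x⁻¹ * q' * (x * u * x⁻¹)⁻¹) * x = u * (x⁻¹ * q' * x) * u⁻¹ := by group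
    rw [e]
    exact h1

/-- Converse of `stabilizesBlock_conjBlock`. -/
theorem stabilizesBlock_of_conjBlock {Q : Subgroup G}
    {f : Set (IrrCharacter (Subgroup.centralizer (Q : Set G)))} (x u : G)
    (hu : StabilizesBlock (Subgroup.centralizer
      ((Q.map (MulAut.conj x).toMonoidHom : Subgroup G) : Set G)) (conjBlock Q x f)
      (x * u * x⁻¹)) :
    StabilizesBlock (Subgroup.centralizer (Q : Set G)) f u := by
  obtain ⟨hu1, hu2⟩ := hu
  constructor
  · rw [Subgroup.mem_normalizer_iff] at hu1 ⊢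
    intro h
    have h1 := hu1 (x * h * x⁻¹)
    have e : x * u * x⁻¹ * (x * h * x⁻¹) * (x * u * x⁻¹)⁻¹ = x * (u * h * u⁻¹) * x⁻¹ := by group
    rw [e, mem_centralizer_map_conj_iff, mem_centralizer_map_conj_iff] at h1
    exact h1
  · intro χ hχ
    rw [conjBlock_eq_mapSet] at hu2
    obtain ⟨ξ', ⟨χ', hχ', rfl⟩, hc⟩ := hu2 (mapIrr (centEquiv Q x) χ) ⟨χ, hχ, rfl⟩
    refine ⟨χ', hχ', ?_⟩
    intro k k' hk
    have h1 := hc (centEquiv Q x k) (centEquiv Q x k') (by
      rw [centEquiv_apply_coe, centEquiv_apply_coe, hk]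
      group)
    rw [mapIrr_coe, mapIrr_coe, MulEquiv.symm_apply_apply, MulEquiv.symm_apply_apply] at h1
    exact h1

end conjstab

section fn

variable {G : Type u} [Group G] [Fintype G] {p : ℕ} {M : Ideal AlgInt}

/-- The conjugate of the stabilizer of `(Q, f)` is the stabilizer of the conjugate pair. -/
theorem hT_map_conj {Q : Subgroup G}
    {f : Set (IrrCharacter (Subgroup.centralizer (Q : Set G)))} {T : Subgroup G}
    (hT : ∀ y : G, y ∈ T ↔ y ∈ Subgroup.normalizer (Q : Set G) ∧
      StabilizesBlock (Subgroup.centralizer (Q : Set G)) f y) (g : G) :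
    ∀ y : G, y ∈ T.map (MulAut.conj g).toMonoidHom ↔
      y ∈ Subgroup.normalizer ((Q.map (MulAut.conj g).toMonoidHom : Subgroup G) : Set G) ∧
      StabilizesBlock (Subgroup.centralizer
        ((Q.map (MulAut.conj g).toMonoidHom : Subgroup G) : Set G)) (conjBlock Q g f) y := by
  intro y
  constructor
  · rintro ⟨t, ht, rfl⟩
    obtain ⟨h1, h2⟩ := (hT t).1 ht
    have e : (MulAut.conj g).toMonoidHom t = g * t * g⁻¹ := by simp [MulAut.conj_apply]
    rw [e]
    exact ⟨(mem_normalizer_map_conj_iff Q g t).2 h1, stabilizesBlock_conjBlock g t h2⟩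
  · rintro ⟨h1, h2⟩
    have e : y = g * (g⁻¹ * y * g) * g⁻¹ := by group
    rw [e] at h1 h2
    refine ⟨g⁻¹ * y * g, (hT _).2 ⟨(mem_normalizer_map_conj_iff Q g _).1 h1,
      stabilizesBlock_of_conjBlock g _ h2⟩, ?_⟩
    simp [MulAut.conj_apply, mul_assoc]

/-- **S4679**: fully normalized subgroups. -/
theorem isFullyNormalized_iff [Fact p.Prime] (hM : IsPModular p M)
    {B : Set (IrrCharacter G)} {P : Subgroup G}
    {e : Set (IrrCharacter (Subgroup.centralizer (P : Set G)))}
    {F : FusionSystem P} (hF : IsBlockFusionSystemOn p M B P e F)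
    {Q : Subgroup G} {f : Set (IrrCharacter (Subgroup.centralizer (Q : Set G)))}
    (hQP : Q ≤ P) (hf : IsPBlock M f) (hle : SubpairLE p M Q f P e)
    {T : Subgroup G} (hT : ∀ y : G, y ∈ T ↔ y ∈ Subgroup.normalizer (Q : Set G) ∧
      StabilizesBlock (Subgroup.centralizer (Q : Set G)) f y) :
    F.IsFullyNormalized Q ↔ ∃ F' : Set (IrrCharacter T), IsPBlock M F' ∧
      (∀ t : T, blockCoeff F' t =
        subgroupBlockCoeff (Subgroup.centralizer (Q : Set G)) f (t : G)) ∧
      IsDefectGroup p M F' ((P ⊓ Subgroup.normalizer (Q : Set G)).subgroupOf T) := by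
  classical
  have hmax := hF.1
  have hPe : IsBrauerPair p M P e := hmax.1.1
  have hQ : IsPGroup p Q := hPe.1.to_le hQP
  constructor
  · rintro ⟨-, hfn⟩
    refine isDefectGroup_normalizer_of_maximal hM hmax hQP hf hle (fun y hy => ?_) hT
    exact hfn _ ((isConj_iff_of_isBlockFusionSystemOn hM hF hQP hf hle _).2 ⟨y, rfl, hy⟩)
  · rintro ⟨F', hF'blk, hF'coeff, hF'def⟩
    refine ⟨hQP, fun Q' hQ' => ?_⟩
    obtain ⟨g, rfl, hgle⟩ := (isConj_iff_of_isBlockFusionSystemOn hM hF hQP hf hle _).1 hQ'
    have hQgP : Q.map (MulAut.conj g).toMonoidHom ≤ P := le_of_reflTransGen hgle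
    have hfg : IsPBlock M (conjBlock Q g f) := (isBrauerPair_conjBlock g ⟨hQ, hf⟩).2
    have hT' := hT_map_conj hT g
    haveI : Fintype T := Fintype.ofFinite _
    haveI : Fintype (T.map (MulAut.conj g).toMonoidHom) := Fintype.ofFinite _
    let φ : T ≃* T.map (MulAut.conj g).toMonoidHom :=
      T.equivMapOfInjective (MulAut.conj g).toMonoidHom (MulAut.conj g).injective
    have hφ : ∀ t' : T.map (MulAut.conj g).toMonoidHom,
        (t' : G) = g * ((φ.symm t' : T) : G) * g⁻¹ := by
      intro t'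
      obtain ⟨t, rfl⟩ := φ.surjective t'
      rw [φ.symm_apply_apply]
      rfl
    have hF''blk : IsPBlock M (mapSet φ F') := isPBlock_mapSet φ hF'blk
    have hF''coeff : ∀ t' : T.map (MulAut.conj g).toMonoidHom, blockCoeff (mapSet φ F') t' =
        subgroupBlockCoeff (Subgroup.centralizer
          ((Q.map (MulAut.conj g).toMonoidHom : Subgroup G) : Set G)) (conjBlock Q g f)
          (t' : G) := by
      intro t'
      rw [blockCoeff_mapSet, hF'coeff, hφ t', conjBlock_eq_mapSet,
        subgroupBlockCoeff_mapSet_centEquiv]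
    obtain ⟨D'', hD'', hND''⟩ := exists_isDefectGroup_ge_normalizer hM hPe hQgP hfg hgle hT'
      hF''blk hF''coeff
    have hDx := isDefectGroup_mapSet (p := p) (M := M) φ hF'def
    have hcard := card_eq_of_isDefectGroup hM hF''blk hD'' hDx
    rw [Subgroup.card_map_of_injective φ.injective,
      card_subgroupOf_of_le (inf_normalizer_le_of_hT hM hPe hQP hf hle hT)] at hcard
    have h3 := Subgroup.card_le_of_le hND''
    rw [card_subgroupOf_of_le (inf_normalizer_le_of_hT hM hPe hQgP hfg hgle hT')] at h3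
    show Nat.card ↥(P ⊓ Subgroup.normalizer
      ((Q.map (MulAut.conj g).toMonoidHom : Subgroup G) : Set G)) ≤
      Nat.card ↥(P ⊓ Subgroup.normalizer (Q : Set G))
    omega

end fn

end Cfsg.Agent.Helper77
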