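import Mathlib
import Cfsg.Agent.Lib.Helper77.BlockFusion
import Cfsg.Agent.Lib.Helper77.AbelianDefect

/-!
# The fusion system of a block on a maximal Brauer pair, as a term.
-/

set_option autoImplicit false
set_option linter.unusedSectionVars false
set_option linter.style.haveILetI false

namespace Cfsg.Agent.Helper77

open Cfsg Cfsg.Agent.Helper79

universe u

section construct

variable {G : Type u} [Group G] [Fintype G] {p : ℕ} {M : Ideal AlgInt}

/-- Below `(P, e)`, the pair on `Q` lies below the pair on `R` when `Q ≤ R`. -/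
theorem subpairLE_of_le [Fact p.Prime] (hM : IsPModular p M) {P Q R : Subgroup G}
    {e : Set (IrrCharacter (Subgroup.centralizer (P : Set G)))}
    {f : Set (IrrCharacter (Subgroup.centralizer (Q : Set G)))}
    {fR : Set (IrrCharacter (Subgroup.centralizer (R : Set G)))}
    (hPe : IsBrauerPair p M P e) (hQR : Q ≤ R) (hRP : R ≤ P)
    (hQ : SubpairLE p M Q f P e) (hR : SubpairLE p M R fR P e) : SubpairLE p M Q f R fR := by
  have hf : IsPBlock M f := isPBlock_of_subpairLE_left hPe.2 hQ
  have hfR : IsPBlock M fR := isPBlock_of_subpairLE_left hPe.2 hR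
  obtain ⟨f', hf', hle'⟩ := exists_subpairLE hM _ R Q fR ⟨hPe.1.to_le hRP, hfR⟩ hQR rfl
  have h1 : f' = f := subpairLE_unique hM P e hPe _ Q (hQR.trans hRP) rfl f' f hf'
    (hle'.trans hR) hf hQ
  subst h1
  exact hle'

/-- Elements of `Q` stabilize every block of `C_G(Q)`. -/
theorem stabilizesBlock_of_mem_self [hpr : M.IsPrime] {Q : Subgroup G}
    {f : Set (IrrCharacter (Subgroup.centralizer (Q : Set G)))} (hf : IsPBlock M f) {q : G}
    (hq : q ∈ Q) : StabilizesBlock (Subgroup.centralizer (Q : Set G)) f q := by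
  obtain ⟨h1, h2⟩ := (le_centralizer_centralizer' Q).trans
    (centralizer_le_stabSub (Subgroup.centralizer (Q : Set G)) f) hq
  exact (stabilizesBlock_iff_conjSet_eq _ q h1 hf).mpr h2

/-- Elements of `Q` fix the pair `(Q, f)`. -/
theorem conjRel_self_of_mem [hpr : M.IsPrime] {Q : Subgroup G}
    {f : Set (IrrCharacter (Subgroup.centralizer (Q : Set G)))} (hf : IsPBlock M f) {q : G}
    (hq : q ∈ Q) : ConjRel q Q Q f f :=
  conjRel_self_of_stabilizes hf (Subgroup.le_normalizer hq) (stabilizesBlock_of_mem_self hf hq)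

/-- The maps of the fusion system of a block. -/
def blockFusionHom (p : ℕ) (M : Ideal AlgInt) (P : Subgroup G)
    (e : Set (IrrCharacter (Subgroup.centralizer (P : Set G)))) (Q : Subgroup G) :
    Set (Q →* G) :=
  {φ | Q ≤ P ∧ ∃ g : G, (∀ u : Q, φ u = g * (u : G) * g⁻¹) ∧
        Q.map (MulAut.conj g).toMonoidHom ≤ P ∧
        ∃ f : Set (IrrCharacter (Subgroup.centralizer (Q : Set G))),
          SubpairLE p M Q f P e ∧
            SubpairLE p M (Q.map (MulAut.conj g).toMonoidHom) (conjBlock Q g f) P e}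

theorem blockFusionHom_inv_aux {P : Subgroup G}
    {e : Set (IrrCharacter (Subgroup.centralizer (P : Set G)))} {Q : Subgroup G} (g : G)
    {f : Set (IrrCharacter (Subgroup.centralizer (Q : Set G)))}
    (hle : SubpairLE p M Q f P e)
    (hle' : SubpairLE p M (Q.map (MulAut.conj g).toMonoidHom) (conjBlock Q g f) P e)
    (R : Subgroup G) (hR : R = Q.map (MulAut.conj g).toMonoidHom) :
    conjHom R g⁻¹ ∈ blockFusionHom p M P e R := by
  subst hR
  have hQP : Q ≤ P := le_of_reflTransGen hle
  have hcomp := (conjRel_conjBlock g Q f).comp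
    (conjRel_conjBlock g⁻¹ (Q.map (MulAut.conj g).toMonoidHom) (conjBlock Q g f))
  rw [inv_mul_cancel] at hcomp
  have hle'' := hcomp.subpairLE (conjRel_one P e) hle
  exact ⟨le_of_reflTransGen hle', g⁻¹, fun u => rfl, le_of_reflTransGen hle'', _, hle', hle''⟩

/-- **The fusion system of a block on a Brauer pair** `(P, e)`. -/
noncomputable def blockFusion [Fact p.Prime] (hM : IsPModular p M) (P : Subgroup G)
    (e : Set (IrrCharacter (Subgroup.centralizer (P : Set G)))) (hPe : IsBrauerPair p M P e) :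
    FusionSystem P where
  Hom Q := blockFusionHom p M P e Q
  le_of_mem := by
    rintro Q φ ⟨hQP, g, hg, hgP, -⟩
    refine ⟨hQP, fun x => ?_⟩
    rw [hg]
    exact hgP ⟨x, x.2, rfl⟩
  injective_of_mem := by
    rintro Q φ ⟨-, g, hg, -⟩ a b hab
    have h : g * (a : G) * g⁻¹ = g * (b : G) * g⁻¹ := ((hg a).symm.trans hab).trans (hg b)
    exact Subtype.ext (mul_left_cancel (mul_right_cancel h))
  conj_mem := by
    intro Q g hQP hgP
    haveI hpr := isPrime_of_isPModular hM
    obtain ⟨f, hf, hle⟩ := exists_subpairLE hM _ P Q e hPe hQP rfl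
    have hle' := (conjRel_conjBlock g Q f).subpairLE (conjRel_self_of_mem hPe.2 hgP) hle
    exact ⟨hQP, g, fun u => rfl, le_of_reflTransGen hle', f, hle, hle'⟩
  comp_mem := by
    rintro Q R φ ψ ⟨hQP, g, hg, hgP, f, hle, hle'⟩ ⟨hRP, k, hk, hkP, fR, hleR, hleR'⟩ h
    have hQgR : Q.map (MulAut.conj g).toMonoidHom ≤ R := by
      rintro _ ⟨u, hu, rfl⟩
      have := h ⟨u, hu⟩
      rw [hg] at this
      exact this
    have h1 : SubpairLE p M (Q.map (MulAut.conj g).toMonoidHom) (conjBlock Q g f) R fR :=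
      subpairLE_of_le hM hPe hQgR hRP hle' hleR
    have h2 := (subpairLE_conjBlock k h1).trans hleR'
    have hcomp := (conjRel_conjBlock g Q f).comp
      (conjRel_conjBlock k (Q.map (MulAut.conj g).toMonoidHom) (conjBlock Q g f))
    have h3 := hcomp.subpairLE_conjBlock_of h2
    refine ⟨hQP, k * g, fun u => ?_, le_of_reflTransGen h3, f, hle, h3⟩
    show ψ (φ.codRestrict R h u) = k * g * (u : G) * (k * g)⁻¹
    rw [hk]
    show k * φ u * k⁻¹ = _
    rw [hg, mul_inv_rev]
    simp only [mul_assoc]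
  inv_mem := by
    rintro Q φ ⟨hQP, g, hg, hgP, f, hle, hle'⟩
    refine ⟨conjHom φ.range g⁻¹,
      blockFusionHom_inv_aux g hle hle' φ.range (range_eq_map_of_conj hg), fun x => ?_⟩
    show g⁻¹ * φ x * g⁻¹⁻¹ = x
    rw [hg, inv_inv]
    simp only [mul_assoc, inv_mul_cancel, mul_one, inv_mul_cancel_left]

theorem isBlockFusionSystemOn_blockFusion [Fact p.Prime] (hM : IsPModular p M)
    {B : Set (IrrCharacter G)} {P : Subgroup G}
    {e : Set (IrrCharacter (Subgroup.centralizer (P : Set G)))}
    (hmax : IsMaximalBrauerPair p M B P e) :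
    IsBlockFusionSystemOn p M B P e (blockFusion hM P e hmax.1.1) :=
  ⟨hmax, fun _ _ => Iff.rfl⟩

end construct

end Cfsg.Agent.Helper77
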