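import Mathlib
import Cfsg.Agent.Lib.Helper77.FusConstruct
import Cfsg.Agent.Lib.Helper77.FullyNormalized
import Cfsg.Agent.Lib.Helper77.LocalBlock
import Cfsg.Agent.Lib.Helper84.FusSat2

/-!
# Saturation of the fusion system of a block, part A: fully normalized subgroups are fully
centralized and fully automized.
-/

set_option autoImplicit false
set_option linter.unusedSectionVars false
set_option linter.style.haveILetI false

namespace Cfsg.Agent.Helper77

open Cfsg Cfsg.Agent.Helper79 Cfsg.FusionSystem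

universe u

section pairstab

variable {G : Type u} [Group G] [Fintype G] {p : ℕ} {M : Ideal AlgInt}

/-- The stabilizer `N_G(Q, f)` of a Brauer pair. -/
def pairStab (Q : Subgroup G) (f : Set (IrrCharacter (Subgroup.centralizer (Q : Set G)))) :
    Subgroup G :=
  Subgroup.normalizer (Q : Set G) ⊓ stabSub (Subgroup.centralizer (Q : Set G)) f

theorem mem_pairStab_iff [hpr : M.IsPrime] {Q : Subgroup G}
    {f : Set (IrrCharacter (Subgroup.centralizer (Q : Set G)))} (hf : IsPBlock M f) (y : G) :
    y ∈ pairStab Q f ↔ y ∈ Subgroup.normalizer (Q : Set G) ∧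
      StabilizesBlock (Subgroup.centralizer (Q : Set G)) f y := by
  unfold pairStab
  rw [Subgroup.mem_inf]
  constructor
  · rintro ⟨h1, h2, h3⟩
    exact ⟨h1, (stabilizesBlock_iff_conjSet_eq _ y h2 hf).mpr h3⟩
  · rintro ⟨h1, h2⟩
    exact ⟨h1, h2.1, (stabilizesBlock_iff_conjSet_eq _ y h2.1 hf).mp h2⟩

theorem subpairLE_of_conjRel {x : G} {Q Q' P : Subgroup G}
    {f : Set (IrrCharacter (Subgroup.centralizer (Q : Set G)))}
    {f' : Set (IrrCharacter (Subgroup.centralizer (Q' : Set G)))}
    {e : Set (IrrCharacter (Subgroup.centralizer (P : Set G)))}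
    (h : ConjRel x Q Q' f f')
    (hle : SubpairLE p M (Q.map (MulAut.conj x).toMonoidHom) (conjBlock Q x f) P e) :
    SubpairLE p M Q' f' P e := by
  obtain ⟨rfl, h2⟩ := h
  have e1 : f' = conjBlock Q x f := Set.ext fun ξ' => h2 ξ'
  rw [e1]
  exact hle

end pairstab

section partA

variable {G : Type u} [Group G] [Fintype G] {p : ℕ} {M : Ideal AlgInt}

/-- An element normalizing `Q` and carrying `(Q, f)` to a pair below `(P, e)` stabilizes `f`. -/
theorem stabilizesBlock_of_subpairLE_conj [Fact p.Prime] (hM : IsPModular p M)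
    {P Q : Subgroup G} {e : Set (IrrCharacter (Subgroup.centralizer (P : Set G)))}
    {f : Set (IrrCharacter (Subgroup.centralizer (Q : Set G)))}
    (hPe : IsBrauerPair p M P e) (hQP : Q ≤ P) (hf : IsPBlock M f)
    (hle : SubpairLE p M Q f P e) {g : G} (hgN : g ∈ Subgroup.normalizer (Q : Set G))
    (hle' : SubpairLE p M (Q.map (MulAut.conj g).toMonoidHom) (conjBlock Q g f) P e) :
    StabilizesBlock (Subgroup.centralizer (Q : Set G)) f g := by
  haveI hpr := isPrime_of_isPModular hM
  have hgK := normalizer_le_normalizer_centralizer Q hgN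
  have h1 := subpairLE_of_conjRel (conjRel_conjSet Q g hgN hgK f) hle'
  have hf' := isPBlock_of_subpairLE_left hPe.2 h1
  have h2 : conjSet (Subgroup.centralizer (Q : Set G)) g hgK f = f :=
    subpairLE_unique hM P e hPe _ Q hQP rfl _ f hf' h1 hf hle
  exact (stabilizesBlock_iff_conjSet_eq _ g hgK hf).mpr h2

/-- **Fully normalized subgroups are fully centralized.** -/
theorem isFullyCentralized_of_isFullyNormalized [Fact p.Prime] (hM : IsPModular p M)
    {B : Set (IrrCharacter G)} {P : Subgroup G}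
    {e : Set (IrrCharacter (Subgroup.centralizer (P : Set G)))}
    {F : FusionSystem P} (hF : IsBlockFusionSystemOn p M B P e F)
    {Q : Subgroup G} (hfn : F.IsFullyNormalized Q) : F.IsFullyCentralized Q := by
  classical
  haveI hpr := isPrime_of_isPModular hM
  have hPe : IsBrauerPair p M P e := hF.1.1.1
  have hQP : Q ≤ P := hfn.1
  obtain ⟨f, hf, hle⟩ := exists_subpairLE hM _ P Q e hPe hQP rfl
  have hT := mem_pairStab_iff (M := M) hf
  obtain ⟨F', hF'blk, hF'coeff, hF'def⟩ := (isFullyNormalized_iff hM hF hQP hf hle hT).1 hfn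
  have h1 := (local_defect hM (pairStab Q f) (Subgroup.centralizer (Q : Set G))
    (centralizer_le_of_hT hf hT) hf (fun h hh => ((hT h).1 hh).2) hF'blk hF'coeff hF'def).2
  rw [Subgroup.map_subgroupOf_eq_of_le (inf_normalizer_le_of_hT hM hPe hQP hf hle hT),
    inf_assoc, inf_eq_right.mpr (Subgroup.centralizer_le_normalizer _)] at h1
  exact (isFullyCentralized_iff hM hF hQP hf hle).2 h1

/-- The automorphism group of `Q` in the fusion system of a block is induced by `N_G(Q, f)`. -/
theorem autGroup_eq_autInducedBy [Fact p.Prime] (hM : IsPModular p M)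
    {B : Set (IrrCharacter G)} {P : Subgroup G}
    {e : Set (IrrCharacter (Subgroup.centralizer (P : Set G)))}
    {F : FusionSystem P} (hF : IsBlockFusionSystemOn p M B P e F)
    {Q : Subgroup G} {f : Set (IrrCharacter (Subgroup.centralizer (Q : Set G)))}
    (hQP : Q ≤ P) (hf : IsPBlock M f) (hle : SubpairLE p M Q f P e) :
    F.autGroup Q = autInducedBy (pairStab Q f) Q := by
  haveI hpr := isPrime_of_isPModular hM
  have hPe : IsBrauerPair p M P e := hF.1.1.1
  ext α
  rw [Cfsg.Agent.Helper84.mem_autGroup_iff F hQP, Cfsg.Agent.Helper84.mem_autInducedBy_iff, hF.2]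
  constructor
  · rintro ⟨-, g, hg, hgP, f', hle', hle''⟩
    have hf' : IsPBlock M f' := isPBlock_of_subpairLE_left hPe.2 hle'
    have heq : f' = f := subpairLE_unique hM P e hPe _ Q hQP rfl f' f hf' hle' hf hle
    subst heq
    have hg' : ∀ x : Q, ((α x : Q) : G) = g * x * g⁻¹ := fun x => hg x
    have hgN := Cfsg.Agent.Helper84.mem_normalizer_of_autInduced hg'
    refine ⟨g, ?_, hg'⟩
    rw [mem_pairStab_iff (M := M) hf']
    exact ⟨hgN, stabilizesBlock_of_subpairLE_conj hM hPe hQP hf' hle' hgN hle''⟩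
  · rintro ⟨g, hgT, hg⟩
    obtain ⟨hgN, hgst⟩ := (mem_pairStab_iff (M := M) hf g).1 hgT
    have hle'' := (conjRel_self_of_stabilizes hf hgN hgst).subpairLE_conjBlock_of hle
    exact ⟨hQP, g, fun u => hg u, le_of_reflTransGen hle'', f, hle, hle''⟩

/-- The conjugation action of a subgroup of `N_G(Q)` on `Q`. -/
noncomputable def actHom (Q T : Subgroup G) (hTN : T ≤ Subgroup.normalizer (Q : Set G)) :
    T →* MulAut Q :=
  Q.normalizerMonoidHom.comp (Subgroup.inclusion hTN)

theorem actHom_apply_coe (Q T : Subgroup G) (hTN : T ≤ Subgroup.normalizer (Q : Set G))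
    (t : T) (x : Q) : ((actHom Q T hTN t x : Q) : G) = (t : G) * x * (t : G)⁻¹ := rfl

theorem actHom_ker (Q T : Subgroup G) (hTN : T ≤ Subgroup.normalizer (Q : Set G)) :
    (actHom Q T hTN).ker = (Subgroup.centralizer (Q : Set G)).subgroupOf T := by
  ext t
  rw [MonoidHom.mem_ker, Subgroup.mem_subgroupOf, Subgroup.mem_centralizer_iff]
  constructor
  · intro h x hx
    have h1 := congrArg (fun α : MulAut Q => ((α ⟨x, hx⟩ : Q) : G)) h
    simp only [actHom_apply_coe, MulAut.one_apply] at h1
    exact (mul_inv_eq_iff_eq_mul.mp h1).symm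
  · intro h
    ext x
    rw [actHom_apply_coe, MulAut.one_apply, mul_inv_eq_iff_eq_mul]
    exact (h x x.2).symm

theorem autInducedBy_eq_map_actHom (Q T K : Subgroup G)
    (hTN : T ≤ Subgroup.normalizer (Q : Set G))
    (hK : K ⊓ Subgroup.normalizer (Q : Set G) ≤ T) :
    autInducedBy K Q = ((K ⊓ Subgroup.normalizer (Q : Set G)).subgroupOf T).map
      (actHom Q T hTN) := by
  ext α
  rw [Cfsg.Agent.Helper84.mem_autInducedBy_iff]
  constructor
  · rintro ⟨g, hgK, hg⟩
    have hgN := Cfsg.Agent.Helper84.mem_normalizer_of_autInduced hg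
    have hgKN : g ∈ K ⊓ Subgroup.normalizer (Q : Set G) := Subgroup.mem_inf.mpr ⟨hgK, hgN⟩
    refine ⟨⟨g, hK hgKN⟩, Subgroup.mem_subgroupOf.mpr hgKN, ?_⟩
    ext x
    rw [actHom_apply_coe, hg]
  · rintro ⟨t, ht, rfl⟩
    exact ⟨t, (Subgroup.mem_inf.mp (Subgroup.mem_subgroupOf.mp ht)).1, fun x => rfl⟩

/-- **Fully normalized subgroups are fully automized.** -/
theorem isFullyAutomized_of_isFullyNormalized [Fact p.Prime] (hM : IsPModular p M)
    {B : Set (IrrCharacter G)} {P : Subgroup G}
    {e : Set (IrrCharacter (Subgroup.centralizer (P : Set G)))}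
    {F : FusionSystem P} (hF : IsBlockFusionSystemOn p M B P e F)
    {Q : Subgroup G} (hfn : F.IsFullyNormalized Q) : F.IsFullyAutomized p Q := by
  classical
  haveI hpr := isPrime_of_isPModular hM
  have hPe : IsBrauerPair p M P e := hF.1.1.1
  have hQP : Q ≤ P := hfn.1
  haveI : Finite P := inferInstance
  obtain ⟨f, hf, hle⟩ := exists_subpairLE hM _ P Q e hPe hQP rfl
  have hT := mem_pairStab_iff (M := M) hf
  obtain ⟨F', hF'blk, hF'coeff, hF'def⟩ := (isFullyNormalized_iff hM hF hQP hf hle hT).1 hfn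
  have h1 := (local_defect hM (pairStab Q f) (Subgroup.centralizer (Q : Set G))
    (centralizer_le_of_hT hf hT) hf (fun h hh => ((hT h).1 hh).2) hF'blk hF'coeff hF'def).1
  have hTN : pairStab Q f ≤ Subgroup.normalizer (Q : Set G) := le_normalizer_of_hT hT
  have hPT := inf_normalizer_le_of_hT hM hPe hQP hf hle hT
  rw [Cfsg.Agent.Helper84.fullyAutomized_iff]
  refine ⟨hQP, Cfsg.Agent.Helper84.autInducedBy_le_autGroup F hQP,
    Cfsg.Agent.Helper84.isPGroup_autInducedBy hPe.1 Q, ?_⟩
  rw [autGroup_eq_autInducedBy hM hF hQP hf hle,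
    autInducedBy_eq_map_actHom Q (pairStab Q f) P hTN hPT,
    autInducedBy_eq_map_actHom Q (pairStab Q f) (pairStab Q f) hTN inf_le_left,
    Subgroup.relIndex_map_map, actHom_ker]
  have e1 : (pairStab Q f ⊓ Subgroup.normalizer (Q : Set G)).subgroupOf (pairStab Q f) = ⊤ := by
    rw [Subgroup.subgroupOf_eq_top]
    exact le_inf le_rfl hTN
  rw [e1, top_sup_eq, Subgroup.relIndex_top_right, sup_comm]
  exact h1

end partA

end Cfsg.Agent.Helper77
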