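import Mathlib
import Cfsg.Agent.Lib.Helper77.PairConj

/-!
# Transport of Brauer pairs from a subgroup `H` to the ambient group, for pairs `(A, e)` with
`C_G(A) ≤ H`.
-/

set_option autoImplicit false
set_option linter.unusedSectionVars false
set_option linter.style.haveILetI false

namespace Cfsg.Agent.Helper77

open Cfsg Cfsg.Agent.Helper79

universe u

section upEquiv

variable {G : Type u} [Group G] (H : Subgroup G)

theorem up_mem_centralizer {A' : Subgroup H} {c : H}
    (hc : c ∈ Subgroup.centralizer (A' : Set H)) :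
    (c : G) ∈ Subgroup.centralizer ((A'.map H.subtype : Subgroup G) : Set G) := by
  rw [Subgroup.mem_centralizer_iff] at hc ⊢
  rintro _ ⟨a, ha, rfl⟩
  exact congrArg Subtype.val (hc a ha)

theorem down_mem_centralizer {A' : Subgroup H} {c : H}
    (hc : (c : G) ∈ Subgroup.centralizer ((A'.map H.subtype : Subgroup G) : Set G)) :
    c ∈ Subgroup.centralizer (A' : Set H) := by
  rw [Subgroup.mem_centralizer_iff] at hc ⊢
  intro a ha
  apply Subtype.ext
  exact hc a ⟨a, ha, rfl⟩

/-- The inclusion `C_H(A') ≃ C_G(A)` when `C_G(A) ≤ H`. -/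
def upEquiv (A' : Subgroup H)
    (hcen : Subgroup.centralizer ((A'.map H.subtype : Subgroup G) : Set G) ≤ H) :
    Subgroup.centralizer (A' : Set H) ≃*
      Subgroup.centralizer ((A'.map H.subtype : Subgroup G) : Set G) where
  toFun c := ⟨((c : H) : G), up_mem_centralizer H c.2⟩
  invFun c := ⟨⟨(c : G), hcen c.2⟩, down_mem_centralizer H c.2⟩
  left_inv _ := rfl
  right_inv _ := rfl
  map_mul' _ _ := rfl

theorem upEquiv_apply_coe (A' : Subgroup H)
    (hcen : Subgroup.centralizer ((A'.map H.subtype : Subgroup G) : Set G) ≤ H)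
    (c : Subgroup.centralizer (A' : Set H)) : ((upEquiv H A' hcen c : _) : G) = ((c : H) : G) := rfl

theorem upEquiv_symm_apply_coe (A' : Subgroup H)
    (hcen : Subgroup.centralizer ((A'.map H.subtype : Subgroup G) : Set G) ≤ H)
    (c : Subgroup.centralizer ((A'.map H.subtype : Subgroup G) : Set G)) :
    ((((upEquiv H A' hcen).symm c : _) : H) : G) = (c : G) := rfl

/-- The transport of a set of characters of `C_H(A')` to `C_G(A)`. -/
def upBlock (A' : Subgroup H) (e' : Set (IrrCharacter (Subgroup.centralizer (A' : Set H)))) :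
    Set (IrrCharacter (Subgroup.centralizer ((A'.map H.subtype : Subgroup G) : Set G))) :=
  {ξ | ∃ ξ' ∈ e', ∀ (c' : Subgroup.centralizer (A' : Set H))
      (c : Subgroup.centralizer ((A'.map H.subtype : Subgroup G) : Set G)),
      (c : G) = ((c' : H) : G) → (ξ : _ → ℂ) c = (ξ' : _ → ℂ) c'}

theorem upBlock_eq_mapSet (A' : Subgroup H)
    (hcen : Subgroup.centralizer ((A'.map H.subtype : Subgroup G) : Set G) ≤ H)
    (e' : Set (IrrCharacter (Subgroup.centralizer (A' : Set H)))) :
    upBlock H A' e' = mapSet (upEquiv H A' hcen) e' := by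
  ext ξ
  constructor
  · rintro ⟨ξ', hξ', h⟩
    refine ⟨ξ', hξ', ?_⟩
    apply Subtype.ext
    funext c
    rw [mapIrr_coe]
    exact (h ((upEquiv H A' hcen).symm c) c rfl).symm
  · rintro ⟨ξ', hξ', rfl⟩
    refine ⟨ξ', hξ', ?_⟩
    intro c' c hcc'
    rw [mapIrr_coe]
    refine congrArg ξ'.1 ?_
    apply Subtype.ext
    apply Subtype.ext
    exact hcc'

/-- The transported pair as an index. -/
def upIdx (a : BrauerPairIdx H) : BrauerPairIdx G :=
  ⟨a.1.map H.subtype, upBlock H a.1 a.2⟩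

variable {p : ℕ} {M : Ideal AlgInt}

theorem brauerOmega_up (A' : Subgroup H)
    (hcen : Subgroup.centralizer ((A'.map H.subtype : Subgroup G) : Set G) ≤ H)
    (β : G → ℂ) (β' : H → ℂ) (hβ : ∀ h : H, β' h = β h)
    (ξ' : Subgroup.centralizer (A' : Set H) → ℂ) :
    brauerOmega (A'.map H.subtype) β (fun c => ξ' ((upEquiv H A' hcen).symm c)) =
      brauerOmega A' β' ξ' := by
  unfold brauerOmega
  rw [← finsum_comp_equiv (upEquiv H A' hcen).toEquiv]
  refine finsum_congr fun c => ?_
  simp only [MulEquiv.toEquiv_eq_coe, EquivLike.coe_coe, MulEquiv.symm_apply_apply, map_one]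
  rw [upEquiv_apply_coe, hβ]

theorem subgroupBlockCoeff_up (A' : Subgroup H)
    (hcen : Subgroup.centralizer ((A'.map H.subtype : Subgroup G) : Set G) ≤ H)
    (e' : Set (IrrCharacter (Subgroup.centralizer (A' : Set H)))) (h : H) :
    subgroupBlockCoeff (Subgroup.centralizer ((A'.map H.subtype : Subgroup G) : Set G))
      (mapSet (upEquiv H A' hcen) e') (h : G) =
    subgroupBlockCoeff (Subgroup.centralizer (A' : Set H)) e' h := by
  classical
  unfold subgroupBlockCoeff
  by_cases hh : h ∈ Subgroup.centralizer (A' : Set H)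
  · rw [dif_pos hh, dif_pos (up_mem_centralizer H hh), blockCoeff_mapSet]
    rfl
  · have hh' : (h : G) ∉ Subgroup.centralizer ((A'.map H.subtype : Subgroup G) : Set G) :=
      fun hcon => hh (down_mem_centralizer H hcon)
    rw [dif_neg hh, dif_neg hh']

theorem stabilizesBlock_up (A' : Subgroup H)
    (hcen : Subgroup.centralizer ((A'.map H.subtype : Subgroup G) : Set G) ≤ H)
    {e' : Set (IrrCharacter (Subgroup.centralizer (A' : Set H)))} (u : H)
    (hu : StabilizesBlock (Subgroup.centralizer (A' : Set H)) e' u) :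
    StabilizesBlock (Subgroup.centralizer ((A'.map H.subtype : Subgroup G) : Set G))
      (upBlock H A' e') (u : G) := by
  obtain ⟨hu1, hu2⟩ := hu
  constructor
  · rw [Subgroup.mem_normalizer_iff] at hu1 ⊢
    intro y
    constructor
    · intro hy
      have h1 := (hu1 ⟨y, hcen hy⟩).1 (down_mem_centralizer H hy)
      exact up_mem_centralizer H h1
    · intro hy
      have hyH : y ∈ H := by
        have h1 : (u : G) * y * (u : G)⁻¹ ∈ H := hcen hy
        have h2 := H.mul_mem (H.mul_mem (H.inv_mem u.2) h1) u.2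
        have e : (u : G)⁻¹ * ((u : G) * y * (u : G)⁻¹) * (u : G) = y := by group
        rwa [e] at h2
      have h1 := (hu1 ⟨y, hyH⟩).2 (down_mem_centralizer H (c := u * ⟨y, hyH⟩ * u⁻¹) hy)
      exact up_mem_centralizer H h1
  · rw [upBlock_eq_mapSet H A' hcen]
    rintro _ ⟨χ₁, hχ₁, rfl⟩
    obtain ⟨χ₂, hχ₂, hc⟩ := hu2 χ₁ hχ₁
    refine ⟨mapIrr (upEquiv H A' hcen) χ₂, ⟨χ₂, hχ₂, rfl⟩, ?_⟩
    intro k k' hk
    rw [mapIrr_coe, mapIrr_coe]
    apply hc
    apply Subtype.ext
    exact hk

theorem isNormalSubpair_up {A₁' A₂' : Subgroup H}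
    {e₁' : Set (IrrCharacter (Subgroup.centralizer (A₁' : Set H)))}
    {e₂' : Set (IrrCharacter (Subgroup.centralizer (A₂' : Set H)))}
    (hcen : Subgroup.centralizer ((A₁'.map H.subtype : Subgroup G) : Set G) ≤ H)
    (h : IsNormalSubpair p M A₁' e₁' A₂' e₂') :
    IsNormalSubpair p M (A₁'.map H.subtype) (upBlock H A₁' e₁')
      (A₂'.map H.subtype) (upBlock H A₂' e₂') := by
  obtain ⟨h1, h2, h3, h4, h5, h6⟩ := h
  have hcen₂ : Subgroup.centralizer ((A₂'.map H.subtype : Subgroup G) : Set G) ≤ H :=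
    (Subgroup.centralizer_le (by exact_mod_cast Subgroup.map_mono h3)).trans hcen
  refine ⟨⟨h1.1.map _, ?_⟩, ⟨h2.1.map _, ?_⟩, Subgroup.map_mono h3, ?_, ?_, ?_⟩
  · rw [upBlock_eq_mapSet H A₁' hcen]
    exact isPBlock_mapSet _ h1.2
  · rw [upBlock_eq_mapSet H A₂' hcen₂]
    exact isPBlock_mapSet _ h2.2
  · exact (Subgroup.map_mono h4).trans (Subgroup.le_normalizer_map _)
  · rintro _ ⟨u, hu, rfl⟩
    exact stabilizesBlock_up H A₁' hcen u (h5 u hu)
  · rw [upBlock_eq_mapSet H A₂' hcen₂]
    rintro _ ⟨ξ, hξ, rfl⟩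
    have := brauerOmega_up H A₂' hcen₂
      (subgroupBlockCoeff (Subgroup.centralizer ((A₁'.map H.subtype : Subgroup G) : Set G))
        (upBlock H A₁' e₁'))
      (subgroupBlockCoeff (Subgroup.centralizer (A₁' : Set H)) e₁')
      (fun h => by rw [upBlock_eq_mapSet H A₁' hcen, subgroupBlockCoeff_up])
      (ξ : Subgroup.centralizer (A₂' : Set H) → ℂ)
    have e' : ((mapIrr (upEquiv H A₂' hcen₂) ξ : IrrCharacter _) : _ → ℂ) =
        fun c => (ξ : Subgroup.centralizer (A₂' : Set H) → ℂ)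
          ((upEquiv H A₂' hcen₂).symm c) := rfl
    rw [e', this]
    exact h6 ξ hξ

theorem fst_le_of_reflTransGen {K : Type u} [Group K] {a b : BrauerPairIdx K}
    (h : Relation.ReflTransGen (NormalSubpairRel p M) a b) : a.1 ≤ b.1 := by
  induction h with
  | refl => exact le_rfl
  | tail _ hcb ih => exact ih.trans hcb.2.2.1

theorem reflTransGen_up {a b : BrauerPairIdx H}
    (hcen : Subgroup.centralizer ((a.1.map H.subtype : Subgroup G) : Set G) ≤ H)
    (h : Relation.ReflTransGen (NormalSubpairRel p M) a b) :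
    Relation.ReflTransGen (NormalSubpairRel p M) (upIdx H a) (upIdx H b) := by
  induction h with
  | refl => exact Relation.ReflTransGen.refl
  | tail hab hbc ih =>
    refine ih.tail ?_
    have hle : a.1 ≤ _ := fst_le_of_reflTransGen hab
    exact isNormalSubpair_up H
      ((Subgroup.centralizer_le (by exact_mod_cast Subgroup.map_mono hle)).trans hcen) hbc

theorem subpairLE_up {A' P' : Subgroup H}
    {e' : Set (IrrCharacter (Subgroup.centralizer (A' : Set H)))}
    {ε' : Set (IrrCharacter (Subgroup.centralizer (P' : Set H)))}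
    (hcen : Subgroup.centralizer ((A'.map H.subtype : Subgroup G) : Set G) ≤ H)
    (h : SubpairLE p M A' e' P' ε') :
    SubpairLE p M (A'.map H.subtype) (upBlock H A' e') (P'.map H.subtype) (upBlock H P' ε') :=
  reflTransGen_up H (a := ⟨A', e'⟩) (b := ⟨P', ε'⟩) hcen h

/-- Going down: a Brauer pair `(A, e)` of `G` lying over a block idempotent shared with the block
`F` of `H` gives a Brauer pair of `F`. -/
theorem isBrauerPairOf_of_up (A' : Subgroup H)
    (hcen : Subgroup.centralizer ((A'.map H.subtype : Subgroup G) : Set G) ≤ H)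
    {F : Set (IrrCharacter H)} (hF : IsPBlock M F) (β : G → ℂ)
    (hβ : ∀ h : H, blockCoeff F h = β h)
    {e' : Set (IrrCharacter (Subgroup.centralizer (A' : Set H)))}
    (hpair : IsBrauerPair p M A' e')
    (hup : ∀ ξ ∈ upBlock H A' e', MemLocalIdeal M
      (brauerOmega (A'.map H.subtype) β
        (ξ : Subgroup.centralizer ((A'.map H.subtype : Subgroup G) : Set G) → ℂ) - 1)) :
    IsBrauerPairOf p M F A' e' := by
  refine ⟨hpair, hF, fun ξ' hξ' => ?_⟩
  have h1 := hup (mapIrr (upEquiv H A' hcen) ξ') (by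
    rw [upBlock_eq_mapSet H A' hcen]
    exact ⟨ξ', hξ', rfl⟩)
  have h2 := brauerOmega_up H A' hcen β (blockCoeff F) hβ
    (ξ' : Subgroup.centralizer (A' : Set H) → ℂ)
  have e' : ((mapIrr (upEquiv H A' hcen) ξ' : IrrCharacter _) : _ → ℂ) =
      fun c => (ξ' : Subgroup.centralizer (A' : Set H) → ℂ)
        ((upEquiv H A' hcen).symm c) := rfl
  rw [e', h2] at h1
  exact h1

/-- Every set of characters of `C_G(A)` comes from below. -/
theorem exists_upBlock_eq (A' : Subgroup H)
    (hcen : Subgroup.centralizer ((A'.map H.subtype : Subgroup G) : Set G) ≤ H)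
    (e : Set (IrrCharacter (Subgroup.centralizer ((A'.map H.subtype : Subgroup G) : Set G)))) :
    ∃ e' : Set (IrrCharacter (Subgroup.centralizer (A' : Set H))),
      upBlock H A' e' = e ∧ (IsPBlock M e → IsPBlock M e') := by
  refine ⟨mapSet (upEquiv H A' hcen).symm e, ?_, fun he => isPBlock_mapSet _ he⟩
  rw [upBlock_eq_mapSet H A' hcen]
  exact mapSet_mapSet_symm (upEquiv H A' hcen) e

theorem map_conj_map_subtype (A' : Subgroup H) (u : H) :
    (A'.map (MulAut.conj u).toMonoidHom).map H.subtype =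
      (A'.map H.subtype).map (MulAut.conj (u : G)).toMonoidHom := by
  ext y
  constructor
  · rintro ⟨_, ⟨a, ha, rfl⟩, rfl⟩
    exact ⟨a, ⟨a, ha, rfl⟩, by simp [MulAut.conj_apply]⟩
  · rintro ⟨_, ⟨a, ha, rfl⟩, rfl⟩
    exact ⟨u * a * u⁻¹, ⟨a, ha, by simp [MulAut.conj_apply]⟩, by simp [MulAut.conj_apply]⟩

theorem centralizer_map_conj_le (A' : Subgroup H)
    (hcen : Subgroup.centralizer ((A'.map H.subtype : Subgroup G) : Set G) ≤ H) (u : H) :
    Subgroup.centralizer
      (((A'.map (MulAut.conj u).toMonoidHom).map H.subtype : Subgroup G) : Set G) ≤ H := by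
  intro y hy
  rw [map_conj_map_subtype] at hy
  have h1 := conj_inv_mem_centralizer_of_map (u : G) hy
  have h2 := H.mul_mem (H.mul_mem u.2 (hcen h1)) (H.inv_mem u.2)
  have e : (u : G) * ((u : G)⁻¹ * y * (u : G)) * (u : G)⁻¹ = y := by group
  rwa [e] at h2

/-- Conjugation inside `H` is compatible with the transport to `G`. -/
theorem conjRel_up (A' : Subgroup H)
    (hcen : Subgroup.centralizer ((A'.map H.subtype : Subgroup G) : Set G) ≤ H) (u : H)
    (e' : Set (IrrCharacter (Subgroup.centralizer (A' : Set H)))) :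
    ConjRel (u : G) (A'.map H.subtype) ((A'.map (MulAut.conj u).toMonoidHom).map H.subtype)
      (upBlock H A' e')
      (upBlock H (A'.map (MulAut.conj u).toMonoidHom) (conjBlock A' u e')) := by
  have hcen'' := centralizer_map_conj_le H A' hcen u
  refine ⟨map_conj_map_subtype H A' u, ?_⟩
  intro ξ''
  rw [upBlock_eq_mapSet H _ hcen'', conjBlock_eq_mapSet, upBlock_eq_mapSet H A' hcen]
  constructor
  · rintro ⟨_, ⟨ξ₀, hξ₀, rfl⟩, rfl⟩
    refine ⟨mapIrr (upEquiv H A' hcen) ξ₀, ⟨ξ₀, hξ₀, rfl⟩, ?_⟩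
    intro c c'' hcc
    rw [mapIrr_coe, mapIrr_coe, mapIrr_coe]
    refine congrArg ξ₀.1 ?_
    apply Subtype.ext
    apply Subtype.ext
    rw [centEquiv_symm_apply_coe]
    show ((u⁻¹ : H) : G) * _ * (u : G) = _
    rw [upEquiv_symm_apply_coe, upEquiv_symm_apply_coe, hcc]
    simp only [Subgroup.coe_inv]
    group
  · rintro ⟨_, ⟨ξ₀, hξ₀, rfl⟩, h⟩
    refine ⟨mapIrr (centEquiv A' u) ξ₀, ⟨ξ₀, hξ₀, rfl⟩, ?_⟩
    apply Subtype.ext
    funext c''
    rw [mapIrr_coe, mapIrr_coe]
    have h1 := h (upEquiv H A' hcen ((centEquiv A' u).symm ((upEquiv H _ hcen'').symm c''))) c'' (by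
      rw [upEquiv_apply_coe]
      show _ = (u : G) * ((((centEquiv A' u).symm ((upEquiv H _ hcen'').symm c'') : _) : H) : G) *
        (u : G)⁻¹
      rw [centEquiv_symm_apply_coe]
      simp only [Subgroup.coe_mul, Subgroup.coe_inv, upEquiv_symm_apply_coe]
      group)
    rw [h1, mapIrr_coe, MulEquiv.symm_apply_apply]

end upEquiv

end Cfsg.Agent.Helper77
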