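import Mathlib
import Cfsg.Agent.Lib.Helper77.FusSaturatedA
import Cfsg.Agent.Lib.Helper77.UpPairs

/-!
# Saturation of the fusion system of a block, part B: fully centralized subgroups are receptive.
-/

set_option autoImplicit false
set_option linter.unusedSectionVars false
set_option linter.style.haveILetI false

namespace Cfsg.Agent.Helper77

open Cfsg Cfsg.Agent.Helper79 Cfsg.FusionSystem

universe u

section tools

variable {G : Type u} [Group G] [Fintype G] {p : ℕ} {M : Ideal AlgInt}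

/-- A pair below `(A, e_A)` whose subgroup is normalized by `A` is a normal subpair. -/
theorem isNormalSubpair_of_subpairLE [Fact p.Prime] (hM : IsPModular p M) {A Q : Subgroup G}
    {eA : Set (IrrCharacter (Subgroup.centralizer (A : Set G)))}
    {f : Set (IrrCharacter (Subgroup.centralizer (Q : Set G)))}
    (hAe : IsBrauerPair p M A eA) (hQA : Q ≤ A) (hAN : A ≤ Subgroup.normalizer (Q : Set G))
    (hf : IsPBlock M f) (hle : SubpairLE p M Q f A eA) : IsNormalSubpair p M Q f A eA := by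
  obtain ⟨f₀, hf₀, -⟩ := existsUnique_isNormalSubpair hM A Q eA hAe hQA hAN
  have h1 : f₀ = f := subpairLE_unique hM A eA hAe _ Q hQA rfl f₀ f hf₀.1.2
    (Relation.ReflTransGen.single hf₀) hf hle
  rw [← h1]
  exact hf₀

/-- The first component of a Brauer pair of `B` lies in a defect group of `B`. -/
theorem exists_isDefectGroup_ge_of_isBrauerPairOf [Fact p.Prime] (hM : IsPModular p M)
    {B : Set (IrrCharacter G)} {R : Subgroup G}
    {g : Set (IrrCharacter (Subgroup.centralizer (R : Set G)))}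
    (h : IsBrauerPairOf p M B R g) : ∃ E : Subgroup G, IsDefectGroup p M B E ∧ R ≤ E := by
  classical
  haveI hpr := isPrime_of_isPModular hM
  haveI : Fintype (Subgroup.centralizer (R : Set G)) := Fintype.ofFinite _
  obtain ⟨ξ, hξ⟩ := nonempty_of_isPBlock h.1.2
  obtain ⟨x, hx, hne⟩ := exists_not_memLocalIdeal_of_brauerOmega R
    (fun u _ y => isClassFunction_blockCoeff B y u) ξ.2 (h.2.2 ξ hξ)
  exact exists_isDefectGroup_ge_of_blockCoeff hM h.2.1 hne R h.1.1
    (le_centralizer_singleton_iff.mpr hx)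

/-- Going down to a subgroup `H` containing `A` and `C_G(A)`. -/
theorem exists_down (H A : Subgroup G) (hAH : A ≤ H)
    (hcen : Subgroup.centralizer (A : Set G) ≤ H)
    (e : Set (IrrCharacter (Subgroup.centralizer (A : Set G)))) :
    ∃ e' : Set (IrrCharacter (Subgroup.centralizer ((A.subgroupOf H : Subgroup H) : Set H))),
      (⟨A, e⟩ : BrauerPairIdx G) = upIdx H ⟨A.subgroupOf H, e'⟩ ∧
        (IsPBlock M e → IsPBlock M e') := by
  obtain ⟨A', hA'⟩ : ∃ A' : Subgroup H, A' = A.subgroupOf H := ⟨_, rfl⟩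
  have hmap : A'.map H.subtype = A := by
    rw [hA']
    exact Subgroup.map_subgroupOf_eq_of_le hAH
  rw [← hA']
  subst hmap
  obtain ⟨e', he', hblk⟩ := exists_upBlock_eq (M := M) H A' hcen e
  refine ⟨e', ?_, hblk⟩
  rw [← he']
  rfl

theorem card_eq_inf_mul_relIndex {X : Type u} [Group X] [Finite X] (N K : Subgroup X) :
    Nat.card K = Nat.card (K ⊓ N : Subgroup X) * N.relIndex K := by
  haveI : Fintype X := Fintype.ofFinite _
  have h := Subgroup.card_mul_index ((K ⊓ N).subgroupOf K)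
  rw [card_subgroupOf_of_le inf_le_left] at h
  have h2 : ((K ⊓ N).subgroupOf K).index = N.relIndex K := by
    show (K ⊓ N).relIndex K = _
    exact Subgroup.inf_relIndex_left K N
  rw [h2] at h
  exact h.symm

/-- The conjugate of a pair, as an index. -/
def conjIdx (x : G) (a : BrauerPairIdx G) : BrauerPairIdx G :=
  ⟨a.1.map (MulAut.conj x).toMonoidHom, conjBlock a.1 x a.2⟩

end tools

section mainlemma

variable {G : Type u} [Group G] [Fintype G] {p : ℕ} {M : Ideal AlgInt}

/-- **The key step of receptivity.**  Let `(Q, f) ≤ (P, e)` with `C_P(Q)` a defect group of `f`,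
and `(A, e_A)` a pair with `(Q, f) ⊴ (A, e_A)` and `A ≤ N_P(Q) C_G(Q)`.  Then some element of
`C_G(Q)` conjugates `(A, e_A)` below `(P, e)`. -/
theorem exists_centralizer_conj_subpairLE [Fact p.Prime] (hM : IsPModular p M)
    {P Q : Subgroup G} {e : Set (IrrCharacter (Subgroup.centralizer (P : Set G)))}
    {f : Set (IrrCharacter (Subgroup.centralizer (Q : Set G)))}
    (hPe : IsBrauerPair p M P e) (hQP : Q ≤ P) (hf : IsPBlock M f)
    (hle : SubpairLE p M Q f P e)
    (hCdef : IsDefectGroup p M f ((P ⊓ Subgroup.centralizer (Q : Set G)).subgroupOf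
      (Subgroup.centralizer (Q : Set G))))
    {A : Subgroup G} {eA : Set (IrrCharacter (Subgroup.centralizer (A : Set G)))}
    (hAX : A ≤ (P ⊓ Subgroup.normalizer (Q : Set G)) ⊔ Subgroup.centralizer (Q : Set G))
    (hnorm : IsNormalSubpair p M Q f A eA) :
    ∃ c ∈ Subgroup.centralizer (Q : Set G),
      SubpairLE p M (A.map (MulAut.conj c).toMonoidHom) (conjBlock A c eA) P e := by
  classical
  haveI hpr := isPrime_of_isPModular hM
  obtain ⟨R, hRdef⟩ : ∃ R : Subgroup G, R = P ⊓ Subgroup.normalizer (Q : Set G) := ⟨_, rfl⟩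
  obtain ⟨X, hXdef⟩ : ∃ X : Subgroup G, X = R ⊔ Subgroup.centralizer (Q : Set G) := ⟨_, rfl⟩
  rw [← hRdef, ← hXdef] at hAX
  have hT := mem_pairStab_iff (M := M) hf
  have hQ : IsPGroup p Q := hPe.1.to_le hQP
  have hRP : R ≤ P := hRdef ▸ inf_le_left
  have hRN : R ≤ Subgroup.normalizer (Q : Set G) := hRdef ▸ inf_le_right
  have hQR : Q ≤ R := hRdef ▸ le_inf hQP Subgroup.le_normalizer
  have hRT : R ≤ pairStab Q f := hRdef ▸ inf_normalizer_le_of_hT hM hPe hQP hf hle hT
  have hCT : Subgroup.centralizer (Q : Set G) ≤ pairStab Q f := centralizer_le_of_hT hf hT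
  have hXT : X ≤ pairStab Q f := hXdef ▸ sup_le hRT hCT
  have hCX : Subgroup.centralizer (Q : Set G) ≤ X := hXdef ▸ le_sup_right
  have hRX : R ≤ X := hXdef ▸ le_sup_left
  have hQX : Q ≤ X := hQR.trans hRX
  have hXN : X ≤ Subgroup.normalizer (Q : Set G) := hXT.trans (le_normalizer_of_hT hT)
  have hXNC : X ≤ Subgroup.normalizer ((Subgroup.centralizer (Q : Set G) : Subgroup G) : Set G) :=
    hXN.trans (normalizer_le_normalizer_centralizer Q)
  have hst : ∀ h ∈ X, StabilizesBlock (Subgroup.centralizer (Q : Set G)) f h :=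
    fun h hh => ((hT h).1 (hXT hh)).2
  haveI : Fintype X := Fintype.ofFinite _
  haveI : Fintype (Subgroup.centralizer (Q : Set G)) := Fintype.ofFinite _
  -- the block of `X`
  obtain ⟨FX, hFX, hFXc⟩ := exists_block_of_stable_normal hCX hXNC hf
    (fun y hy => (stabilizesBlock_iff_conjSet_eq _ y _ hf).mp (hst y hy))
    (fun F hF t ht => blockCoeff_eq_zero_of_hT hM hQ hQX hXN hF t ht)
  -- the pair on `R`
  obtain ⟨eR, heR, hleR⟩ := exists_subpairLE hM _ P R e hPe hRP rfl
  have hnormR : IsNormalSubpair p M Q f R eR :=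
    isNormalSubpair_of_subpairLE hM ⟨hPe.1.to_le hRP, heR⟩ hQR hRN hf
      (subpairLE_of_le hM hPe hQR hRP hle hleR)
  -- centralizers
  have hQA : Q ≤ A := hnorm.2.2.1
  have hcenA : Subgroup.centralizer (A : Set G) ≤ X :=
    (Subgroup.centralizer_le (by exact_mod_cast hQA)).trans hCX
  have hcenR : Subgroup.centralizer (R : Set G) ≤ X :=
    (Subgroup.centralizer_le (by exact_mod_cast hQR)).trans hCX
  -- going down
  obtain ⟨eA', hsigA, hblkA⟩ := exists_down (M := M) X A hAX hcenA eA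
  obtain ⟨eR', hsigR, hblkR⟩ := exists_down (M := M) X R hRX hcenR eR
  have hcenA' : Subgroup.centralizer
      ((((A.subgroupOf X).map X.subtype : Subgroup G)) : Set G) ≤ X := by
    rw [Subgroup.map_subgroupOf_eq_of_le hAX]
    exact hcenA
  have hcenR' : Subgroup.centralizer
      ((((R.subgroupOf X).map X.subtype : Subgroup G)) : Set G) ≤ X := by
    rw [Subgroup.map_subgroupOf_eq_of_le hRX]
    exact hcenR
  have hnormA' : NormalSubpairRel p M ⟨Q, f⟩ ⟨A, eA⟩ := hnorm
  rw [hsigA] at hnormA'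
  have hnormR' : NormalSubpairRel p M ⟨Q, f⟩ ⟨R, eR⟩ := hnormR
  rw [hsigR] at hnormR'
  have hAXpair : IsBrauerPairOf p M FX (A.subgroupOf X) eA' :=
    isBrauerPairOf_of_up X _ hcenA' hFX _ hFXc
      ⟨hnorm.2.1.1.comap_subtype, hblkA hnorm.2.1.2⟩ hnormA'.2.2.2.2.2
  have hRXpair : IsBrauerPairOf p M FX (R.subgroupOf X) eR' :=
    isBrauerPairOf_of_up X _ hcenR' hFX _ hFXc
      ⟨hnormR.2.1.1.comap_subtype, hblkR heR⟩ hnormR'.2.2.2.2.2
  -- maximality
  have hmaxX : IsMaximalBrauerPair p M FX (R.subgroupOf X) eR' := by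
    refine ⟨hRXpair, fun R₂ g₂ hR₂ hle₂ => ?_⟩
    have h1 : R.subgroupOf X ≤ R₂ := le_of_reflTransGen hle₂
    obtain ⟨Δ, hΔ, hR₂Δ⟩ := exists_isDefectGroup_ge_of_isBrauerPairOf hM hR₂
    have hloc := (local_defect hM X (Subgroup.centralizer (Q : Set G)) hCX hf hst hFX hFXc hΔ).2
    have hc1 := card_eq_of_isDefectGroup hM hf hloc hCdef
    rw [card_subgroupOf_of_le inf_le_right, card_subgroupOf_of_le inf_le_right] at hc1
    haveI : ((Subgroup.centralizer (Q : Set G)).subgroupOf X).Normal :=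
      (Subgroup.normal_subgroupOf_iff_le_normalizer hCX).mpr hXNC
    have hmapC : ((Subgroup.centralizer (Q : Set G)).subgroupOf X).map X.subtype =
        Subgroup.centralizer (Q : Set G) := Subgroup.map_subgroupOf_eq_of_le hCX
    have hΔcard := card_eq_inf_mul_relIndex ((Subgroup.centralizer (Q : Set G)).subgroupOf X) Δ
    have hRcard := card_eq_inf_mul_relIndex ((Subgroup.centralizer (Q : Set G)).subgroupOf X)
      (R.subgroupOf X)
    have e1 : Nat.card ↥(Δ ⊓ (Subgroup.centralizer (Q : Set G)).subgroupOf X) =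
        Nat.card ↥(P ⊓ Subgroup.centralizer (Q : Set G)) := by
      calc Nat.card ↥(Δ ⊓ (Subgroup.centralizer (Q : Set G)).subgroupOf X)
          = Nat.card ↥((Δ ⊓ (Subgroup.centralizer (Q : Set G)).subgroupOf X).map X.subtype) :=
            (Subgroup.card_map_of_injective X.subtype_injective).symm
        _ = Nat.card ↥(Δ.map X.subtype ⊓
              ((Subgroup.centralizer (Q : Set G)).subgroupOf X).map X.subtype) := by
            rw [Subgroup.map_inf_eq _ _ _ X.subtype_injective]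
        _ = Nat.card ↥(Δ.map X.subtype ⊓ Subgroup.centralizer (Q : Set G)) := by rw [hmapC]
        _ = _ := hc1
    have e2 : Nat.card ↥(R.subgroupOf X ⊓ (Subgroup.centralizer (Q : Set G)).subgroupOf X) =
        Nat.card ↥(P ⊓ Subgroup.centralizer (Q : Set G)) := by
      have e3 : P ⊓ Subgroup.centralizer (Q : Set G) =
          ((R.subgroupOf X ⊓ (Subgroup.centralizer (Q : Set G)).subgroupOf X)).map X.subtype := by
        rw [Subgroup.map_inf_eq _ _ _ X.subtype_injective, hmapC,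
          Subgroup.map_subgroupOf_eq_of_le hRX, hRdef, inf_assoc,
          inf_eq_right.mpr (Subgroup.centralizer_le_normalizer _)]
      rw [e3, Subgroup.card_map_of_injective X.subtype_injective]
    have e4 : ((Subgroup.centralizer (Q : Set G)).subgroupOf X).relIndex (R.subgroupOf X) =
        ((Subgroup.centralizer (Q : Set G)).subgroupOf X).index := by
      rw [← Subgroup.relIndex_sup_left, ← Subgroup.subgroupOf_sup hCX hRX, sup_comm, ← hXdef,
        Subgroup.subgroupOf_self, Subgroup.relIndex_top_right]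
    have e5 : ((Subgroup.centralizer (Q : Set G)).subgroupOf X).relIndex Δ ≤
        ((Subgroup.centralizer (Q : Set G)).subgroupOf X).index :=
      Nat.le_of_dvd (Nat.pos_of_ne_zero Subgroup.index_ne_zero_of_finite)
        (Subgroup.relIndex_dvd_index_of_normal _ _)
    have hle3 : Nat.card Δ ≤ Nat.card (R.subgroupOf X) := by
      rw [hΔcard, hRcard, e1, e2, e4]
      exact Nat.mul_le_mul_left _ e5
    exact (Subgroup.eq_of_le_of_card_ge h1 ((Subgroup.card_le_of_le hR₂Δ).trans hle3)).symm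
  -- conjugation inside `X`
  obtain ⟨u, hu⟩ := exists_conj_subpairLE hM hmaxX hAXpair
  have hcenAu := centralizer_map_conj_le X (A.subgroupOf X) hcenA' u
  have h1 := subpairLE_up X hcenAu hu
  have h2 := (conjRel_up X (A.subgroupOf X) hcenA' u eA').subpairLE_conjBlock_of h1
  have h3 : SubpairLE p M (A.map (MulAut.conj (u : G)).toMonoidHom) (conjBlock A (u : G) eA)
      R eR := by
    show Relation.ReflTransGen (NormalSubpairRel p M) (conjIdx (u : G) ⟨A, eA⟩) ⟨R, eR⟩
    rw [hsigA, hsigR]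
    exact h2
  -- decomposition of `u`
  have hu_mem : (u : G) ∈ R ⊔ Subgroup.centralizer (Q : Set G) := hXdef ▸ u.2
  have hRNC : R ≤ Subgroup.normalizer
      ((Subgroup.centralizer (Q : Set G) : Subgroup G) : Set G) := hRX.trans hXNC
  rw [← SetLike.mem_coe, Subgroup.coe_mul_of_left_le_normalizer_right R _ hRNC] at hu_mem
  obtain ⟨n, hn, c, hc, hnc⟩ := hu_mem
  refine ⟨c, hc, ?_⟩
  have hrelA := conjRel_conjBlock (u : G) A eA
  have hrelA2 := conjRel_conjBlock n⁻¹ (A.map (MulAut.conj (u : G)).toMonoidHom)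
    (conjBlock A (u : G) eA)
  have hcomp := hrelA.comp hrelA2
  have hnu : n⁻¹ * (u : G) = c := by
    rw [← hnc]
    group
  rw [hnu] at hcomp
  have h4 := hrelA2.subpairLE (conjRel_self_of_mem heR (R.inv_mem hn)) h3
  exact (hcomp.subpairLE_conjBlock_of h4).trans hleR

end mainlemma

section receptive

variable {G : Type u} [Group G] [Fintype G] {p : ℕ} {M : Ideal AlgInt}

theorem extender_le (S R₀ : Subgroup G) (φ : R₀ →* G) : extender S R₀ φ ≤ S :=
  (Subgroup.closure_le _).mpr (fun _ hy => hy.1)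

/-- The conjugate of the extender of `φ = c_g : R₀ → Q` lies in `N_P(Q) C_G(Q)`. -/
theorem extender_map_conj_le (P R₀ : Subgroup G) (φ : R₀ →* G) (g : G)
    (hg : ∀ u : R₀, φ u = g * (u : G) * g⁻¹) :
    (extender P R₀ φ).map (MulAut.conj g).toMonoidHom ≤
      (P ⊓ Subgroup.normalizer ((R₀.map (MulAut.conj g).toMonoidHom : Subgroup G) : Set G)) ⊔
        Subgroup.centralizer ((R₀.map (MulAut.conj g).toMonoidHom : Subgroup G) : Set G) := by
  rw [Subgroup.map_le_iff_le_comap]
  apply (Subgroup.closure_le _).mpr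
  rintro y ⟨-, hyN, h, hhP, hh⟩
  rw [SetLike.mem_coe, Subgroup.mem_comap]
  show g * y * g⁻¹ ∈ _
  have hy'N : g * y * g⁻¹ ∈ Subgroup.normalizer
      ((R₀.map (MulAut.conj g).toMonoidHom : Subgroup G) : Set G) :=
    (mem_normalizer_map_conj_iff R₀ g y).2 hyN
  have hc : h⁻¹ * (g * y * g⁻¹) ∈ Subgroup.centralizer
      ((R₀.map (MulAut.conj g).toMonoidHom : Subgroup G) : Set G) := by
    rw [Subgroup.mem_centralizer_iff]
    rintro _ ⟨x, hx, rfl⟩
    have hx' : y * x * y⁻¹ ∈ R₀ := (Subgroup.mem_normalizer_iff.mp hyN x).mp hx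
    have h1 := hh ⟨x, hx⟩ hx'
    rw [hg, hg] at h1
    simp only [MulEquiv.coe_toMonoidHom, MulAut.conj_apply]
    have h2 : g * (y * x * y⁻¹) * g⁻¹ = h * (g * x * g⁻¹) * h⁻¹ := h1
    have h3 : (g * y * g⁻¹) * (g * x * g⁻¹) = h * (g * x * g⁻¹) * h⁻¹ * (g * y * g⁻¹) := by
      rw [← h2]
      group
    calc g * x * g⁻¹ * (h⁻¹ * (g * y * g⁻¹))
        = h⁻¹ * (h * (g * x * g⁻¹) * h⁻¹ * (g * y * g⁻¹)) := by group
      _ = h⁻¹ * ((g * y * g⁻¹) * (g * x * g⁻¹)) := by rw [h3]
      _ = h⁻¹ * (g * y * g⁻¹) * (g * x * g⁻¹) := by group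
  have hhN : h ∈ Subgroup.normalizer
      ((R₀.map (MulAut.conj g).toMonoidHom : Subgroup G) : Set G) := by
    have h4 := Subgroup.mul_mem _ hy'N
      (Subgroup.inv_mem _ (Subgroup.centralizer_le_normalizer _ hc))
    have e : g * y * g⁻¹ * (h⁻¹ * (g * y * g⁻¹))⁻¹ = h := by group
    rwa [e] at h4
  have e : g * y * g⁻¹ = h * (h⁻¹ * (g * y * g⁻¹)) := by group
  rw [e]
  exact Subgroup.mul_mem _ (Subgroup.mem_sup_left (Subgroup.mem_inf.mpr ⟨hhP, hhN⟩))
    (Subgroup.mem_sup_right hc)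

/-- **Fully centralized subgroups are receptive.** -/
theorem isReceptive_of_isFullyCentralized [Fact p.Prime] (hM : IsPModular p M)
    {B : Set (IrrCharacter G)} {P : Subgroup G}
    {e : Set (IrrCharacter (Subgroup.centralizer (P : Set G)))}
    {F : FusionSystem P} (hF : IsBlockFusionSystemOn p M B P e F)
    {Q : Subgroup G} (hfc : F.IsFullyCentralized Q) : F.IsReceptive Q := by
  classical
  haveI hpr := isPrime_of_isPModular hM
  have hPe : IsBrauerPair p M P e := hF.1.1.1
  have hQP : Q ≤ P := hfc.1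
  refine ⟨hQP, fun R₀ φ hφ hr => ?_⟩
  obtain ⟨hR₀P, g, hg, hgP, f₀, hle₀, hle₀'⟩ := (hF.2 R₀ φ).1 hφ
  have hQeq : Q = R₀.map (MulAut.conj g).toMonoidHom := by
    rw [← hr]
    exact range_eq_map_of_conj hg
  subst hQeq
  have hf₀ : IsPBlock M f₀ := isPBlock_of_subpairLE_left hPe.2 hle₀
  have hR₀ : IsPGroup p R₀ := hPe.1.to_le hR₀P
  have hf : IsPBlock M (conjBlock R₀ g f₀) := (isBrauerPair_conjBlock g ⟨hR₀, hf₀⟩).2
  have hCdef := (isFullyCentralized_iff hM hF hQP hf hle₀').1 hfc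
  -- the extender and its pair
  obtain ⟨N, hNdef⟩ : ∃ N : Subgroup G, N = extender P R₀ φ := ⟨_, rfl⟩
  have hNP : N ≤ P := hNdef ▸ extender_le P R₀ φ
  have hR₀N : R₀ ≤ N := hNdef ▸ Cfsg.Agent.Helper84.le_extender F hφ
  obtain ⟨fN, hfN, hleN⟩ := exists_subpairLE hM _ P N e hPe hNP rfl
  have hle₁ : SubpairLE p M R₀ f₀ N fN := subpairLE_of_le hM hPe hR₀N hNP hle₀ hleN
  have hle₂ := subpairLE_conjBlock (p := p) (M := M) g hle₁
  have hAX := extender_map_conj_le P R₀ φ g hg
  rw [← hNdef] at hAX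
  have hAe : IsBrauerPair p M (N.map (MulAut.conj g).toMonoidHom) (conjBlock N g fN) :=
    isBrauerPair_conjBlock g ⟨hPe.1.to_le hNP, hfN⟩
  have hXN : (P ⊓ Subgroup.normalizer
      ((R₀.map (MulAut.conj g).toMonoidHom : Subgroup G) : Set G)) ⊔
      Subgroup.centralizer ((R₀.map (MulAut.conj g).toMonoidHom : Subgroup G) : Set G) ≤
      Subgroup.normalizer ((R₀.map (MulAut.conj g).toMonoidHom : Subgroup G) : Set G) :=
    sup_le inf_le_right (Subgroup.centralizer_le_normalizer _)
  have hnorm : IsNormalSubpair p M (R₀.map (MulAut.conj g).toMonoidHom) (conjBlock R₀ g f₀)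
      (N.map (MulAut.conj g).toMonoidHom) (conjBlock N g fN) :=
    isNormalSubpair_of_subpairLE hM hAe (Subgroup.map_mono hR₀N) (hAX.trans hXN) hf hle₂
  obtain ⟨c, hc, hmain⟩ := exists_centralizer_conj_subpairLE hM hPe hQP hf hle₀' hCdef hAX hnorm
  have hcomp := (conjRel_conjBlock g N fN).comp
    (conjRel_conjBlock c (N.map (MulAut.conj g).toMonoidHom) (conjBlock N g fN))
  have hfin := hcomp.subpairLE_conjBlock_of hmain
  have hψ : conjHom N (c * g) ∈ F.Hom N :=
    (hF.2 N _).2 ⟨hNP, c * g, fun _ => rfl, le_of_reflTransGen hfin, fN, hleN, hfin⟩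
  rw [hNdef] at hψ
  refine ⟨_, hψ, fun x hxR hxN => ?_⟩
  show c * g * x * (c * g)⁻¹ = φ ⟨x, hxR⟩
  rw [hg]
  have hcx : (g * x * g⁻¹) * c = c * (g * x * g⁻¹) :=
    (Subgroup.mem_centralizer_iff.mp hc) _ ⟨x, hxR, by simp [MulAut.conj_apply]⟩
  calc c * g * x * (c * g)⁻¹ = c * (g * x * g⁻¹) * c⁻¹ := by group
    _ = (g * x * g⁻¹) * c * c⁻¹ := by rw [hcx]
    _ = g * x * g⁻¹ := by group

/-- **S4677**: the fusion system of a block is saturated. -/
theorem isSaturated_of_isBlockFusionSystemOn [Fact p.Prime] (hM : IsPModular p M)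
    {B : Set (IrrCharacter G)} {P : Subgroup G}
    {e : Set (IrrCharacter (Subgroup.centralizer (P : Set G)))}
    {F : FusionSystem P} (hF : IsBlockFusionSystemOn p M B P e F) : F.IsSaturated p := by
  have hPe : IsBrauerPair p M P e := hF.1.1.1
  haveI : Finite P := inferInstance
  rw [Cfsg.Agent.Helper84.saturated_iff_axioms F hPe.1]
  exact ⟨fun Q hQ => ⟨isFullyCentralized_of_isFullyNormalized hM hF hQ,
    isFullyAutomized_of_isFullyNormalized hM hF hQ⟩,
    fun Q hQ => isReceptive_of_isFullyCentralized hM hF hQ⟩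

end receptive

end Cfsg.Agent.Helper77
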