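import Mathlib
import Cfsg.Agent.Lib.Helper77.FusSaturatedB

/-!
# A centric Brauer pair normalized by the whole group (S4693).
-/

set_option autoImplicit false
set_option linter.unusedSectionVars false
set_option linter.style.haveILetI false

namespace Cfsg.Agent.Helper77

open Cfsg Cfsg.Agent.Helper79 Cfsg.FusionSystem

universe u

section centricnormal

variable {G : Type u} [Group G] [Fintype G] {p : ℕ} {M : Ideal AlgInt}

/-- Order bound for the defect groups of the block of `X = R C` sharing the idempotent of `f`. -/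
theorem card_defectGroup_le_of_sup [Fact p.Prime] (hM : IsPModular p M) {X R C : Subgroup G}
    (hXdef : X = R ⊔ C) (hXNC : X ≤ Subgroup.normalizer (C : Set G))
    {f : Set (IrrCharacter C)} (hf : IsPBlock M f)
    (hst : ∀ h ∈ X, StabilizesBlock C f h)
    {FX : Set (IrrCharacter X)} (hFX : IsPBlock M FX)
    (hFXc : ∀ t : X, blockCoeff FX t = subgroupBlockCoeff C f (t : G))
    (hdef : IsDefectGroup p M f ((R ⊓ C).subgroupOf C))
    {Δ : Subgroup X} (hΔ : IsDefectGroup p M FX Δ) :
    Nat.card Δ ≤ Nat.card (R.subgroupOf X) := by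
  classical
  haveI : Fintype X := Fintype.ofFinite _
  haveI : Fintype C := Fintype.ofFinite _
  have hCX : C ≤ X := hXdef ▸ le_sup_right
  have hRX : R ≤ X := hXdef ▸ le_sup_left
  have hloc := (local_defect hM X C hCX hf hst hFX hFXc hΔ).2
  have hc1 := card_eq_of_isDefectGroup hM hf hloc hdef
  rw [card_subgroupOf_of_le inf_le_right, card_subgroupOf_of_le inf_le_right] at hc1
  haveI : (C.subgroupOf X).Normal :=
    (Subgroup.normal_subgroupOf_iff_le_normalizer hCX).mpr hXNC
  have hmapC : (C.subgroupOf X).map X.subtype = C := Subgroup.map_subgroupOf_eq_of_le hCX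
  have hΔcard := card_eq_inf_mul_relIndex (C.subgroupOf X) Δ
  have hRcard := card_eq_inf_mul_relIndex (C.subgroupOf X) (R.subgroupOf X)
  have e1 : Nat.card ↥(Δ ⊓ C.subgroupOf X) = Nat.card ↥(R ⊓ C) := by
    calc Nat.card ↥(Δ ⊓ C.subgroupOf X)
        = Nat.card ↥((Δ ⊓ C.subgroupOf X).map X.subtype) :=
          (Subgroup.card_map_of_injective X.subtype_injective).symm
      _ = Nat.card ↥(Δ.map X.subtype ⊓ (C.subgroupOf X).map X.subtype) := by
          rw [Subgroup.map_inf_eq _ _ _ X.subtype_injective]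
      _ = Nat.card ↥(Δ.map X.subtype ⊓ C) := by rw [hmapC]
      _ = _ := hc1
  have e2 : Nat.card ↥(R.subgroupOf X ⊓ C.subgroupOf X) = Nat.card ↥(R ⊓ C) := by
    have e3 : R ⊓ C = ((R.subgroupOf X ⊓ C.subgroupOf X)).map X.subtype := by
      rw [Subgroup.map_inf_eq _ _ _ X.subtype_injective, hmapC,
        Subgroup.map_subgroupOf_eq_of_le hRX]
    rw [e3, Subgroup.card_map_of_injective X.subtype_injective]
  have e4 : (C.subgroupOf X).relIndex (R.subgroupOf X) = (C.subgroupOf X).index := by
    rw [← Subgroup.relIndex_sup_left, ← Subgroup.subgroupOf_sup hCX hRX, sup_comm, ← hXdef,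
      Subgroup.subgroupOf_self, Subgroup.relIndex_top_right]
  have e5 : (C.subgroupOf X).relIndex Δ ≤ (C.subgroupOf X).index :=
    Nat.le_of_dvd (Nat.pos_of_ne_zero Subgroup.index_ne_zero_of_finite)
      (Subgroup.relIndex_dvd_index_of_normal _ _)
  rw [hΔcard, hRcard, e1, e2, e4]
  exact Nat.mul_le_mul_left _ e5

/-- A stable block of a normal subgroup supporting all block idempotents of `G` is a block
idempotent of `G`. -/
theorem exists_block_of_stable_normal_top [Fact p.Prime] (hM : IsPModular p M) (N : Subgroup G)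
    [hN : N.Normal] {c : Set (IrrCharacter N)} (hc : IsPBlock M c)
    (hst : ∀ x : G, StabilizesBlock N c x)
    (hsupp : ∀ B : Set (IrrCharacter G), IsPBlock M B → ∀ g : G, g ∉ N → blockCoeff B g = 0) :
    ∃ B : Set (IrrCharacter G), IsPBlock M B ∧
      ∀ g : G, blockCoeff B g = subgroupBlockCoeff N c g := by
  classical
  haveI hpr := isPrime_of_isPModular hM
  haveI : Fintype (⊤ : Subgroup G) := Fintype.ofFinite _
  haveI : Fintype N := Fintype.ofFinite _
  have hTN : (⊤ : Subgroup G) ≤ Subgroup.normalizer (N : Set G) := by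
    rw [Subgroup.normalizer_eq_top]
  have hstab : IsStableSet N ⊤ hTN c := fun x hx =>
    (stabilizesBlock_iff_conjSet_eq N x (hTN hx) hc).mp (hst x)
  obtain ⟨F, hF, hFc⟩ := exists_block_of_stable_normal (le_top : N ≤ ⊤) hTN hc hstab
    (fun F hF t ht => by
      have h1 := hsupp (mapSet (Subgroup.topEquiv : (⊤ : Subgroup G) ≃* G) F)
        (isPBlock_mapSet _ hF) (t : G) ht
      rw [blockCoeff_mapSet] at h1
      exact h1)
  refine ⟨mapSet (Subgroup.topEquiv : (⊤ : Subgroup G) ≃* G) F, isPBlock_mapSet _ hF, fun g => ?_⟩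
  rw [blockCoeff_mapSet, hFc]
  rfl

/-- **S4693**. -/
theorem centric_normal_pair [Fact p.Prime] (hM : IsPModular p M)
    {B : Set (IrrCharacter G)} {P : Subgroup G}
    {e : Set (IrrCharacter (Subgroup.centralizer (P : Set G)))}
    (hmax : IsMaximalBrauerPair p M B P e)
    {F : FusionSystem P} (hF : IsBlockFusionSystemOn p M B P e F)
    {Q : Subgroup G} {f : Set (IrrCharacter (Subgroup.centralizer (Q : Set G)))}
    (hQP : Q ≤ P) (hf : IsPBlock M f) (hle : SubpairLE p M Q f P e) (hcen : F.IsCentric Q)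
    (hG : ∀ x : G, x ∈ Subgroup.normalizer (Q : Set G) ∧
      StabilizesBlock (Subgroup.centralizer (Q : Set G)) f x) :
    (∀ g : G, MemLocalIdeal M (blockCoeff B g -
        subgroupBlockCoeff (Subgroup.centralizer (Q : Set G)) f g)) ∧
      ∃ F' : Set (IrrCharacter ↥(Q ⊔ Subgroup.centralizer (Q : Set G))), IsPBlock M F' ∧
        (∀ t : ↥(Q ⊔ Subgroup.centralizer (Q : Set G)), blockCoeff F' t =
          subgroupBlockCoeff (Subgroup.centralizer (Q : Set G)) f (t : G)) ∧
        IsNilpotentBlock p M F' := by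
  classical
  haveI hpr := isPrime_of_isPModular hM
  have hp : p.Prime := Fact.out
  have hPe : IsBrauerPair p M P e := hmax.1.1
  have hB : IsPBlock M B := hmax.1.2.1
  have hQ : IsPGroup p Q := hPe.1.to_le hQP
  haveI hQn : Q.Normal :=
    Subgroup.normalizer_eq_top_iff.mp (eq_top_iff.mpr fun x _ => (hG x).1)
  haveI hCn : (Subgroup.centralizer (Q : Set G)).Normal := inferInstance
  haveI : Fintype (Subgroup.centralizer (Q : Set G)) := Fintype.ofFinite _
  have hsuppAll : ∀ B' : Set (IrrCharacter G), IsPBlock M B' → ∀ g : G,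
      g ∉ Subgroup.centralizer (Q : Set G) → blockCoeff B' g = 0 :=
    fun B' hB' g hg => Cfsg.Agent.S4653.result p M hM Q hQ B' hB' g hg
  have hQf : IsBrauerPairOf p M B Q f :=
    (isBrauerPairOf_iff_of_subpairLE hM P Q e f hPe ⟨hQ, hf⟩ hle B hB).mp hmax.1
  constructor
  · obtain ⟨B', hB', hB'c⟩ := exists_block_of_stable_normal_top hM
      (Subgroup.centralizer (Q : Set G)) hf (fun x => (hG x).2) hsuppAll
    obtain ⟨ξ, hξ⟩ := nonempty_of_isPBlock hf
    obtain ⟨χ, hχ⟩ := Cfsg.Agent.Helper16.exists_lying_over (Subgroup.centralizer (Q : Set G)) ξ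
    have hrestrB' : restr (Subgroup.centralizer (Q : Set G)) (blockCoeff B') = blockCoeff f := by
      funext n
      show blockCoeff B' (n : G) = _
      rw [hB'c, subgroupBlockCoeff_eq_extZ, extZ_of_mem]
    have hχB' : χ ∈ B' := by
      have h1 := omega_eq_of_constituent _ χ ξ hχ (isClassFunction_blockCoeff B')
        (hsuppAll B' hB')
      rw [hrestrB', omega_blockCoeff, omega_blockCoeff, if_pos hξ] at h1
      by_contra hcon
      rw [if_neg hcon] at h1
      exact zero_ne_one h1
    have hχB : χ ∈ B := by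
      have h1 := omega_eq_of_constituent _ χ ξ hχ (isClassFunction_blockCoeff B)
        (hsuppAll B hB)
      have h2 := hQf.2.2 ξ hξ
      rw [brauerOmega_eq_omega] at h2
      have h3 : omega (ξ : _ → ℂ) (fun x : Subgroup.centralizer (Q : Set G) =>
          blockCoeff B x) = omega (χ : G → ℂ) (blockCoeff B) := h1.symm
      rw [h3, omega_blockCoeff] at h2
      by_contra hcon
      rw [if_neg hcon, zero_sub] at h2
      have h4 := memLocalIdeal_neg h2
      rw [neg_neg] at h4
      exact not_memLocalIdeal_one h4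
    have hBB' : B = B' := by
      rw [eq_blockOf_of_mem hB hχB, eq_blockOf_of_mem hB' hχB']
    intro g
    rw [hBB', hB'c, sub_self]
    exact memLocalIdeal_zero hpr.ne_top
  · obtain ⟨L, hLdef⟩ : ∃ L : Subgroup G, L = Q ⊔ Subgroup.centralizer (Q : Set G) := ⟨_, rfl⟩
    rw [← hLdef]
    have hT := mem_pairStab_iff (M := M) hf
    have hCL : Subgroup.centralizer (Q : Set G) ≤ L := hLdef ▸ le_sup_right
    have hQL : Q ≤ L := hLdef ▸ le_sup_left
    have hLN : L ≤ Subgroup.normalizer (Q : Set G) := fun x _ => (hG x).1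
    have hLNC : L ≤ Subgroup.normalizer
        ((Subgroup.centralizer (Q : Set G) : Subgroup G) : Set G) :=
      hLN.trans (normalizer_le_normalizer_centralizer Q)
    have hst : ∀ h ∈ L, StabilizesBlock (Subgroup.centralizer (Q : Set G)) f h :=
      fun h _ => (hG h).2
    haveI : Fintype L := Fintype.ofFinite _
    obtain ⟨F', hF', hF'c⟩ := exists_block_of_stable_normal hCL hLNC hf
      (fun y hy => (stabilizesBlock_iff_conjSet_eq _ y _ hf).mp (hst y hy))
      (fun F hF t ht => blockCoeff_eq_zero_of_hT hM hQ hQL hLN hF t ht)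
    refine ⟨F', hF', hF'c, hF', ?_⟩
    intro R' h' hpair x hxN hxst hxreg
    -- defect groups of `F'` equal `Q`
    obtain ⟨Δ, hΔ, hR'Δ⟩ := exists_isDefectGroup_ge_of_isBrauerPairOf hM hpair
    have hZdef := (isCentric_iff hM hF hQP hf hle).1 hcen
    have hcard := card_defectGroup_le_of_sup hM hLdef hLNC hf hst hF' hF'c hZdef hΔ
    haveI : (Q.subgroupOf L).Normal := Subgroup.normal_subgroupOf
    have hQΔ : Q.subgroupOf L ≤ Δ :=
      normal_le_of_isDefectGroup hM hF' hΔ (Q.subgroupOf L) hQ.comap_subtype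
    have hΔQ : Q.subgroupOf L = Δ := Subgroup.eq_of_le_of_card_ge hQΔ hcard
    -- `p`-regular elements of `L` centralize `Q`
    haveI hC'n : ((Subgroup.centralizer (Q : Set G)).subgroupOf L).Normal :=
      Subgroup.normal_subgroupOf
    have hidx : ∃ k, ((Subgroup.centralizer (Q : Set G)).subgroupOf L).index = p ^ k := by
      have e4 : ((Subgroup.centralizer (Q : Set G)).subgroupOf L).relIndex (Q.subgroupOf L) =
          ((Subgroup.centralizer (Q : Set G)).subgroupOf L).index := by
        rw [← Subgroup.relIndex_sup_left, ← Subgroup.subgroupOf_sup hCL hQL, sup_comm, ← hLdef,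
          Subgroup.subgroupOf_self, Subgroup.relIndex_top_right]
      have h1 := card_eq_inf_mul_relIndex ((Subgroup.centralizer (Q : Set G)).subgroupOf L)
        (Q.subgroupOf L)
      rw [e4] at h1
      obtain ⟨n, hn⟩ := IsPGroup.iff_card.mp (hQ.comap_subtype (K := L))
      have hdvd : ((Subgroup.centralizer (Q : Set G)).subgroupOf L).index ∣ p ^ n := by
        have : Nat.card ↥(Q.subgroupOf L) = p ^ n := hn
        rw [← this, h1]
        exact Dvd.intro_left _ rfl
      obtain ⟨k, -, hk⟩ := (Nat.dvd_prime_pow hp).1 hdvd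
      exact ⟨k, hk⟩
    obtain ⟨k, hk⟩ := hidx
    have hxC : x ∈ (Subgroup.centralizer (Q : Set G)).subgroupOf L := by
      rw [← QuotientGroup.eq_one_iff, ← orderOf_eq_one_iff]
      have hd1 : orderOf ((x : L ⧸ (Subgroup.centralizer (Q : Set G)).subgroupOf L)) ∣ orderOf x :=
        orderOf_map_dvd (QuotientGroup.mk' _) x
      have hd2 : orderOf ((x : L ⧸ (Subgroup.centralizer (Q : Set G)).subgroupOf L)) ∣ p ^ k := by
        rw [← hk, Subgroup.index_eq_card]
        exact orderOf_dvd_natCard _
      have hcop : (orderOf x).Coprime (p ^ k) :=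
        Nat.Coprime.pow_right k ((Nat.Prime.coprime_iff_not_dvd hp).mpr hxreg).symm
      exact Nat.eq_one_of_dvd_coprimes hcop hd1 hd2
    rw [Subgroup.mem_centralizer_iff]
    intro r hr
    have hrQ : (r : G) ∈ Q := by
      have := hR'Δ hr
      rw [← hΔQ] at this
      exact Subgroup.mem_subgroupOf.mp this
    have hxc : (x : G) ∈ Subgroup.centralizer (Q : Set G) := Subgroup.mem_subgroupOf.mp hxC
    apply Subtype.ext
    rw [Subgroup.coe_mul, Subgroup.coe_mul]
    exact (Subgroup.mem_centralizer_iff.mp hxc) r hrQ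

end centricnormal

end Cfsg.Agent.Helper77
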