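import Mathlib
import Cfsg.Agent.Lib.Helper77.CentricNormal

/-!
# Defect groups of blocks induced from `P C_G(P)` (S4437).
-/

set_option autoImplicit false
set_option linter.unusedSectionVars false
set_option linter.style.haveILetI false

namespace Cfsg.Agent.Helper77

open Cfsg Cfsg.Agent.Helper79

universe u

section transport2

variable {A A' : Type u} [Group A] [Group A'] [Fintype A] [Fintype A']

theorem omega_mapIrr (φ : A ≃* A') (χ : IrrCharacter A) (a : A' → ℂ) :
    omega (mapIrr φ χ : A' → ℂ) a = omega (χ : A → ℂ) (fun x => a (φ x)) := by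
  unfold omega
  rw [mapIrr_coe, map_one]
  congr 1
  rw [← Equiv.sum_comp φ.toEquiv]
  refine Finset.sum_congr rfl fun x _ => ?_
  rw [mapIrr_coe]
  simp

theorem blockCoeff_injective {B B' : Set (IrrCharacter A)} (h : blockCoeff B = blockCoeff B') :
    B = B' := by
  classical
  ext χ
  have h1 := omega_blockCoeff B χ
  have h2 := omega_blockCoeff B' χ
  rw [h] at h1
  rw [h1] at h2
  by_cases hχ : χ ∈ B <;> by_cases hχ' : χ ∈ B'
  · exact ⟨fun _ => hχ', fun _ => hχ⟩
  · rw [if_pos hχ, if_neg hχ'] at h2
    exact absurd h2 one_ne_zero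
  · rw [if_neg hχ, if_pos hχ'] at h2
    exact absurd h2 zero_ne_one
  · exact ⟨fun h => absurd h hχ, fun h => absurd h hχ'⟩

end transport2

section down

variable {G : Type u} [Group G] [Fintype G] {M : Ideal AlgInt} [hp : M.IsPrime]

/-- Going down: if all blocks of `C ⊴ T` are `T`-stable and all block idempotents of `T` are
supported on `C`, then every block idempotent of `T` is a block idempotent of `C`. -/
theorem exists_block_down {T C : Subgroup G} [Fintype T] [Fintype C] (hCT : C ≤ T)
    (hTN : T ≤ Subgroup.normalizer (C : Set G))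
    (hstall : ∀ f : Set (IrrCharacter C), IsPBlock M f → IsStableSet C T hTN f)
    (hsupp : ∀ F : Set (IrrCharacter T), IsPBlock M F → ∀ t : T, (t : G) ∉ C →
      blockCoeff F t = 0)
    {F : Set (IrrCharacter T)} (hF : IsPBlock M F) :
    ∃ f : Set (IrrCharacter C), IsPBlock M f ∧
      ∀ t : T, blockCoeff F t = subgroupBlockCoeff C f (t : G) := by
  classical
  have hv_cl := isClassFunction_blockCoeff F
  have hvR := isRValued_blockCoeff hF
  have hsv : ∀ g, g ∉ C → extZ T (blockCoeff F) g = 0 := by
    intro g hg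
    by_cases hgT : g ∈ T
    · rw [extZ_of_mem' T _ hgT]
      exact hsupp F hF ⟨g, hgT⟩ hg
    · exact extZ_of_notMem _ _ hgT
  have ha_cl : IsClassFunction C (restr C (extZ T (blockCoeff F))) :=
    isClassFunction_restr C (fun w hw x => extZ_conj_of_class T hv_cl w (hCT hw) x)
  have haR : IsRValued M (restr C (extZ T (blockCoeff F))) :=
    isRValued_restr C (isRValued_extZ T hvR)
  have haidem : conv (restr C (extZ T (blockCoeff F))) (restr C (extZ T (blockCoeff F))) =
      restr C (extZ T (blockCoeff F)) := by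
    rw [restr_conv_of_support C hsv hsv, conv_extZ, conv_blockCoeff_self]
  have hane : restr C (extZ T (blockCoeff F)) ≠ 0 := by
    intro h0
    apply blockCoeff_ne_zero hF
    apply extZ_injective T
    rw [← extZ_restr_of_support hsv, h0, extZ_zero, extZ_zero]
  obtain ⟨f, hf, hfa⟩ := exists_block_le_of_idem ha_cl haR haidem hane
  obtain ⟨F', hF', hF'f⟩ := exists_block_of_stable_normal hCT hTN hf (hstall f hf) hsupp
  have h1 : extZ T (blockCoeff F') = extZ C (blockCoeff f) := by
    funext g
    by_cases hgT : g ∈ T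
    · rw [extZ_of_mem' T _ hgT, hF'f, subgroupBlockCoeff_eq_extZ]
    · rw [extZ_of_notMem _ _ hgT, extZ_of_notMem _ _ (fun h => hgT (hCT h))]
  have h2 : extZ C (restr C (extZ T (blockCoeff F))) = extZ T (blockCoeff F) :=
    extZ_restr_of_support hsv
  have hFF' : F' = F := by
    by_contra hne
    have h3 : conv (extZ T (blockCoeff F')) (extZ T (blockCoeff F)) = 0 := by
      rw [conv_extZ, conv_blockCoeff_of_disjoint (disjoint_of_isPBlock_of_ne hF' hF hne),
        extZ_zero]
    rw [h1, ← h2, conv_extZ, hfa] at h3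
    apply blockCoeff_ne_zero hf
    apply extZ_injective C
    rw [h3, extZ_zero]
  subst hFF'
  exact ⟨f, hf, hF'f⟩

theorem conjSet_eq_iff_subgroupBlockCoeff (K : Subgroup G) [Fintype K] (x : G)
    (hx : x ∈ Subgroup.normalizer (K : Set G)) (f : Set (IrrCharacter K)) :
    conjSet K x hx f = f ↔
      ∀ g : G, subgroupBlockCoeff K f (x⁻¹ * g * x) = subgroupBlockCoeff K f g := by
  constructor
  · intro h g
    rw [← subgroupBlockCoeff_conjSet K x hx f g, h]
  · intro h
    apply blockCoeff_injective
    apply extZ_injective K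
    funext g
    rw [← subgroupBlockCoeff_eq_extZ, ← subgroupBlockCoeff_eq_extZ, subgroupBlockCoeff_conjSet]
    exact h g

theorem stabilizesBlock_iff_of_subgroupBlockCoeff_eq {K₁ K₂ : Subgroup G} [Fintype K₁]
    [Fintype K₂] {f₁ : Set (IrrCharacter K₁)} {f₂ : Set (IrrCharacter K₂)}
    (hf₁ : IsPBlock M f₁) (hf₂ : IsPBlock M f₂)
    (h : subgroupBlockCoeff K₁ f₁ = subgroupBlockCoeff K₂ f₂) {x : G}
    (hx₁ : x ∈ Subgroup.normalizer (K₁ : Set G)) (hx₂ : x ∈ Subgroup.normalizer (K₂ : Set G)) :
    StabilizesBlock K₁ f₁ x ↔ StabilizesBlock K₂ f₂ x := by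
  rw [stabilizesBlock_iff_conjSet_eq K₁ x hx₁ hf₁, stabilizesBlock_iff_conjSet_eq K₂ x hx₂ hf₂,
    conjSet_eq_iff_subgroupBlockCoeff, conjSet_eq_iff_subgroupBlockCoeff, h]

theorem stabilizesBlock_iff_forall (K : Subgroup G) (f : Set (IrrCharacter K)) (g : G)
    (hg : g ∈ Subgroup.normalizer (K : Set G)) :
    StabilizesBlock K f g ↔ ∀ θ ∈ f, ∀ θ' : IrrCharacter K,
      (∀ h h' : K, (h' : G) = g * (h : G) * g⁻¹ → (θ' : K → ℂ) h' = (θ : K → ℂ) h) → θ' ∈ f := by
  constructor
  · rintro ⟨-, h2⟩ θ hθ θ' hc
    obtain ⟨χ', hχ', hc'⟩ := h2 θ hθ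
    have e1 : (θ' : K → ℂ) = conjFun K g hg θ.1 := eq_conjFun_of_isConjCharOf K g hg hc
    have e2 : (χ' : K → ℂ) = conjFun K g hg θ.1 := eq_conjFun_of_isConjCharOf K g hg hc'
    have : θ' = χ' := Subtype.ext (e1.trans e2.symm)
    rw [this]
    exact hχ'
  · intro h
    refine ⟨hg, fun χ hχ => ⟨conjIrr K g hg χ, h χ hχ _ ?_, ?_⟩⟩
    · exact isConjCharOf_conjFun K g hg χ.1
    · exact isConjCharOf_conjFun K g hg χ.1

end down

section main

variable {G : Type u} [Group G] [Fintype G] {p : ℕ} {M : Ideal AlgInt}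

/-- Every block of `C_G(P)` is stable under `P C_G(P)`. -/
theorem isStableSet_sup_centralizer (P H : Subgroup G)
    (hH : H = P ⊔ Subgroup.centralizer (P : Set G))
    (hHNC : H ≤ Subgroup.normalizer ((Subgroup.centralizer (P : Set G) : Subgroup G) : Set G))
    (f : Set (IrrCharacter (Subgroup.centralizer (P : Set G)))) :
    IsStableSet (Subgroup.centralizer (P : Set G)) H hHNC f := by
  haveI : Fintype (Subgroup.centralizer (P : Set G)) := Fintype.ofFinite _
  apply isStableSet_of_le_stabSub
  rw [hH]
  exact sup_le ((le_centralizer_centralizer' P).trans (centralizer_le_stabSub _ f))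
    (le_stabSub _ f)

/-- The pair `(P, e)` attached to a block `b` of `P C_G(P)` inducing `B` is a `B`-Brauer pair. -/
theorem isBrauerPairOf_of_isInducedBlock [Fact p.Prime] (hM : IsPModular p M) (P : Subgroup G)
    (hP : IsPGroup p P) (H : Subgroup G) [Fintype H]
    (hPH : P ≤ H) (hCH : Subgroup.centralizer (P : Set G) ≤ H)
    (hHN : H ≤ Subgroup.normalizer (P : Set G))
    {b : Set (IrrCharacter H)} (hb : IsPBlock M b)
    {B : Set (IrrCharacter G)} (hind : IsInducedBlock M H b B)
    {e : Set (IrrCharacter (Subgroup.centralizer (P : Set G)))} (he : IsPBlock M e)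
    (hbe : ∀ t : H, blockCoeff b t =
      subgroupBlockCoeff (Subgroup.centralizer (P : Set G)) e (t : G)) :
    IsBrauerPairOf p M B P e := by
  classical
  haveI hpr := isPrime_of_isPModular hM
  haveI : Fintype (Subgroup.centralizer (P : Set G)) := Fintype.ofFinite _
  have hNC := normalizer_le_normalizer_centralizer P
  refine ⟨⟨hP, he⟩, hind.2.1, fun ξ hξ => ?_⟩
  rw [brauerOmega_eq_omega]
  haveI : ((Subgroup.centralizer (P : Set G)).subgroupOf H).Normal :=
    (Subgroup.normal_subgroupOf_iff_le_normalizer hCH).mpr (hHN.trans hNC)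
  haveI : Fintype ((Subgroup.centralizer (P : Set G)).subgroupOf H) := Fintype.ofFinite _
  obtain ⟨φ, hφdef⟩ : ∃ φ : (Subgroup.centralizer (P : Set G)).subgroupOf H ≃*
      Subgroup.centralizer (P : Set G), φ = Subgroup.subgroupOfEquivOfLe hCH := ⟨_, rfl⟩
  have hφc : ∀ x : Subgroup.centralizer (P : Set G), (((φ.symm x :
      (Subgroup.centralizer (P : Set G)).subgroupOf H) : H) : G) = (x : G) := by
    intro x
    rw [hφdef]
    rfl
  obtain ⟨θ, hθ⟩ := Cfsg.Agent.Helper16.exists_lying_over
    ((Subgroup.centralizer (P : Set G)).subgroupOf H) (mapIrr φ.symm ξ)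
  have hsuppb : ∀ h : H, h ∉ (Subgroup.centralizer (P : Set G)).subgroupOf H →
      blockCoeff b h = 0 := fun h hh =>
    blockCoeff_eq_zero_of_hT hM hP hPH hHN hb h (fun hc => hh (Subgroup.mem_subgroupOf.mpr hc))
  have hθb : θ ∈ b := by
    have h1 := omega_eq_of_constituent ((Subgroup.centralizer (P : Set G)).subgroupOf H) θ
      (mapIrr φ.symm ξ) hθ (isClassFunction_blockCoeff b) hsuppb
    rw [omega_mapIrr] at h1
    have h2 : (fun x : Subgroup.centralizer (P : Set G) =>
        restr ((Subgroup.centralizer (P : Set G)).subgroupOf H) (blockCoeff b) (φ.symm x)) =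
        blockCoeff e := by
      funext x
      show blockCoeff b ((φ.symm x : (Subgroup.centralizer (P : Set G)).subgroupOf H) : H) = _
      rw [hbe, hφc, subgroupBlockCoeff_eq_extZ, extZ_of_mem]
    rw [h2, omega_blockCoeff, omega_blockCoeff, if_pos hξ] at h1
    by_contra hcon
    rw [if_neg hcon] at h1
    exact zero_ne_one h1
  have h3 := omega_cutC_of_isInducedBlock_gen hM P H hP hPH hHN hind hθb
  have hsuppa : ∀ h : H, h ∉ (Subgroup.centralizer (P : Set G)).subgroupOf H →
      cutC P H (blockCoeff B) h = 0 := fun h hh =>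
    cutC_of_notMem _ _ _ (fun hc => hh (Subgroup.mem_subgroupOf.mpr hc))
  have h4 := omega_eq_of_constituent ((Subgroup.centralizer (P : Set G)).subgroupOf H) θ
    (mapIrr φ.symm ξ) hθ (isClassFunction_cutC_blockCoeff_gen hHN B) hsuppa
  rw [omega_mapIrr] at h4
  have h5 : (fun x : Subgroup.centralizer (P : Set G) =>
      restr ((Subgroup.centralizer (P : Set G)).subgroupOf H) (cutC P H (blockCoeff B))
        (φ.symm x)) = fun x : Subgroup.centralizer (P : Set G) => blockCoeff B x := by
    funext x
    show cutC P H (blockCoeff B)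
      ((φ.symm x : (Subgroup.centralizer (P : Set G)).subgroupOf H) : H) = _
    rw [cutC_of_mem _ _ _ (by rw [hφc]; exact x.2), hφc]
  rw [h5] at h4
  rw [← h4]
  exact h3

/-- **S4437**: a block of `P C_G(P)` with defect group `P` induces a block with defect group `P`
exactly when the index of `P C_G(P)` in its stabilizer is prime to `p`. -/
theorem induced_defect_iff [Fact p.Prime] (hM : IsPModular p M) (P : Subgroup G)
    (hP : IsPGroup p P) (H : Subgroup G) [Fintype H]
    (hH : H = P ⊔ Subgroup.centralizer (P : Set G))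
    {b : Set (IrrCharacter H)} (hb : IsPBlock M b)
    (hbP : IsDefectGroup p M b (P.subgroupOf H))
    {B : Set (IrrCharacter G)} (hind : IsInducedBlock M H b B) (T : Subgroup G)
    (hT : ∀ g : G, g ∈ T ↔ (g ∈ Subgroup.normalizer (P : Set G) ∧ ∀ θ ∈ b,
      ∀ θ' : IrrCharacter H, (∀ h h' : H, (h' : G) = g * h * g⁻¹ →
        (θ' : H → ℂ) h' = (θ : H → ℂ) h) → θ' ∈ b)) :
    IsDefectGroup p M B P ↔ ¬ p ∣ H.relIndex T := by
  classical
  haveI hpr := isPrime_of_isPModular hM
  have hp : p.Prime := Fact.out
  haveI : Fintype (Subgroup.centralizer (P : Set G)) := Fintype.ofFinite _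
  have hB : IsPBlock M B := hind.2.1
  have hPH : P ≤ H := hH ▸ le_sup_left
  have hCH : Subgroup.centralizer (P : Set G) ≤ H := hH ▸ le_sup_right
  have hHN : H ≤ Subgroup.normalizer (P : Set G) :=
    hH ▸ sup_le Subgroup.le_normalizer (Subgroup.centralizer_le_normalizer _)
  have hNC := normalizer_le_normalizer_centralizer P
  have hNH : Subgroup.normalizer (P : Set G) ≤ Subgroup.normalizer (H : Set G) := by
    rw [hH]
    exact normalizer_le_normalizer_sup_centralizer P
  have hHNC : H ≤ Subgroup.normalizer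
      ((Subgroup.centralizer (P : Set G) : Subgroup G) : Set G) := hHN.trans hNC
  -- the block `e` of `C_G(P)`
  obtain ⟨e, he, hbe⟩ := exists_block_down hCH hHNC
    (fun f _ => isStableSet_sup_centralizer P H hH hHNC f)
    (fun F hF t ht => blockCoeff_eq_zero_of_hT hM hP hPH hHN hF t ht) hb
  have hcoeff : subgroupBlockCoeff H b =
      subgroupBlockCoeff (Subgroup.centralizer (P : Set G)) e := by
    funext g
    by_cases hg : g ∈ H
    · rw [subgroupBlockCoeff_eq_extZ H, extZ_of_mem' H _ hg, hbe]
    · rw [subgroupBlockCoeff_eq_extZ H, extZ_of_notMem _ _ hg, subgroupBlockCoeff_eq_extZ,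
        extZ_of_notMem _ _ (fun h => hg (hCH h))]
  -- the stabilizer
  have hT' : ∀ y : G, y ∈ T ↔ y ∈ Subgroup.normalizer (P : Set G) ∧
      StabilizesBlock (Subgroup.centralizer (P : Set G)) e y := by
    intro y
    rw [hT]
    constructor
    · rintro ⟨h1, h2⟩
      exact ⟨h1, (stabilizesBlock_iff_of_subgroupBlockCoeff_eq hb he hcoeff (hNH h1)
        (hNC h1)).1 ((stabilizesBlock_iff_forall H b y (hNH h1)).2 h2)⟩
    · rintro ⟨h1, h2⟩
      exact ⟨h1, (stabilizesBlock_iff_forall H b y (hNH h1)).1
        ((stabilizesBlock_iff_of_subgroupBlockCoeff_eq hb he hcoeff (hNH h1) (hNC h1)).2 h2)⟩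
  have hpair : IsBrauerPairOf p M B P e :=
    isBrauerPairOf_of_isInducedBlock hM P hP H hPH hCH hHN hb hind he hbe
  have hCT := centralizer_le_of_hT he hT'
  have hPT := self_le_of_hT he hT'
  have hTN := le_normalizer_of_hT hT'
  have hstH : ∀ h ∈ H, StabilizesBlock (Subgroup.centralizer (P : Set G)) e h := fun h hh =>
    (stabilizesBlock_iff_conjSet_eq _ h (hHNC hh) he).mpr
      (isStableSet_sup_centralizer P H hH hHNC e h hh)
  have hHT : H ≤ T := fun h hh => (hT' h).2 ⟨hHN hh, hstH h hh⟩
  constructor
  · intro hBP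
    have hmax : IsMaximalBrauerPair p M B P e := by
      refine ⟨hpair, fun R g hRg hle => ?_⟩
      have hPR : P ≤ R := le_of_reflTransGen hle
      obtain ⟨Δ, hΔ, hRΔ⟩ := exists_isDefectGroup_ge_of_isBrauerPairOf hM hRg
      have hcard := card_eq_of_isDefectGroup hM hB hΔ hBP
      have h1 := Subgroup.card_le_of_le hRΔ
      exact (Subgroup.eq_of_le_of_card_ge hPR (by omega)).symm
    obtain ⟨F, hF, hFf, hFdef⟩ := isDefectGroup_normalizer_of_maximal hM hmax le_rfl he
      Relation.ReflTransGen.refl (fun y _ => by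
        rw [inf_eq_left.mpr (Subgroup.le_normalizer (H := P))]
        exact Subgroup.card_le_of_le inf_le_left) hT'
    have h1 := (local_defect hM T (Subgroup.centralizer (P : Set G)) hCT he
      (fun h hh => ((hT' h).1 hh).2) hF hFf hFdef).1
    have e1 : (Subgroup.centralizer (P : Set G)).subgroupOf T ⊔
        (P ⊓ Subgroup.normalizer (P : Set G)).subgroupOf T = H.subgroupOf T := by
      rw [inf_eq_left.mpr (Subgroup.le_normalizer (H := P)), ← Subgroup.subgroupOf_sup hCT hPT,
        sup_comm, ← hH]
    rw [e1] at h1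
    exact h1
  · intro hidx
    have hZ := (local_defect hM H (Subgroup.centralizer (P : Set G)) hCH he hstH hb hbe hbP).2
    rw [Subgroup.map_subgroupOf_eq_of_le hPH] at hZ
    haveI : (H.subgroupOf T).Normal :=
      (Subgroup.normal_subgroupOf_iff_le_normalizer hHT).mpr (hTN.trans hNH)
    have key : ∀ (R : Subgroup G) (g : Set (IrrCharacter (Subgroup.centralizer (R : Set G)))),
        IsNormalSubpair p M P e R g → R = P := by
      intro R g hn
      obtain ⟨-, ⟨hR, hg⟩, hPR, hRN, hRst, hω⟩ := hn
      haveI : Fintype (Subgroup.centralizer (R : Set G)) := Fintype.ofFinite _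
      have hRT : R ≤ T := fun r hr => (hT' r).2 ⟨hRN hr, hRst r hr⟩
      have hRH : R ≤ H := by
        have h1 : (H.subgroupOf T).relIndex (R.subgroupOf T) ∣ (H.subgroupOf T).index :=
          Subgroup.relIndex_dvd_index_of_normal _ _
        have h2 : (H.subgroupOf T).relIndex (R.subgroupOf T) ∣ Nat.card (R.subgroupOf T) :=
          Subgroup.relIndex_dvd_card _ _
        obtain ⟨n, hn⟩ := IsPGroup.iff_card.mp (hR.comap_subtype (K := T))
        have hn' : Nat.card ↥(R.subgroupOf T) = p ^ n := hn
        rw [hn'] at h2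
        obtain ⟨k, -, hk⟩ := (Nat.dvd_prime_pow hp).1 h2
        have hk0 : k = 0 := by
          by_contra hk0
          apply hidx
          have h3 : p ∣ (H.subgroupOf T).relIndex (R.subgroupOf T) := by
            rw [hk]
            exact dvd_pow_self p hk0
          exact h3.trans h1
        rw [hk0, pow_zero, Subgroup.relIndex_eq_one] at hk
        intro r hr
        have h4 : (⟨r, hRT hr⟩ : T) ∈ H.subgroupOf T :=
          hk (show (⟨r, hRT hr⟩ : T) ∈ R.subgroupOf T from Subgroup.mem_subgroupOf.mpr hr)
        exact Subgroup.mem_subgroupOf.mp h4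
      obtain ⟨ξ, hξ⟩ := nonempty_of_isPBlock hg
      have hCRP : Subgroup.centralizer (R : Set G) ≤ Subgroup.centralizer (P : Set G) :=
        Subgroup.centralizer_le (by exact_mod_cast hPR)
      obtain ⟨x, hx, hne⟩ := exists_not_memLocalIdeal_of_brauerOmega R
        (fun u hu y => subgroupBlockCoeff_conj_of_mem _ e u (hCRP hu) y) ξ.2 (hω ξ hξ)
      have hxC : x ∈ Subgroup.centralizer (P : Set G) := hCRP hx
      have hne' : ¬ MemLocalIdeal M (blockCoeff e ⟨x, hxC⟩) := by
        rwa [subgroupBlockCoeff_eq_extZ, extZ_of_mem' _ _ hxC] at hne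
      obtain ⟨E, hE, hQE⟩ := exists_isDefectGroup_ge_of_blockCoeff hM he hne'
        ((R ⊓ Subgroup.centralizer (P : Set G)).subgroupOf (Subgroup.centralizer (P : Set G)))
        ((hR.to_le inf_le_left).comap_subtype) (by
          intro t ht
          rw [Subgroup.mem_subgroupOf] at ht
          rw [Subgroup.mem_centralizer_iff]
          intro y hy
          rw [Set.mem_singleton_iff] at hy
          subst hy
          apply Subtype.ext
          show x * (t : G) = (t : G) * x
          exact (hx (t : G) ht.1).symm)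
      haveI : ((P ⊓ Subgroup.centralizer (P : Set G)).subgroupOf
          (Subgroup.centralizer (P : Set G))).Normal := by
        constructor
        intro n hn c
        have e2 : c * n * c⁻¹ = n := by
          apply Subtype.ext
          show (c : G) * (n : G) * (c : G)⁻¹ = (n : G)
          rw [← c.2 (n : G) (Subgroup.mem_subgroupOf.mp hn).1, mul_inv_cancel_right]
        rw [e2]
        exact hn
      have hZE : (P ⊓ Subgroup.centralizer (P : Set G)).subgroupOf
          (Subgroup.centralizer (P : Set G)) ≤ E :=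
        normal_le_of_isDefectGroup hM he hE _ ((hP.to_le inf_le_left).comap_subtype)
      have hcard := card_eq_of_isDefectGroup hM he hE hZ
      have hEZ : (P ⊓ Subgroup.centralizer (P : Set G)).subgroupOf
          (Subgroup.centralizer (P : Set G)) = E := Subgroup.eq_of_le_of_card_ge hZE hcard.le
      have hRCP : R ⊓ Subgroup.centralizer (P : Set G) ≤ P := by
        intro r hr
        have h1 : (⟨r, hr.2⟩ : Subgroup.centralizer (P : Set G)) ∈
            (R ⊓ Subgroup.centralizer (P : Set G)).subgroupOf
              (Subgroup.centralizer (P : Set G)) := Subgroup.mem_subgroupOf.mpr hr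
        have h2 := hQE h1
        rw [← hEZ, Subgroup.mem_subgroupOf] at h2
        exact h2.1
      refine le_antisymm ?_ hPR
      intro r hr
      have hrH := hRH hr
      rw [hH, ← SetLike.mem_coe, Subgroup.coe_mul_of_left_le_normalizer_right P
        (Subgroup.centralizer (P : Set G)) (Subgroup.le_normalizer.trans hNC)] at hrH
      obtain ⟨u, hu, c, hc, rfl⟩ := hrH
      have hcR : c ∈ R := by
        have e3 : c = u⁻¹ * (u * c) := by group
        rw [e3]
        exact R.mul_mem (R.inv_mem (hPR hu)) hr
      exact P.mul_mem hu (hRCP ⟨hcR, hc⟩)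
    have hmaxall : ∀ a : BrauerPairIdx G,
        Relation.ReflTransGen (NormalSubpairRel p M) ⟨P, e⟩ a → a = ⟨P, e⟩ := by
      intro a ha
      induction ha with
      | refl => rfl
      | @tail c d _ hcd ih =>
        subst ih
        obtain ⟨R, g⟩ := d
        have hn : IsNormalSubpair p M P e R g := hcd
        have hRP : R = P := key R g hn
        subst R
        have hge : g = e := by
          obtain ⟨ξ, hξ⟩ := nonempty_of_isPBlock hn.2.1.2
          have h1 := hn.2.2.2.2.2 ξ hξ
          rw [brauerOmega_eq_omega] at h1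
          have h2 : (fun x : Subgroup.centralizer (P : Set G) =>
              subgroupBlockCoeff (Subgroup.centralizer (P : Set G)) e x) = blockCoeff e := by
            funext x
            rw [subgroupBlockCoeff_eq_extZ, extZ_of_mem]
          rw [h2, omega_blockCoeff] at h1
          have hξe : ξ ∈ e := by
            by_contra hcon
            rw [if_neg hcon, zero_sub] at h1
            have h4 := memLocalIdeal_neg h1
            rw [neg_neg] at h4
            exact not_memLocalIdeal_one h4
          rw [eq_blockOf_of_mem hn.2.1.2 hξ, eq_blockOf_of_mem he hξe]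
        rw [hge]
    have hmax : IsMaximalBrauerPair p M B P e :=
      ⟨hpair, fun R g _ hle => congrArg Sigma.fst (hmaxall ⟨R, g⟩ hle)⟩
    exact isDefectGroup_of_isMaximalBrauerPair hM hmax

end main

end Cfsg.Agent.Helper77
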