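import Mathlib
import Cfsg.Prelude.Def_OddOrder
import Cfsg.Prelude.Def_OddOrderLocal
import Cfsg.Agent.S1350
import Cfsg.Agent.S1423
import Cfsg.Agent.S1426

/-!
# BG142 (S1430/S1431, helper54's lemma server), piece (Q14) `uniq_of_P1` (helper77)

Statement verbatim from `tools/bg142_sigs_helper54.lean.txt`.
-/

set_option autoImplicit false

namespace Cfsg.Agent.Helper77.BG142Req

open Subgroup

variable {G : Type*} [Group G] [Finite G]

/-- (Q14) type P1: K0 := C_{M_sigma}(E) consists of 'uniqueness elements'. -/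
theorem uniq_of_P1 (hG : Cfsg.IsMinSimpleOddOrder G) (M : Subgroup G) (hM : IsCoatom M)
    (E : Subgroup G) (hE : Cfsg.IsComplIn E (Cfsg.sigmaCore M) M) (q : ℕ) [Fact q.Prime]
    (X : Subgroup G) (hX : Nat.card X = q)
    (hXK : X ≤ Cfsg.sigmaCore M ⊓ centralizer (E : Set G)) (Q : Sylow q ↥(Cfsg.sigmaCore M)) :
    centralizer (X : Set G) ≤ M ∧
      Cfsg.InUniqueMaximal ((Q : Subgroup ↥(Cfsg.sigmaCore M)).map (Cfsg.sigmaCore M).subtype) ∧
      (Q : Subgroup ↥(Cfsg.sigmaCore M)).map (Cfsg.sigmaCore M).subtype ≤ M := by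
  have hq : q.Prime := Fact.out
  obtain ⟨⟨hle, hπ, -⟩, -, -⟩ := Cfsg.Agent.S1350.result hG M hM
  have hXσ : X ≤ Cfsg.sigmaCore M := hXK.trans inf_le_left
  have hqσ : q ∈ Cfsg.sigma M := by
    apply hπ q hq
    rw [← hX]
    exact Subgroup.card_dvd_of_le hXσ
  have hXcomm : X ≤ ⁅Cfsg.sigmaCore M, Cfsg.sigmaCore M⁆ :=
    hXK.trans (Cfsg.Agent.S1426.result hG M hM E hE).1
  obtain ⟨⟨h1, -⟩, h2, h3⟩ :=
    Cfsg.Agent.S1423.result hG M hM q hqσ X (hXσ.trans hle) hX Q (Or.inr hXcomm)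
  exact ⟨h1, h2, h3⟩

end Cfsg.Agent.Helper77.BG142Req
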