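import Mathlib
import Cfsg.Agent.Lib.Helper67.BGCruxDefs
import Cfsg.Agent.Lib.Helper45.BG143
import Cfsg.Agent.Lib.Helper15.BGV.Tools
import Cfsg.Agent.Lib.Helper15.BGV.Sigma
import Cfsg.Agent.Lib.Helper15.BGU.Syl
import Cfsg.Agent.Lib.Helper38.BG128b
import Cfsg.Agent.Lib.Helper55.BGHall
import Cfsg.Agent.S1405

/-!
# CRUX (C3) of helper67's lemma server (board #3160): `kappa_cyclic` (helper77)

Every prime `q` of `C = C_{M_σ}(Y)` is in `κ(H)` and the `q`-subgroups of `C` are cyclic.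
Statement VERBATIM from `tools/bgcrux_sigs_helper67.lean.txt`.
-/

set_option autoImplicit false
set_option linter.unusedVariables false

namespace Cfsg.Agent.Helper77.BGCrux

open Subgroup Cfsg
open Cfsg.Agent.Helper52 (sylCard)
open Cfsg.Agent.Helper67.BGCrux

variable {G : Type*} [Group G] [Finite G]

/-- the `τ₂(H)` case is impossible. -/
theorem kappa_cyclic_not_tau2 (rows : Rows G)
    {M E Y H : Subgroup G} {s : ℕ}
    (cfg : Cfg M E Y s) (hs : HSide M E Y H s) {q : ℕ} (hq : q.Prime)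
    (hqM : q ∈ sigma M) {x y : G}
    (hxC : x ∈ sigmaCore M ⊓ centralizer (Y : Set G)) (hxo : orderOf x = q)
    (hyY : y ∈ Y) (hy1 : y ≠ 1) : q ∉ tau2 H := by
  intro hτ
  have : Fact q.Prime := ⟨hq⟩
  have hCH : sigmaCore M ⊓ centralizer (Y : Set G) ≤ H := by
    rw [← hs.hMsH]; exact inf_le_right
  have hMsM : sigmaCore M ≤ M := (rows.r1350 M cfg.hM).1.1
  obtain ⟨EH, hEH⟩ := Cfsg.Agent.Helper55.BGB.exists_compl_sigmaCore (rows.r1350 H hs.hH).1
  have r20 := (rows.r1420 H hs.hH EH hEH).2.2.2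
  -- key: elements of order `q` of `C` have their centralizer in `H`
  have key : ∀ z ∈ sigmaCore M ⊓ centralizer (Y : Set G), orderOf z = q →
      centralizer ({z} : Set G) ≤ H := by
    intro z hz hzo
    have hz1 : z ≠ 1 := by
      rintro rfl
      rw [orderOf_one] at hzo
      exact hq.one_lt.ne hzo
    refine (r20 z (hCH hz) hz1 ?_ ?_).1
    · intro p hp hpz
      rw [hzo] at hpz
      rwa [(Nat.prime_dvd_prime_iff_eq hp hq).1 hpz]
    · refine ⟨hCH hz, y, hs.hYσ hyY, hy1, ?_⟩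
      exact ((Subgroup.mem_centralizer_iff.1 hz.2) y hyY).symm
  -- a Sylow `q`-subgroup of `M_σ` over `x`
  have hxp : IsPGroup q (zpowers x) := by
    apply IsPGroup.of_card (n := 1)
    rw [Nat.card_zpowers, hxo, pow_one]
  have hxMs : zpowers x ≤ sigmaCore M := by
    rw [zpowers_le]; exact hxC.1
  obtain ⟨QM, hxQM, hQMle, hQMcard⟩ := Cfsg.Agent.Helper15.BGU.exists_syl_ge q hxp hxMs
  have hQMp : IsPGroup q QM := IsPGroup.of_card hQMcard
  have hxQ : x ∈ QM := hxQM (mem_zpowers x)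
  -- an element of order `q` in the centre of `QM`
  have : Nontrivial QM := by
    refine ⟨⟨⟨x, hxQ⟩, 1, ?_⟩⟩
    intro h
    have : x = 1 := congrArg Subtype.val h
    rw [this, orderOf_one] at hxo
    exact hq.one_lt.ne hxo
  have : Nontrivial (center QM) := hQMp.center_nontrivial
  have hZp : IsPGroup q (center QM) := hQMp.to_subgroup _
  have hqZ : q ∣ Nat.card (center QM) := by
    obtain ⟨n, hn⟩ := IsPGroup.iff_card.1 hZp
    rw [hn]
    rcases n with _ | n
    · rw [pow_zero] at hn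
      exact absurd hn (Finite.one_lt_card (α := center QM)).ne'
    · exact dvd_pow_self q (Nat.succ_ne_zero n)
  obtain ⟨z', hz'⟩ := exists_prime_orderOf_dvd_card' q hqZ
  set y' : G := ((z' : QM) : G) with hy'
  have hy'o : orderOf y' = q := by
    rw [hy', Subgroup.orderOf_coe, Subgroup.orderOf_coe]; exact hz'
  have hy'Q : y' ∈ QM := (z' : QM).2
  have hy'c : ∀ w ∈ QM, w * y' = y' * w := by
    intro w hw
    have h1 := (Subgroup.mem_center_iff.1 z'.2) ⟨w, hw⟩
    exact congrArg Subtype.val h1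
  -- `y' ∈ C`
  have hy'H : y' ∈ H := by
    apply key x hxC hxo
    rw [Subgroup.mem_centralizer_iff]
    intro h hh
    rw [Set.mem_singleton_iff] at hh
    rw [hh]; exact hy'c x hxQ
  have hy'C : y' ∈ sigmaCore M ⊓ centralizer (Y : Set G) := by
    rw [← hs.hMsH]; exact ⟨hQMle hy'Q, hy'H⟩
  -- `QM ≤ C`
  have hQMH : QM ≤ H := by
    intro w hw
    apply key y' hy'C hy'o
    rw [Subgroup.mem_centralizer_iff]
    intro h hh
    rw [Set.mem_singleton_iff] at hh
    rw [hh]; exact (hy'c w hw).symm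
  have hQMC : QM ≤ sigmaCore M ⊓ centralizer (Y : Set G) := by
    rw [← hs.hMsH]; exact le_inf hQMle hQMH
  -- `QM` is a Sylow `q`-subgroup of `H`
  have hc1 : Nat.card QM = sylCard q M := by
    rw [hQMcard]
    exact Cfsg.Agent.Helper15.BGV.sylCard_sigmaCore (rows.r1350 M cfg.hM).1 hqM
  have hc2 : Nat.card QM = sylCard q (⊤ : Subgroup G) :=
    Cfsg.Agent.Helper15.BGV.card_eq_sylCard_top_of_mem_sigma hqM (hQMle.trans hMsM) hc1
  have hc3 : Nat.card QM = sylCard q H :=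
    Cfsg.Agent.Helper15.BGU.sylCard_of_le_of_le q hQMH le_top hc2
  -- an elementary abelian subgroup of order `q^2` of `H`, conjugated into `QM`
  obtain ⟨A, hAH, hAe, hAc⟩ := Cfsg.Agent.Helper38.BG128.exists_elemAb_sq (M := H) hτ.2.2.2
  have hAp : IsPGroup q A := IsPGroup.of_card hAc
  obtain ⟨l, hl, hAl⟩ := Cfsg.Agent.Helper15.BGV.exists_conj_le_sylow hAp hAH hQMH hc3
  have hA'e : IsElementaryAbelian q (A.map (MulAut.conj l).toMonoidHom) :=
    Cfsg.Agent.Helper38.BG128.isElementaryAbelian_map' _ hAe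
  have hA'c : Nat.card (A.map (MulAut.conj l).toMonoidHom) = q ^ 2 := by
    rw [Subgroup.card_map_of_injective (MulAut.conj l).injective]
    exact hAc
  have r17 := (rows.r1417 H hs.hH q hτ (A.map (MulAut.conj l).toMonoidHom)
    ⟨hAl.trans hQMH, hA'e, hA'c⟩).2.2.2.1
  have hy : y ∈ sigmaCore H ⊓ centralizer ((A.map (MulAut.conj l).toMonoidHom : Subgroup G) : Set G) := by
    refine Subgroup.mem_inf.2 ⟨hs.hYσ hyY, Subgroup.mem_centralizer_iff.2 ?_⟩
    intro a ha
    have haC := (hQMC (hAl ha)).2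
    exact ((Subgroup.mem_centralizer_iff.1 haC) y hyY).symm
  rw [r17, Subgroup.mem_bot] at hy
  exact hy1 hy

/-- **(C3)** every prime `q` of `C` is in `κ(H)` and the `q`-subgroups of `C` are cyclic. -/
theorem kappa_cyclic (hG : IsMinSimpleOddOrder G) (rows : Rows G) (inp : Inputs G) {M E Y H : Subgroup G} {s : ℕ}
    (cfg : Cfg M E Y s) (hs : HSide M E Y H s) {q : ℕ} (hq : q.Prime)
    (hqC : q ∣ Nat.card ↥(sigmaCore M ⊓ centralizer (Y : Set G))) :
    q ∈ kappa H ∧ ∀ Q : Subgroup G, Q ≤ sigmaCore M ⊓ centralizer (Y : Set G) → IsPGroup q Q → IsCyclic Q := by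
  have : Fact q.Prime := ⟨hq⟩
  have hsP : s.Prime := cfg.hs.1
  have hCH : sigmaCore M ⊓ centralizer (Y : Set G) ≤ H := by
    rw [← hs.hMsH]; exact inf_le_right
  -- a non-identity element of `Y`
  obtain ⟨y, hyY, hy1⟩ : ∃ y ∈ Y, y ≠ 1 := by
    have h1 : 1 < Nat.card Y := by rw [cfg.hY]; exact hsP.one_lt
    have : Nontrivial Y := Finite.one_lt_card_iff_nontrivial.1 h1
    obtain ⟨y, hy⟩ := exists_ne (1 : Y)
    exact ⟨y, y.2, fun h => hy (Subtype.ext h)⟩
  -- `q ∈ σ(M) \ σ(H)`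
  have hqM : q ∈ sigma M :=
    (rows.r1350 M cfg.hM).1.2.1 q hq (hqC.trans (Subgroup.card_dvd_of_le inf_le_left))
  have hqH : q ∉ sigma H := hs.hdisj q hqM
  -- Cauchy
  obtain ⟨x', hx'⟩ := exists_prime_orderOf_dvd_card' q hqC
  have hxC : (x' : G) ∈ sigmaCore M ⊓ centralizer (Y : Set G) := x'.2
  have hxo : orderOf (x' : G) = q := by rw [Subgroup.orderOf_coe]; exact hx'
  have hα : Cfsg.Agent.Helper45.BG143.HAlpha G := fun L hL =>
    ⟨(Cfsg.Agent.S1405.result hG L hL).1, (Cfsg.Agent.S1405.result hG L hL).2.2.1⟩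
  have hcomm : (x' : G) * y = y * (x' : G) :=
    ((Subgroup.mem_centralizer_iff.1 hxC.2) y hyY).symm
  have hκ : q ∈ kappa H := by
    rcases Cfsg.Agent.Helper45.BG143.prime_cases hG hα hs.hH (hs.hYσ hyY) hy1 (hCH hxC) hcomm hq hxo hqH
      with h | h
    · exact h
    · exact absurd h (kappa_cyclic_not_tau2 rows cfg hs hq hqM hxC hxo hyY hy1)
  refine ⟨hκ, ?_⟩
  intro Q hQC hQp
  have hQH : Q ≤ H := hQC.trans hCH
  have hQ' : IsPGroup q (Q.subgroupOf H) := hQp.comap_subtype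
  obtain ⟨P, hP⟩ := hQ'.exists_le_sylow
  have : IsCyclic (P : Subgroup H) := (hκ.2.2.2 P).1
  have hcyc : IsCyclic (Q.subgroupOf H) := Subgroup.isCyclic_of_le hP
  exact (Subgroup.subgroupOfEquivOfLe hQH).isCyclic.1 hcyc

end Cfsg.Agent.Helper77.BGCrux
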