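import Mathlib
import Cfsg.Agent.Lib.Helper87.Psl3Defs

/-!
# PSL3F (CEN) for helper87's S5318 server: the centralizer of `zz = diag(-1,-1,1)` in `SL₃(F)`
is the image of `iota`.
-/

set_option autoImplicit false

namespace Cfsg.Agent.Helper77.Psl3

open Matrix Cfsg.Agent.Helper87.Psl3

variable {F : Type*} [Field F]

local notation "SL3" => Matrix.SpecialLinearGroup (Fin 3) F
local notation "GL2" => GL (Fin 2) F

theorem zz_val : ((zz : SL3) : Matrix (Fin 3) (Fin 3) F) = !![-1, 0, 0; 0, -1, 0; 0, 0, 1] := by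
  have hdet : Matrix.GeneralLinearGroup.det (sc (-1 : Fˣ) : GL2) = 1 := by
    unfold sc
    rw [Matrix.GeneralLinearGroup.det_scalar]
    simp
  unfold zz
  rw [iota_val]
  unfold iotaMat
  rw [hdet]
  ext i j
  fin_cases i <;> fin_cases j <;> simp [sc, Matrix.GeneralLinearGroup.coe_scalar]

theorem cen_zz (h2 : (2 : F) ≠ 0) (g : SL3) (hg : g * zz = zz * g) : ∃ X : GL2, g = iota X := by
  have hmat : (g : Matrix (Fin 3) (Fin 3) F) * !![-1, 0, 0; 0, -1, 0; 0, 0, 1] =
      !![-1, 0, 0; 0, -1, 0; 0, 0, 1] * (g : Matrix (Fin 3) (Fin 3) F) := by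
    have := congrArg (fun x : SL3 => (x : Matrix (Fin 3) (Fin 3) F)) hg
    simp only [Matrix.SpecialLinearGroup.coe_mul, zz_val] at this
    exact this
  have kill : ∀ x : F, x = -x → x = 0 := by
    intro x hx
    have : (2 : F) * x = 0 := by linear_combination hx
    rcases mul_eq_zero.1 this with h | h
    · exact absurd h h2
    · exact h
  have e02 := congrFun (congrFun hmat 0) 2
  have e12 := congrFun (congrFun hmat 1) 2
  have e20 := congrFun (congrFun hmat 2) 0
  have e21 := congrFun (congrFun hmat 2) 1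
  simp [Matrix.mul_apply, Fin.sum_univ_three] at e02 e12 e20 e21
  have g02 : (g : Matrix (Fin 3) (Fin 3) F) 0 2 = 0 := kill _ e02
  have g12 : (g : Matrix (Fin 3) (Fin 3) F) 1 2 = 0 := kill _ e12
  have g20 : (g : Matrix (Fin 3) (Fin 3) F) 2 0 = 0 := kill _ e20.symm
  have g21 : (g : Matrix (Fin 3) (Fin 3) F) 2 1 = 0 := kill _ e21.symm
  set A : Matrix (Fin 2) (Fin 2) F :=
    !![(g : Matrix (Fin 3) (Fin 3) F) 0 0, (g : Matrix (Fin 3) (Fin 3) F) 0 1;
       (g : Matrix (Fin 3) (Fin 3) F) 1 0, (g : Matrix (Fin 3) (Fin 3) F) 1 1] with hA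
  have hdet : A.det * (g : Matrix (Fin 3) (Fin 3) F) 2 2 = 1 := by
    have h1 := g.2
    rw [Matrix.det_fin_three, g02, g12, g20, g21] at h1
    rw [hA, Matrix.det_fin_two_of]
    linear_combination h1
  have hA0 : A.det ≠ 0 := by
    intro h0
    rw [h0, zero_mul] at hdet
    exact zero_ne_one hdet
  refine ⟨Matrix.GeneralLinearGroup.mkOfDetNeZero A hA0, ?_⟩
  apply Subtype.ext
  rw [iota_val]
  have hc : (((Matrix.GeneralLinearGroup.det (Matrix.GeneralLinearGroup.mkOfDetNeZero A hA0) : Fˣ)⁻¹ : Fˣ) : F)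
      = (g : Matrix (Fin 3) (Fin 3) F) 2 2 := by
    rw [Units.val_inv_eq_inv_val]
    have : ((Matrix.GeneralLinearGroup.det (Matrix.GeneralLinearGroup.mkOfDetNeZero A hA0) : Fˣ) : F) = A.det := rfl
    rw [this]
    exact (eq_inv_of_mul_eq_one_right hdet).symm
  unfold iotaMat
  rw [hc]
  ext i j
  fin_cases i <;> fin_cases j <;> simp [hA, g02, g12, g20, g21, Matrix.GeneralLinearGroup.mkOfDetNeZero]

end Cfsg.Agent.Helper77.Psl3
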