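import Mathlib
import Cfsg.Agent.Lib.Helper2.SS0
import Cfsg.Agent.Lib.Helper2.SRC0

/-!
# SS project (S2411), core of piece (Y11a) `cyc_ge`: the closure argument, with the orbit facts
(Y9a, Y9b, Y10) as hypotheses.
-/

set_option autoImplicit false

namespace Cfsg.Agent.Helper77.SS

open Matrix Cfsg Cfsg.Agent.Helper13 Cfsg.Agent.Helper84.SpRoot Cfsg.Agent.Helper5.SpAut
open Cfsg.Agent.Helper2.SR Cfsg.Agent.Helper2.SS

section Y
variable {F : Type*} [Field F] {m : ℕ}

theorem h77_be_inl (i j : Fin (m + 2)) :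
    (be (F := F) i) (Sum.inl j) = if j = i then 1 else 0 := by
  simp [be, Pi.single_apply]

theorem h77_be_inr (i j : Fin (m + 2)) : (be (F := F) i) (Sum.inr j) = 0 := by
  simp [be, Pi.single_apply]

theorem h77_bf_inl (i j : Fin (m + 2)) : (bf (F := F) i) (Sum.inl j) = 0 := by
  simp [bf, Pi.single_apply]

theorem h77_bf_inr (i j : Fin (m + 2)) :
    (bf (F := F) i) (Sum.inr j) = if j = i then 1 else 0 := by
  simp [bf, Pi.single_apply]

theorem h77_single_eq (x : Fin (m + 2) ⊕ Fin (m + 2) → F) (b : Fin (m + 2) ⊕ Fin (m + 2)) :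
    (Pi.single b (x b) : Fin (m + 2) ⊕ Fin (m + 2) → F) = x b • Pi.single b 1 := by
  ext c
  by_cases h : c = b
  · subst h; simp
  · simp [Pi.single_apply, h]

/-- the closure argument from a list of basis vectors -/
theorem h77_mem_of_basis (S : Submodule F (Fin (m + 2) ⊕ Fin (m + 2) → F))
    (he : ∀ i : Fin (m + 2), be i ∈ S) (hf : ∀ i : Fin (m + 2), i ≠ 0 → bf i ∈ S)
    (x : Fin (m + 2) ⊕ Fin (m + 2) → F) (hx : x (Sum.inr 0) = 0) : x ∈ S := by
  have hsum : x = ∑ b, (Pi.single b (x b) : Fin (m + 2) ⊕ Fin (m + 2) → F) :=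
    (Finset.univ_sum_single x).symm
  rw [hsum]
  apply Submodule.sum_mem
  intro b _
  rw [h77_single_eq]
  rcases b with i | i
  · exact S.smul_mem _ (he i)
  · by_cases hi : i = 0
    · subst hi
      rw [hx, zero_smul]
      exact S.zero_mem
    · exact S.smul_mem _ (hf i hi)

theorem h77_cyc_ge_core (hm : 1 ≤ m) {α β ξ : F} (hαβ : α * β ≠ 0) (hβ : β ≠ 0) (hξ : ξ ≠ 0)
    {H : Subgroup (Matrix.symplecticGroup (Fin (m + 2)) F)}
    (horb : ∀ i : Fin (m + 2), be i ∈ Orb H (be 0) ∧ bf i ∈ Orb H (be 0))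
    (horbd : ∀ j : ℕ, ((cEl m F) ^ j).val *ᵥ dV α β ξ ∈ Orb H (be 0))
    (hpow : ∀ j : ℕ, 2 ≤ j → j ≤ m → ∀ a b c : Fin (m + 2), a.val = j - 1 → b.val = j →
      c.val = j + 1 → ((cEl m F) ^ j).val *ᵥ dV α β ξ =
        (1 - α * β) • be c + (α * β) • be b - (β * ξ) • bf a - β • bf c) :
    ∀ S : Submodule F (Fin (m + 2) ⊕ Fin (m + 2) → F), pGe β ξ ∈ S →
      (∀ v ∈ Orb H (be 0), Cfsg.sympForm (m + 2) F v (be 0) = 0 →
        (∃ w ∈ S, Cfsg.sympForm (m + 2) F w v ≠ 0) → v ∈ S) →
      ∀ x, Cfsg.sympForm (m + 2) F x (be 0) = 0 → x ∈ S := by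
  intro S hp hcl x hx
  have hβξ : β * ξ ≠ 0 := mul_ne_zero hβ hξ
  -- index facts
  have hB1 : (jB : Fin (m + 2)) ≠ 1 := by
    intro h; have := congrArg Fin.val h; simp [jB] at this; omega
  have h1B : (1 : Fin (m + 2)) ≠ jB := fun h => hB1 h.symm
  have hB0 : (jB : Fin (m + 2)) ≠ 0 := by
    intro h; have := congrArg Fin.val h; simp [jB] at this
  have h0B : (0 : Fin (m + 2)) ≠ jB := fun h => hB0 h.symm
  have h10 : (1 : Fin (m + 2)) ≠ 0 := by
    intro h; have := congrArg Fin.val h; simp at this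
  have h01 : (0 : Fin (m + 2)) ≠ 1 := fun h => h10 h.symm
  -- step 1: `e_1`
  have he1 : be (F := F) (1 : Fin (m + 2)) ∈ S := by
    apply hcl _ (horb 1).1
    · rw [(form_basis _ _).1, h77_be_inr]
    · refine ⟨_, hp, ?_⟩
      rw [(form_basis _ _).1]
      simp [pGe, wpV, h77_be_inr, h77_bf_inr, h1B, hB1, hβξ]
  -- step 2: `f_1`
  have hf1 : bf (F := F) (1 : Fin (m + 2)) ∈ S := by
    apply hcl _ (horb 1).2
    · rw [(form_basis _ _).1, h77_bf_inr]; simp [h01]
    · refine ⟨_, he1, ?_⟩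
      rw [(form_basis _ _).2.1, h77_be_inl]; simp
  -- step 3: `d`
  have hd : dV (m := m) α β ξ ∈ S := by
    have h := horbd 0
    rw [pow_zero] at h
    simp only [Matrix.SpecialLinearGroup.coe_one, OneMemClass.coe_one, Matrix.one_mulVec] at h
    apply hcl _ h
    · rw [(form_basis _ _).1]
      simp [dV, h77_be_inr, h77_bf_inr, h01]
    · refine ⟨_, he1, ?_⟩
      rw [(form_basis _ _).2.2.1]
      simp [dV, h77_be_inr, h77_bf_inr, hβ]
  -- step 4: `f_{n-1}`
  have hfB : bf (F := F) (jB : Fin (m + 2)) ∈ S := by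
    apply hcl _ (horb jB).2
    · rw [(form_basis _ _).1, h77_bf_inr]; simp [h0B]
    · refine ⟨_, hd, ?_⟩
      rw [(form_basis _ _).2.1]
      simp [dV, h77_be_inl, h77_bf_inl, hB1, hB0, hβξ]
  -- step 5: `e_{n-1}`
  have heB : be (F := F) (jB : Fin (m + 2)) ∈ S := by
    apply hcl _ (horb jB).1
    · rw [(form_basis _ _).1, h77_be_inr]
    · refine ⟨_, hfB, ?_⟩
      rw [(form_basis _ _).1, h77_bf_inr]; simp
  -- step 6: `e_0`
  have he0 : be (F := F) (0 : Fin (m + 2)) ∈ S := by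
    have h1 : (α * β) • be (F := F) (0 : Fin (m + 2)) =
        dV (m := m) α β ξ - (1 - α * β) • be 1 + (β * ξ) • be jB + β • bf 1 := by
      simp only [dV]; abel
    have h2 : (α * β) • be (F := F) (0 : Fin (m + 2)) ∈ S := by
      rw [h1]
      exact S.add_mem (S.add_mem (S.sub_mem hd (S.smul_mem _ he1)) (S.smul_mem _ heB))
        (S.smul_mem _ hf1)
    have h3 := S.smul_mem (α * β)⁻¹ h2
    rwa [smul_smul, inv_mul_cancel₀ hαβ, one_smul] at h3
  -- step 7: induction
  have hind : ∀ j : ℕ, 1 ≤ j → ∀ hj : j ≤ m,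
      be (F := F) (⟨j, by omega⟩ : Fin (m + 2)) ∈ S ∧ bf (F := F) (⟨j, by omega⟩ : Fin (m + 2)) ∈ S := by
    intro j hj1
    induction j, hj1 using Nat.le_induction with
    | base =>
      intro _
      have e : (⟨1, by omega⟩ : Fin (m + 2)) = 1 := by
        apply Fin.ext; simp
      rw [e]; exact ⟨he1, hf1⟩
    | succ j hj1 ih =>
      intro hj
      have ihj := ih (by omega)
      have h2j : 2 ≤ j + 1 := by omega
      set a : Fin (m + 2) := ⟨j, by omega⟩ with ha
      set b : Fin (m + 2) := ⟨j + 1, by omega⟩ with hb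
      set c : Fin (m + 2) := ⟨j + 2, by omega⟩ with hc
      have hab : a ≠ b := by intro h; have := congrArg Fin.val h; simp [ha, hb] at this
      have hac : a ≠ c := by intro h; have := congrArg Fin.val h; simp [ha, hc] at this
      have hbc : b ≠ c := by intro h; have := congrArg Fin.val h; simp [hb, hc] at this
      have ha0 : (0 : Fin (m + 2)) ≠ a := by
        intro h; have := congrArg Fin.val h; simp [ha] at this; omega
      have hb0 : (0 : Fin (m + 2)) ≠ b := by
        intro h; have := congrArg Fin.val h; simp [hb] at this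
      have hc0 : (0 : Fin (m + 2)) ≠ c := by
        intro h; have := congrArg Fin.val h; simp [hc] at this
      have hv := hpow (j + 1) h2j hj a b c (by simp [ha]) (by simp [hb]) (by simp [hc])
      have hvS : ((cEl m F) ^ (j + 1)).val *ᵥ dV α β ξ ∈ S := by
        apply hcl _ (horbd (j + 1))
        · rw [(form_basis _ _).1, hv]
          simp [h77_be_inr, h77_bf_inr, ha0, hc0]
        · refine ⟨_, ihj.1, ?_⟩
          rw [(form_basis _ _).2.2.1, hv]
          simp [h77_be_inr, h77_bf_inr, hac, hβξ]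
      have hfb : bf (F := F) b ∈ S := by
        apply hcl _ (horb b).2
        · rw [(form_basis _ _).1, h77_bf_inr]; simp [hb0]
        · refine ⟨_, hvS, ?_⟩
          rw [(form_basis _ _).2.1, hv]
          simp [h77_be_inl, h77_bf_inl, hbc, hαβ]
      have heb : be (F := F) b ∈ S := by
        apply hcl _ (horb b).1
        · rw [(form_basis _ _).1, h77_be_inr]
        · refine ⟨_, hfb, ?_⟩
          rw [(form_basis _ _).1, h77_bf_inr]; simp
      exact ⟨heb, hfb⟩
  -- conclusion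
  have hx0 : x (Sum.inr 0) = 0 := by rw [← (form_basis x 0).1]; exact hx
  apply h77_mem_of_basis S ?_ ?_ x hx0
  · intro i
    by_cases hi0 : i.val = 0
    · have : i = 0 := Fin.ext (by simpa using hi0)
      rw [this]; exact he0
    · by_cases hiB : i.val = m + 1
      · have : i = jB := Fin.ext (by simpa [jB] using hiB)
        rw [this]; exact heB
      · have := (hind i.val (by omega) (by have := i.isLt; omega)).1
        exact this
  · intro i hi
    have hi0 : i.val ≠ 0 := by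
      intro h; exact hi (Fin.ext (by simpa using h))
    by_cases hiB : i.val = m + 1
    · have : i = jB := Fin.ext (by simpa [jB] using hiB)
      rw [this]; exact hfB
    · have := (hind i.val (by omega) (by have := i.isLt; omega)).2
      exact this

theorem h77_cyc_two_core {α β ξ : F} (hαβ : α * β ≠ 0) (hβ : β ≠ 0) (hγ : 1 - β * (ξ + α) ≠ 0)
    {H : Subgroup (Matrix.symplecticGroup (Fin (0 + 2)) F)}
    (horb : ∀ i : Fin (0 + 2), be i ∈ Orb H (be 0) ∧ bf i ∈ Orb H (be 0))
    (horbd : ∀ j : ℕ, ((cEl 0 F) ^ j).val *ᵥ dV α β ξ ∈ Orb H (be 0)) :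
    ∀ S : Submodule F (Fin (0 + 2) ⊕ Fin (0 + 2) → F), pTwo α β ξ ∈ S →
      (∀ v ∈ Orb H (be 0), Cfsg.sympForm (0 + 2) F v (be 0) = 0 →
        (∃ w ∈ S, Cfsg.sympForm (0 + 2) F w v ≠ 0) → v ∈ S) →
      ∀ x, Cfsg.sympForm (0 + 2) F x (be 0) = 0 → x ∈ S := by
  intro S hp hcl x hx
  have hB1 : (jB : Fin (0 + 2)) = 1 := by
    apply Fin.ext; simp [jB]
  have h10 : (1 : Fin (0 + 2)) ≠ 0 := by
    intro h; have := congrArg Fin.val h; simp at this
  have h01 : (0 : Fin (0 + 2)) ≠ 1 := fun h => h10 h.symm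
  -- step 1: `e_1`
  have he1 : be (F := F) (1 : Fin (0 + 2)) ∈ S := by
    apply hcl _ (horb 1).1
    · rw [(form_basis _ _).1, h77_be_inr]
    · refine ⟨_, hp, ?_⟩
      rw [(form_basis _ _).1]
      have e : (pTwo α β ξ) (Sum.inr (1 : Fin (0 + 2))) = -(1 - β * (ξ + α)) := by
        simp [pTwo, wV, wpV, h77_be_inr, h77_bf_inr, hB1]
        ring
      rw [e]
      exact neg_ne_zero.2 hγ
  -- step 2: `f_1`
  have hf1 : bf (F := F) (1 : Fin (0 + 2)) ∈ S := by
    apply hcl _ (horb 1).2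
    · rw [(form_basis _ _).1, h77_bf_inr]; simp [h01]
    · refine ⟨_, he1, ?_⟩
      rw [(form_basis _ _).2.1, h77_be_inl]; simp
  -- step 3: `d`
  have hd : dV (m := 0) α β ξ ∈ S := by
    have h := horbd 0
    rw [pow_zero] at h
    simp only [OneMemClass.coe_one, Matrix.one_mulVec] at h
    apply hcl _ h
    · rw [(form_basis _ _).1]
      simp [dV, h77_be_inr, h77_bf_inr, h01]
    · refine ⟨_, he1, ?_⟩
      rw [(form_basis _ _).2.2.1]
      simp [dV, h77_be_inr, h77_bf_inr, hβ]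
  -- step 4: `e_0`
  have he0 : be (F := F) (0 : Fin (0 + 2)) ∈ S := by
    have h1 : (α * β) • be (F := F) (0 : Fin (0 + 2)) =
        dV (m := 0) α β ξ - (1 - α * β) • be 1 + (β * ξ) • be jB + β • bf 1 := by
      simp only [dV]; abel
    have h2 : (α * β) • be (F := F) (0 : Fin (0 + 2)) ∈ S := by
      rw [h1, hB1]
      exact S.add_mem (S.add_mem (S.sub_mem hd (S.smul_mem _ he1)) (S.smul_mem _ he1))
        (S.smul_mem _ hf1)
    have h3 := S.smul_mem (α * β)⁻¹ h2
    rwa [smul_smul, inv_mul_cancel₀ hαβ, one_smul] at h3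
  have hx0 : x (Sum.inr 0) = 0 := by rw [← (form_basis x 0).1]; exact hx
  apply h77_mem_of_basis S ?_ ?_ x hx0
  · intro i
    by_cases hi0 : i.val = 0
    · have : i = 0 := Fin.ext (by simpa using hi0)
      rw [this]; exact he0
    · have : i = 1 := Fin.ext (by have := i.isLt; simp; omega)
      rw [this]; exact he1
  · intro i hi
    have hi0 : i.val ≠ 0 := by
      intro h; exact hi (Fin.ext (by simpa using h))
    have : i = 1 := Fin.ext (by have := i.isLt; simp; omega)
    rw [this]; exact hf1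

end Y

end Cfsg.Agent.Helper77.SS
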