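import Mathlib
import Cfsg.Agent.Lib.Helper2.SS0
import Cfsg.Agent.Lib.Helper2.SRC0
import Cfsg.Agent.Lib.Helper12.SSY1
import Cfsg.Agent.Lib.Helper77.SSY11core

/-!
# SS project (S2411), pieces (Y7b) `l_pGe` and (Y7c) `l_pTwo` (helper2 server; statements verbatim).
-/

set_option autoImplicit false

namespace Cfsg.Agent.Helper77.SS

open Matrix Cfsg Cfsg.Agent.Helper13 Cfsg.Agent.Helper84.SpRoot Cfsg.Agent.Helper5.SpAut
open Cfsg.Agent.Helper2.SR Cfsg.Agent.Helper2.SS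

section Y
variable {F : Type*} [Field F] {m : ℕ}

/-- the form against `w' = ξ e_{n-1} + f_1` -/
theorem h77_form_wp (ξ : F) (x : Fin (m + 2) ⊕ Fin (m + 2) → F) :
    Cfsg.sympForm (m + 2) F x (wpV (m := m) ξ) = ξ * x (Sum.inr jB) - x (Sum.inl 1) := by
  unfold wpV
  rw [sympForm_add_right, sympForm_smul_right, (form_basis _ _).1, (form_basis _ _).2.1]
  ring

/-- the form against `w = e_1 - e_0` -/
theorem h77_form_w (x : Fin (m + 2) ⊕ Fin (m + 2) → F) :
    Cfsg.sympForm (m + 2) F x (wV (m := m)) = x (Sum.inr 1) - x (Sum.inr 0) := by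
  have hw : wV (m := m) (F := F) = be 1 + (-1 : F) • be 0 := by
    simp [wV, sub_eq_add_neg]
  rw [hw, sympForm_add_right, sympForm_smul_right, (form_basis _ _).1, (form_basis _ _).1]
  ring

/-- (Y7b) -/
theorem l_pGe (hm : 1 ≤ m) (α β ξ : F) :
    (lEl (m := m) α β ξ).val *ᵥ pGe β ξ = be 0 := by
  have hB1 : (jB : Fin (m + 2)) ≠ 1 := by
    intro h; have := congrArg Fin.val h; simp [jB] at this; omega
  have h1B : (1 : Fin (m + 2)) ≠ jB := fun h => hB1 h.symm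
  have hB0 : (jB : Fin (m + 2)) ≠ 0 := by
    intro h; have := congrArg Fin.val h; simp [jB] at this
  have h0B : (0 : Fin (m + 2)) ≠ jB := fun h => hB0 h.symm
  have h1 : Cfsg.sympForm (m + 2) F (pGe (m := m) β ξ) (wpV ξ) = -ξ := by
    rw [h77_form_wp]
    simp [pGe, wpV, h77_be_inl, h77_be_inr, h77_bf_inl, h77_bf_inr, hB1, h1B]
  have h2 : (sympT (wpV (m := m) ξ) β).val *ᵥ pGe β ξ = - bf jB := by
    rw [sympT_act, h1]
    simp only [pGe]; module
  have h3 : Cfsg.sympForm (m + 2) F (- bf (F := F) (jB : Fin (m + 2))) (wV (m := m)) = 0 := by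
    rw [h77_form_w]
    simp [h77_bf_inr, hB1, h1B, hB0, h0B]
  have h4 : (sympT (wV (m := m)) α).val *ᵥ (- bf (F := F) (jB : Fin (m + 2))) = - bf jB := by
    rw [sympT_act, h3]; simp
  rw [lEl, mul_act, yEl, mul_act, h2, h4, Matrix.mulVec_neg,
    (Cfsg.Agent.Helper12.SS.c_act (m := m) (F := F)).2.2.2, neg_neg]

/-- (Y7c) -/
theorem l_pTwo (α β ξ : F) : (lEl (m := 0) α β ξ).val *ᵥ pTwo α β ξ = be 0 := by
  have hB1 : (jB : Fin (0 + 2)) = 1 := by
    apply Fin.ext; simp [jB]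
  have h10 : (1 : Fin (0 + 2)) ≠ 0 := by
    intro h; have := congrArg Fin.val h; simp at this
  have h01 : (0 : Fin (0 + 2)) ≠ 1 := fun h => h10 h.symm
  have h1 : Cfsg.sympForm (0 + 2) F (pTwo α β ξ) (wpV (m := 0) ξ) = -(ξ + α) := by
    rw [h77_form_wp]
    simp [pTwo, wV, wpV, h77_be_inl, h77_be_inr, h77_bf_inl, h77_bf_inr, hB1, h01, h10]
    ring
  have h2 : (sympT (wpV (m := 0) ξ) β).val *ᵥ pTwo α β ξ = - bf 1 + α • wV (m := 0) := by
    rw [sympT_act, h1]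
    simp only [pTwo]; module
  have h3 : Cfsg.sympForm (0 + 2) F (- bf (F := F) (1 : Fin (0 + 2)) + α • wV (m := 0))
      (wV (m := 0)) = -1 := by
    rw [h77_form_w]
    simp [wV, h77_be_inr, h77_bf_inr, h01, h10]
  have h4 : (sympT (wV (m := 0)) α).val *ᵥ (- bf (F := F) (1 : Fin (0 + 2)) + α • wV (m := 0)) =
      - bf 1 := by
    rw [sympT_act, h3]; module
  have hc := (Cfsg.Agent.Helper12.SS.c_act (m := 0) (F := F)).2.2.2
  rw [hB1] at hc
  rw [lEl, mul_act, yEl, mul_act, h2, h4, Matrix.mulVec_neg, hc, neg_neg]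

end Y

end Cfsg.Agent.Helper77.SS
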