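import Mathlib
import Cfsg.Agent.Lib.Helper7.M11LADefs

/-!
# M11LA (K6) for helper7's S0435 server: class sizes and involution counts.
-/

set_option autoImplicit false

namespace Cfsg.Agent.Helper77.M11LA

open Cfsg.Agent.Helper7.M11LA

variable {G : Type*} [Group G]

theorem cls_eq_ncard (t : G) : cls t = {s : G | IsConj t s}.ncard :=
  Nat.card_coe_set_eq _

theorem inv_top_eq_ncard : inv (⊤ : Subgroup G) = {t : G | orderOf t = 2}.ncard := by
  have : {t : G | orderOf t = 2} = {t : G | orderOf t = 2 ∧ t ∈ (⊤ : Subgroup G)} := by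
    ext t
    simp
  rw [this]
  exact Nat.card_coe_set_eq _

variable [Finite G]

/-- (K6a) orbit-stabilizer for the conjugation action. -/
theorem cls_mul_card_centralizer (t : G) :
    cls t * Nat.card (Subgroup.centralizer ({t} : Set G)) = Nat.card G := by
  have h1 := Nat.card_congr (MulAction.orbitProdStabilizerEquivGroup (ConjAct G) t)
  rw [Nat.card_prod] at h1
  have h2 : Nat.card (MulAction.orbit (ConjAct G) t) = cls t := by
    have hset : MulAction.orbit (ConjAct G) t = {s : G | IsConj t s} := by
      ext s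
      rw [ConjAct.mem_orbit_conjAct, isConj_comm]
      rfl
    rw [cls_eq_ncard, ← Nat.card_coe_set_eq, hset]
  rw [h2, ← Subgroup.nat_card_centralizer_nat_card_stabilizer] at h1
  exact h1

theorem cls_pos (t : G) : 0 < cls t := by
  unfold cls
  have : Nonempty {s : G // IsConj t s} := ⟨⟨t, IsConj.refl t⟩⟩
  exact Nat.card_pos

/-- (K6b) conjugate elements have centralizers of the same order and the same class size. -/
theorem card_centralizer_eq_of_isConj {a b : G} (h : IsConj a b) :
    Nat.card (Subgroup.centralizer ({a} : Set G)) = Nat.card (Subgroup.centralizer ({b} : Set G)) ∧ cls a = cls b := by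
  have hcls : cls a = cls b := by
    rw [cls_eq_ncard, cls_eq_ncard]
    congr 1
    ext s
    exact ⟨fun hs => h.symm.trans hs, fun hs => h.trans hs⟩
  refine ⟨?_, hcls⟩
  have h1 := cls_mul_card_centralizer a
  have h2 := cls_mul_card_centralizer b
  rw [hcls, ← h2] at h1
  exact Nat.eq_of_mul_eq_mul_left (cls_pos b) h1

omit [Finite G] in
theorem orderOf_eq_of_isConj {a b : G} (h : IsConj a b) : orderOf a = orderOf b := by
  obtain ⟨c, hc⟩ := isConj_iff.1 h
  rw [← hc]
  exact ((MulAut.conj c).orderOf_eq a).symm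

theorem class_subset_inv (a : G) (ha : orderOf a = 2) :
    {s : G | IsConj a s} ⊆ {t : G | orderOf t = 2} := by
  intro s hs
  show orderOf s = 2
  rw [← orderOf_eq_of_isConj hs, ha]

/-- (K6c) classes of involutions are disjoint sets of involutions. -/
theorem cls_le_inv (a : G) (ha : orderOf a = 2) : cls a ≤ inv (⊤ : Subgroup G) := by
  rw [cls_eq_ncard, inv_top_eq_ncard]
  exact Set.ncard_le_ncard (class_subset_inv a ha) (Set.toFinite _)

omit [Finite G] in
theorem class_disjoint {a b : G} (hab : ¬ IsConj a b) :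
    Disjoint {s : G | IsConj a s} {s : G | IsConj b s} := by
  rw [Set.disjoint_left]
  intro s hs hs'
  exact hab (IsConj.trans hs (IsConj.symm hs'))

theorem cls_add_le_inv (a b : G) (ha : orderOf a = 2) (hb : orderOf b = 2) (hab : ¬ IsConj a b) :
    cls a + cls b ≤ inv (⊤ : Subgroup G) := by
  rw [cls_eq_ncard, cls_eq_ncard, inv_top_eq_ncard,
    ← Set.ncard_union_eq (class_disjoint hab) (Set.toFinite _) (Set.toFinite _)]
  exact Set.ncard_le_ncard (Set.union_subset (class_subset_inv a ha) (class_subset_inv b hb))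
    (Set.toFinite _)

theorem cls_add_add_le_inv (a b c : G) (ha : orderOf a = 2) (hb : orderOf b = 2) (hc : orderOf c = 2)
    (hab : ¬ IsConj a b) (hac : ¬ IsConj a c) (hbc : ¬ IsConj b c) :
    cls a + cls b + cls c ≤ inv (⊤ : Subgroup G) := by
  have hd : Disjoint ({s : G | IsConj a s} ∪ {s : G | IsConj b s}) {s : G | IsConj c s} := by
    rw [Set.disjoint_union_left]
    exact ⟨class_disjoint hac, class_disjoint hbc⟩
  rw [cls_eq_ncard, cls_eq_ncard, cls_eq_ncard, inv_top_eq_ncard,
    ← Set.ncard_union_eq (class_disjoint hab) (Set.toFinite _) (Set.toFinite _),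
    ← Set.ncard_union_eq hd (Set.toFinite _) (Set.toFinite _)]
  exact Set.ncard_le_ncard (Set.union_subset (Set.union_subset (class_subset_inv a ha)
    (class_subset_inv b hb)) (class_subset_inv c hc)) (Set.toFinite _)

theorem isConj_of_cls_eq_inv (a : G) (ha : orderOf a = 2) (h : cls a = inv (⊤ : Subgroup G))
    (x : G) (hx : orderOf x = 2) : IsConj a x := by
  rw [cls_eq_ncard, inv_top_eq_ncard] at h
  have heq := Set.eq_of_subset_of_ncard_le (class_subset_inv a ha) (le_of_eq h.symm) (Set.toFinite _)
  have : x ∈ {t : G | orderOf t = 2} := hx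
  rw [← heq] at this
  exact this

end Cfsg.Agent.Helper77.M11LA
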