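import Mathlib
import Cfsg.Agent.Lib.Helper7.M11LADefs

/-!
# M11LA (K10) for helper7's S0435 server: case II, `|C(y)| = 10` and `|C(z)| ∈ {20, 120, 720}`.
-/

set_option autoImplicit false

namespace Cfsg.Agent.Helper77.M11LA

open Cfsg.Agent.Helper7.M11LA

variable {G : Type*} [Group G] [Finite G]

theorem factorization_7920_five : (7920 : ℕ).factorization 5 = 1 := by
  have h : (7920 : ℕ) = 5 ^ 1 * 1584 := by norm_num
  rw [h, Nat.factorization_mul (by norm_num) (by norm_num),
    Nat.Prime.factorization_pow (by norm_num)]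
  simp [Nat.factorization_eq_zero_of_not_dvd (show ¬ 5 ∣ 1584 by norm_num)]

theorem factorization_7920_eleven : (7920 : ℕ).factorization 11 = 1 := by
  have h : (7920 : ℕ) = 11 ^ 1 * 720 := by norm_num
  rw [h, Nat.factorization_mul (by norm_num) (by norm_num),
    Nat.Prime.factorization_pow (by norm_num)]
  simp [Nat.factorization_eq_zero_of_not_dvd (show ¬ 11 ∣ 720 by norm_num)]

omit [Finite G] in
theorem centralizer_singleton_eq_zpowers (y : G) :
    Subgroup.centralizer ({y} : Set G) = Subgroup.centralizer ((Subgroup.zpowers y : Subgroup G) : Set G) := by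
  ext g
  constructor
  · intro hg
    rw [Subgroup.mem_centralizer_iff]
    intro x hx
    obtain ⟨k, rfl⟩ := Subgroup.mem_zpowers_iff.1 hx
    have h1 : Commute y g := (Subgroup.mem_centralizer_iff.1 hg) y rfl
    exact (h1.zpow_left k).eq
  · intro hg
    rw [Subgroup.mem_centralizer_iff]
    rintro _ rfl
    exact (Subgroup.mem_centralizer_iff.1 hg) _ (Subgroup.mem_zpowers _)

/-- a cyclic subgroup of order `p` with `p ∥ |G|` is (the carrier of) a Sylow `p`-subgroup -/
theorem exists_sylow_eq_zpowers {p : ℕ} [Fact p.Prime] (hfac : (Nat.card G).factorization p = 1)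
    (x : G) (hx : orderOf x = p) : ∃ P : Sylow p G, (P : Subgroup G) = Subgroup.zpowers x := by
  have hY : Nat.card (Subgroup.zpowers x) = p := by rw [Nat.card_zpowers, hx]
  have hpg : IsPGroup p (Subgroup.zpowers x) := IsPGroup.of_card (n := 1) (by rw [hY, pow_one])
  obtain ⟨P, hYP⟩ := hpg.exists_le_sylow
  have hPcard : Nat.card (P : Subgroup G) = p := by
    rw [Sylow.card_eq_multiplicity, hfac, pow_one]
  exact ⟨P, (Subgroup.eq_of_le_of_card_ge hYP (by rw [hPcard, hY])).symm⟩

/-- Burnside: in a simple group of order 7920 a Sylow 5-subgroup is not central in its normalizer -/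
theorem not_normalizer_le_centralizer [IsSimpleGroup G] (hord : Nat.card G = 7920) (P : Sylow 5 G)
    (hPcard : Nat.card (P : Subgroup G) = 5)
    (hP : Subgroup.normalizer ((P : Subgroup G) : Set G) ≤
      Subgroup.centralizer ((P : Subgroup G) : Set G)) : False := by
  have : Fact (Nat.Prime 5) := ⟨by norm_num⟩
  have hc := MonoidHom.ker_transferSylow_isComplement' P hP
  have h1 := hc.card_mul_card
  rw [hord] at h1
  have h2 : Nat.card (MonoidHom.transferSylow P hP).ker = 1584 := by
    have h4 : Nat.card (MonoidHom.transferSylow P hP).ker * 5 = 7920 := by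
      calc Nat.card (MonoidHom.transferSylow P hP).ker * 5
          = Nat.card (MonoidHom.transferSylow P hP).ker * Nat.card (P : Subgroup G) := by
            rw [hPcard]
        _ = 7920 := h1
    omega
  rcases (MonoidHom.transferSylow P hP).normal_ker.eq_bot_or_eq_top with h | h
  · rw [h, Subgroup.card_bot] at h2
    omega
  · rw [h, Subgroup.card_top, hord] at h2
    omega

theorem card_centralizer_five (F : Facts G) (z y : G) (hz : orderOf z = 2) (hy : orderOf y = 5)
    (hzy : Commute z y) : Nat.card (Subgroup.centralizer ({y} : Set G)) = 10 := by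
  have hsimple := F.simple
  have hcard := F.card
  have : Fact (Nat.Prime 5) := ⟨by norm_num⟩
  obtain ⟨P, hPeq⟩ := exists_sylow_eq_zpowers (p := 5)
    (by rw [hcard]; exact factorization_7920_five) y hy
  have hPcard : Nat.card (P : Subgroup G) = 5 := by rw [hPeq, Nat.card_zpowers, hy]
  have hCy : Subgroup.centralizer ({y} : Set G) =
      Subgroup.centralizer ((P : Subgroup G) : Set G) := by
    rw [hPeq]; exact centralizer_singleton_eq_zpowers y
  have hCN : Subgroup.centralizer ({y} : Set G) ≤
      Subgroup.normalizer ((P : Subgroup G) : Set G) := by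
    rw [hCy]; exact Subgroup.centralizer_le_normalizer _
  have hd20 : Nat.card (Subgroup.centralizer ({y} : Set G)) ∣ 20 := by
    have := Subgroup.card_dvd_of_le hCN
    rwa [F.np P] at this
  have hyC : y ∈ Subgroup.centralizer ({y} : Set G) := by
    rw [Subgroup.mem_centralizer_iff]; rintro _ rfl; rfl
  have hzC : z ∈ Subgroup.centralizer ({y} : Set G) := by
    rw [Subgroup.mem_centralizer_iff]; rintro _ rfl; exact hzy.eq.symm
  have h5 : 5 ∣ Nat.card (Subgroup.centralizer ({y} : Set G)) := by
    have := orderOf_dvd_natCard (⟨y, hyC⟩ : Subgroup.centralizer ({y} : Set G))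
    rwa [← Subgroup.orderOf_coe, hy] at this
  have h2 : 2 ∣ Nat.card (Subgroup.centralizer ({y} : Set G)) := by
    have := orderOf_dvd_natCard (⟨z, hzC⟩ : Subgroup.centralizer ({y} : Set G))
    rwa [← Subgroup.orderOf_coe, hz] at this
  have h10 : 10 ∣ Nat.card (Subgroup.centralizer ({y} : Set G)) :=
    Nat.Coprime.mul_dvd_of_dvd_of_dvd (by norm_num : Nat.Coprime 2 5) h2 h5
  have hle : Nat.card (Subgroup.centralizer ({y} : Set G)) ≤ 20 := Nat.le_of_dvd (by norm_num) hd20
  obtain ⟨k, hk⟩ := h10
  have hk12 : k = 1 ∨ k = 2 := by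
    have hk2 : k ≤ 2 := by omega
    have hk0 : k ≠ 0 := by
      rintro rfl
      rw [hk] at hd20
      norm_num at hd20
    omega
  rcases hk12 with rfl | rfl
  · omega
  · exfalso
    have h20 : Nat.card (Subgroup.centralizer ({y} : Set G)) =
        Nat.card (Subgroup.normalizer ((P : Subgroup G) : Set G)) := by
      rw [F.np P, hk]
    have heq := Subgroup.eq_of_le_of_card_ge hCN (le_of_eq h20.symm)
    exact not_normalizer_le_centralizer hcard P hPcard (by rw [← hCy, heq])

omit [Finite G] in
/-- `C(y)` of order 10 (`y` of order 5) contains a unique involution -/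
theorem involution_unique (y z w : G) (hy : orderOf y = 5) (hz : orderOf z = 2)
    (hw : orderOf w = 2) (hzy : Commute z y) (hwy : Commute w y)
    (hK : Nat.card (Subgroup.centralizer ({y} : Set G)) = 10) : w = z := by
  have hzK : z ∈ Subgroup.centralizer ({y} : Set G) := by
    rw [Subgroup.mem_centralizer_iff]; rintro _ rfl; exact hzy.eq.symm
  have hwK : w ∈ Subgroup.centralizer ({y} : Set G) := by
    rw [Subgroup.mem_centralizer_iff]; rintro _ rfl; exact hwy.eq.symm
  have hYK : Subgroup.zpowers y ≤ Subgroup.centralizer ({y} : Set G) := by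
    rw [Subgroup.zpowers_le, Subgroup.mem_centralizer_iff]; rintro _ rfl; rfl
  have hH'card : Nat.card ((Subgroup.zpowers y).subgroupOf (Subgroup.centralizer ({y} : Set G))) = 5 := by
    rw [Nat.card_congr (Subgroup.subgroupOfEquivOfLe hYK).toEquiv, Nat.card_zpowers, hy]
  have hidx : ((Subgroup.zpowers y).subgroupOf (Subgroup.centralizer ({y} : Set G))).index = 2 := by
    have := ((Subgroup.zpowers y).subgroupOf (Subgroup.centralizer ({y} : Set G))).card_mul_index
    rw [hH'card, hK] at this
    omega
  have hnot : ∀ v : G, orderOf v = 2 → v ∉ Subgroup.zpowers y := by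
    intro v hv hmem
    have := Subgroup.orderOf_dvd_natCard _ hmem
    rw [hv, Nat.card_zpowers, hy] at this
    omega
  have key : (⟨w, hwK⟩ : Subgroup.centralizer ({y} : Set G)) * (⟨z, hzK⟩)⁻¹ ∈
      (Subgroup.zpowers y).subgroupOf (Subgroup.centralizer ({y} : Set G)) := by
    rw [Subgroup.mul_mem_iff_of_index_two hidx]
    constructor <;> intro h <;> exfalso
    · exact hnot w hw (Subgroup.mem_subgroupOf.1 h)
    · have h' : z⁻¹ ∈ Subgroup.zpowers y := Subgroup.mem_subgroupOf.1 h
      exact hnot z hz ((Subgroup.inv_mem_iff _).1 h')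
  have h1 : w * z⁻¹ ∈ Subgroup.zpowers y := Subgroup.mem_subgroupOf.1 key
  obtain ⟨k, hk⟩ := Subgroup.mem_zpowers_iff.1 h1
  have hw2 : w ^ 2 = 1 := by rw [← hw]; exact pow_orderOf_eq_one w
  have hz2 : z ^ 2 = 1 := by rw [← hz]; exact pow_orderOf_eq_one z
  have hwe : w = y ^ k * z := by rw [hk]; group
  have hc : Commute (y ^ k) z := (hzy.symm.zpow_left k)
  have hyk2 : (y ^ k) ^ 2 = 1 := by
    have := hw2
    rw [hwe, hc.mul_pow, hz2, mul_one] at this
    exact this
  have hyk : y ^ k = 1 := by
    rw [← zpow_natCast, ← zpow_mul] at hyk2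
    have hd := orderOf_dvd_iff_zpow_eq_one.2 hyk2
    rw [hy] at hd
    have h5 : ((5 : ℕ) : ℤ) ∣ k := by
      push_cast at hd ⊢
      omega
    rw [← hy] at h5
    exact orderOf_dvd_iff_zpow_eq_one.1 h5
  rw [hwe, hyk, one_mul]

/-- `N(⟨y⟩) ≤ C(z)` -/
theorem normalizer_le_centralizer_involution (y z : G) (hy : orderOf y = 5) (hz : orderOf z = 2)
    (hzy : Commute z y) (hK : Nat.card (Subgroup.centralizer ({y} : Set G)) = 10) :
    Subgroup.normalizer ((Subgroup.zpowers y : Subgroup G) : Set G) ≤
      Subgroup.centralizer ({z} : Set G) := by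
  intro n hn
  have hmem : n⁻¹ * y * n ∈ Subgroup.zpowers y := by
    have := (Subgroup.mem_normalizer_iff.1 hn (n⁻¹ * y * n)).2
    apply this
    have : n * (n⁻¹ * y * n) * n⁻¹ = y := by group
    rw [this]
    exact Subgroup.mem_zpowers y
  obtain ⟨j, hj⟩ := Subgroup.mem_zpowers_iff.1 hmem
  have hcomm : Commute z (n⁻¹ * y * n) := by rw [← hj]; exact hzy.zpow_right j
  have hwy : Commute (n * z * n⁻¹) y := by
    show (n * z * n⁻¹) * y = y * (n * z * n⁻¹)
    calc (n * z * n⁻¹) * y = n * (z * (n⁻¹ * y * n)) * n⁻¹ := by group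
      _ = n * ((n⁻¹ * y * n) * z) * n⁻¹ := by rw [hcomm.eq]
      _ = y * (n * z * n⁻¹) := by group
  have hw : orderOf (n * z * n⁻¹) = 2 := by
    rw [← hz]; exact (MulAut.conj n).orderOf_eq z
  have heq := involution_unique y z (n * z * n⁻¹) hy hz hw hzy hwy hK
  rw [Subgroup.mem_centralizer_iff]
  intro h hh
  rw [Set.mem_singleton_iff.1 hh]
  calc z * n = (n * z * n⁻¹) * n := by rw [heq]
    _ = n * z := by group

/-- no element of order 11 commutes with an involution -/
theorem not_eleven_dvd_card_centralizer (F : Facts G) (z : G) (hz : orderOf z = 2) :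
    ¬ 11 ∣ Nat.card (Subgroup.centralizer ({z} : Set G)) := by
  intro h11
  have : Fact (Nat.Prime 11) := ⟨by norm_num⟩
  obtain ⟨x', hx'⟩ := exists_prime_orderOf_dvd_card' (G := Subgroup.centralizer ({z} : Set G)) 11 h11
  have hx : orderOf (x' : G) = 11 := by rw [Subgroup.orderOf_coe]; exact hx'
  obtain ⟨Q, hQ⟩ := exists_sylow_eq_zpowers (p := 11)
    (by rw [F.card]; exact factorization_7920_eleven) (x' : G) hx
  have hzQ : z ∈ Subgroup.centralizer ((Q : Subgroup G) : Set G) := by
    rw [hQ, ← centralizer_singleton_eq_zpowers, Subgroup.mem_centralizer_iff]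
    rintro _ rfl
    exact ((Subgroup.mem_centralizer_iff.1 x'.2) z rfl).symm
  have := Subgroup.orderOf_dvd_natCard _ hzQ
  rw [hz, F.cq Q] at this
  omega

/-- (K10) Case II (`z` involution commuting with `y` of order 5). -/
theorem caseII_cz (F : Facts G) (z y : G) (hz : orderOf z = 2) (hy : orderOf y = 5)
    (hzy : Commute z y) :
    Nat.card (Subgroup.centralizer ({y} : Set G)) = 10 ∧
      (Nat.card (Subgroup.centralizer ({z} : Set G)) = 20 ∨
        Nat.card (Subgroup.centralizer ({z} : Set G)) = 120 ∨
        Nat.card (Subgroup.centralizer ({z} : Set G)) = 720) := by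
  have hCy := card_centralizer_five F z y hz hy hzy
  refine ⟨hCy, ?_⟩
  have : Fact (Nat.Prime 5) := ⟨by norm_num⟩
  obtain ⟨P, hPeq⟩ := exists_sylow_eq_zpowers (p := 5)
    (by rw [F.card]; exact factorization_7920_five) y hy
  have hNK : Subgroup.normalizer ((P : Subgroup G) : Set G) ≤ Subgroup.centralizer ({z} : Set G) := by
    rw [hPeq]; exact normalizer_le_centralizer_involution y z hy hz hzy hCy
  have hPK : (P : Subgroup G) ≤ Subgroup.centralizer ({z} : Set G) :=
    Subgroup.le_normalizer.trans hNK
  have h11 := not_eleven_dvd_card_centralizer F z hz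
  have hdvd : Nat.card (Subgroup.centralizer ({z} : Set G)) ∣ 720 := by
    have h1 : Nat.card (Subgroup.centralizer ({z} : Set G)) ∣ 720 * 11 := by
      have := Subgroup.card_subgroup_dvd_card (Subgroup.centralizer ({z} : Set G))
      rwa [F.card] at this
    have hcop : Nat.Coprime (Nat.card (Subgroup.centralizer ({z} : Set G))) 11 :=
      (Nat.Coprime.symm ((Nat.Prime.coprime_iff_not_dvd (by norm_num)).2 h11))
    exact hcop.dvd_of_dvd_mul_right h1
  -- Sylow count in `C(z)`
  have h1 : Nat.card (Sylow 5 (Subgroup.centralizer ({z} : Set G))) ≡ 1 [MOD 5] :=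
    card_sylow_modEq_one 5 _
  have h2 := Sylow.card_eq_index_normalizer (P.subtype hPK)
  have h3 : Subgroup.normalizer (((P.subtype hPK : Sylow 5 (Subgroup.centralizer ({z} : Set G))) :
      Subgroup (Subgroup.centralizer ({z} : Set G))) : Set (Subgroup.centralizer ({z} : Set G))) =
      (Subgroup.normalizer ((P : Subgroup G) : Set G)).subgroupOf (Subgroup.centralizer ({z} : Set G)) := by
    rw [Sylow.coe_subtype]
    exact (Subgroup.subgroupOf_normalizer_eq hPK).symm
  have h4 : Nat.card ((Subgroup.normalizer ((P : Subgroup G) : Set G)).subgroupOf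
      (Subgroup.centralizer ({z} : Set G))) = 20 := by
    rw [Nat.card_congr (Subgroup.subgroupOfEquivOfLe hNK).toEquiv, F.np P]
  have h5 := ((Subgroup.normalizer ((P : Subgroup G) : Set G)).subgroupOf
      (Subgroup.centralizer ({z} : Set G))).card_mul_index
  rw [h4] at h5
  have h6 : Nat.card (Sylow 5 (Subgroup.centralizer ({z} : Set G))) =
      ((Subgroup.normalizer ((P : Subgroup G) : Set G)).subgroupOf
        (Subgroup.centralizer ({z} : Set G))).index := by
    rw [h2]
    exact congrArg Subgroup.index h3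
  rw [← h6] at h5
  generalize Nat.card (Sylow 5 (Subgroup.centralizer ({z} : Set G))) = n at h1 h5
  generalize Nat.card (Subgroup.centralizer ({z} : Set G)) = c at hdvd h5
  subst h5
  have hn36 : n ∣ 36 := by
    have : 20 * n ∣ 20 * 36 := by norm_num; exact hdvd
    exact Nat.dvd_of_mul_dvd_mul_left (by norm_num) this
  have hle : n ≤ 36 := Nat.le_of_dvd (by norm_num) hn36
  have hmod : n % 5 = 1 := h1
  interval_cases n <;> omega

end Cfsg.Agent.Helper77.M11LA
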