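import Mathlib
import Cfsg.Prelude.Def_FusionSystem
import Cfsg.Agent.Lib.Helper87.Om7Defs

/-!
# OM7 (API1) for helper87's S2647 server: the frame and the action
-/

set_option autoImplicit false
set_option linter.unusedSectionVars false

namespace Cfsg.Agent.Helper77.Om7

open Matrix QuadraticMap Cfsg.Agent.Helper36.QuadInv Cfsg.Agent.Helper36.OmegaTrans
  Cfsg.Agent.Helper43 Cfsg.Agent.Helper87.Om7

variable {F : Type*} [Field F] [Fintype F] [DecidableEq F] {ι : Type} [Fintype ι] [DecidableEq ι]
variable {Q : QuadraticForm F (ι → F)} {c : F} {f : Fin 7 → ι → F}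

theorem frame_Q_ne (hF : Frame Q c f) (i : Fin 7) : Q (f i) ≠ 0 := by
  rw [hF.norm]; exact hF.c0

theorem frame_Q_sub (hF : Frame Q c f) {a b : Fin 7} (hab : a ≠ b) : Q (f a - f b) = 2 * c := by
  have h1 : f a - f b = f a + (-f b) := sub_eq_add_neg _ _
  rw [h1, QuadraticMap.map_add Q, QuadraticMap.map_neg, QuadraticMap.polar_neg_right,
    hF.orth a b hab, hF.norm, hF.norm]
  ring

theorem frame_Q_sub_ne (hF : Frame Q c f) {a b : Fin 7} (hab : a ≠ b) : Q (f a - f b) ≠ 0 := by
  rw [frame_Q_sub hF hab]; exact mul_ne_zero hF.two hF.c0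

theorem frame_polar_self (hF : Frame Q c f) (i : Fin 7) : polar Q (f i) (f i) = 2 * c := by
  rw [QuadraticMap.polar_self, hF.norm]
  simp

theorem api1_polar_frame (hF : Frame Q c f) (i j : Fin 7) :
    polar Q (f i) (f j) = if i = j then 2 * c else 0 := by
  split_ifs with h
  · subst h; exact frame_polar_self hF i
  · exact hF.orth i j h

theorem api1_linearIndependent (hF : Frame Q c f) : LinearIndependent F f := by
  rw [Fintype.linearIndependent_iff]
  intro g hg j
  have h1 : polar Q (f j) (∑ i, g i • f i) = g j * (2 * c) := by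
    have e : polar Q (f j) (∑ i, g i • f i) = polarBilin Q (f j) (∑ i, g i • f i) := rfl
    rw [e, map_sum]
    simp only [map_smul, smul_eq_mul, polarBilin_apply_apply, api1_polar_frame hF]
    simp
  rw [hg] at h1
  have h0 : polar Q (f j) 0 = 0 := by
    have e : polar Q (f j) 0 = polarBilin Q (f j) 0 := rfl
    rw [e, map_zero]
  rw [h0] at h1
  rcases mul_eq_zero.1 h1.symm with h | h
  · exact h
  · exact absurd h (mul_ne_zero hF.two hF.c0)

theorem api1_span (hF : Frame Q c f) : Submodule.span F (Set.range f) = ⊤ := by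
  apply (api1_linearIndependent hF).span_eq_top_of_card_eq_finrank'
  rw [Module.finrank_fintype_fun_eq_card, hF.card, Fintype.card_fin]

/-- a vector orthogonal to the frame is zero -/
theorem api1_eq_zero (hF : Frame Q c f) (w : ι → F) (h : ∀ i, polar Q w (f i) = 0) : w = 0 := by
  apply hF.nd.1 w
  intro x
  have e : polarBilin Q w = 0 := by
    apply LinearMap.ext_on_range (api1_span hF)
    intro i
    rw [polarBilin_apply_apply, h i, LinearMap.zero_apply]
  rw [e, LinearMap.zero_apply]

/-- coordinates in the frame -/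
theorem frame_repr (hF : Frame Q c f) (v : ι → F) :
    v = ∑ i, ((2 * c)⁻¹ * polar Q (f i) v) • f i := by
  have h2c : (2 * c : F) ≠ 0 := mul_ne_zero hF.two hF.c0
  rw [← sub_eq_zero]
  apply api1_eq_zero hF
  intro j
  have e : polar Q (v - ∑ i, ((2 * c)⁻¹ * polar Q (f i) v) • f i) (f j) =
      polarBilin Q (f j) (v - ∑ i, ((2 * c)⁻¹ * polar Q (f i) v) • f i) := by
    rw [polarBilin_apply_apply, polar_comm]
  rw [e, map_sub, map_sum]
  simp only [map_smul, smul_eq_mul, polarBilin_apply_apply, api1_polar_frame hF]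
  simp only [mul_ite, mul_zero, Finset.sum_ite_eq, Finset.mem_univ, if_true]
  have key : (2 * c)⁻¹ * polar Q (f j) v * (2 * c) = polar Q (f j) v := by
    rw [mul_comm, ← mul_assoc, mul_inv_cancel₀ h2c, one_mul]
  rw [key, sub_self]

theorem frame_coord_ext (hF : Frame Q c f) (v w : ι → F)
    (h : ∀ i, polar Q (f i) v = polar Q (f i) w) : v = w := by
  rw [frame_repr hF v, frame_repr hF w]
  apply Finset.sum_congr rfl
  intro i _
  rw [h i]

/-- an isometry is determined by its values on the frame -/
theorem frame_ext (hF : Frame Q c f) (g h : OG F ⇑Q)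
    (H : ∀ i, actHom (⇑Q) g (f i) = actHom (⇑Q) h (f i)) : g = h := by
  apply actHom_injective
  apply LinearEquiv.toLinearMap_injective
  apply LinearMap.ext_on_range (api1_span hF)
  intro i
  exact H i

theorem frame_injective (hF : Frame Q c f) (i j : Fin 7) (h : f i = f j ∨ f i = - f j) :
    i = j := by
  by_contra hij
  have h0 := hF.orth i j hij
  have h2c : (2 * c : F) ≠ 0 := mul_ne_zero hF.two hF.c0
  rcases h with h | h
  · rw [h, frame_polar_self hF j] at h0
    exact h2c h0
  · rw [h, QuadraticMap.polar_neg_left, frame_polar_self hF j, neg_eq_zero] at h0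
    exact h2c h0

theorem polar_act (g : OG F ⇑Q) (u v : ι → F) :
    polar Q (actHom (⇑Q) g u) (actHom (⇑Q) g v) = polar Q u v := by
  unfold QuadraticMap.polar
  rw [← map_add, Q_act g (u + v), Q_act g u, Q_act g v]

theorem act_reflIso' {v : ι → F} (hv : Q v ≠ 0) (x : ι → F) :
    actHom (⇑Q) (reflIso' Q v) x = x - ((Q v)⁻¹ * polar Q v x) • v := by
  rw [reflIso'_of_ne Q hv]
  exact act_reflIso Q hv x

end Cfsg.Agent.Helper77.Om7
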