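import Cfsg.Agent.Lib.Helper73.BG161Ctx
import Cfsg.Agent.Lib.Helper2.Nilpotent

/-!
# B–G Lemma 16.1 (S1435), piece (C2β) `beta_kill` of helper73's plan (helper77)

`Cfsg.Agent.Helper77.BG161.beta_kill` has the exact signature of
`tools/bg161_sigs_helper73.lean.txt`.
-/

set_option autoImplicit false

namespace Cfsg.Agent.Helper77.BG161

open Subgroup Cfsg.Agent.Helper73.BG161
open scoped commutatorElement

variable {G : Type*} [Group G]

/-- `M_σ ≤ M`. -/
theorem sigmaCore_le_self (M : Subgroup G) : Cfsg.sigmaCore M ≤ M := by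
  intro x hx
  obtain ⟨y, -, rfl⟩ := Subgroup.mem_map.mp hx
  exact y.2

/-- conjugation by elements of `M` preserves `M_σ`. -/
theorem conj_mem_sigmaCore (M : Subgroup G) {m x : G} (hm : m ∈ M) (hx : x ∈ Cfsg.sigmaCore M) :
    m * x * m⁻¹ ∈ Cfsg.sigmaCore M := by
  obtain ⟨y, hy, rfl⟩ := Subgroup.mem_map.mp hx
  refine Subgroup.mem_map.mpr ⟨⟨m, hm⟩ * y * ⟨m, hm⟩⁻¹, ?_, rfl⟩
  exact (Cfsg.piCore_normal (Cfsg.sigma M) M).conj_mem y hy ⟨m, hm⟩

/-- `Ω₁(O_p(Z(N)))` for a subgroup `N`: the elements `z ∈ N ∩ C(N)` with `z ^ p = 1`. -/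
def omegaCenter (p : ℕ) (N : Subgroup G) : Subgroup G where
  carrier := {z | z ∈ N ∧ z ∈ centralizer (N : Set G) ∧ z ^ p = 1}
  one_mem' := ⟨N.one_mem, (centralizer (N : Set G)).one_mem, one_pow p⟩
  mul_mem' := by
    rintro a b ⟨haN, haC, hap⟩ ⟨hbN, hbC, hbp⟩
    refine ⟨N.mul_mem haN hbN, (centralizer (N : Set G)).mul_mem haC hbC, ?_⟩
    have hc : Commute a b := (haC b hbN).symm
    rw [hc.mul_pow, hap, hbp, one_mul]
  inv_mem' := by
    rintro a ⟨haN, haC, hap⟩
    exact ⟨N.inv_mem haN, (centralizer (N : Set G)).inv_mem haC, by rw [inv_pow, hap, inv_one]⟩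

theorem mem_omegaCenter {p : ℕ} {N : Subgroup G} {z : G} :
    z ∈ omegaCenter p N ↔ z ∈ N ∧ z ∈ centralizer (N : Set G) ∧ z ^ p = 1 := Iff.rfl

/-- the join of two commuting elementary abelian subgroups is elementary abelian. -/
theorem isElementaryAbelian_sup {p : ℕ} {A B : Subgroup G} (hA : Cfsg.IsElementaryAbelian p A)
    (hB : Cfsg.IsElementaryAbelian p B) (hAB : A ≤ centralizer (B : Set G)) :
    Cfsg.IsElementaryAbelian p (A ⊔ B) := by
  have hAA : A ≤ centralizer (A : Set G) := le_centralizer_iff_isMulCommutative.mpr hA.1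
  have hBB : B ≤ centralizer (B : Set G) := le_centralizer_iff_isMulCommutative.mpr hB.1
  have hBA : B ≤ centralizer (A : Set G) := le_centralizer_iff.mp hAB
  have h1 : A ⊔ B ≤ centralizer (A : Set G) := sup_le hAA hBA
  have h2 : A ⊔ B ≤ centralizer (B : Set G) := sup_le hAB hBB
  have h3 : A ≤ centralizer ((A ⊔ B : Subgroup G) : Set G) := le_centralizer_iff.mp h1
  have h4 : B ≤ centralizer ((A ⊔ B : Subgroup G) : Set G) := le_centralizer_iff.mp h2
  have h5 : A ⊔ B ≤ centralizer ((A ⊔ B : Subgroup G) : Set G) := sup_le h3 h4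
  refine ⟨le_centralizer_iff_isMulCommutative.mp h5, ?_⟩
  -- exponent `p`
  let E : Subgroup G :=
    { carrier := {x | x ∈ A ⊔ B ∧ x ^ p = 1}
      one_mem' := ⟨(A ⊔ B).one_mem, one_pow p⟩
      mul_mem' := by
        rintro a b ⟨ha, hap⟩ ⟨hb, hbp⟩
        refine ⟨(A ⊔ B).mul_mem ha hb, ?_⟩
        have hc : Commute a b := (h5 ha b hb).symm
        rw [hc.mul_pow, hap, hbp, one_mul]
      inv_mem' := by
        rintro a ⟨ha, hap⟩
        exact ⟨(A ⊔ B).inv_mem ha, by rw [inv_pow, hap, inv_one]⟩ }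
  have hAE : A ≤ E := fun a ha => ⟨(le_sup_left : A ≤ A ⊔ B) ha, hA.2 a ha⟩
  have hBE : B ≤ E := fun b hb => ⟨(le_sup_right : B ≤ A ⊔ B) hb, hB.2 b hb⟩
  intro x hx
  exact ((sup_le hAE hBE) hx).2

/-- `N_G(Z)/C_G(Z)` is abelian for cyclic `Z`: commutators of elements normalizing `Z` centralize
`Z`. -/
theorem commutator_mem_centralizer_of_isCyclic (Z : Subgroup G) [hZ : IsCyclic Z] {a b : G}
    (ha : a ∈ normalizer (Z : Set G)) (hb : b ∈ normalizer (Z : Set G)) :
    ⁅a, b⁆ ∈ centralizer (Z : Set G) := by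
  have hcomm : ∀ x y : MulAut Z, x * y = y * x := by
    intro x y
    apply (IsCyclic.mulAutMulEquiv Z).injective
    rw [map_mul, map_mul, mul_comm]
  have hker : ⁅(⟨a, ha⟩ : normalizer (Z : Set G)), ⟨b, hb⟩⁆ ∈ Z.normalizerMonoidHom.ker := by
    rw [MonoidHom.mem_ker, map_commutatorElement, commutatorElement_def]
    rw [hcomm (Z.normalizerMonoidHom ⟨a, ha⟩) (Z.normalizerMonoidHom ⟨b, hb⟩)]
    group
  rw [Subgroup.normalizerMonoidHom_ker, Subgroup.mem_subgroupOf] at hker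
  exact hker

variable [Finite G]

/-- a nilpotent finite subgroup `N` of order divisible by `p` has `Ω₁(O_p(Z(N))) ≠ 1`. -/
theorem omegaCenter_ne_bot {p : ℕ} [Fact p.Prime] {N : Subgroup G} (hN : Group.IsNilpotent N)
    (hp : p ∣ Nat.card N) : omegaCenter p N ≠ ⊥ := by
  classical
  have P : Sylow p N := default
  have hPn : (P : Subgroup N).Normal := inferInstance
  have hP1 : (P : Subgroup N) ≠ ⊥ := P.ne_bot_of_dvd_card hp
  have hQ1 : (P : Subgroup N) ⊓ Subgroup.center N ≠ ⊥ :=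
    Cfsg.Agent.Helper2.normal_inf_center_ne_bot (P : Subgroup N) hP1
  have hQp : IsPGroup p ↥((P : Subgroup N) ⊓ Subgroup.center N) := P.2.to_le inf_le_left
  have hdvd : p ∣ Nat.card ↥((P : Subgroup N) ⊓ Subgroup.center N) := by
    rcases hQp.card_eq_or_dvd with h | h
    · exact absurd (Subgroup.card_eq_one.mp h) hQ1
    · exact h
  obtain ⟨w, hw⟩ := exists_prime_orderOf_dvd_card' p hdvd
  have hw1 : w ≠ 1 := by
    intro h
    rw [h, orderOf_one] at hw
    exact (Fact.out : p.Prime).one_lt.ne hw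
  have hwp : w ^ p = 1 := by
    have h := pow_orderOf_eq_one w
    rwa [hw] at h
  intro hbot
  apply hw1
  have hmem : ((w : N) : G) ∈ omegaCenter p N := by
    refine ⟨(w : N).2, ?_, ?_⟩
    · intro n hn
      have hc := Subgroup.mem_center_iff.mp (w.2.2) ⟨n, hn⟩
      exact congrArg Subtype.val hc
    · have : (((w ^ p : ↥((P : Subgroup N) ⊓ Subgroup.center N)) : N) : G) = 1 := by rw [hwp]; rfl
      simpa using this
  rw [hbot, Subgroup.mem_bot] at hmem
  have h2 : (w : N) = 1 := Subtype.ext hmem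
  exact Subtype.ext h2

/-- (C2β) the `p`-part of `M_σ` for `p ∣ |C_{M_σ}(K₁)|` (`K₁` any Hall `κ(M)`-subgroup) contains no
elementary abelian subgroup `A₁` of order `p²`, maximal among the elementary abelian subgroups of `G`,
having an element whose centralizer lies in a maximal subgroup other than `M`. -/
theorem beta_kill (f : Facts G) {M K U Mstar : Subgroup G} (pp : PP M K U Mstar)
    (hCU : Cfsg.sigmaCore M ⊓ centralizer (U : Set G) = ⊥)
    (hMnil : Group.IsNilpotent (Cfsg.sigmaCore M))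
    (K₁ : Subgroup G) (hK₁ : Cfsg.IsPiHallOf (Cfsg.kappa M) K₁ M) (hK₁1 : K₁ ≠ ⊥)
    (p : ℕ) [Fact p.Prime]
    (hp : p ∣ Nat.card ↥(Cfsg.sigmaCore M ⊓ centralizer (K₁ : Set G)))
    (A₁ : Subgroup G) (hA₁M : A₁ ≤ Cfsg.sigmaCore M) (hA₁ : Cfsg.IsElementaryAbelian p A₁)
    (hA₁c : Nat.card A₁ = p ^ 2)
    (hmax : ∀ B : Subgroup G, Cfsg.IsElementaryAbelian p B → A₁ ≤ B → B = A₁)
    (y : G) (hy : y ∈ A₁) (H₁ : Subgroup G) (hH₁ : IsCoatom H₁)
    (hyH₁ : centralizer ({y} : Set G) ≤ H₁) (hne : H₁ ≠ M) : False := by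
  classical
  have hpp : p.Prime := Fact.out
  set N : Subgroup G := Cfsg.sigmaCore M with hNdef
  set Z : Subgroup G := omegaCenter p N with hZdef
  -- `Z ≠ 1`
  have hpN : p ∣ Nat.card N := hp.trans (Subgroup.card_dvd_of_le inf_le_left)
  have hZ1 : Z ≠ ⊥ := omegaCenter_ne_bot hMnil hpN
  have hZN : Z ≤ N := fun z hz => hz.1
  have hZC : Z ≤ centralizer (N : Set G) := fun z hz => hz.2.1
  -- `Z` is elementary abelian and centralizes `A₁`
  have hZel : Cfsg.IsElementaryAbelian p Z := by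
    refine ⟨le_centralizer_iff_isMulCommutative.mp ?_, fun z hz => hz.2.2⟩
    intro z hz w hw
    exact hz.2.1 w hw.1
  have hZA : Z ≤ centralizer (A₁ : Set G) := by
    intro z hz a ha
    exact hz.2.1 a (hA₁M ha)
  -- `Z ≤ A₁`
  have hZleA : Z ≤ A₁ := by
    have h := hmax (Z ⊔ A₁) (isElementaryAbelian_sup hZel hA₁ hZA) le_sup_right
    rw [← h]
    exact le_sup_left
  -- `Z ≠ A₁`
  have hZneA : Z ≠ A₁ := by
    intro hEq
    have hyZ : y ∈ Z := hEq ▸ hy
    have hNy : N ≤ centralizer ({y} : Set G) := by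
      intro n hn
      rw [Subgroup.mem_centralizer_singleton_iff]
      exact (hyZ.2.1 n hn)
    have hNH : N ≤ H₁ := hNy.trans hyH₁
    obtain ⟨-, -, h3, -⟩ := f.t1431 M pp.hM K₁ hK₁ hK₁1
    obtain ⟨hun, hSM, -⟩ := h3 p hpp hp (default : Sylow p ↥N)
    have hSN : ((default : Sylow p ↥N) : Subgroup ↥N).map N.subtype ≤ N := by
      intro x hx
      obtain ⟨w, -, rfl⟩ := Subgroup.mem_map.mp hx
      exact w.2
    exact hne (hun.unique ⟨hH₁, hSN.trans hNH⟩ ⟨pp.hM, hSM⟩)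
  -- `|Z| = p`
  have hZcard : Nat.card Z = p := by
    have hdvd : Nat.card Z ∣ p ^ 2 := hA₁c ▸ Subgroup.card_dvd_of_le hZleA
    obtain ⟨k, hk, hkeq⟩ := (Nat.dvd_prime_pow hpp).mp hdvd
    interval_cases k
    · exact absurd (Subgroup.card_eq_one.mp (by simpa using hkeq)) hZ1
    · simpa using hkeq
    · exfalso
      apply hZneA
      exact Subgroup.eq_of_le_of_card_ge hZleA (by rw [hkeq, hA₁c])
  have hZcyc : IsCyclic Z := by
    have : Fact (Nat.card Z).Prime := ⟨hZcard ▸ hpp⟩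
    exact isCyclic_of_prime_card rfl
  -- `M` normalizes `Z`
  have hconj : ∀ m ∈ M, ∀ z ∈ Z, m * z * m⁻¹ ∈ Z := by
    intro m hm z hz
    refine ⟨conj_mem_sigmaCore M hm hz.1, ?_, ?_⟩
    · intro n hn
      have hn' : m⁻¹ * n * m ∈ N := by
        have := conj_mem_sigmaCore M (M.inv_mem hm) hn
        simpa using this
      have hc : (m⁻¹ * n * m) * z = z * (m⁻¹ * n * m) := hz.2.1 _ hn'
      calc n * (m * z * m⁻¹) = m * ((m⁻¹ * n * m) * z) * m⁻¹ := by group
        _ = m * (z * (m⁻¹ * n * m)) * m⁻¹ := by rw [hc]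
        _ = m * z * m⁻¹ * n := by group
    · rw [conj_pow, hz.2.2, mul_one, mul_inv_cancel]
  have hMnorm : M ≤ normalizer (Z : Set G) := by
    intro m hm
    rw [Subgroup.mem_normalizer_iff]
    intro z
    constructor
    · exact fun hz => hconj m hm z hz
    · intro hz
      have := hconj m⁻¹ (M.inv_mem hm) _ hz
      simpa [mul_assoc] using this
  -- `[M, M]` centralizes `Z`
  have hcomm : ⁅M, M⁆ ≤ centralizer (Z : Set G) := by
    rw [Subgroup.commutator_le]
    intro a ha b hb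
    exact commutator_mem_centralizer_of_isCyclic Z (hMnorm ha) (hMnorm hb)
  obtain ⟨h1365, -⟩ := f.t1365 M pp.hM K U pp.hKU pp.hK1
  have hUC : U ≤ centralizer (Z : Set G) := by
    refine le_trans ?_ hcomm
    rw [h1365]
    exact le_sup_left
  have hZU : Z ≤ centralizer (U : Set G) := le_centralizer_iff.mp hUC
  apply hZ1
  rw [eq_bot_iff, ← hCU]
  exact le_inf hZN hZU

end Cfsg.Agent.Helper77.BG161
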