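import Mathlib
import Cfsg.Agent.Lib.Helper31.SCHDefs

/-!
# SCH (P1a), (P1b), (P1d), (P12) for helper31's S4394 server
-/

set_option autoImplicit false

namespace Cfsg.Agent.Helper77.SCH
open Cfsg Cfsg.Agent.Helper31.SCH

section P
variable {P : Type*} [Group P] [Finite P] {p : ℕ} [Fact p.Prime]

/-- a `p`-element killed by a prime `q ≠ p` is trivial -/
theorem h77_eq_one_of_pow_prime (hP : IsPGroup p P) {q : ℕ} (hq : q.Prime) (hqp : q ≠ p) (c : P)
    (hc : c ^ q = 1) : c = 1 := by
  obtain ⟨k, hk⟩ := hP c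
  have hcop : Nat.Coprime q (p ^ k) :=
    Nat.Coprime.pow_right k ((Nat.coprime_primes hq (Fact.out : p.Prime)).2 hqp)
  have := (pow_gcd_eq_one (a := c) (m := q) (n := p ^ k)).2 ⟨hc, hk⟩
  rw [Nat.Coprime.gcd_eq_one hcop, pow_one] at this
  exact this

/-- if `α c = c` and `α x = c * x` then `(α ^ k) x = c ^ k * x` -/
theorem h77_pow_apply (α : MulAut P) (x c : P) (hc : α c = c) (hx : α x = c * x) (k : ℕ) :
    (α ^ k) x = c ^ k * x := by
  induction k with
  | zero => simp
  | succ k ih =>
    rw [pow_succ', MulAut.mul_apply, ih, map_mul, map_pow, hc, hx, pow_succ, mul_assoc]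

/-- (P1a) -/
theorem closure_twist_eq_top (hP : IsPGroup p P) (α : MulAut P) (h : SA p α) :
    Subgroup.closure {y : P | ∃ x : P, y = α x * x⁻¹} = ⊤ := by
  by_contra hne
  set S : Set P := {y : P | ∃ x : P, y = α x * x⁻¹} with hS
  have hinv : ∀ x ∈ Subgroup.closure S, α x ∈ Subgroup.closure S := by
    intro x hx
    have hmap : (Subgroup.closure S).map α.toMonoidHom ≤ Subgroup.closure S := by
      rw [MonoidHom.map_closure, Subgroup.closure_le]
      rintro _ ⟨y, ⟨x, rfl⟩, rfl⟩
      apply Subgroup.subset_closure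
      refine ⟨α x, ?_⟩
      change α (α x * x⁻¹) = α (α x) * (α x)⁻¹
      rw [map_mul, map_inv]
    exact hmap (Subgroup.mem_map_of_mem _ hx)
  have hfix := h.fix _ hne hinv
  obtain ⟨q, hq, hqp, hαq⟩ := h.ord
  apply h.ne
  ext x
  rw [MulAut.one_apply]
  set c := α x * x⁻¹ with hc
  have hcS : c ∈ Subgroup.closure S := Subgroup.subset_closure ⟨x, rfl⟩
  have hαc : α c = c := hfix c hcS
  have hαx : α x = c * x := by rw [hc, inv_mul_cancel_right]
  have hk := h77_pow_apply α x c hαc hαx q
  rw [hαq, MulAut.one_apply] at hk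
  have hcq : c ^ q = 1 := by
    have : c ^ q * x = 1 * x := by rw [← hk, one_mul]
    exact mul_right_cancel this
  have hc1 : c = 1 := h77_eq_one_of_pow_prime hP hq hqp c hcq
  rw [hαx, hc1, one_mul]

theorem h77_nontrivial (α : MulAut P) (h : SA p α) : Nontrivial P := by
  by_contra hnt
  rw [not_nontrivial_iff_subsingleton] at hnt
  apply h.ne
  ext x
  exact Subsingleton.elim _ _

/-- characteristic subgroups are invariant under automorphisms -/
theorem h77_char_inv (H : Subgroup P) [hH : H.Characteristic] (α : MulAut P) :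
    ∀ z ∈ H, α z ∈ H := by
  intro z hz
  have hfix := hH.fixed α
  have hz' : z ∈ H.comap α.toMonoidHom := by rw [hfix]; exact hz
  exact hz'

/-- (P1b) -/
theorem cmt_fixed (hP : IsPGroup p P) (α : MulAut P) (h : SA p α) (x y : P) :
    α (cmt x y) = cmt x y := by
  have : Nontrivial P := h77_nontrivial α h
  have : Group.IsNilpotent P := hP.isNilpotent
  have hne : commutator P ≠ ⊤ := (Group.IsSolvable.commutator_lt_top_of_nontrivial P).ne
  have hmem : cmt x y ∈ commutator P := by
    rw [commutator_def]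
    exact Subgroup.commutator_mem_commutator (Subgroup.mem_top x) (Subgroup.mem_top y)
  exact h.fix (commutator P) hne (h77_char_inv (commutator P) α) (cmt x y) hmem

/-- (P1d) -/
theorem center_fixed (α : MulAut P) (h : SA p α) (hna : ∃ a b : P, a * b ≠ b * a) (z : P)
    (hz : z ∈ Subgroup.center P) : α z = z := by
  have hne : Subgroup.center P ≠ ⊤ := by
    intro htop
    obtain ⟨a, b, hab⟩ := hna
    apply hab
    have hb : b ∈ Subgroup.center P := by rw [htop]; exact Subgroup.mem_top b
    exact (Subgroup.mem_center_iff.1 hb) a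
  exact h.fix (Subgroup.center P) hne (h77_char_inv (Subgroup.center P) α) z hz

/-- (P12) -/
theorem endgame_inv (hP : IsPGroup p P) (hp2 : p ≠ 2) (α : MulAut P) (h : SA p α) (hα2 : α ^ 2 = 1)
    (hna : ∃ a b : P, a * b ≠ b * a) : False := by
  apply h.ne
  ext x
  rw [MulAut.one_apply]
  set w := x⁻¹ * α x with hw
  have hαα : α (α x) = x := by
    have : (α ^ 2) x = x := by rw [hα2, MulAut.one_apply]
    rwa [pow_two, MulAut.mul_apply] at this
  have hαw : α w = w⁻¹ := by
    rw [hw, map_mul, map_inv, hαα, mul_inv_rev, inv_inv]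
  have hne : Subgroup.zpowers w ≠ ⊤ := by
    intro htop
    obtain ⟨a, b, hab⟩ := hna
    apply hab
    have ha : a ∈ Subgroup.zpowers w := by rw [htop]; exact Subgroup.mem_top a
    have hb : b ∈ Subgroup.zpowers w := by rw [htop]; exact Subgroup.mem_top b
    obtain ⟨m, rfl⟩ := Subgroup.mem_zpowers_iff.1 ha
    obtain ⟨n, rfl⟩ := Subgroup.mem_zpowers_iff.1 hb
    rw [← zpow_add, ← zpow_add, add_comm]
  have hinv : ∀ y ∈ Subgroup.zpowers w, α y ∈ Subgroup.zpowers w := by
    intro y hy
    obtain ⟨n, rfl⟩ := Subgroup.mem_zpowers_iff.1 hy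
    rw [map_zpow, hαw]
    exact Subgroup.zpow_mem _ (Subgroup.inv_mem _ (Subgroup.mem_zpowers w)) n
  have hfw : α w = w := h.fix _ hne hinv w (Subgroup.mem_zpowers w)
  have hw2 : w ^ 2 = 1 := by
    rw [pow_two]
    calc w * w = w * α w := by rw [hfw]
      _ = w * w⁻¹ := by rw [hαw]
      _ = 1 := mul_inv_cancel w
  have hw1 : w = 1 :=
    h77_eq_one_of_pow_prime hP Nat.prime_two (fun h2 => hp2 h2.symm) w hw2
  have : x⁻¹ * α x = 1 := hw1
  rw [inv_mul_eq_one] at this
  exact this.symm

end P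

end Cfsg.Agent.Helper77.SCH
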