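import Mathlib
import Cfsg.Agent.Lib.Helper5.Order60
import Cfsg.Agent.Lib.Helper47.JPCJ2

/-!
# JPC (T7) for helper35's S4150 server: a 5-cycle and a 7-cycle on 7 points generate `≥ A₇`

Theory route: `G` is 3-transitive (J2), so `|G| = 210 · |F_s|` for every 3-set `s`; `G ≤ A₇` simple, so
the index is `1` or `≥ 7`, i.e. `G = A₇` or `|G| = 210`.  In the latter case every `F_s` is trivial, but
an involution of `G` (Cauchy) is even, hence of cycle type `{2,2}`, and fixes a 3-set pointwise.
-/

set_option autoImplicit false

namespace Cfsg.Agent.Helper77.JPC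

open Equiv Equiv.Perm MulAction Subgroup

universe u

/-- an even involution on 7 points moves exactly 4 points -/
theorem t7_support_card_of_even_involution {Ω : Type u} [Fintype Ω] [DecidableEq Ω]
    (hcard : Fintype.card Ω = 7) {t : Perm Ω} (ht : orderOf t = 2) (hsign : Perm.sign t = 1) :
    t.support.card = 4 := by
  have hprime : (orderOf t).Prime := by rw [ht]; exact Nat.prime_two
  obtain ⟨n, hn⟩ := cycleType_prime_order hprime
  rw [ht] at hn
  have hsum : t.cycleType.sum = t.support.card := sum_cycleType t
  have hsum' : t.cycleType.sum = 2 * (n + 1) := by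
    rw [hn, Multiset.sum_replicate, smul_eq_mul, mul_comm]
  have hcardm : Multiset.card t.cycleType = n + 1 := by rw [hn, Multiset.card_replicate]
  have hle : t.support.card ≤ 7 := by
    rw [← hcard]; exact Finset.card_le_univ _
  have hs := sign_of_cycleType t
  rw [hsign, hsum', hcardm] at hs
  have heven : Even (2 * (n + 1) + (n + 1)) := by
    by_contra hodd
    rw [Nat.not_even_iff_odd] at hodd
    rw [hodd.neg_one_pow] at hs
    exact absurd hs (by decide)
  have h2 : Even (n + 1) := by
    rcases heven with ⟨k, hk⟩
    exact ⟨k - (n + 1), by omega⟩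
  rcases h2 with ⟨k, hk⟩
  omega

/-- (T7) a 5-cycle and a 7-cycle on 7 points generate `≥ A₇`. -/
theorem alt_le_closure_seven {Ω : Type u} [Fintype Ω] [DecidableEq Ω]
    (hcard : Fintype.card Ω = 7) {x y : Perm Ω} (hx : x.IsCycle) (hx5 : x.support.card = 5)
    (hy : y.IsCycle) (hy7 : y.support.card = 7) :
    alternatingGroup Ω ≤ closure ({x, y} : Set (Perm Ω)) := by
  classical
  set G : Subgroup (Perm Ω) := closure ({x, y} : Set (Perm Ω)) with hG
  have hxG : x ∈ G := subset_closure (by simp)
  have hyG : y ∈ G := subset_closure (by simp)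
  have hNcard : Nat.card Ω = 7 := by rw [Nat.card_eq_fintype_card, hcard]
  have : Nontrivial Ω := by
    rw [← Fintype.one_lt_card_iff_nontrivial, hcard]; norm_num
  -- `G ≤ A₇`
  have hGA : G ≤ alternatingGroup Ω := by
    rw [hG, closure_le]
    intro z hz
    rcases hz with rfl | rfl
    · show z ∈ alternatingGroup Ω
      rw [mem_alternatingGroup, hx.sign, hx5]; decide
    · show z ∈ alternatingGroup Ω
      rw [mem_alternatingGroup, hy.sign, hy7]; decide
  -- transitivity
  have hysupp : y.support = Finset.univ := by
    apply Finset.eq_univ_of_card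
    rw [hy7, hcard]
  have htrans : IsPretransitive G Ω := by
    refine ⟨fun a b => ?_⟩
    have ha : y a ≠ a := by
      rw [← mem_support, hysupp]; exact Finset.mem_univ a
    have hb : y b ≠ b := by
      rw [← mem_support, hysupp]; exact Finset.mem_univ b
    obtain ⟨i, hi⟩ := hy.sameCycle ha hb
    exact ⟨⟨y ^ i, zpow_mem hyG i⟩, hi⟩
  have hprim : IsPreprimitive G Ω := by
    apply IsPreprimitive.of_prime_card
    rw [hNcard]; norm_num
  -- 3-transitivity
  have h3 : IsMultiplyPretransitive G Ω 3 := by
    have := Cfsg.Agent.Helper47.JPC.isMultiplyPretransitive_of_prime_cycle G hprim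
      Nat.prime_five (by rw [hcard]; norm_num) hx hx5 hxG
    rwa [hcard] at this
  -- `|G| = 210 |F_s|`
  have hcardG : ∀ s : Set Ω, s.ncard = 3 →
      Nat.card G = 210 * Nat.card (fixingSubgroup G s) := by
    intro s hs
    have h := h3.index_of_fixingSubgroup_mul hs
    rw [hNcard] at h
    have hidx : (fixingSubgroup G s).index = 210 := by
      have e1 : (7 - 3).factorial = 24 := by decide
      have e2 : (7 : ℕ).factorial = 5040 := by decide
      rw [e1, e2] at h
      omega
    rw [← (fixingSubgroup G s).index_mul_card, hidx]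
  -- the index of `G` in `A₇`
  have hAcard : Nat.card (alternatingGroup Ω) = 2520 := by
    rw [nat_card_alternatingGroup, hNcard]; decide
  by_cases htop : G.subgroupOf (alternatingGroup Ω) = ⊤
  · exact Subgroup.subgroupOf_eq_top.1 htop
  exfalso
  have hsimple : IsSimpleGroup (alternatingGroup Ω) :=
    alternatingGroup.isSimpleGroup (by rw [hNcard]; norm_num)
  have hbound := Cfsg.Agent.Helper5.card_le_factorial_index
    (G.subgroupOf (alternatingGroup Ω)) htop
  rw [hAcard] at hbound
  have hmul : (G.subgroupOf (alternatingGroup Ω)).index * Nat.card G = 2520 := by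
    rw [← hAcard, ← (G.subgroupOf (alternatingGroup Ω)).index_mul_card]
    congr 1
    exact (Nat.card_congr (Subgroup.subgroupOfEquivOfLe hGA).toEquiv).symm
  -- pick an involution
  have h2dvd : 2 ∣ Nat.card G := by
    obtain ⟨s, -, hs⟩ := Set.exists_subset_card_eq (s := (Set.univ : Set Ω)) (n := 3)
      (by rw [Set.ncard_univ, hNcard]; norm_num)
    rw [hcardG s hs]
    exact Dvd.dvd.mul_right (by norm_num) _
  obtain ⟨t, ht⟩ := exists_prime_orderOf_dvd_card' (G := G) 2 h2dvd
  have ht' : orderOf (t : Perm Ω) = 2 := by rw [Subgroup.orderOf_coe]; exact ht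
  have htsign : Perm.sign (t : Perm Ω) = 1 := mem_alternatingGroup.1 (hGA t.2)
  have hsupp := t7_support_card_of_even_involution hcard ht' htsign
  set s : Set Ω := (↑(((t : Perm Ω).support)ᶜ : Finset Ω) : Set Ω) with hs
  have hsn : s.ncard = 3 := by
    rw [hs, Set.ncard_coe_finset, Finset.card_compl, hcard, hsupp]
  have htF : t ∈ fixingSubgroup G s := by
    rw [mem_fixingSubgroup_iff]
    intro a ha
    rw [hs, Finset.mem_coe, Finset.mem_compl, notMem_support] at ha
    exact ha
  have hc := hcardG s hsn
  -- numerics: `|F_s| = 1`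
  have hF1 : Nat.card (fixingSubgroup G s) = 1 := by
    set i := (G.subgroupOf (alternatingGroup Ω)).index with hi
    set f := Nat.card (fixingSubgroup G s) with hf
    rw [hc] at hmul
    have hif : i * f = 12 := by nlinarith
    have hi7 : 7 ≤ i := by
      by_contra hlt
      push Not at hlt
      have : i.factorial ≤ (6 : ℕ).factorial := Nat.factorial_le (by omega)
      have e : (6 : ℕ).factorial = 720 := by decide
      omega
    have hfpos : 0 < f := Nat.card_pos
    have hi12 : i ≤ 12 := by nlinarith
    interval_cases i <;> omega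
  have ht1 : t = 1 := by
    have hsub : Subsingleton (fixingSubgroup G s) :=
      (Nat.card_eq_one_iff_unique.1 hF1).1
    have := Subsingleton.elim (⟨t, htF⟩ : fixingSubgroup G s) 1
    exact congrArg Subtype.val this
  rw [ht1, orderOf_one] at ht
  exact absurd ht (by norm_num)

end Cfsg.Agent.Helper77.JPC
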