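-- helper77: T3b-ii `psl2_tori` for helper4's S2202 plan.
import Mathlib
import Cfsg.Agent.S2503
import Cfsg.Agent.S3660
import Cfsg.Agent.Lib.Helper40.SL2

set_option autoImplicit false

namespace Cfsg.Agent.Helper77.AbInv

open Matrix

/-- the diagonal torus `u ↦ diag(u, u⁻¹)` of `SL₂(F)` -/
noncomputable def torusHom (F : Type*) [Field F] : Fˣ →* Matrix.SpecialLinearGroup (Fin 2) F where
  toFun u := Cfsg.Agent.Helper40.mk2 (u : F) 0 0 ((u⁻¹ : Fˣ) : F) (by simp)
  map_one' := by
    apply Cfsg.Agent.Helper40.ext2 <;> simp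
  map_mul' := by
    intro u v
    apply Cfsg.Agent.Helper40.ext2
    · rw [Cfsg.Agent.Helper40.mul_00]; simp
    · rw [Cfsg.Agent.Helper40.mul_01]; simp
    · rw [Cfsg.Agent.Helper40.mul_10]; simp
    · rw [Cfsg.Agent.Helper40.mul_11]; simp [mul_comm]

theorem torusHom_injective (F : Type*) [Field F] : Function.Injective (torusHom F) := by
  intro u v huv
  have h := congrArg (fun g : Matrix.SpecialLinearGroup (Fin 2) F =>
    (g : Matrix (Fin 2) (Fin 2) F) 0 0) huv
  simp only [torusHom, MonoidHom.coe_mk, OneHom.coe_mk, Cfsg.Agent.Helper40.mk2_00] at h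
  exact Units.ext h

theorem card_psl2_char_two {F : Type*} [Field F] [Fintype F] [CharP F 2] :
    Nat.card (Matrix.ProjectiveSpecialLinearGroup (Fin 2) F) =
      Fintype.card F * (Fintype.card F - 1) * (Fintype.card F + 1) := by
  rw [Nat.card_congr (Cfsg.Agent.S3660.pslEquiv (F := F)).toEquiv, Cfsg.Agent.Helper40.card_SL2]

theorem two_dvd_card_of_charP {F : Type*} [Field F] [Fintype F] [CharP F 2] :
    2 ∣ Fintype.card F := by
  have h1 : ((Fintype.card F : ℕ) : F) = 0 := Nat.cast_card_eq_zero F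
  exact (CharP.cast_eq_zero_iff F 2 (Fintype.card F)).mp h1

theorem psl2_tori {F : Type} [Field F] [Fintype F] (h2 : CharP F 2) (h4 : 4 ≤ Fintype.card F) :
    ∃ A₁ A₂ : Subgroup (Matrix.ProjectiveSpecialLinearGroup (Fin 2) F), IsCyclic A₁ ∧ IsCyclic A₂ ∧
      A₁.index = Fintype.card F * (Fintype.card F - 1) ∧
      A₂.index = Fintype.card F * (Fintype.card F + 1) := by
  classical
  obtain ⟨A, B, hAc, hAcard, -, -, -, -⟩ :=
    Cfsg.Agent.S2503.result (F := F) two_dvd_card_of_charP h4
  let φ : Fˣ →* Matrix.ProjectiveSpecialLinearGroup (Fin 2) F :=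
    (Cfsg.Agent.S3660.pslEquiv (F := F)).symm.toMonoidHom.comp (torusHom F)
  have hφinj : Function.Injective φ := by
    intro u v huv
    apply torusHom_injective F
    exact (Cfsg.Agent.S3660.pslEquiv (F := F)).symm.injective huv
  have hcyc : IsCyclic φ.range := isCyclic_of_surjective φ.rangeRestrict φ.rangeRestrict_surjective
  have hcardR : Nat.card φ.range = Fintype.card F - 1 := by
    rw [← Nat.card_congr (MonoidHom.ofInjective hφinj).toEquiv, Nat.card_units,
      Nat.card_eq_fintype_card]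
  have hq1 : 1 ≤ Fintype.card F - 1 := by omega
  refine ⟨A, φ.range, hAc, hcyc, ?_, ?_⟩
  · have h := Subgroup.card_mul_index A
    rw [hAcard, card_psl2_char_two] at h
    have hpos : 0 < Fintype.card F + 1 := by omega
    apply Nat.eq_of_mul_eq_mul_left hpos
    rw [h]; ring
  · have h := Subgroup.card_mul_index φ.range
    rw [hcardR, card_psl2_char_two] at h
    have hpos : 0 < Fintype.card F - 1 := by omega
    apply Nat.eq_of_mul_eq_mul_left hpos
    rw [h]; ring

end Cfsg.Agent.Helper77.AbInv
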