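-- helper77: T3b-iii `central_odd_eq_bot` for helper4's S2202 plan.
import Mathlib
import Cfsg.Agent.Lib.Helper42.AbInvT3b
import Cfsg.Agent.Lib.Helper77.AbInvT3b2

set_option autoImplicit false

namespace Cfsg.Agent.Helper77.AbInv

/-- the preimage of a cyclic subgroup under a surjection with central kernel is abelian -/
theorem comap_comm_of_cyclic {G H : Type*} [Group G] [Group H] (π : G →* H)
    (hsurj : Function.Surjective π) (hker : π.ker ≤ Subgroup.center G)
    (A : Subgroup H) (hA : IsCyclic A) :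
    ∀ x ∈ A.comap π, ∀ y ∈ A.comap π, x * y = y * x := by
  obtain ⟨⟨g, hgA⟩, hg⟩ := hA.exists_generator
  obtain ⟨g', hg'⟩ := hsurj g
  have key : ∀ x ∈ A.comap π, ∃ (m : ℤ) (k : G), k ∈ Subgroup.center G ∧ x = k * g' ^ m := by
    intro x hx
    have hx' : π x ∈ A := hx
    have h1 := hg ⟨π x, hx'⟩
    obtain ⟨m, hm⟩ := Subgroup.mem_zpowers_iff.mp h1
    have hm' : g ^ m = π x := by
      have := congrArg Subtype.val hm
      simpa using this
    refine ⟨m, x * (g' ^ m)⁻¹, ?_, by group⟩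
    apply hker
    rw [MonoidHom.mem_ker, map_mul, map_inv, map_zpow, hg', hm', mul_inv_cancel]
  intro x hx y hy
  obtain ⟨m, k, hk, rfl⟩ := key x hx
  obtain ⟨n, l, hl, rfl⟩ := key y hy
  rw [Subgroup.mem_center_iff] at hk hl
  have hcomm : g' ^ m * g' ^ n = g' ^ n * g' ^ m := by
    rw [← zpow_add, ← zpow_add, add_comm]
  calc k * g' ^ m * (l * g' ^ n) = k * (g' ^ m * l) * g' ^ n := by group
    _ = k * (l * g' ^ m) * g' ^ n := by rw [hl (g' ^ m)]
    _ = (k * l) * (g' ^ m * g' ^ n) := by group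
    _ = (l * k) * (g' ^ n * g' ^ m) := by rw [hcomm, hk l]
    _ = l * (k * g' ^ n) * g' ^ m := by group
    _ = l * (g' ^ n * k) * g' ^ m := by rw [hk (g' ^ n)]
    _ = l * g' ^ n * (k * g' ^ m) := by group

theorem central_odd_eq_bot {G : Type*} [Group G] [Finite G] (K : Subgroup G) [K.Normal]
    (hK : K ≤ Subgroup.center G) (hodd : Odd (Nat.card K)) (hperf : commutator G = ⊤)
    {F : Type} [Field F] [Fintype F] (h2 : CharP F 2) (h4 : 4 ≤ Fintype.card F)
    (e : (G ⧸ K) ≃* Matrix.ProjectiveSpecialLinearGroup (Fin 2) F) : K = ⊥ := by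
  classical
  obtain ⟨A₁, A₂, hc1, hc2, hi1, hi2⟩ := psl2_tori h2 h4
  let π : G →* Matrix.ProjectiveSpecialLinearGroup (Fin 2) F :=
    e.toMonoidHom.comp (QuotientGroup.mk' K)
  have hsurj : Function.Surjective π :=
    e.surjective.comp (QuotientGroup.mk'_surjective K)
  have hkerπ : π.ker = K := by
    ext x
    rw [MonoidHom.mem_ker]
    change e (QuotientGroup.mk' K x) = 1 ↔ x ∈ K
    rw [MulEquiv.map_eq_one_iff, QuotientGroup.mk'_apply, QuotientGroup.eq_one_iff]
  have hker : π.ker ≤ Subgroup.center G := hkerπ ▸ hK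
  have hidx1 : (A₁.comap π).index = A₁.index := Subgroup.index_comap_of_surjective A₁ hsurj
  have hidx2 : (A₂.comap π).index = A₂.index := Subgroup.index_comap_of_surjective A₂ hsurj
  set q := Fintype.card F with hq
  -- q is a power of two
  obtain ⟨n, -, hn⟩ := FiniteField.card F 2
  rw [Subgroup.eq_bot_iff_forall]
  intro k hk
  have hkc : k ∈ Subgroup.center G := hK hk
  have hp1 : k ^ (q * (q - 1)) = 1 := by
    have := Cfsg.Agent.Helper42.AbInv.central_pow_index_eq_one hperf (A₁.comap π)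
      (comap_comm_of_cyclic π hsurj hker A₁ hc1) k hkc
    rwa [hidx1, hi1] at this
  have hp2 : k ^ (q * (q + 1)) = 1 := by
    have := Cfsg.Agent.Helper42.AbInv.central_pow_index_eq_one hperf (A₂.comap π)
      (comap_comm_of_cyclic π hsurj hker A₂ hc2) k hkc
    rwa [hidx2, hi2] at this
  have hd1 : orderOf k ∣ q * (q - 1) := orderOf_dvd_of_pow_eq_one hp1
  have hd2 : orderOf k ∣ q * (q + 1) := orderOf_dvd_of_pow_eq_one hp2
  have hdK : orderOf k ∣ Nat.card K := by
    have h1 : orderOf (⟨k, hk⟩ : K) ∣ Nat.card K := orderOf_dvd_natCard _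
    have h2 : orderOf (⟨k, hk⟩ : K) = orderOf k := by
      rw [← Subgroup.orderOf_coe]
    rwa [h2] at h1
  have hoddk : Odd (orderOf k) := Odd.of_dvd_nat hodd hdK
  have hcop : Nat.Coprime (orderOf k) q := by
    rw [hq, hn]
    apply Nat.Coprime.pow_right
    exact Nat.coprime_two_right.mpr hoddk
  have hd1' : orderOf k ∣ q - 1 := hcop.dvd_of_dvd_mul_left hd1
  have hd2' : orderOf k ∣ q + 1 := hcop.dvd_of_dvd_mul_left hd2
  have hd3 : orderOf k ∣ 2 := by
    have h := (Nat.dvd_sub hd2' hd1')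
    have h5 : q + 1 - (q - 1) = 2 := by omega
    rwa [h5] at h
  have h1 : orderOf k = 1 := by
    have hle : orderOf k ≤ 2 := Nat.le_of_dvd (by norm_num) hd3
    have hpos : 0 < orderOf k := orderOf_pos k
    rcases hoddk with ⟨m, hm⟩
    omega
  exact orderOf_eq_one_iff.mp h1

end Cfsg.Agent.Helper77.AbInv
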