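import Mathlib
import Cfsg.Agent.Lib.Helper43.Tri.Rel
import Cfsg.Agent.Lib.Helper13.OrthPermD
import Cfsg.Agent.Lib.Helper13.OAutBRP

/-!
# TRI (PPB) for helper43's S0817 server: Theorem P' transported along `Ω = EK` to `PΩ`, `Qb`, `Zb`
-/

set_option autoImplicit false
set_option linter.unusedSectionVars false

namespace Cfsg.Agent.Helper77.Tri

open Matrix QuadraticMap Cfsg.Agent.Helper13 Cfsg.Agent.Helper43 Cfsg.Agent.Helper5.OAut Module
open Cfsg.Agent.Helper43.Tri Cfsg.Agent.Helper43.OGam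
open Cfsg.Agent.Helper13.OAutBR

variable {F : Type*} [Field F] [Fintype F] {ι : Type} [Fintype ι] [DecidableEq ι]
  {Q : QuadraticForm F (ι → F)}

/-- `phib` maps the point radical `Qb v` of `PΩ` onto the image of the root group in `EK / Z` -/
theorem ppb_map_Qb (C : Ctx Q) {v : ι → F} (hv : Q v = 0) :
    (Qb Q v).map (phib C).toMonoidHom = Cfsg.Agent.Helper13.OrthPermC.Qb v hv := by
  ext z
  constructor
  · rintro ⟨y, hy, rfl⟩
    exact (mem_Qb_iff C hv y).1 hy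
  · intro hz
    refine ⟨(phib C).symm z, ?_, ?_⟩
    · rw [SetLike.mem_coe, mem_Qb_iff C hv, MulEquiv.apply_symm_apply]
      exact hz
    · exact MulEquiv.apply_symm_apply (phib C) z

theorem ppb_polar_zero {Y : Submodule F (ι → F)} (hY : ∀ y ∈ Y, Q y = 0) {y y' : ι → F}
    (hy : y ∈ Y) (hy' : y' ∈ Y) : polar (⇑Q) y y' = 0 := by
  unfold QuadraticMap.polar
  rw [hY _ (Y.add_mem hy hy'), hY y hy, hY y' hy']
  simp

/-- `phi` maps `Zrad Y` onto `Z0 Y` -/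
theorem ppb_map_Zrad (C : Ctx Q) {Y : Submodule F (ι → F)} (hY : ∀ y ∈ Y, Q y = 0) :
    (Zrad Q Y).map (phi C).toMonoidHom = Cfsg.Agent.Helper13.OrthPermD.Z0 (Q := Q) Y := by
  unfold Zrad Cfsg.Agent.Helper13.OrthPermD.Z0
  rw [MonoidHom.map_closure]
  congr 1
  ext g
  constructor
  · rintro ⟨g', ⟨y, hy, y', hy', rfl⟩, rfl⟩
    exact ⟨y, hy, y', hy', phi_E C (hY y hy) (ppb_polar_zero hY hy hy')⟩
  · rintro ⟨y, hy, y', hy', rfl⟩
    exact ⟨Cfsg.Agent.Helper5.OAut.E Q y y', ⟨y, hy, y', hy', rfl⟩,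
      phi_E C (hY y hy) (ppb_polar_zero hY hy hy')⟩

/-- `phib` maps `Zb Y` onto the image of `Z0 Y` in `EK / Z` -/
theorem ppb_map_Zb (C : Ctx Q) {Y : Submodule F (ι → F)} (hY : ∀ y ∈ Y, Q y = 0) :
    (Zb Q Y).map (phib C).toMonoidHom =
      (Cfsg.Agent.Helper13.OrthPermD.Z0 (Q := Q) Y).map (Cfsg.Agent.Helper13.OrthPermC.mkb Q) := by
  unfold Zb
  rw [Subgroup.map_map, ← ppb_map_Zrad C hY, Subgroup.map_map]
  rfl

/-- (PPB) transport of (PP) along `Ω = EK` to `PΩ`, `Qb`, `Zb`. -/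
theorem thP'_Qb (C : Ctx Q)
    (hP' : ∀ (α : (↥(EK Q) ⧸ Subgroup.center ↥(EK Q)) ≃* (↥(EK Q) ⧸ Subgroup.center ↥(EK Q)))
      {u : ι → F} (hu0 : u ≠ 0) (hu : Q u = 0),
      (∃ (u' : ι → F) (_ : u' ≠ 0) (hu' : Q u' = 0),
        (Cfsg.Agent.Helper13.OrthPermC.Qb u hu).map α.toMonoidHom =
          Cfsg.Agent.Helper13.OrthPermC.Qb u' hu') ∨
      (∃ Y0 : Submodule F (ι → F), (∀ y ∈ Y0, Q y = 0) ∧
        (∀ x : ι → F, (∀ y ∈ Y0, polar (⇑Q) y x = 0) → x ∈ Y0) ∧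
        (Cfsg.Agent.Helper13.OrthPermC.Qb u hu).map α.toMonoidHom =
          (Cfsg.Agent.Helper13.OrthPermD.Z0 (Q := Q) Y0).map (Cfsg.Agent.Helper13.OrthPermC.mkb Q)))
    (α : Cfsg.POmega F ⇑Q ≃* Cfsg.POmega F ⇑Q) {u : ι → F} (hu0 : u ≠ 0) (hu : Q u = 0) :
    (∃ u' : ι → F, u' ≠ 0 ∧ Q u' = 0 ∧ (Qb Q u).map α.toMonoidHom = Qb Q u') ∨
    (∃ Y : Submodule F (ι → F), (∀ y ∈ Y, Q y = 0) ∧
      (∀ x : ι → F, (∀ y ∈ Y, polar (⇑Q) y x = 0) → x ∈ Y) ∧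
      (Qb Q u).map α.toMonoidHom = Zb Q Y) := by
  have key : ((Qb Q u).map α.toMonoidHom).map (phib C).toMonoidHom =
      (Cfsg.Agent.Helper13.OrthPermC.Qb u hu).map
        ((phib C).symm.trans (α.trans (phib C))).toMonoidHom := by
    rw [← ppb_map_Qb C hu, Subgroup.map_map, Subgroup.map_map]
    congr 1
    ext y
    show phib C (α y) = phib C (α ((phib C).symm (phib C y)))
    rw [MulEquiv.symm_apply_apply]
  have hinj : Function.Injective (Subgroup.map (phib C).toMonoidHom) :=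
    Subgroup.map_injective (phib C).injective
  rcases hP' ((phib C).symm.trans (α.trans (phib C))) hu0 hu with
    ⟨u', hu'0, hu', heq⟩ | ⟨Y0, hY, hYmax, heq⟩
  · left
    refine ⟨u', hu'0, hu', hinj ?_⟩
    rw [key, heq, ppb_map_Qb C hu']
  · right
    refine ⟨Y0, hY, hYmax, hinj ?_⟩
    rw [key, heq, ppb_map_Zb C hY]

end Cfsg.Agent.Helper77.Tri
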