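import Mathlib
import Cfsg.Agent.Lib.Helper7.O5760Defs

/-! O5760 server (helper7, S0980): piece (D6) `card_line`: arithmetic, lines have 4 points. -/

set_option autoImplicit false

namespace Cfsg.Agent.Helper77.O5760

open Cfsg.Agent.Helper7.O5760

universe u v

section D

variable {G : Type u} [Group G] {X : Type v} [MulAction G X]

/-- (D6) Arithmetic: `n (n-1) 24 ∣ 5760`, `4 ≤ n ≤ 15`, `n % 3 = 1`: `n = 4`. -/
theorem card_line [Finite G] (hG : Nat.card G = 5760) (a b : X)
    (h1 : 4 ≤ Nat.card (line G a b) ∧ Nat.card (line G a b) ≤ 15 ∧ Nat.card (line G a b) % 3 = 1)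
    (h2 : Nat.card (Subgroup.normalizer ((K3 G a b : Subgroup G) : Set G)) =
      Nat.card (line G a b) * (Nat.card (line G a b) - 1) * 24) :
    Nat.card (line G a b) = 4 := by
  have hdvd := Subgroup.card_subgroup_dvd_card (Subgroup.normalizer ((K3 G a b : Subgroup G) : Set G))
  rw [h2, hG] at hdvd
  obtain ⟨h4, h15, hmod⟩ := h1
  generalize Nat.card (line G a b) = n at *
  interval_cases n <;> simp_all

end D

end Cfsg.Agent.Helper77.O5760
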