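-- helper77: Konvisser lemma (P3) for helper52 (S3117).
import Mathlib
import Cfsg.Agent.Lib.Helper52.KonvDefs

set_option autoImplicit false
set_option linter.unusedSectionVars false
set_option linter.unusedSimpArgs false

namespace Cfsg.Agent.Helper77.KonvP3

open Cfsg.Agent.Helper52.Konv

variable {W T : Type*} [Group W] [Group T]

section basics

variable {q : W → T} (h : AQ q)
include h

theorem wc (a b : W) : a * b = b * a := by
  have ha : a * a = 1 := h.W_sq a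
  have hb : b * b = 1 := h.W_sq b
  calc a * b = a * b * (b * a * (b * a)) := by rw [h.W_sq (b * a), mul_one]
    _ = a * (b * b) * a * (b * a) := by group
    _ = b * a := by rw [hb, mul_one, ha, one_mul]

theorem wlc (a b c : W) : a * (b * c) = b * (a * c) := by
  rw [← mul_assoc, wc h a b, mul_assoc]

theorem ws' (a x : W) : a * (a * x) = x := by rw [← mul_assoc, h.W_sq, one_mul]

theorem tc (a b : T) : a * b = b * a := by
  have ha : a * a = 1 := h.T_sq a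
  have hb : b * b = 1 := h.T_sq b
  calc a * b = a * b * (b * a * (b * a)) := by rw [h.T_sq (b * a), mul_one]
    _ = a * (b * b) * a * (b * a) := by group
    _ = b * a := by rw [hb, mul_one, ha, one_mul]

theorem tlc (a b c : T) : a * (b * c) = b * (a * c) := by
  rw [← mul_assoc, tc h a b, mul_assoc]

theorem ts' (a x : T) : a * (a * x) = x := by rw [← mul_assoc, h.T_sq, one_mul]

theorem q_one : q 1 = 1 := by
  have h1 := h.bilin 1 1 1
  unfold pol at h1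
  simp only [mul_one] at h1
  -- q 1 * q 1 * q 1 = (q 1 * q 1 * q 1) * (q 1 * q 1 * q 1)
  rw [h.T_sq (q 1), one_mul] at h1
  -- q 1 = q 1 * q 1
  rw [h.T_sq] at h1
  exact h1

theorem pol_comm (u v : W) : pol q u v = pol q v u := by
  unfold pol
  rw [wc h u v]
  simp only [tc h, tlc h]

theorem pol_self (u : W) : pol q u u = 1 := by
  unfold pol
  rw [h.W_sq, q_one h, one_mul, h.T_sq]

theorem q_mul (u v : W) : q (u * v) = q u * q v * pol q u v := by
  unfold pol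
  simp only [mul_assoc, tc h, tlc h, ts' h]

omit h in
theorem pol_map (b : MulAut W) (hb : ∀ w, q (b w) = q w) (u v : W) :
    pol q (b u) (b v) = pol q u v := by
  unfold pol
  rw [← map_mul, hb, hb, hb]

theorem mul_ne_one (a b : W) (hab : a ≠ b) : a * b ≠ 1 := by
  intro hone
  apply hab
  calc a = a * (b * b) := by rw [h.W_sq b, mul_one]
    _ = (a * b) * b := by group
    _ = b := by rw [hone, one_mul]

end basics

theorem pow_fix_five (σ : MulAut W) (hσ : σ ^ 5 = 1) (w : W) (d : ℕ) (hd0 : 0 < d) (hd5 : d < 5)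
    (hw : (σ ^ d) w = w) : σ w = w := by
  have hpow : ∀ k : ℕ, ((σ ^ d) ^ k) w = w := by
    intro k
    induction k with
    | zero => simp
    | succ k ih => rw [pow_succ, MulAut.mul_apply, hw, ih]
  have key : ∃ m : ℕ, (σ ^ d) ^ m = σ := by
    interval_cases d
    · exact ⟨1, by simp⟩
    · refine ⟨3, ?_⟩
      rw [← pow_mul]
      calc σ ^ (2 * 3) = σ ^ 5 * σ := by rw [← pow_succ]
        _ = σ := by rw [hσ, one_mul]
    · refine ⟨2, ?_⟩
      rw [← pow_mul]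
      calc σ ^ (3 * 2) = σ ^ 5 * σ := by rw [← pow_succ]
        _ = σ := by rw [hσ, one_mul]
    · refine ⟨4, ?_⟩
      rw [← pow_mul]
      calc σ ^ (4 * 4) = (σ ^ 5) ^ 3 * σ := by rw [← pow_mul, ← pow_succ]
        _ = σ := by rw [hσ, one_pow, one_mul]
  obtain ⟨m, hm⟩ := key
  have := hpow m
  rwa [hm] at this


/-- the data of (P3) -/
structure Setup (q : W → T) (σ : MulAut W) (w0 : W) : Prop where
  aq : AQ q
  s5 : σ ^ 5 = 1
  hq : ∀ w, q (σ w) = q w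
  fpf : ∀ w, σ w = w → w = 1
  ne : w0 ≠ 1

/-- the orbit `w i = σ^i w0` -/
def wv (σ : MulAut W) (w0 : W) (i : ℕ) : W := (σ ^ i) w0

namespace Setup

variable {q : W → T} {σ : MulAut W} {w0 : W} (S : Setup q σ w0)
include S

theorem pow_q (i : ℕ) (w : W) : q ((σ ^ i) w) = q w := by
  induction i generalizing w with
  | zero => simp
  | succ i ih => rw [pow_succ, MulAut.mul_apply, ih, S.hq]

theorem fpf_pow (d : ℕ) (hd0 : 0 < d) (hd5 : d < 5) (x : W) (hx : (σ ^ d) x = x) : x = 1 :=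
  S.fpf x (pow_fix_five σ S.s5 x d hd0 hd5 hx)

theorem pow_inj (x : W) (hx : x ≠ 1) (i j : ℕ) (hi : i < 5) (hj : j < 5)
    (hij : (σ ^ i) x = (σ ^ j) x) : i = j := by
  by_contra hne
  have key : ∀ a b : ℕ, a < b → b < 5 → (σ ^ a) x = (σ ^ b) x → False := by
    intro a b hab hb heq
    have h2 : b = a + (b - a) := by omega
    rw [h2, pow_add, MulAut.mul_apply] at heq
    have h3 : (σ ^ (b - a)) x = x := ((σ ^ a).injective heq).symm
    exact hx (S.fpf_pow (b - a) (by omega) (by omega) x h3)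
  rcases Nat.lt_or_gt_of_ne hne with hlt | hgt
  · exact key i j hlt hj hij
  · exact key j i hgt hi hij.symm

theorem pow_ne_one (x : W) (hx : x ≠ 1) (i : ℕ) : (σ ^ i) x ≠ 1 := by
  intro hone
  apply hx
  have : (σ ^ i) x = (σ ^ i) 1 := by rw [hone, map_one]
  exact (σ ^ i).injective this

theorem wv_zero : wv σ w0 0 = w0 := by simp [wv]

theorem pow_wv (k i : ℕ) : (σ ^ k) (wv σ w0 i) = wv σ w0 (i + k) := by
  unfold wv
  rw [← MulAut.mul_apply, ← pow_add, add_comm]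

theorem sigma_wv (i : ℕ) : σ (wv σ w0 i) = wv σ w0 (i + 1) := by
  have := S.pow_wv 1 i
  rwa [pow_one] at this

theorem wv_five (i : ℕ) : wv σ w0 (i + 5) = wv σ w0 i := by
  unfold wv
  rw [pow_add, S.s5, mul_one]

theorem q_wv (i : ℕ) : q (wv σ w0 i) = q w0 := S.pow_q i w0

theorem wv_ne_one (i : ℕ) : wv σ w0 i ≠ 1 := S.pow_ne_one w0 S.ne i

theorem wv_inj (i j : ℕ) (hi : i < 5) (hj : j < 5) (hij : wv σ w0 i = wv σ w0 j) : i = j :=
  S.pow_inj w0 S.ne i j hi hj hij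

theorem pol_pow (k : ℕ) (u v : W) : pol q ((σ ^ k) u) ((σ ^ k) v) = pol q u v :=
  pol_map (σ ^ k) (S.pow_q k) u v

theorem pol_shift (k i j : ℕ) :
    pol q (wv σ w0 (i + k)) (wv σ w0 (j + k)) = pol q (wv σ w0 i) (wv σ w0 j) := by
  rw [← S.pow_wv k i, ← S.pow_wv k j, S.pol_pow]

theorem norm_one :
    wv σ w0 0 * (wv σ w0 1 * (wv σ w0 2 * (wv σ w0 3 * wv σ w0 4))) = 1 := by
  apply S.fpf
  simp only [map_mul, S.sigma_wv]
  have h5 : wv σ w0 (4 + 1) = wv σ w0 0 := S.wv_five 0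
  rw [h5]
  simp only [wc S.aq, wlc S.aq]

theorem wv_four :
    wv σ w0 4 = wv σ w0 0 * (wv σ w0 1 * (wv σ w0 2 * wv σ w0 3)) := by
  have h1 := S.norm_one
  have h2 : wv σ w0 0 * (wv σ w0 1 * (wv σ w0 2 * (wv σ w0 3 * wv σ w0 4))) * wv σ w0 4
      = wv σ w0 4 := by rw [h1, one_mul]
  rw [← h2]
  simp only [mul_assoc, S.aq.W_sq, mul_one]

/-- the three polar values -/
theorem pol_three : pol q (wv σ w0 0) (wv σ w0 3) = pol q (wv σ w0 0) (wv σ w0 2) := by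
  rw [pol_comm S.aq]
  have h1 : wv σ w0 0 = wv σ w0 (2 + 3) := (S.wv_five 0).symm
  have h2 : pol q (wv σ w0 (0 + 3)) (wv σ w0 (2 + 3)) = pol q (wv σ w0 0) (wv σ w0 2) :=
    S.pol_shift 3 0 2
  rw [← h2]
  conv_lhs => rw [h1]

theorem pol_four : pol q (wv σ w0 0) (wv σ w0 4) = pol q (wv σ w0 0) (wv σ w0 1) := by
  rw [pol_comm S.aq]
  have h1 : wv σ w0 0 = wv σ w0 (1 + 4) := (S.wv_five 0).symm
  have h2 : pol q (wv σ w0 (0 + 4)) (wv σ w0 (1 + 4)) = pol q (wv σ w0 0) (wv σ w0 1) :=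
    S.pol_shift 4 0 1
  rw [← h2]
  conv_lhs => rw [h1]


theorem pol_01_12 : pol q (wv σ w0 1) (wv σ w0 2) = pol q (wv σ w0 0) (wv σ w0 1) :=
  S.pol_shift 1 0 1

theorem pol_13 : pol q (wv σ w0 1) (wv σ w0 3) = pol q (wv σ w0 0) (wv σ w0 2) :=
  S.pol_shift 1 0 2

theorem pol_14 : pol q (wv σ w0 1) (wv σ w0 4) = pol q (wv σ w0 0) (wv σ w0 2) := by
  have h := S.pol_shift 1 0 3
  rw [S.pol_three] at h
  exact h

theorem pol_23 : pol q (wv σ w0 2) (wv σ w0 3) = pol q (wv σ w0 0) (wv σ w0 1) :=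
  S.pol_shift 2 0 1

theorem pol_24 : pol q (wv σ w0 2) (wv σ w0 4) = pol q (wv σ w0 0) (wv σ w0 2) :=
  S.pol_shift 2 0 2

theorem pol_34 : pol q (wv σ w0 3) (wv σ w0 4) = pol q (wv σ w0 0) (wv σ w0 1) :=
  S.pol_shift 3 0 1

/-- `c * b1 * b2 = 1` -/
theorem cbb : q w0 * (pol q (wv σ w0 0) (wv σ w0 1) * pol q (wv σ w0 0) (wv σ w0 2)) = 1 := by
  have hN := S.norm_one
  have hq1 : q (wv σ w0 0 * (wv σ w0 1 * (wv σ w0 2 * (wv σ w0 3 * wv σ w0 4)))) = 1 := by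
    rw [hN, q_one S.aq]
  rw [q_mul S.aq, q_mul S.aq (wv σ w0 1), q_mul S.aq (wv σ w0 2), q_mul S.aq (wv σ w0 3)] at hq1
  simp only [S.aq.bilin, S.q_wv, S.pol_three, S.pol_four, S.pol_01_12, S.pol_13, S.pol_14,
    S.pol_23, S.pol_24, S.pol_34] at hq1
  set c := q w0
  set b1 := pol q (wv σ w0 0) (wv σ w0 1)
  set b2 := pol q (wv σ w0 0) (wv σ w0 2)
  have key : c * (c * (c * (c * c * b1) * (b1 * b2)) * (b1 * (b2 * b2))) * (b1 * (b2 * (b2 * b1)))
      = c * (b1 * b2) := by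
    simp only [mul_assoc, tc S.aq, tlc S.aq, S.aq.T_sq, ts' S.aq, mul_one, one_mul]
  rw [← key]
  exact hq1


theorem wv_mod (i : ℕ) : wv σ w0 i = wv σ w0 (i % 5) := by
  unfold wv
  rw [pow_eq_pow_mod i S.s5]

theorem wv01 : wv σ w0 0 ≠ wv σ w0 1 := fun hh => by
  have := S.wv_inj 0 1 (by norm_num) (by norm_num) hh
  omega

theorem wv02 : wv σ w0 0 ≠ wv σ w0 2 := fun hh => by
  have := S.wv_inj 0 2 (by norm_num) (by norm_num) hh
  omega

theorem q_x1 : q (wv σ w0 0 * wv σ w0 1) = pol q (wv σ w0 0) (wv σ w0 1) := by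
  rw [q_mul S.aq, S.q_wv, S.q_wv, S.aq.T_sq, one_mul]

theorem q_x2 : q (wv σ w0 0 * wv σ w0 2) = pol q (wv σ w0 0) (wv σ w0 2) := by
  rw [q_mul S.aq, S.q_wv, S.q_wv, S.aq.T_sq, one_mul]

theorem c_ne_one : q w0 ≠ 1 := fun hh => S.ne (S.aq.aniso w0 hh)

theorem b1_ne_one : pol q (wv σ w0 0) (wv σ w0 1) ≠ 1 := fun hh => by
  rw [← S.q_x1] at hh
  exact mul_ne_one S.aq _ _ S.wv01 (S.aq.aniso _ hh)

theorem b2_ne_one : pol q (wv σ w0 0) (wv σ w0 2) ≠ 1 := fun hh => by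
  rw [← S.q_x2] at hh
  exact mul_ne_one S.aq _ _ S.wv02 (S.aq.aniso _ hh)

theorem b1_ne_b2 : pol q (wv σ w0 0) (wv σ w0 1) ≠ pol q (wv σ w0 0) (wv σ w0 2) := fun hh => by
  have h1 := S.cbb
  rw [hh, S.aq.T_sq, mul_one] at h1
  exact S.c_ne_one h1

theorem c_ne_b1 : q w0 ≠ pol q (wv σ w0 0) (wv σ w0 1) := fun hh => by
  have h1 := S.cbb
  rw [hh, ← mul_assoc, S.aq.T_sq, one_mul] at h1
  exact S.b2_ne_one h1

theorem c_ne_b2 : q w0 ≠ pol q (wv σ w0 0) (wv σ w0 2) := fun hh => by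
  have h1 := S.cbb
  rw [hh, tc S.aq (pol q (wv σ w0 0) (wv σ w0 1)), ← mul_assoc, S.aq.T_sq, one_mul] at h1
  exact S.b1_ne_one h1

/-- orbit representatives -/
def xk (σ : MulAut W) (w0 : W) : Fin 3 → W
  | 0 => wv σ w0 0
  | 1 => wv σ w0 0 * wv σ w0 1
  | 2 => wv σ w0 0 * wv σ w0 2

/-- the values of `q` on the three orbits -/
def vk (q : W → T) (σ : MulAut W) (w0 : W) : Fin 3 → T
  | 0 => q w0
  | 1 => pol q (wv σ w0 0) (wv σ w0 1)
  | 2 => pol q (wv σ w0 0) (wv σ w0 2)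

theorem q_xk (k : Fin 3) : q (xk σ w0 k) = vk q σ w0 k := by
  fin_cases k
  · exact S.q_wv 0
  · exact S.q_x1
  · exact S.q_x2

theorem vk_ne_one (k : Fin 3) : vk q σ w0 k ≠ 1 := by
  fin_cases k
  · exact S.c_ne_one
  · exact S.b1_ne_one
  · exact S.b2_ne_one

theorem xk_ne_one (k : Fin 3) : xk σ w0 k ≠ 1 := fun hh => by
  have := S.q_xk k
  rw [hh, q_one S.aq] at this
  exact S.vk_ne_one k this.symm

theorem vk_inj (k k' : Fin 3) (hk : vk q σ w0 k = vk q σ w0 k') : k = k' := by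
  fin_cases k <;> fin_cases k' <;> first
    | rfl
    | exact absurd hk S.c_ne_b1
    | exact absurd hk S.c_ne_b2
    | exact absurd hk S.b1_ne_b2
    | exact absurd hk.symm S.c_ne_b1
    | exact absurd hk.symm S.c_ne_b2
    | exact absurd hk.symm S.b1_ne_b2

/-- the enumeration of `W` -/
def gmap (σ : MulAut W) (w0 : W) : Option (Fin 3 × Fin 5) → W
  | none => 1
  | some (k, i) => (σ ^ (i : ℕ)) (xk σ w0 k)

theorem gmap_inj : Function.Injective (gmap σ w0) := by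
  intro a b hab
  cases a with
  | none =>
    cases b with
    | none => rfl
    | some b =>
      obtain ⟨k, i⟩ := b
      exact absurd hab.symm (S.pow_ne_one _ (S.xk_ne_one k) i)
  | some a =>
    obtain ⟨k, i⟩ := a
    cases b with
    | none => exact absurd hab (S.pow_ne_one _ (S.xk_ne_one k) i)
    | some b =>
      obtain ⟨k', i'⟩ := b
      have hq : q ((σ ^ (i : ℕ)) (xk σ w0 k)) = q ((σ ^ (i' : ℕ)) (xk σ w0 k')) := congrArg q hab
      rw [S.pow_q, S.pow_q, S.q_xk, S.q_xk] at hq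
      have hk := S.vk_inj k k' hq
      subst hk
      have hi := S.pow_inj _ (S.xk_ne_one k) i i' i.isLt i'.isLt hab
      have : i = i' := Fin.ext hi
      subst this
      rfl

theorem gmap_surj [Finite W] (hW : Nat.card W = 16) : Function.Surjective (gmap σ w0) := by
  classical
  have : Fintype W := Fintype.ofFinite W
  have hc : Fintype.card (Option (Fin 3 × Fin 5)) = Fintype.card W := by
    rw [← Nat.card_eq_fintype_card (α := W), hW]
    simp
  exact ((Fintype.bijective_iff_injective_and_card (gmap σ w0)).mpr ⟨S.gmap_inj, hc⟩).2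

/-- elements with `q`-value `c` lie in the orbit of `w0` -/
theorem eq_wv_of_q [Finite W] (hW : Nat.card W = 16) (w : W) (hw : q w = q w0) :
    ∃ i, i < 5 ∧ w = wv σ w0 i := by
  obtain ⟨o, rfl⟩ := S.gmap_surj hW w
  cases o with
  | none =>
    exfalso
    change q 1 = q w0 at hw
    rw [q_one S.aq] at hw
    exact S.c_ne_one hw.symm
  | some a =>
    obtain ⟨k, i⟩ := a
    change q ((σ ^ (i : ℕ)) (xk σ w0 k)) = q w0 at hw
    rw [S.pow_q, S.q_xk] at hw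
    have hk : k = 0 := S.vk_inj k 0 hw
    subst hk
    refine ⟨i, i.isLt, ?_⟩
    change (σ ^ (i : ℕ)) (wv σ w0 0) = wv σ w0 i
    rw [S.pow_wv, zero_add]

/-- an automorphism fixing all `w i` is trivial -/
theorem eq_one_of_fix [Finite W] (hW : Nat.card W = 16) (φ : MulAut W)
    (hφ : ∀ i, φ (wv σ w0 i) = wv σ w0 i) : φ = 1 := by
  ext w
  rw [MulAut.one_apply]
  obtain ⟨o, rfl⟩ := S.gmap_surj hW w
  cases o with
  | none => exact map_one φ
  | some a =>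
    obtain ⟨k, i⟩ := a
    change φ ((σ ^ (i : ℕ)) (xk σ w0 k)) = (σ ^ (i : ℕ)) (xk σ w0 k)
    fin_cases k
    · change φ ((σ ^ (i : ℕ)) (wv σ w0 0)) = (σ ^ (i : ℕ)) (wv σ w0 0)
      rw [S.pow_wv, hφ]
    · change φ ((σ ^ (i : ℕ)) (wv σ w0 0 * wv σ w0 1)) = (σ ^ (i : ℕ)) (wv σ w0 0 * wv σ w0 1)
      rw [map_mul, S.pow_wv, S.pow_wv, map_mul, hφ, hφ]
    · change φ ((σ ^ (i : ℕ)) (wv σ w0 0 * wv σ w0 2)) = (σ ^ (i : ℕ)) (wv σ w0 0 * wv σ w0 2)
      rw [map_mul, S.pow_wv, S.pow_wv, map_mul, hφ, hφ]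


/-- the polar values `pol (w 0) (w k)` for `k < 5` -/
theorem pol0_cases (k : ℕ) (hk : k < 5) :
    (k = 0 ∧ pol q (wv σ w0 0) (wv σ w0 k) = 1) ∨
    ((k = 1 ∨ k = 4) ∧ pol q (wv σ w0 0) (wv σ w0 k) = pol q (wv σ w0 0) (wv σ w0 1)) ∨
    ((k = 2 ∨ k = 3) ∧ pol q (wv σ w0 0) (wv σ w0 k) = pol q (wv σ w0 0) (wv σ w0 2)) := by
  interval_cases k
  · exact Or.inl ⟨rfl, pol_self S.aq _⟩
  · exact Or.inr (Or.inl ⟨Or.inl rfl, rfl⟩)
  · exact Or.inr (Or.inr ⟨Or.inl rfl, rfl⟩)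
  · exact Or.inr (Or.inr ⟨Or.inr rfl, S.pol_three⟩)
  · exact Or.inr (Or.inl ⟨Or.inr rfl, S.pol_four⟩)

/-- `ρ ∈ B` fixing `w 0` sends `w 1` to `w 1` or `w 4` -/
theorem step2 [Finite W] (hW : Nat.card W = 16) (ρ : MulAut W) (hρ : ∀ w, q (ρ w) = q w)
    (h0 : ρ (wv σ w0 0) = wv σ w0 0) :
    ρ (wv σ w0 1) = wv σ w0 1 ∨ ρ (wv σ w0 1) = wv σ w0 4 := by
  obtain ⟨k, hk5, hk⟩ := S.eq_wv_of_q hW (ρ (wv σ w0 1)) (by rw [hρ, S.q_wv])
  have hp : pol q (wv σ w0 0) (wv σ w0 k) = pol q (wv σ w0 0) (wv σ w0 1) := by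
    rw [← hk]
    conv_lhs => rw [← h0]
    exact pol_map ρ hρ _ _
  rcases S.pol0_cases k hk5 with ⟨-, h1⟩ | ⟨hk14, -⟩ | ⟨-, h2⟩
  · rw [h1] at hp; exact absurd hp.symm S.b1_ne_one
  · rcases hk14 with rfl | rfl
    · exact Or.inl hk
    · exact Or.inr hk
  · rw [h2] at hp; exact absurd hp.symm S.b1_ne_b2

/-- `φ ∈ B` fixing `w 0` and `w 1` is trivial -/
theorem step3 [Finite W] (hW : Nat.card W = 16) (φ : MulAut W) (hφ : ∀ w, q (φ w) = q w)
    (h0 : φ (wv σ w0 0) = wv σ w0 0) (h1 : φ (wv σ w0 1) = wv σ w0 1) : φ = 1 := by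
  -- w 2
  have h2 : φ (wv σ w0 2) = wv σ w0 2 := by
    obtain ⟨k, hk5, hk⟩ := S.eq_wv_of_q hW (φ (wv σ w0 2)) (by rw [hφ, S.q_wv])
    have hp : pol q (wv σ w0 0) (wv σ w0 k) = pol q (wv σ w0 0) (wv σ w0 2) := by
      rw [← hk]
      conv_lhs => rw [← h0]
      exact pol_map φ hφ _ _
    have hp1 : pol q (wv σ w0 1) (wv σ w0 k) = pol q (wv σ w0 0) (wv σ w0 1) := by
      rw [← hk]
      conv_lhs => rw [← h1]
      rw [pol_map φ hφ]
      exact S.pol_01_12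
    rcases S.pol0_cases k hk5 with ⟨-, e1⟩ | ⟨-, e2⟩ | ⟨hk23, -⟩
    · rw [e1] at hp; exact absurd hp.symm S.b2_ne_one
    · rw [e2] at hp; exact absurd hp S.b1_ne_b2
    · rcases hk23 with rfl | rfl
      · exact hk
      · rw [S.pol_13] at hp1
        exact absurd hp1.symm S.b1_ne_b2
  have h3 : φ (wv σ w0 3) = wv σ w0 3 := by
    obtain ⟨k, hk5, hk⟩ := S.eq_wv_of_q hW (φ (wv σ w0 3)) (by rw [hφ, S.q_wv])
    have hp : pol q (wv σ w0 0) (wv σ w0 k) = pol q (wv σ w0 0) (wv σ w0 2) := by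
      rw [← hk]
      conv_lhs => rw [← h0]
      rw [pol_map φ hφ]
      exact S.pol_three
    have hp1 : pol q (wv σ w0 1) (wv σ w0 k) = pol q (wv σ w0 0) (wv σ w0 2) := by
      rw [← hk]
      conv_lhs => rw [← h1]
      rw [pol_map φ hφ]
      exact S.pol_13
    rcases S.pol0_cases k hk5 with ⟨-, e1⟩ | ⟨-, e2⟩ | ⟨hk23, -⟩
    · rw [e1] at hp; exact absurd hp.symm S.b2_ne_one
    · rw [e2] at hp; exact absurd hp S.b1_ne_b2
    · rcases hk23 with rfl | rfl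
      · rw [S.pol_01_12] at hp1
        exact absurd hp1 S.b1_ne_b2
      · exact hk
  have h4 : φ (wv σ w0 4) = wv σ w0 4 := by
    rw [S.wv_four, map_mul, map_mul, map_mul, h0, h1, h2, h3]
  apply S.eq_one_of_fix hW
  intro i
  rw [S.wv_mod i]
  have : i % 5 < 5 := Nat.mod_lt _ (by norm_num)
  interval_cases (i % 5)
  · exact h0
  · exact h1
  · exact h2
  · exact h3
  · exact h4

end Setup

theorem P3 {q : W → T} (h : AQ q) [Finite W] (hW : Nat.card W = 16) (B : Subgroup (MulAut W))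
    (hB : ∀ b ∈ B, ∀ w, q (b w) = q w) (σ : MulAut W) (hσB : σ ∈ B) (hσ : orderOf σ = 5)
    (hfpf : ∀ w, σ w = w → w = 1) : Nat.card B ≤ 10 := by
  classical
  obtain ⟨w0, hw0⟩ : ∃ w0 : W, w0 ≠ 1 := by
    by_contra hcon
    push Not at hcon
    have hs : Subsingleton W := ⟨fun a b => by rw [hcon a, hcon b]⟩
    have h1 : Nat.card W = 1 := Nat.card_of_subsingleton (1 : W)
    omega
  have hs5 : σ ^ 5 = 1 := by rw [← hσ]; exact pow_orderOf_eq_one σ
  have S : Setup q σ w0 := ⟨h, hs5, hB σ hσB, hfpf, hw0⟩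
  -- step 1
  have step1 : ∀ τ : B, ∃ j, j < 5 ∧ (τ : MulAut W) (wv σ w0 0) = wv σ w0 j := by
    intro τ
    exact S.eq_wv_of_q hW _ (by rw [hB τ τ.2, S.q_wv])
  choose j hj5 hj using step1
  -- the normalised element
  let ρ : B → MulAut W := fun τ => σ ^ (5 - j τ) * (τ : MulAut W)
  have hρB : ∀ τ : B, ρ τ ∈ B := fun τ => B.mul_mem (B.pow_mem hσB _) τ.2
  have hρ0 : ∀ τ : B, ρ τ (wv σ w0 0) = wv σ w0 0 := by
    intro τ
    change (σ ^ (5 - j τ) * (τ : MulAut W)) (wv σ w0 0) = wv σ w0 0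
    rw [MulAut.mul_apply, hj τ, S.pow_wv]
    have : j τ + (5 - j τ) = 0 + 5 := by have := hj5 τ; omega
    rw [this, S.wv_five]
  let F : B → Fin 5 × Bool := fun τ => (⟨j τ, hj5 τ⟩, decide (ρ τ (wv σ w0 1) = wv σ w0 1))
  have hF : Function.Injective F := by
    intro τ τ' hF
    have hjj : j τ = j τ' := by
      have := congrArg (fun x : Fin 5 × Bool => (x.1 : ℕ)) hF
      simpa [F] using this
    have hee : decide (ρ τ (wv σ w0 1) = wv σ w0 1) = decide (ρ τ' (wv σ w0 1) = wv σ w0 1) := by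
      have := congrArg (fun x : Fin 5 × Bool => x.2) hF
      simpa [F] using this
    have h1 : ρ τ (wv σ w0 1) = ρ τ' (wv σ w0 1) := by
      by_cases hc : ρ τ (wv σ w0 1) = wv σ w0 1
      · have hc' : ρ τ' (wv σ w0 1) = wv σ w0 1 := by
          have : decide (ρ τ' (wv σ w0 1) = wv σ w0 1) = true := by
            rw [← hee]; exact decide_eq_true hc
          exact of_decide_eq_true this
        rw [hc, hc']
      · have hc' : ¬ ρ τ' (wv σ w0 1) = wv σ w0 1 := by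
          intro hh
          have : decide (ρ τ (wv σ w0 1) = wv σ w0 1) = true := by
            rw [hee]; exact decide_eq_true hh
          exact hc (of_decide_eq_true this)
        have e1 := (S.step2 hW (ρ τ) (hB _ (hρB τ)) (hρ0 τ)).resolve_left hc
        have e2 := (S.step2 hW (ρ τ') (hB _ (hρB τ')) (hρ0 τ')).resolve_left hc'
        rw [e1, e2]
    -- φ = (ρ τ)⁻¹ * ρ τ'
    have hφB : (ρ τ)⁻¹ * ρ τ' ∈ B := B.mul_mem (B.inv_mem (hρB τ)) (hρB τ')
    have hφ0 : ((ρ τ)⁻¹ * ρ τ') (wv σ w0 0) = wv σ w0 0 := by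
      rw [MulAut.mul_apply, hρ0 τ']
      conv_lhs => rw [← hρ0 τ]
      rw [← MulAut.mul_apply, inv_mul_cancel, MulAut.one_apply]
    have hφ1 : ((ρ τ)⁻¹ * ρ τ') (wv σ w0 1) = wv σ w0 1 := by
      rw [MulAut.mul_apply, ← h1, ← MulAut.mul_apply, inv_mul_cancel, MulAut.one_apply]
    have hone := S.step3 hW _ (hB _ hφB) hφ0 hφ1
    have hρeq : ρ τ = ρ τ' := by
      have := congrArg (fun x => ρ τ * x) hone
      simpa using this.symm
    have hττ : (τ : MulAut W) = (τ' : MulAut W) := by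
      change σ ^ (5 - j τ) * (τ : MulAut W) = σ ^ (5 - j τ') * (τ' : MulAut W) at hρeq
      rw [hjj] at hρeq
      exact mul_left_cancel hρeq
    exact Subtype.ext hττ
  have hcard := Nat.card_le_card_of_injective F hF
  have h10 : Nat.card (Fin 5 × Bool) = 10 := by
    rw [Nat.card_eq_fintype_card]; simp
  omega

end Cfsg.Agent.Helper77.KonvP3
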