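import Mathlib
import Cfsg.Agent.Lib.Helper98.SPE0

/-!
# SPE (Q1)–(Q5) for helper98's S2333 server: algebra of `qv`, `bv`
-/

set_option autoImplicit false

namespace Cfsg.Agent.Helper77.SPE

open Matrix Cfsg.Agent.Helper93.U2 Cfsg.Agent.Helper98.SPE

variable {F : Type*} [Field F] {n : ℕ}

/-- piece Q1. -/
theorem qv_smul (S : Matrix (Fin n) (Fin n) F) (c : F) (x : Fin n → F) :
    qv S (c • x) = c ^ 2 * qv S x := by
  unfold qv
  rw [Finset.mul_sum]
  apply Finset.sum_congr rfl
  intro i _
  rw [Finset.mul_sum]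
  apply Finset.sum_congr rfl
  intro j _
  split_ifs
  · simp only [Pi.smul_apply, smul_eq_mul]
    ring
  · rw [mul_zero]

/-- piece Q4 (explicit polar form). -/
theorem bv_eq_sum (S : Matrix (Fin n) (Fin n) F) (x y : Fin n → F) :
    bv S x y = ∑ i, ∑ j, if i ≤ j then S i j * (x i * y j + y i * x j) else 0 := by
  unfold bv qv
  rw [← Finset.sum_sub_distrib, ← Finset.sum_sub_distrib]
  apply Finset.sum_congr rfl
  intro i _
  rw [← Finset.sum_sub_distrib, ← Finset.sum_sub_distrib]
  apply Finset.sum_congr rfl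
  intro j _
  split_ifs
  · simp only [Pi.add_apply]
    ring
  · ring

/-- piece Q2 (1). -/
theorem bv_add_left (S : Matrix (Fin n) (Fin n) F) (x x' y : Fin n → F) :
    bv S (x + x') y = bv S x y + bv S x' y := by
  rw [bv_eq_sum, bv_eq_sum, bv_eq_sum, ← Finset.sum_add_distrib]
  apply Finset.sum_congr rfl
  intro i _
  rw [← Finset.sum_add_distrib]
  apply Finset.sum_congr rfl
  intro j _
  split_ifs
  · simp only [Pi.add_apply]
    ring
  · ring

/-- piece Q2 (2). -/
theorem bv_smul_left (S : Matrix (Fin n) (Fin n) F) (c : F) (x y : Fin n → F) :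
    bv S (c • x) y = c * bv S x y := by
  rw [bv_eq_sum, bv_eq_sum, Finset.mul_sum]
  apply Finset.sum_congr rfl
  intro i _
  rw [Finset.mul_sum]
  apply Finset.sum_congr rfl
  intro j _
  split_ifs
  · simp only [Pi.smul_apply, smul_eq_mul]
    ring
  · rw [mul_zero]

/-- piece Q2 (3). -/
theorem bv_add_right (S : Matrix (Fin n) (Fin n) F) (x y y' : Fin n → F) :
    bv S x (y + y') = bv S x y + bv S x y' := by
  rw [bv_symm, bv_add_left, bv_symm S y x, bv_symm S y' x]

/-- piece Q2 (4). -/
theorem bv_smul_right (S : Matrix (Fin n) (Fin n) F) (c : F) (x y : Fin n → F) :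
    bv S x (c • y) = c * bv S x y := by
  rw [bv_symm, bv_smul_left, bv_symm S y x]

/-- piece Q3. -/
theorem bv_self (S : Matrix (Fin n) (Fin n) F) (x : Fin n → F) :
    bv S x x = 2 * qv S x := by
  unfold bv
  rw [← two_smul F x, qv_smul]
  ring

/-- piece Q3'. -/
theorem qv_add (S : Matrix (Fin n) (Fin n) F) (x y : Fin n → F) :
    qv S (x + y) = qv S x + qv S y + bv S x y := by
  unfold bv
  ring

/-- piece Q5 (1). -/
theorem qv_single (S : Matrix (Fin n) (Fin n) F) (k : Fin n) :
    qv S (Pi.single k 1) = S k k := by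
  unfold qv
  rw [Finset.sum_eq_single k]
  · rw [Finset.sum_eq_single k]
    · simp
    · intro j _ hj
      have h0 : (Pi.single k (1 : F) : Fin n → F) j = 0 := Pi.single_eq_of_ne hj _
      rw [h0]
      split_ifs <;> simp
    · intro h
      exact absurd (Finset.mem_univ k) h
  · intro i _ hi
    apply Finset.sum_eq_zero
    intro j _
    have h0 : (Pi.single k (1 : F) : Fin n → F) i = 0 := Pi.single_eq_of_ne hi _
    rw [h0]
    split_ifs <;> simp
  · intro h
    exact absurd (Finset.mem_univ k) h

/-- piece Q5 (2). -/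
theorem bv_single (S : Matrix (Fin n) (Fin n) F) (k l : Fin n) (h : k < l) :
    bv S (Pi.single k 1) (Pi.single l 1) = S k l := by
  have hkl : k ≠ l := ne_of_lt h
  rw [bv_eq_sum]
  rw [Finset.sum_eq_single k]
  · rw [Finset.sum_eq_single l]
    · have h1 : (Pi.single l (1 : F) : Fin n → F) k = 0 := Pi.single_eq_of_ne hkl _
      rw [if_pos (le_of_lt h), h1]
      simp
    · intro j _ hj
      have h0 : (Pi.single l (1 : F) : Fin n → F) j = 0 := Pi.single_eq_of_ne hj _
      have h1 : (Pi.single l (1 : F) : Fin n → F) k = 0 := Pi.single_eq_of_ne hkl _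
      rw [h0, h1]
      split_ifs <;> simp
    · intro h'
      exact absurd (Finset.mem_univ l) h'
  · intro i _ hi
    apply Finset.sum_eq_zero
    intro j _
    have h0 : (Pi.single k (1 : F) : Fin n → F) i = 0 := Pi.single_eq_of_ne hi _
    rw [h0]
    split_ifs with hij
    · by_cases hil : i = l
      · by_cases hjk : j = k
        · exfalso
          rw [hil, hjk] at hij
          exact absurd hij (not_le.2 h)
        · have h2 : (Pi.single k (1 : F) : Fin n → F) j = 0 := Pi.single_eq_of_ne hjk _
          rw [h2]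
          simp
      · have h2 : (Pi.single l (1 : F) : Fin n → F) i = 0 := Pi.single_eq_of_ne hil _
        rw [h2]
        simp
    · rfl
  · intro h'
    exact absurd (Finset.mem_univ k) h'

end Cfsg.Agent.Helper77.SPE
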