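import Mathlib
import Cfsg.Agent.Lib.Helper98.SPE0

/-!
# SPE (K0), (D1) for helper98's S2333 server: characteristic 2 and the pairing on symmetric
matrices
-/

set_option autoImplicit false

namespace Cfsg.Agent.Helper77.SPE

open Matrix Cfsg.Agent.Helper93.U2 Cfsg.Agent.Helper98.SPE

section PAIR

variable {F : Type*} [Field F] [Fintype F]

/-- piece K0. -/
theorem two_eq_zero_of_even_card (h : Even (Fintype.card F)) : (2 : F) = 0 := by
  obtain ⟨p, hp⟩ := CharP.exists F
  obtain ⟨k, hprime, hcard⟩ := FiniteField.card F p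
  rw [hcard] at h
  have hpe : Even p := (Nat.even_pow.1 h).1
  have hp2 : p = 2 := (Nat.Prime.even_iff hprime).1 hpe
  subst hp2
  have := CharP.cast_eq_zero F 2
  exact_mod_cast this

end PAIR

section TAU

variable {F : Type*} [Field F] {n : ℕ}

theorem h77_tauS_zero_right (a : Matrix (Fin n) (Fin n) F) : tauS a 0 = 0 := by
  unfold tauS
  apply Finset.sum_eq_zero
  intro i _
  apply Finset.sum_eq_zero
  intro j _
  split_ifs
  · rw [Matrix.zero_apply, mul_zero]
  · rfl

theorem h77_tauS_add_right (a b c : Matrix (Fin n) (Fin n) F) :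
    tauS a (b + c) = tauS a b + tauS a c := by
  unfold tauS
  rw [← Finset.sum_add_distrib]
  apply Finset.sum_congr rfl
  intro i _
  rw [← Finset.sum_add_distrib]
  apply Finset.sum_congr rfl
  intro j _
  split_ifs
  · rw [Matrix.add_apply, mul_add]
  · rw [add_zero]

theorem h77_tauS_smul_right (a b : Matrix (Fin n) (Fin n) F) (t : F) :
    tauS a (t • b) = t * tauS a b := by
  unfold tauS
  rw [Finset.mul_sum]
  apply Finset.sum_congr rfl
  intro i _
  rw [Finset.mul_sum]
  apply Finset.sum_congr rfl
  intro j _
  split_ifs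
  · rw [Matrix.smul_apply, smul_eq_mul]
    ring
  · rw [mul_zero]

theorem h77_tauS_comm (a b : Matrix (Fin n) (Fin n) F) : tauS a b = tauS b a := by
  unfold tauS
  apply Finset.sum_congr rfl
  intro i _
  apply Finset.sum_congr rfl
  intro j _
  split_ifs
  · rw [mul_comm]
  · rfl

theorem h77_tauS_single (a : Matrix (Fin n) (Fin n) F) (k l : Fin n) :
    tauS a (Matrix.single k l (1 : F)) = if k ≤ l then a k l else 0 := by
  unfold tauS
  rw [Finset.sum_eq_single k]
  · rw [Finset.sum_eq_single l]
    · rw [Matrix.single_apply_same, mul_one]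
    · intro j _ hj
      split_ifs
      · rw [Matrix.single_apply_of_col_ne _ _ (Ne.symm hj), mul_zero]
      · rfl
    · intro h'
      exact absurd (Finset.mem_univ l) h'
  · intro i _ hi
    apply Finset.sum_eq_zero
    intro j _
    split_ifs
    · rw [Matrix.single_apply_of_row_ne (Ne.symm hi), mul_zero]
    · rfl
  · intro h'
    exact absurd (Finset.mem_univ k) h'

end TAU

section PAIR2

variable {F : Type*} [Field F] [Fintype F]

/-- piece D1. -/
theorem exists_pairing (ψ : AddChar F ℂ) (hψ : ψ 1 ≠ 1) (n : ℕ) :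
    ∃ pr : Pairing ↥(symSub F n), ∀ a b : ↥(symSub F n), pr.β a b = ψ (tauS a.1 b.1) := by
  refine ⟨{ β := fun a b => ψ (tauS a.1 b.1)
            zero_right := ?_
            add_right := ?_
            symm := ?_
            nondeg := ?_ }, fun a b => rfl⟩
  · intro a
    change ψ (tauS a.1 (0 : Matrix (Fin n) (Fin n) F)) = 1
    rw [h77_tauS_zero_right, AddChar.map_zero_eq_one]
  · intro a b c
    change ψ (tauS a.1 (b.1 + c.1)) = ψ (tauS a.1 b.1) * ψ (tauS a.1 c.1)
    rw [h77_tauS_add_right, AddChar.map_add_eq_mul]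
  · intro a b
    exact congrArg ψ (h77_tauS_comm a.1 b.1)
  · intro a ha
    have ha' : ∀ b : Matrix (Fin n) (Fin n) F, bᵀ = b → ψ (tauS a.1 b) = 1 :=
      fun b hb => ha ⟨b, hb⟩
    -- entries on and above the diagonal vanish
    have hup : ∀ i j : Fin n, i ≤ j → a.1 i j = 0 := by
      intro i j hij
      by_contra hne
      rcases eq_or_lt_of_le hij with heq | hlt
      · subst heq
        have hb : ((a.1 i i)⁻¹ • Matrix.single i i (1 : F))ᵀ
            = (a.1 i i)⁻¹ • Matrix.single i i (1 : F) := by
          rw [Matrix.transpose_smul, Matrix.transpose_single]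
        have h1 := ha' _ hb
        rw [h77_tauS_smul_right, h77_tauS_single, if_pos le_rfl, inv_mul_cancel₀ hne] at h1
        exact hψ h1
      · have hb : ((a.1 i j)⁻¹ • (Matrix.single i j (1 : F) + Matrix.single j i (1 : F)))ᵀ
            = (a.1 i j)⁻¹ • (Matrix.single i j (1 : F) + Matrix.single j i (1 : F)) := by
          rw [Matrix.transpose_smul, Matrix.transpose_add, Matrix.transpose_single,
            Matrix.transpose_single, add_comm]
        have h1 := ha' _ hb
        rw [h77_tauS_smul_right, h77_tauS_add_right, h77_tauS_single, h77_tauS_single,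
          if_pos hij, if_neg (not_le.2 hlt), add_zero, inv_mul_cancel₀ hne] at h1
        exact hψ h1
    apply Subtype.ext
    change a.1 = 0
    ext i j
    rw [Matrix.zero_apply]
    rcases le_total i j with hij | hji
    · exact hup i j hij
    · have hs : a.1 i j = a.1 j i := by
        have h2 : (a.1)ᵀ = a.1 := a.2
        calc a.1 i j = (a.1)ᵀ j i := rfl
          _ = a.1 j i := by rw [h2]
      rw [hs]
      exact hup j i hji

end PAIR2

end Cfsg.Agent.Helper77.SPE
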