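import Mathlib
import Cfsg.Agent.Lib.Helper98.SPE0
import Cfsg.Agent.Lib.Helper20.U2Rb
import Cfsg.Agent.Lib.Helper20.U2Rc

/-!
# SPE (R1') for helper98's S2333 server: a nontrivially acting `el u` is detected by a weight
-/

set_option autoImplicit false

namespace Cfsg.Agent.Helper77.SPE

open Matrix Cfsg.Agent.Helper93.U2 Cfsg.Agent.Helper98.SPE

section REP

variable {G : Type*} [Group G] {𝓐 : Type*} [AddCommGroup 𝓐] [Fintype 𝓐]
  {V : Type*} [AddCommGroup V] [Module ℂ V]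
  (pr : Pairing 𝓐) (el : 𝓐 → G) (ρ : Representation ℂ G V)

/-- piece R1'. -/
theorem exists_wsp_of_ne_one (hel : ∀ a b, el (a + b) = el a * el b) (u : 𝓐)
    (h : ρ (el u) ≠ 1) : ∃ a : 𝓐, wsp pr el ρ a ≠ ⊥ ∧ pr.β a u ≠ 1 := by
  by_contra hcon
  push Not at hcon
  apply h
  apply LinearMap.ext
  intro v
  have hsum : v = ∑ a : 𝓐, eOp pr el ρ a v := by
    have h1 := Cfsg.Agent.Helper20.U2.sum_eOp pr el ρ hel
    have h2 : (∑ a : 𝓐, eOp pr el ρ a) v = (1 : V →ₗ[ℂ] V) v := by rw [h1]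
    rw [LinearMap.sum_apply] at h2
    exact h2.symm
  have hterm : ∀ a : 𝓐, ρ (el u) (eOp pr el ρ a v) = eOp pr el ρ a v := by
    intro a
    have hm := Cfsg.Agent.Helper20.U2.eOp_mem_wsp pr el ρ hel a v
    by_cases hb : wsp pr el ρ a = ⊥
    · rw [hb, Submodule.mem_bot] at hm
      rw [hm, map_zero]
    · have h1 := hcon a hb
      have h2 := (mem_wsp pr el ρ a _).1 hm u
      rw [h2, h1, one_smul]
  calc ρ (el u) v = ρ (el u) (∑ a : 𝓐, eOp pr el ρ a v) := by rw [← hsum]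
    _ = ∑ a : 𝓐, ρ (el u) (eOp pr el ρ a v) := map_sum _ _ _
    _ = ∑ a : 𝓐, eOp pr el ρ a v := Finset.sum_congr rfl (fun a _ => hterm a)
    _ = v := hsum.symm
    _ = (1 : V →ₗ[ℂ] V) v := rfl

end REP

end Cfsg.Agent.Helper77.SPE
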