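import Mathlib
import Cfsg.Prelude.Def_OddOrder
import Cfsg.Prelude.Def_OddOrderLocal
import Cfsg.Agent.S1350
import Cfsg.Agent.S1420
import Cfsg.Agent.Lib.Helper20.BG13A
import Cfsg.Agent.Lib.Helper52.CoprimeSylow

/-!
# BG142 (S1430/S1431, helper54's lemma server), piece (Q13) `abelian_of_fpf` (helper77)

Statement verbatim from `tools/bg142_sigs_helper54.lean.txt`.
-/

set_option autoImplicit false

namespace Cfsg.Agent.Helper77.BG142Req

open Subgroup

variable {G : Type*} [Group G] [Finite G]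

omit [Finite G] in
/-- `|M| = |E| |N|` for a complement `E` of `N` in `M`. -/
theorem card_eq_mul_of_isComplIn {E N M : Subgroup G} (hE : Cfsg.IsComplIn E N M) :
    Nat.card M = Nat.card E * Nat.card N := by
  obtain ⟨hEM, hNM, hEN, hfac⟩ := hE
  let f : E × N → M := fun p => ⟨(p.1 : G) * (p.2 : G), M.mul_mem (hEM p.1.2) (hNM p.2.2)⟩
  have hinj : Function.Injective f := by
    rintro ⟨e1, s1⟩ ⟨e2, s2⟩ h
    have h' : (e1 : G) * s1 = e2 * s2 := congrArg Subtype.val h
    have h1 : (e2 : G)⁻¹ * e1 = s2 * (s1 : G)⁻¹ := by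
      have : (e2 : G)⁻¹ * e1 = (e2 : G)⁻¹ * (e1 * s1) * (s1 : G)⁻¹ := by group
      rw [this, h']; group
    have h2 : (e2 : G)⁻¹ * e1 ∈ E ⊓ N := by
      refine ⟨E.mul_mem (E.inv_mem e2.2) e1.2, ?_⟩
      rw [h1]; exact N.mul_mem s2.2 (N.inv_mem s1.2)
    rw [hEN, Subgroup.mem_bot] at h2
    have he : (e1 : G) = e2 := by
      have : (e1 : G) = e2 * ((e2 : G)⁻¹ * e1) := by group
      rw [this, h2, mul_one]
    have hs : (s1 : G) = s2 := by
      rw [he] at h'
      exact mul_left_cancel h'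
    exact Prod.ext (Subtype.ext he) (Subtype.ext hs)
  have hsurj : Function.Surjective f := by
    rintro ⟨m, hm⟩
    obtain ⟨e, he, s, hs, rfl⟩ := hfac m hm
    exact ⟨(⟨e, he⟩, ⟨s, hs⟩), rfl⟩
  rw [← Nat.card_congr (Equiv.ofBijective f ⟨hinj, hsurj⟩), Nat.card_prod]

/-- a complement of `M_σ` in `M` is a `σ(M)'`-group. -/
theorem not_mem_sigma_of_dvd_card_compl (hG : Cfsg.IsMinSimpleOddOrder G) (M : Subgroup G)
    (hM : IsCoatom M) (E : Subgroup G) (hE : Cfsg.IsComplIn E (Cfsg.sigmaCore M) M) (p : ℕ)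
    (hp : p.Prime) (hpE : p ∣ Nat.card E) : p ∉ Cfsg.sigma M := by
  intro hpσ
  obtain ⟨⟨hle, -, hidx⟩, -, -⟩ := Cfsg.Agent.S1350.result hG M hM
  apply hidx p hp hpσ
  have h1 := Cfsg.Agent.Helper52.card_mul_relIndex_eq hle
  have h2 := card_eq_mul_of_isComplIn hE
  have h0 : 0 < Nat.card (Cfsg.sigmaCore M) := Nat.card_pos
  have h3 : (Cfsg.sigmaCore M).relIndex M = Nat.card E := by
    have : Nat.card (Cfsg.sigmaCore M) * (Cfsg.sigmaCore M).relIndex M =
        Nat.card (Cfsg.sigmaCore M) * Nat.card E := by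
      rw [h1, h2, mul_comm]
    exact Nat.eq_of_mul_eq_mul_left h0 this
  rw [h3]
  exact hpE

/-- (Q13): a sigma(M)'-subgroup of M admitting a fixed-point-free automorphism of prime order induced
from M is abelian. -/
theorem abelian_of_fpf (hG : Cfsg.IsMinSimpleOddOrder G) (M : Subgroup G) (hM : IsCoatom M)
    (E : Subgroup G) (hE : Cfsg.IsComplIn E (Cfsg.sigmaCore M) M) (U : Subgroup G) (hUE : U ≤ E)
    (x : G) (hxU : x ∈ normalizer (U : Set G)) (hx : (orderOf x).Prime)
    (hfpf : U ⊓ centralizer ({x} : Set G) = ⊥) :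
    IsMulCommutative U := by
  have hnil : Group.IsNilpotent U := by
    refine Cfsg.Agent.Helper20.BG13.nilpotent_of_free U x hxU (orderOf x) hx
      (pow_orderOf_eq_one x) ?_
    intro y hyU hy1 hxy
    apply hy1
    have : y ∈ U ⊓ centralizer ({x} : Set G) := by
      refine ⟨hyU, ?_⟩
      intro h hh
      rw [Set.mem_singleton_iff] at hh
      subst hh
      exact hxy
    rw [hfpf, Subgroup.mem_bot] at this
    exact this
  refine (Cfsg.Agent.S1420.result hG M hM E hE).1 U (hUE.trans hE.1) hnil ?_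
  intro p hp hpU
  exact not_mem_sigma_of_dvd_card_compl hG M hM E hE p hp
    (hpU.trans (Subgroup.card_dvd_of_le hUE))

end Cfsg.Agent.Helper77.BG142Req
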