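import Mathlib
import Cfsg.Prelude.Def_OddOrder
import Cfsg.Prelude.Def_OddOrderLocal
import Cfsg.Agent.Lib.Helper52.CoprimeHall

/-!
# BG142 (S1430/S1431, helper54's lemma server), piece (Q18) `exists_hall_tau1_ge` (helper77)

Statement verbatim from `tools/bg142_sigs_helper54.lean.txt`.
-/

set_option autoImplicit false

namespace Cfsg.Agent.Helper77.BG142Req

open Subgroup
open scoped Pointwise

variable {G : Type*} [Group G] [Finite G]

/-- In a solvable subgroup `E`, every `π`-subgroup lies in a Hall `π`-subgroup. -/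
theorem exists_piHallOf_ge (π : Set ℕ) (E K : Subgroup G) (hEs : Group.IsSolvable E) (hKE : K ≤ E)
    (hK : ∀ p : ℕ, p.Prime → p ∣ Nat.card K → p ∈ π) :
    ∃ E1 : Subgroup G, Cfsg.IsPiHallOf π E1 E ∧ K ≤ E1 := by
  classical
  have hE0 : Nat.card E ≠ 0 := Nat.card_pos.ne'
  set m := Cfsg.Agent.Helper52.piPart π (Nat.card E) with hm
  set n := Cfsg.Agent.Helper52.piPrimePart π (Nat.card E) with hn
  have hmn : Nat.card E = m * n := (Cfsg.Agent.Helper52.piPart_mul_piPrimePart π hE0).symm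
  have hcop : m.Coprime n := Cfsg.Agent.Helper52.piPart_coprime π _
  have : Group.IsSolvable E := hEs
  obtain ⟨H, hH, hdom⟩ := Cfsg.Agent.Helper1.hall_exists_dominant (G := E) m n hmn hcop
  have hKc : Nat.card (K.subgroupOf E) = Nat.card K :=
    Nat.card_congr (Subgroup.subgroupOfEquivOfLe hKE).toEquiv
  have hKcop : (Nat.card (K.subgroupOf E)).Coprime n := by
    rw [hKc]
    apply Nat.coprime_of_dvd
    intro k hk h1 h2
    exact Cfsg.Agent.Helper52.not_mem_of_prime_dvd_piPrimePart π hk h2 (hK k hk h1)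
  obtain ⟨g, hg⟩ := hdom (K.subgroupOf E) hKcop
  refine ⟨(MulAut.conj g • H).map E.subtype, ?_, ?_⟩
  · rw [Cfsg.Agent.Helper52.isPiHallOf_iff_card]
    refine ⟨?_, ?_⟩
    · rintro x ⟨y, -, rfl⟩
      exact y.2
    · rw [Subgroup.card_map_of_injective E.subtype_injective, Cfsg.Agent.Helper1.card_conj_smul, hH]
  · intro k hk
    have h1 : (⟨k, hKE hk⟩ : E) ∈ K.subgroupOf E := by
      rw [Subgroup.mem_subgroupOf]; exact hk
    exact ⟨⟨k, hKE hk⟩, hg h1, rfl⟩

/-- (Q18): a tau1(M)-subgroup K of a complement E lies in a Hall tau1(M)-subgroup of E. -/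
theorem exists_hall_tau1_ge (hG : Cfsg.IsMinSimpleOddOrder G) (M : Subgroup G) (hM : IsCoatom M)
    (E : Subgroup G) (hE : Cfsg.IsComplIn E (Cfsg.sigmaCore M) M) (K : Subgroup G) (hKE : K ≤ E)
    (hK : ∀ p : ℕ, p.Prime → p ∣ Nat.card K → p ∈ Cfsg.tau1 M) :
    ∃ E1 : Subgroup G, Cfsg.IsPiHallOf (Cfsg.tau1 M) E1 E ∧ K ≤ E1 := by
  have hEtop : E ≠ ⊤ := by
    intro h
    have : M = ⊤ := top_le_iff.mp (h ▸ hE.1)
    exact hM.1 this
  exact exists_piHallOf_ge (Cfsg.tau1 M) E K (hG.2.2.2 E hEtop) hKE hK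

end Cfsg.Agent.Helper77.BG142Req
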