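import Mathlib
import Cfsg.Prelude.Def_OddOrder
import Cfsg.Prelude.Def_OddOrderLocal

/-!
# BG142 (S1430/S1431, helper54's lemma server), piece (Q8) `inf_normalizer_eq_sup` (helper77)

Statement verbatim from `tools/bg142_sigs_helper54.lean.txt`.
-/

set_option autoImplicit false

namespace Cfsg.Agent.Helper77.BG142Req

open Subgroup

variable {G : Type*} [Group G] [Finite G]

/-- (Q8) = (L7) pure: normalizers of subgroups of a complement. -/
theorem inf_normalizer_eq_sup (M E N X : Subgroup G) (hE : Cfsg.IsComplIn E N M)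
    (hN : M ≤ normalizer (N : Set G)) (hXE : X ≤ E) :
    M ⊓ normalizer (X : Set G) = (E ⊓ normalizer (X : Set G)) ⊔ (N ⊓ centralizer (X : Set G)) := by
  obtain ⟨hEM, hNM, hEN, hfac⟩ := hE
  apply le_antisymm
  · rintro n ⟨hnM, hnX⟩
    obtain ⟨e, he, s, hs, rfl⟩ := hfac n hnM
    have heM : e ∈ M := hEM he
    -- `s` centralizes `X`
    have hsC : s ∈ centralizer (X : Set G) := by
      intro x hx
      have hxE : x ∈ E := hXE hx
      have hxM : x ∈ M := hEM hxE
      -- `s x s⁻¹ x⁻¹ ∈ N`
      have h1 : x * s⁻¹ * x⁻¹ ∈ N := by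
        have := (Subgroup.mem_normalizer_iff.mp (hN hxM) s⁻¹).mp (N.inv_mem hs)
        exact this
      have h2 : s * (x * s⁻¹ * x⁻¹) ∈ N := N.mul_mem hs h1
      -- conjugate by `e`
      have h3 : e * (s * (x * s⁻¹ * x⁻¹)) * e⁻¹ ∈ N :=
        (Subgroup.mem_normalizer_iff.mp (hN heM) _).mp h2
      -- the product with `e x e⁻¹`
      have h4 : (e * s) * x * (e * s)⁻¹ ∈ X := (Subgroup.mem_normalizer_iff.mp hnX x).mp hx
      have h5 : e * x * e⁻¹ ∈ E := E.mul_mem (E.mul_mem he hxE) (E.inv_mem he)
      have h6 : e * (s * (x * s⁻¹ * x⁻¹)) * e⁻¹ = ((e * s) * x * (e * s)⁻¹) * (e * x * e⁻¹)⁻¹ := by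
        group
      have h7 : e * (s * (x * s⁻¹ * x⁻¹)) * e⁻¹ ∈ E := by
        rw [h6]
        exact E.mul_mem (hXE h4) (E.inv_mem h5)
      have h8 : e * (s * (x * s⁻¹ * x⁻¹)) * e⁻¹ ∈ E ⊓ N := ⟨h7, h3⟩
      rw [hEN, Subgroup.mem_bot] at h8
      have h9 : s * (x * s⁻¹ * x⁻¹) = 1 := by
        have : s * (x * s⁻¹ * x⁻¹) = e⁻¹ * (e * (s * (x * s⁻¹ * x⁻¹)) * e⁻¹) * e := by group
        rw [this, h8]; group
      -- `x * s = s * x`
      have : s * x = x * s := by
        have h10 : s * x * s⁻¹ * x⁻¹ = 1 := by rw [← h9]; group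
        have : s * x = (s * x * s⁻¹ * x⁻¹) * (x * s) := by group
        rw [this, h10, one_mul]
      exact this.symm
    have hsN : s ∈ normalizer (X : Set G) := by
      rw [Subgroup.mem_normalizer_iff]
      intro y
      constructor
      · intro hy
        have : s * y * s⁻¹ = y := by
          have hc : y * s = s * y := hsC y hy
          rw [← hc]; group
        rw [this]; exact hy
      · intro hy
        have hc : (s * y * s⁻¹) * s = s * (s * y * s⁻¹) := hsC _ hy
        have : y = s * y * s⁻¹ := by
          have h' : s * y = s * (s * y * s⁻¹) := by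
            rw [← hc]; group
          have h'' := mul_left_cancel h'
          exact h''
        rw [this]; exact hy
    have heN : e ∈ normalizer (X : Set G) := by
      have : e = (e * s) * s⁻¹ := by group
      rw [this]
      exact (normalizer (X : Set G)).mul_mem hnX ((normalizer (X : Set G)).inv_mem hsN)
    exact Subgroup.mul_mem_sup ⟨he, heN⟩ ⟨hs, hsC⟩
  · apply sup_le
    · exact inf_le_inf_right _ hEM
    · refine le_inf (inf_le_left.trans hNM) ?_
      intro s hs
      have hsC : s ∈ centralizer (X : Set G) := hs.2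
      rw [Subgroup.mem_normalizer_iff]
      intro y
      constructor
      · intro hy
        have : s * y * s⁻¹ = y := by
          have hc : y * s = s * y := hsC y hy
          rw [← hc]; group
        rw [this]; exact hy
      · intro hy
        have hc : (s * y * s⁻¹) * s = s * (s * y * s⁻¹) := hsC _ hy
        have : y = s * y * s⁻¹ := by
          have h' : s * y = s * (s * y * s⁻¹) := by
            rw [← hc]; group
          exact mul_left_cancel h'
        rw [this]; exact hy

end Cfsg.Agent.Helper77.BG142Req
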