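import Mathlib
import Cfsg.Prelude.Def_Transfer
import Cfsg.Agent.Lib.Helper24.CYCDefs

/-!
# CYC (OB2) for helper24's S4016 server
-/

set_option autoImplicit false

namespace Cfsg.Agent.Helper77.CYC

open Subgroup Cfsg.Agent.Helper24.CYC

universe u

variable {G : Type u} [Group G] [Finite G] {p : ℕ} [Fact p.Prime]

omit [Finite G] [Fact p.Prime] in
/-- a `p`-element of `N_G(P)` lies in `P` -/
theorem ob2_mem_sylow (P : Sylow p G) {x : G} (hx : x ∈ NP P) (hxp : IsPGroup p (zpowers x)) :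
    x ∈ P := by
  have h1 := hxp.inf_normalizer_sylow P
  have h2 : x ∈ zpowers x ⊓ normalizer ((P : Subgroup G) : Set G) := ⟨mem_zpowers x, hx⟩
  have h3 : x ∈ zpowers x ⊓ (P : Subgroup G) := h1 ▸ h2
  exact h3.2

/-- (OB2) -/
theorem odd_exists_v (hC : Core p G) (P : Sylow p G) (r : ℕ) (hr : r.Prime) (hrp : r ≠ p) (R : Sylow r G)
    (hRN : (R : Subgroup G) ≤ NP P) (hg : ∃ g ∈ R, g ≠ 1 ∧ g ∈ CP P) (hRC : ¬ (R : Subgroup G) ≤ CP P) :
    ∃ v : G, orderOf v = p ∧ v ∈ nrm (R : Subgroup G) ∧ ∀ i : ℕ, 0 < i → i < p → v ^ i ∉ NP P := by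
  have hp : p.Prime := Fact.out
  have : Fact r.Prime := ⟨hr⟩
  have hc1 := hC.c1
  -- `R ≠ ⊥`
  have hRne : (R : Subgroup G) ≠ ⊥ := by
    obtain ⟨g, hgR, hg1, _⟩ := hg
    intro h
    have hgR' : g ∈ (R : Subgroup G) := hgR
    rw [h] at hgR'
    exact hg1 (Subgroup.mem_bot.1 hgR')
  -- `p ∤ |R|`
  have hRp : ¬ p ∣ Nat.card (R : Subgroup G) := by
    obtain ⟨n, hn⟩ := IsPGroup.exists_card_eq R.2
    intro h
    rw [hn] at h
    have h3 := Nat.Prime.dvd_of_dvd_pow hp h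
    exact hrp ((Nat.prime_dvd_prime_iff_eq hp hr).mp h3).symm
  have hburn := hc1.burn r R hRne
  have hpcent := hc1.pcent (R : Subgroup G) hRp
  -- `p ∣ |N_G(R)|`
  have hpd : p ∣ Nat.card (nrm (R : Subgroup G)) := by
    by_contra hnd
    apply hburn
    intro y hy
    apply hpcent y hy
    have h1 : orderOf y ∣ Nat.card (nrm (R : Subgroup G)) := by
      have := orderOf_dvd_natCard (⟨y, hy⟩ : nrm (R : Subgroup G))
      rwa [Subgroup.orderOf_mk] at this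
    have h2 : (Nat.card (nrm (R : Subgroup G))).Coprime p :=
      ((Nat.Prime.coprime_iff_not_dvd hp).2 hnd).symm
    exact Nat.Coprime.coprime_dvd_left h1 h2
  obtain ⟨v', hv'⟩ := exists_prime_orderOf_dvd_card' p hpd
  have hvo : orderOf (v' : G) = p := by rw [Subgroup.orderOf_coe]; exact hv'
  refine ⟨(v' : G), hvo, v'.2, ?_⟩
  intro i hi0 hip hmem
  have hwR : (v' : G) ^ i ∈ nrm (R : Subgroup G) := pow_mem v'.2 i
  have hw1 : (v' : G) ^ i ≠ 1 := by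
    intro h
    have h1 : orderOf (v' : G) ∣ i := orderOf_dvd_of_pow_eq_one h
    rw [hvo] at h1
    exact absurd (Nat.le_of_dvd hi0 h1) (not_le.2 hip)
  have hwpow : ((v' : G) ^ i) ^ p = 1 := by
    rw [← pow_mul, mul_comm, pow_mul]
    conv_lhs => rw [← hvo]
    rw [pow_orderOf_eq_one, one_pow]
  have hwp : IsPGroup p (zpowers ((v' : G) ^ i)) := by
    rintro ⟨g, hg⟩
    obtain ⟨n, rfl⟩ := Subgroup.mem_zpowers_iff.1 hg
    refine ⟨1, ?_⟩
    apply Subtype.ext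
    simp only [pow_one, Subgroup.coe_pow, Subgroup.coe_one]
    rw [← zpow_natCast, ← zpow_mul, mul_comm, zpow_mul, zpow_natCast, hwpow, one_zpow]
  have hwP : (v' : G) ^ i ∈ P := ob2_mem_sylow P hmem hwp
  apply hRC
  intro y hy
  have hyco : (orderOf y).Coprime p := by
    obtain ⟨k, hk⟩ := (IsPGroup.iff_orderOf.1 R.2) ⟨y, hy⟩
    rw [Subgroup.orderOf_mk] at hk
    rw [hk]
    exact Nat.Coprime.pow_left k ((Nat.coprime_primes hr hp).2 hrp)
  apply hc1.fpf P y ((v' : G) ^ i) (hRN hy) hyco hwP hw1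
  -- the commutator lies in `R ⊓ P = 1`
  have hcP : y * (v' : G) ^ i * y⁻¹ * ((v' : G) ^ i)⁻¹ ∈ (P : Subgroup G) := by
    apply mul_mem _ (inv_mem hwP)
    exact (Subgroup.mem_normalizer_iff.1 (hRN hy) _).1 hwP
  have hcR : y * (v' : G) ^ i * y⁻¹ * ((v' : G) ^ i)⁻¹ ∈ (R : Subgroup G) := by
    have h1 : (v' : G) ^ i * y⁻¹ * ((v' : G) ^ i)⁻¹ ∈ (R : Subgroup G) :=
      (Subgroup.mem_normalizer_iff.1 hwR _).1 (inv_mem hy)
    have h2 := mul_mem hy h1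
    have e : y * ((v' : G) ^ i * y⁻¹ * ((v' : G) ^ i)⁻¹) =
        y * (v' : G) ^ i * y⁻¹ * ((v' : G) ^ i)⁻¹ := by group
    rwa [e] at h2
  have hdisj : Disjoint (R : Subgroup G) (P : Subgroup G) :=
    IsPGroup.disjoint_of_ne r p hrp _ _ R.2 P.2
  have hc1' := Subgroup.disjoint_def.1 hdisj hcR hcP
  have h3 : y * (v' : G) ^ i * y⁻¹ = (v' : G) ^ i := mul_inv_eq_one.1 hc1'
  exact mul_inv_eq_iff_eq_mul.1 h3

end Cfsg.Agent.Helper77.CYC
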