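import Mathlib
import Cfsg.Agent.S4653
import Cfsg.Agent.Lib.Helper16.Osima
import Cfsg.Agent.Lib.Helper54.PxQ

set_option autoImplicit false
set_option linter.unusedSectionVars false
set_option linter.style.haveILetI false

namespace Cfsg.Agent.Helper77

open Cfsg

universe u

section chainsupport

variable {G : Type u} [Group G] [Fintype G] {p : ℕ} {M : Ideal AlgInt}

/-- A normal `p`-subgroup (given inside the ambient group) of `N` is centralized by the support
of every block idempotent of `N`. -/
theorem commute_of_blockCoeff_ne_zero [Fact p.Prime] (hM : IsPModular p M) (N : Subgroup G)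
    {E : Set (IrrCharacter N)} (hE : IsPBlock M E) (n : N) (hn : blockCoeff E n ≠ 0)
    (R : Subgroup G) (hRN : R ≤ N) (hRp : IsPGroup p R)
    (hnorm : ∀ g ∈ N, g ∈ Subgroup.normalizer (R : Set G)) :
    ∀ r ∈ R, r * (n : G) = (n : G) * r := by
  classical
  haveI : Fintype N := Fintype.ofFinite _
  haveI : (R.subgroupOf N).Normal :=
    (Subgroup.normal_subgroupOf_iff_le_normalizer hRN).mpr (fun g hg => hnorm g hg)
  have hcen : n ∈ Subgroup.centralizer ((R.subgroupOf N : Subgroup N) : Set N) := by
    by_contra hcon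
    exact hn (Cfsg.Agent.S4653.result p M hM (R.subgroupOf N) hRp.comap_subtype E hE n hcon)
  intro r hr
  have := (Subgroup.mem_centralizer_iff.mp hcen) ⟨r, hRN hr⟩ (Subgroup.mem_subgroupOf.mpr hr)
  exact congrArg Subtype.val this

/-- **S4668**: block idempotents of the normalizer of a chain of `p`-subgroups are supported on
the centralizer of its largest term. -/
theorem blockCoeff_chain_support [Fact p.Prime] (hM : IsPModular p M) (m : ℕ)
    (Q : Fin (m + 1) → Subgroup G) (hQ : StrictMono Q) (hQp : ∀ i, IsPGroup p (Q i))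
    (N : Subgroup G) (hN : ∀ g : G, g ∈ N ↔ ∀ i, g ∈ Subgroup.normalizer (Q i : Set G))
    (E : Set (IrrCharacter N)) (hE : IsPBlock M E) (n : N)
    (hn : (n : G) ∉ Subgroup.centralizer (Q (Fin.last m) : Set G)) : blockCoeff E n = 0 := by
  classical
  haveI : Fintype N := Fintype.ofFinite _
  by_contra hne
  have hp : p.Prime := Fact.out
  -- `n` is `p`-regular
  have hreg : ¬ p ∣ orderOf (n : G) := by
    intro hdvd
    apply hne
    refine Cfsg.Agent.Helper16.blockCoeff_eq_zero_of_singular hM hE n ?_
    rwa [← Subgroup.orderOf_coe]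
  have hcop : (Nat.card (Subgroup.zpowers (n : G))).Coprime p := by
    rw [Nat.card_zpowers]
    exact (Nat.Coprime.symm ((Nat.Prime.coprime_iff_not_dvd hp).mpr hreg))
  have hmono : ∀ i j : Fin (m + 1), i ≤ j → Q i ≤ Q j := fun i j h => hQ.monotone h
  have hnN : ∀ i, (n : G) ∈ Subgroup.normalizer (Q i : Set G) := (hN n).mp n.2
  -- the induction
  have key : ∀ k : ℕ, ∀ hk : k < m + 1,
      ∀ r ∈ Q ⟨k, hk⟩, r * (n : G) = (n : G) * r := by
    intro k
    induction k with
    | zero =>
      intro hk
      refine commute_of_blockCoeff_ne_zero hM N hE n hne (Q ⟨0, hk⟩) ?_ (hQp _) ?_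
      · intro q hq
        rw [hN]
        intro i
        exact Subgroup.le_normalizer (hmono ⟨0, hk⟩ i (Fin.mk_le_of_le_val (Nat.zero_le _)) hq)
      · intro g hg
        exact (hN g).mp hg _
    | succ k ih =>
      intro hk
      have hk' : k < m + 1 := Nat.lt_of_succ_lt hk
      have ihk := ih hk'
      obtain ⟨A, hA⟩ : ∃ A : Subgroup G, A = Q ⟨k, hk'⟩ := ⟨_, rfl⟩
      obtain ⟨U, hU⟩ : ∃ U : Subgroup G, U = Q ⟨k + 1, hk⟩ := ⟨_, rfl⟩
      have hAU : A ≤ U := by
        rw [hA, hU]
        exact hmono _ _ (Fin.mk_le_mk.mpr (Nat.le_succ k))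
      -- `C = C_U(A)` is a normal `p`-subgroup of `N`
      have hCN : U ⊓ Subgroup.centralizer (A : Set G) ≤ N := by
        intro c hc
        rw [hN]
        intro i
        by_cases hi : (i : ℕ) ≤ k
        · have hiA : Q i ≤ A := by
            rw [hA]
            exact hmono _ _ (Fin.mk_le_mk.mpr hi)
          have hcen : c ∈ Subgroup.centralizer (Q i : Set G) :=
            Subgroup.centralizer_le (by exact_mod_cast hiA) (Subgroup.mem_inf.mp hc).2
          exact Subgroup.centralizer_le_normalizer _ hcen
        · have hiU : U ≤ Q i := by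
            rw [hU]
            exact hmono _ _ (Fin.mk_le_of_le_val (by simpa using Nat.lt_of_not_le hi))
          exact Subgroup.le_normalizer (hiU (Subgroup.mem_inf.mp hc).1)
      have hCnorm : ∀ g ∈ N, g ∈ Subgroup.normalizer
          ((U ⊓ Subgroup.centralizer (A : Set G) : Subgroup G) : Set G) := by
        intro g hg
        have hgU : g ∈ Subgroup.normalizer (U : Set G) := hU ▸ (hN g).mp hg _
        have hgA : g ∈ Subgroup.normalizer (A : Set G) := hA ▸ (hN g).mp hg _
        have hgC : g ∈ Subgroup.normalizer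
            ((Subgroup.centralizer (A : Set G) : Subgroup G) : Set G) :=
          Cfsg.Agent.Helper54.normalizer_le_normalizer_centralizer A hgA
        rw [Subgroup.mem_normalizer_iff] at hgU hgC ⊢
        intro y
        rw [Subgroup.mem_inf, Subgroup.mem_inf, ← hgU y, ← hgC y]
      have hCcomm := commute_of_blockCoeff_ne_zero hM N hE n hne
        (U ⊓ Subgroup.centralizer (A : Set G)) hCN ((hQp ⟨k + 1, hk⟩).to_le (hU ▸ inf_le_left))
        hCnorm
      -- Thompson
      have hth := Cfsg.Agent.Helper54.thompson_PxQ p A (Subgroup.zpowers (n : G)) U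
        (hA ▸ hQp _) hcop (hU ▸ hQp _) ?_ (hAU.trans Subgroup.le_normalizer) ?_ ?_
      · intro r hr
        have hr' : r ∈ U := hU ▸ hr
        have := (Subgroup.mem_centralizer_iff.mp (hth (Subgroup.mem_zpowers (n : G)))) r hr'
        exact this
      · intro a ha
        rw [Subgroup.mem_centralizer_iff]
        intro z hz
        obtain ⟨j, rfl⟩ := Subgroup.mem_zpowers_iff.mp hz
        have hc : Commute a (n : G) := ihk a (hA ▸ ha)
        exact ((hc.zpow_right j).eq).symm
      · rw [Subgroup.zpowers_le]
        exact hU ▸ hnN _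
      · intro c hc
        rw [Subgroup.mem_centralizer_iff]
        intro z hz
        obtain ⟨j, rfl⟩ := Subgroup.mem_zpowers_iff.mp hz
        have hc' : Commute c (n : G) := hCcomm c hc
        exact ((hc'.zpow_right j).eq).symm
  apply hn
  rw [Subgroup.mem_centralizer_iff]
  intro r hr
  exact key m (Nat.lt_succ_self m) r hr

end chainsupport

end Cfsg.Agent.Helper77
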