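import Mathlib
import Cfsg.Agent.Lib.Helper77.ExtDefect
import Cfsg.Agent.Lib.Helper74.DefectOrder

/-!
# Fong's theorem on blocks of maximal defect covering a stable block (S0970).
-/

set_option autoImplicit false
set_option linter.unusedSectionVars false
set_option linter.style.haveILetI false

namespace Cfsg.Agent.Helper77

open Cfsg Cfsg.Agent.Helper79

universe u

section fongA

variable {G : Type u} [Group G] [Fintype G] {M : Ideal AlgInt} [hpr : M.IsPrime]

theorem isClassFunction_subgroupBlockCoeff_of_stable (N : Subgroup G) [hN : N.Normal]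
    {b : Set (IrrCharacter N)} (hb : IsPBlock M b) (hst : ∀ g : G, StabilizesBlock N b g) :
    IsClassFunction G (subgroupBlockCoeff N b) := by
  have hTN : (⊤ : Subgroup G) ≤ Subgroup.normalizer (N : Set G) := by
    rw [Subgroup.normalizer_eq_top]
  have hstab : IsStableSet N ⊤ hTN b := fun x hx =>
    (stabilizesBlock_iff_conjSet_eq N x (hTN hx) hb).mp (hst x)
  intro x u
  exact subgroupBlockCoeff_conj_of_stable N ⊤ hTN hstab u (Subgroup.mem_top u) x

theorem restr_subgroupBlockCoeff (N : Subgroup G) (b : Set (IrrCharacter N)) :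
    restr N (subgroupBlockCoeff N b) = blockCoeff b := by
  funext n
  show subgroupBlockCoeff N b (n : G) = _
  rw [subgroupBlockCoeff_eq_extZ, extZ_of_mem]

theorem subgroupBlockCoeff_of_notMem (N : Subgroup G) (b : Set (IrrCharacter N)) {g : G}
    (hg : g ∉ N) : subgroupBlockCoeff N b g = 0 := by
  rw [subgroupBlockCoeff_eq_extZ, extZ_of_notMem _ _ hg]

/-- The central character of `χ` at the idempotent of a stable block `b` of `N ⊴ G` detects
whether the constituents of `χ_N` lie in `b`. -/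
theorem omega_subgroupBlockCoeff_of_constituent (N : Subgroup G) [hN : N.Normal] [Fintype N]
    {b : Set (IrrCharacter N)} (hb : IsPBlock M b) (hst : ∀ g : G, StabilizesBlock N b g)
    (χ : IrrCharacter G) (θ : IrrCharacter N)
    (hne : classInner (fun n : N => (χ : G → ℂ) n) (θ : N → ℂ) ≠ 0) :
    (θ ∈ b → omega (χ : G → ℂ) (subgroupBlockCoeff N b) = 1) ∧
      (θ ∉ b → omega (χ : G → ℂ) (subgroupBlockCoeff N b) = 0) := by
  classical
  have h1 := omega_eq_of_constituent N χ θ hne
    (isClassFunction_subgroupBlockCoeff_of_stable N hb hst)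
    (fun g hg => subgroupBlockCoeff_of_notMem N b hg)
  rw [restr_subgroupBlockCoeff, omega_blockCoeff] at h1
  constructor
  · intro h
    rw [h1, if_pos h]
  · intro h
    rw [h1, if_neg h]

/-- The product of a block idempotent with a central idempotent with coefficients in the local
ring. -/
theorem conv_blockCoeff_idem {B' : Set (IrrCharacter G)} (hB' : IsPBlock M B') {a : G → ℂ}
    (ha : IsClassFunction G a) (haR : IsRValued M a) (hidem : conv a a = a)
    {χ : IrrCharacter G} (hχ : χ ∈ B') :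
    conv (blockCoeff B') a = omega (χ : G → ℂ) a • blockCoeff B' := by
  classical
  apply eq_of_omega_eq (isClassFunction_conv (isClassFunction_blockCoeff B') ha)
    (isClassFunction_smul _ (isClassFunction_blockCoeff B'))
  intro ψ
  rw [omega_conv ψ.2 (isClassFunction_blockCoeff B') ha, omega_smul, omega_blockCoeff]
  by_cases hψ : ψ ∈ B'
  · rw [if_pos hψ, one_mul, mul_one]
    exact omega_eq_of_sameBlock_of_idem ha haR hidem (sameBlock_of_mem hB' hψ hχ)
  · rw [if_neg hψ, zero_mul, mul_zero]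

end fongA

section fongB

variable {G : Type u} [Group G] [Fintype G] {p : ℕ} {M : Ideal AlgInt}

/-- If the block `B'` of `G` lies over the stable block `b` of `N ⊴ G` and `P` is a defect group
of `B'`, then `P ∩ N` lies in a defect group of `b`. -/
theorem exists_isDefectGroup_ge_inf [Fact p.Prime] (hM : IsPModular p M) (N : Subgroup G)
    [hN : N.Normal] [Fintype N] {b : Set (IrrCharacter N)} (hb : IsPBlock M b)
    (hst : ∀ g : G, StabilizesBlock N b g) {B' : Set (IrrCharacter G)} (hB' : IsPBlock M B')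
    {χ : IrrCharacter G} (hχ : χ ∈ B')
    (hχ1 : omega (χ : G → ℂ) (subgroupBlockCoeff N b) = 1)
    {P : Subgroup G} (hP : IsDefectGroup p M B' P) :
    ∃ E : Subgroup N, IsDefectGroup p M b E ∧ (P ⊓ N).subgroupOf N ≤ E := by
  classical
  haveI hpr := isPrime_of_isPModular hM
  haveI : Fintype (⊤ : Subgroup G) := Fintype.ofFinite _
  obtain ⟨x, ⟨hxR, hxJ, hxω⟩, hPle, hPp, -⟩ := isDefectGroup_iff_card.mp hP
  have hacl := isClassFunction_subgroupBlockCoeff_of_stable N hb hst
  have haR : IsRValued M (subgroupBlockCoeff N b) := isRValued_subgroupBlockCoeff N hb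
  have hconv : conv (blockCoeff B') (subgroupBlockCoeff N b) = blockCoeff B' := by
    rw [conv_blockCoeff_idem hB' hacl haR (conv_subgroupBlockCoeff_self N b) hχ, hχ1, one_smul]
  have hR : IsPGroup p (P ⊓ N : Subgroup G) := hPp.to_le inf_le_left
  have hxC : x ∈ Subgroup.centralizer ((P ⊓ N : Subgroup G) : Set G) :=
    le_centralizer_singleton_iff.mp (inf_le_left.trans hPle)
  obtain ⟨r, hr, hreq⟩ := cutC_conv hM (P ⊓ N) ⊤ hR le_top (blockCoeff B')
    (subgroupBlockCoeff N b) (isRValued_blockCoeff hB') haR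
    (fun u _ y => isClassFunction_blockCoeff B' y u) (fun u _ y => hacl y u)
  rw [hconv] at hreq
  have hex : ∃ y ∈ Subgroup.centralizer ((P ⊓ N : Subgroup G) : Set G),
      ¬ MemLocalIdeal M (subgroupBlockCoeff N b y) := by
    by_contra hcon
    push Not at hcon
    apply hxJ
    have h1 := congrFun hreq ⟨x, Subgroup.mem_top x⟩
    rw [cutC_of_mem _ _ _ hxC] at h1
    rw [h1]
    simp only [Pi.add_apply, Pi.smul_apply, smul_eq_mul]
    refine memLocalIdeal_add ?_ (memLocalIdeal_mul_right (memLocalIdeal_natCast_self hM) (hr _))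
    unfold conv
    refine memLocalIdeal_sum _ _ fun t _ => ?_
    refine memLocalIdeal_mul_left (isRValued_cutC _ _ (isRValued_blockCoeff hB') t) ?_
    by_cases ht : ((t⁻¹ * (⟨x, Subgroup.mem_top x⟩ : (⊤ : Subgroup G)) : (⊤ : Subgroup G)) : G) ∈
        Subgroup.centralizer ((P ⊓ N : Subgroup G) : Set G)
    · rw [cutC_of_mem _ _ _ ht]
      exact hcon _ ht
    · rw [cutC_of_notMem _ _ _ ht]
      exact memLocalIdeal_zero hpr.ne_top
  obtain ⟨y, hyC, hyJ⟩ := hex
  have hyN : y ∈ N := by
    by_contra hcon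
    apply hyJ
    rw [subgroupBlockCoeff_of_notMem N b hcon]
    exact memLocalIdeal_zero hpr.ne_top
  have hyJ' : ¬ MemLocalIdeal M (blockCoeff b ⟨y, hyN⟩) := by
    rwa [subgroupBlockCoeff_eq_extZ, extZ_of_mem' _ _ hyN] at hyJ
  refine exists_isDefectGroup_ge_of_blockCoeff hM hb hyJ' _ hR.comap_subtype ?_
  intro t ht
  rw [Subgroup.mem_subgroupOf] at ht
  rw [Subgroup.mem_centralizer_iff]
  intro z hz
  rw [Set.mem_singleton_iff] at hz
  subst hz
  apply Subtype.ext
  show y * (t : G) = (t : G) * y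
  exact (hyC (t : G) ht).symm

end fongB

section fongC

variable {G : Type u} [Group G] [Fintype G] {p : ℕ} {M : Ideal AlgInt}

/-- Arithmetic of a defect group `P` of a block lying over the stable block `b` of `N ⊴ G`. -/
theorem defect_cover_facts [Fact p.Prime] (hM : IsPModular p M) (N : Subgroup G)
    [hN : N.Normal] [Fintype N] {b : Set (IrrCharacter N)} (hb : IsPBlock M b)
    (hst : ∀ g : G, StabilizesBlock N b g) {B' : Set (IrrCharacter G)} (hB' : IsPBlock M B')
    {χ : IrrCharacter G} (hχ : χ ∈ B')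
    (hχ1 : omega (χ : G → ℂ) (subgroupBlockCoeff N b) = 1)
    {P : Subgroup G} (hP : IsDefectGroup p M B' P) :
    ∃ i j : ℕ, N.relIndex P = p ^ j ∧ i ≤ blockDefect p b ∧ j ≤ N.index.factorization p ∧
      blockDefect p B' = i + j ∧
      (i = blockDefect p b → IsDefectGroup p M b ((P ⊓ N).subgroupOf N)) := by
  classical
  haveI hpr := isPrime_of_isPModular hM
  have hp : p.Prime := Fact.out
  obtain ⟨E, hE, hRE⟩ := exists_isDefectGroup_ge_inf hM N hb hst hB' hχ hχ1 hP
  have hPp : IsPGroup p P := isPGroup_of_isDefectGroup hP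
  obtain ⟨i, hi⟩ := IsPGroup.iff_card.mp (hPp.to_le (inf_le_left : P ⊓ N ≤ P))
  have hcardE := Cfsg.Agent.Helper74.DO.card_defectGroup hM hb E hE
  have hcardP := Cfsg.Agent.Helper74.DO.card_defectGroup hM hB' P hP
  have hcardR : Nat.card ↥((P ⊓ N).subgroupOf N) = p ^ i := by
    rw [card_subgroupOf_of_le inf_le_right]
    exact hi
  have hle : p ^ i ≤ p ^ blockDefect p b := by
    rw [← hcardR, ← hcardE]
    exact Subgroup.card_le_of_le hRE
  have hile : i ≤ blockDefect p b := (Nat.pow_le_pow_iff_right hp.one_lt).mp hle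
  have hmul := card_eq_inf_mul_relIndex N P
  have hidx0 : N.index ≠ 0 := Subgroup.index_ne_zero_of_finite
  obtain ⟨j, -, hj⟩ := (Nat.dvd_prime_pow hp).1 (hcardP ▸ Subgroup.relIndex_dvd_card N P)
  have hjle : j ≤ N.index.factorization p := by
    refine (hp.pow_dvd_iff_le_factorization hidx0).1 ?_
    rw [← hj]
    exact Subgroup.relIndex_dvd_index_of_normal N P
  have hsum : blockDefect p B' = i + j := by
    have : p ^ blockDefect p B' = p ^ (i + j) := by
      rw [← hcardP, hmul, hj, pow_add]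
      congr 1
    exact Nat.pow_right_injective hp.two_le this
  refine ⟨i, j, hj, hile, hjle, hsum, fun hid => ?_⟩
  have hcge : Nat.card E ≤ Nat.card ↥((P ⊓ N).subgroupOf N) := by
    rw [hcardR, hcardE, hid]
  rw [Subgroup.eq_of_le_of_card_ge hRE hcge]
  exact hE

/-- Some block of `G` lying over the stable block `b` of `N ⊴ G` has defect at least
`d(b) + ν_p [G : N]`. -/
theorem exists_cover_large_defect [Fact p.Prime] (hM : IsPModular p M) (N : Subgroup G)
    [hN : N.Normal] [Fintype N] {b : Set (IrrCharacter N)} (hb : IsPBlock M b)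
    (hst : ∀ g : G, StabilizesBlock N b g) :
    ∃ B' : Set (IrrCharacter G), IsPBlock M B' ∧
      (∃ χ ∈ B', omega (χ : G → ℂ) (subgroupBlockCoeff N b) = 1) ∧
      blockDefect p b + N.index.factorization p ≤ blockDefect p B' := by
  classical
  haveI hpr := isPrime_of_isPModular hM
  have hp : p.Prime := Fact.out
  obtain ⟨Q⟩ : Nonempty (Sylow p G) := inferInstance
  obtain ⟨S, hSdef⟩ : ∃ S : Subgroup G, S = N ⊔ (Q : Subgroup G) := ⟨_, rfl⟩
  haveI : Fintype S := Fintype.ofFinite _
  have hNS : N ≤ S := hSdef ▸ le_sup_left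
  have hQS : (Q : Subgroup G) ≤ S := hSdef ▸ le_sup_right
  have hSN : S ≤ Subgroup.normalizer (N : Set G) := by
    rw [Subgroup.normalizer_eq_top]
    exact le_top
  have hrel : N.relIndex S = N.relIndex (Q : Subgroup G) := by
    rw [hSdef, Subgroup.relIndex_sup_left]
  obtain ⟨n, hn⟩ := IsPGroup.iff_card.mp Q.isPGroup'
  obtain ⟨k, -, hk⟩ := (Nat.dvd_prime_pow hp).1
    (hn ▸ Subgroup.relIndex_dvd_card N (Q : Subgroup G))
  have hkS : N.relIndex S = p ^ k := hrel.trans hk
  have hSidx : ¬ p ∣ S.index := fun h => Q.not_dvd_index (h.trans (Subgroup.index_dvd_of_le hQS))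
  have hSidx0 : S.index ≠ 0 := Subgroup.index_ne_zero_of_finite
  have hkν : N.index.factorization p = k := by
    have h1 := Subgroup.relIndex_mul_index hNS
    rw [← h1, hkS, Nat.factorization_mul (pow_ne_zero k hp.ne_zero) hSidx0,
      hp.factorization_pow]
    simp [Nat.factorization_eq_zero_of_not_dvd hSidx]
  -- the block of `S`
  haveI hN'n : (N.subgroupOf S).Normal := Subgroup.normal_subgroupOf
  have hstab : IsStableSet N S hSN b := fun x hx =>
    (stabilizesBlock_iff_conjSet_eq N x (hSN hx) hb).mp (hst x)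
  obtain ⟨F, hF, hFb⟩ := exists_block_of_stable_normal hNS hSN hb hstab
    (fun F hF t ht => Cfsg.Agent.Helper16.blockCoeff_eq_zero_of_pIndex hM (N.subgroupOf S)
      ⟨k, hkS⟩ hF (g := t) (fun h => ht (Subgroup.mem_subgroupOf.mp h)))
  obtain ⟨D, hD⟩ := exists_isDefectGroup (M := M) p hF
  obtain ⟨h1, h2⟩ := local_defect hM S N hNS hb (fun h _ => hst h) hF hFb hD
  -- order of `D`
  have htop : N.subgroupOf S ⊔ D = ⊤ := by
    rw [← Subgroup.index_eq_one]
    have h3 : (N.subgroupOf S ⊔ D).index ∣ p ^ k := by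
      have : (N.subgroupOf S).index = p ^ k := hkS
      rw [← this]
      exact Subgroup.index_dvd_of_le le_sup_left
    obtain ⟨j, -, hj⟩ := (Nat.dvd_prime_pow hp).1 h3
    rw [hj] at h1 ⊢
    cases j with
    | zero => rfl
    | succ j => exact absurd (dvd_pow_self p (Nat.succ_ne_zero j)) h1
  have hrelD : (N.subgroupOf S).relIndex D = p ^ k := by
    rw [← Subgroup.relIndex_sup_left, htop, Subgroup.relIndex_top_right]
    exact hkS
  have hcardb := Cfsg.Agent.Helper74.DO.card_defectGroup hM hb _ h2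
  rw [card_subgroupOf_of_le inf_le_right] at hcardb
  have hmapN : (N.subgroupOf S).map S.subtype = N := Subgroup.map_subgroupOf_eq_of_le hNS
  have hcardDN : Nat.card ↥(D ⊓ N.subgroupOf S) = p ^ blockDefect p b := by
    calc Nat.card ↥(D ⊓ N.subgroupOf S)
        = Nat.card ↥((D ⊓ N.subgroupOf S).map S.subtype) :=
          (Subgroup.card_map_of_injective S.subtype_injective).symm
      _ = Nat.card ↥(D.map S.subtype ⊓ (N.subgroupOf S).map S.subtype) := by
          rw [Subgroup.map_inf_eq _ _ _ S.subtype_injective]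
      _ = Nat.card ↥(D.map S.subtype ⊓ N) := by rw [hmapN]
      _ = _ := hcardb
  have hcardD : Nat.card D = p ^ (blockDefect p b + k) := by
    rw [card_eq_inf_mul_relIndex (N.subgroupOf S) D, hcardDN, hrelD, pow_add]
  -- a defect class of `F`
  obtain ⟨x, ⟨hxR, hxJ, hxω⟩, hDle, hDp, -⟩ := isDefectGroup_iff_card.mp hD
  have hax : ¬ MemLocalIdeal M (subgroupBlockCoeff N b (x : G)) := by
    rw [← hFb]
    exact hxJ
  have hacl := isClassFunction_subgroupBlockCoeff_of_stable N hb hst
  have haR : IsRValued M (subgroupBlockCoeff N b) := isRValued_subgroupBlockCoeff N hb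
  have hidem := conv_subgroupBlockCoeff_self N b
  -- a block of `G` whose idempotent does not vanish at `x`
  have hex : ∃ B' ∈ allBlocks M G,
      ¬ MemLocalIdeal M (conv (blockCoeff B') (subgroupBlockCoeff N b) (x : G)) := by
    by_contra hcon
    push Not at hcon
    apply hax
    have h3 : subgroupBlockCoeff N b =
        ∑ B' ∈ allBlocks M G, conv (blockCoeff B') (subgroupBlockCoeff N b) := by
      rw [← conv_sum_left, sum_blockCoeff_allBlocks, conv_delta_left]
    rw [h3, Finset.sum_apply]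
    exact memLocalIdeal_sum _ _ hcon
  obtain ⟨B', hB'mem, hB'x⟩ := hex
  have hB' : IsPBlock M B' := mem_allBlocks.mp hB'mem
  obtain ⟨χ, hχ⟩ := nonempty_of_isPBlock hB'
  have hconv := conv_blockCoeff_idem hB' hacl haR hidem hχ
  have hχ1 : omega (χ : G → ℂ) (subgroupBlockCoeff N b) = 1 := by
    rcases omega_eq_zero_or_one_of_idem hacl hidem χ with h | h
    · exfalso
      apply hB'x
      rw [hconv, h, zero_smul]
      exact memLocalIdeal_zero hpr.ne_top
    · exact h
  rw [hconv, hχ1, one_smul] at hB'x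
  -- `D` lies in a defect group of `B'`
  obtain ⟨E', hE', hDE'⟩ := exists_isDefectGroup_ge_of_blockCoeff hM hB' hB'x
    (D.map S.subtype) (hDp.map _) (by
      rintro _ ⟨d, hd, rfl⟩
      have h4 := hDle hd
      rw [Subgroup.mem_centralizer_iff] at h4 ⊢
      intro y hy
      rw [Set.mem_singleton_iff] at hy
      subst hy
      have h5 := h4 x rfl
      exact congrArg Subtype.val h5)
  have hcardE' := Cfsg.Agent.Helper74.DO.card_defectGroup hM hB' E' hE'
  have h6 := Subgroup.card_le_of_le hDE'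
  rw [Subgroup.card_map_of_injective S.subtype_injective, hcardD, hcardE'] at h6
  refine ⟨B', hB', ⟨χ, hχ, hχ1⟩, ?_⟩
  rw [hkν]
  exact (Nat.pow_le_pow_iff_right hp.one_lt).mp h6

/-- **Fong's theorem** (S0970). -/
theorem fong_defect [Fact p.Prime] (hM : IsPModular p M) (N : Subgroup G)
    [hN : N.Normal] [Fintype N] {b : Set (IrrCharacter N)} (hb : IsPBlock M b)
    (hst : ∀ g : G, StabilizesBlock N b g) {B : Set (IrrCharacter G)} (hB : IsPBlock M B)
    (hcov : ∃ χ ∈ B, ∃ θ ∈ b, classInner (fun n : N => (χ : G → ℂ) n) (θ : N → ℂ) ≠ 0)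
    (hmax : ∀ B' : Set (IrrCharacter G), IsPBlock M B' →
      (∃ χ ∈ B', ∃ θ ∈ b, classInner (fun n : N => (χ : G → ℂ) n) (θ : N → ℂ) ≠ 0) →
      blockDefect p B' ≤ blockDefect p B)
    {P : Subgroup G} (hP : IsDefectGroup p M B P) :
    ¬ p ∣ (P ⊔ N).index ∧ IsDefectGroup p M b ((P ⊓ N).subgroupOf N) ∧
      blockDefect p B = blockDefect p b + N.index.factorization p := by
  classical
  haveI hpr := isPrime_of_isPModular hM
  have hp : p.Prime := Fact.out
  obtain ⟨χ₀, hχ₀, θ₀, hθ₀, hne₀⟩ := hcov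
  have hχ₀1 := (omega_subgroupBlockCoeff_of_constituent N hb hst χ₀ θ₀ hne₀).1 hθ₀
  obtain ⟨i, j, hj, hile, hjle, hsum, hdef⟩ := defect_cover_facts hM N hb hst hB hχ₀ hχ₀1 hP
  obtain ⟨B', hB', ⟨χ, hχ, hχ1⟩, hlarge⟩ := exists_cover_large_defect hM N hb hst
  have hcov' : ∃ χ ∈ B', ∃ θ ∈ b,
      classInner (fun n : N => (χ : G → ℂ) n) (θ : N → ℂ) ≠ 0 := by
    obtain ⟨θ, hθ⟩ := Cfsg.Agent.Helper16.exists_constituent N χ
    refine ⟨χ, hχ, θ, ?_, hθ⟩
    by_contra hcon
    have := (omega_subgroupBlockCoeff_of_constituent N hb hst χ θ hθ).2 hcon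
    rw [hχ1] at this
    exact one_ne_zero this
  have h1 := hmax B' hB' hcov'
  have hi : i = blockDefect p b := by omega
  have hjν : j = N.index.factorization p := by omega
  refine ⟨?_, hdef hi, by omega⟩
  intro hdvd
  have hidx0 : N.index ≠ 0 := Subgroup.index_ne_zero_of_finite
  have h3 := Subgroup.relIndex_mul_index (le_sup_right : N ≤ P ⊔ N)
  rw [Subgroup.relIndex_sup_right, hj, hjν] at h3
  have h4 : ¬ p ^ (N.index.factorization p + 1) ∣ N.index :=
    Nat.pow_succ_factorization_not_dvd hidx0 hp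
  have h5 : p ^ N.index.factorization p * p ∣ p ^ N.index.factorization p * (P ⊔ N).index :=
    Nat.mul_dvd_mul_left _ hdvd
  rw [h3] at h5
  exact h4 (by rwa [pow_succ])

end fongC

section fongD

variable {G : Type u} [Group G] [Fintype G] {M : Ideal AlgInt}

theorem stabilizesBlock_of_forall_conj (N : Subgroup G) [hN : N.Normal]
    {b : Set (IrrCharacter N)}
    (hinv : ∀ g : G, ∀ θ ∈ b, ∀ θ' : IrrCharacter N,
      (∀ n : N, (θ' : N → ℂ) n = (θ : N → ℂ) ⟨g * n * g⁻¹, hN.conj_mem n n.2 g⟩) → θ' ∈ b)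
    (g : G) : StabilizesBlock N b g := by
  have hg : g ∈ Subgroup.normalizer (N : Set G) := by
    rw [Subgroup.normalizer_eq_top]
    exact Subgroup.mem_top g
  refine ⟨hg, fun χ hχ => ⟨conjIrr N g hg χ, hinv g⁻¹ χ hχ _ (fun n => ?_),
    isConjCharOf_conjFun N g hg χ.1⟩⟩
  show χ.1 ((conjEquivOf N g hg).symm n) = χ.1 _
  refine congrArg χ.1 (Subtype.ext ?_)
  rw [conjEquivOf_symm_apply_coe]
  show g⁻¹ * (n : G) * g = g⁻¹ * (n : G) * g⁻¹⁻¹
  rw [inv_inv]

end fongD

end Cfsg.Agent.Helper77
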