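import Cfsg.Agent.Lib.Helper88.GLClassDefs

/-!
# GLClass (S2478, helper88's lemma server), piece (GL-L1) `lower_bound` (helper77)

`Cfsg.Agent.Helper77.GLClass.lower_bound` has the exact statement of
`tools/glclass_sigs_helper88.lean.txt`.
-/

set_option autoImplicit false
open Polynomial

namespace Cfsg.Agent.Helper77.GLClass

variable {F : Type*} [Field F]

/-- the monic polynomial `X ^ n + ∑ c i X ^ i`. -/
noncomputable def polyOf (n : ℕ) (c : Fin n → F) : F[X] :=
  X ^ n + ∑ i : Fin n, C (c i) * X ^ (i : ℕ)

theorem polyOf_monic (n : ℕ) (c : Fin n → F) : (polyOf n c).Monic :=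
  Polynomial.monic_X_pow_add (Polynomial.degree_sum_fin_lt c)

theorem polyOf_natDegree (n : ℕ) (c : Fin n → F) : (polyOf n c).natDegree = n := by
  unfold polyOf
  have h : (∑ i : Fin n, C (c i) * X ^ (i : ℕ)).degree < ((X : F[X]) ^ n).degree := by
    rw [degree_X_pow]; exact Polynomial.degree_sum_fin_lt c
  rw [natDegree_add_eq_left_of_degree_lt h, natDegree_X_pow]

theorem polyOf_coeff (n : ℕ) (c : Fin n → F) (i : Fin n) : (polyOf n c).coeff (i : ℕ) = c i := by
  unfold polyOf
  rw [coeff_add, coeff_X_pow, if_neg (Nat.ne_of_lt i.2), zero_add, finsetSum_coeff]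
  rw [Finset.sum_eq_single i]
  · rw [coeff_C_mul_X_pow, if_pos rfl]
  · intro j _ hj
    rw [coeff_C_mul_X_pow, if_neg]
    intro h
    exact hj (Fin.ext h.symm)
  · intro h
    exact absurd (Finset.mem_univ i) h

theorem polyOf_injective (n : ℕ) : Function.Injective (polyOf (F := F) n) := by
  intro c c' h
  funext i
  rw [← polyOf_coeff n c i, ← polyOf_coeff n c' i, h]

/-- a matrix with characteristic polynomial a given monic `f` of degree `n`. -/
noncomputable def matOf {n : ℕ} (f : F[X]) (hf : f.Monic) (hn : f.natDegree = n) :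
    Matrix (Fin n) (Fin n) F :=
  Matrix.reindex (finCongr (show (AdjoinRoot.powerBasis' hf).dim = n from hn))
    (finCongr (show (AdjoinRoot.powerBasis' hf).dim = n from hn))
    (Algebra.leftMulMatrix (AdjoinRoot.powerBasis' hf).basis (AdjoinRoot.powerBasis' hf).gen)

theorem matOf_charpoly {n : ℕ} (f : F[X]) (hf : f.Monic) (hn : f.natDegree = n) :
    (matOf f hf hn).charpoly = f := by
  unfold matOf
  rw [Matrix.charpoly_reindex, charpoly_leftMulMatrix]
  have h1 : (AdjoinRoot.powerBasis' hf).gen = AdjoinRoot.root f := rfl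
  rw [h1, AdjoinRoot.minpoly_root hf.ne_zero, hf.leadingCoeff, inv_one, map_one, mul_one]

theorem matOf_det_ne_zero {n : ℕ} (f : F[X]) (hf : f.Monic) (hn : f.natDegree = n)
    (h0 : f.coeff 0 ≠ 0) : (matOf f hf hn).det ≠ 0 := by
  rw [Matrix.det_eq_sign_charpoly_coeff, matOf_charpoly]
  exact mul_ne_zero (pow_ne_zero _ (by norm_num)) h0

theorem lower_bound {F : Type*} [Field F] [Fintype F] (n : ℕ) (hn : 1 ≤ n) :
    Fintype.card F ^ n - Fintype.card F ^ (n - 1) ≤
      Nat.card (ConjClasses (Matrix.GeneralLinearGroup (Fin n) F)) := by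
  classical
  obtain ⟨m, rfl⟩ : ∃ m, n = m + 1 := ⟨n - 1, by omega⟩
  -- the index set
  let S := {c : Fin (m + 1) → F // c 0 ≠ 0}
  -- its cardinality
  have hS : Nat.card S = Fintype.card F ^ (m + 1) - Fintype.card F ^ (m + 1 - 1) := by
    rw [Nat.card_eq_fintype_card, Fintype.card_subtype_compl (fun c : Fin (m + 1) → F => c 0 = 0)]
    congr 1
    · rw [Fintype.card_fun, Fintype.card_fin]
    · rw [Nat.add_sub_cancel]
      have e : {c : Fin (m + 1) → F // c 0 = 0} ≃ (Fin m → F) :=
        { toFun := fun c => Fin.tail c.1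
          invFun := fun t => ⟨Fin.cons 0 t, by simp⟩
          left_inv := by
            rintro ⟨c, hc⟩
            apply Subtype.ext
            simp only
            rw [← hc]
            exact Fin.cons_self_tail c
          right_inv := by
            intro t
            simp }
      rw [Fintype.card_congr e, Fintype.card_fun, Fintype.card_fin]
  -- the map
  let Φ : S → ConjClasses (Matrix.GeneralLinearGroup (Fin (m + 1)) F) := fun c =>
    ConjClasses.mk (Matrix.GeneralLinearGroup.mkOfDetNeZero
      (matOf (polyOf (m + 1) c.1) (polyOf_monic _ _) (polyOf_natDegree _ _))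
      (matOf_det_ne_zero _ _ _ (by
        have := polyOf_coeff (m + 1) c.1 0
        rw [Fin.val_zero] at this
        rw [this]; exact c.2)))
  have hΦ : Function.Injective Φ := by
    intro c c' h
    simp only [Φ] at h
    rw [ConjClasses.mk_eq_mk_iff_isConj, isConj_iff] at h
    obtain ⟨g, hg⟩ := h
    have h2 := congrArg (fun x : Matrix.GeneralLinearGroup (Fin (m + 1)) F =>
      ((x : Matrix (Fin (m + 1)) (Fin (m + 1)) F)).charpoly) hg
    simp only [Units.val_mul, Matrix.coe_units_inv] at h2
    rw [Matrix.charpoly_units_conj] at h2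
    have h3 : polyOf (m + 1) c.1 = polyOf (m + 1) c'.1 := by
      have e1 : ((Matrix.GeneralLinearGroup.mkOfDetNeZero
        (matOf (polyOf (m + 1) c.1) (polyOf_monic _ _) (polyOf_natDegree _ _))
        (matOf_det_ne_zero _ _ _ (by
          have := polyOf_coeff (m + 1) c.1 0
          rw [Fin.val_zero] at this
          rw [this]; exact c.2)) : Matrix.GeneralLinearGroup (Fin (m + 1)) F) :
          Matrix (Fin (m + 1)) (Fin (m + 1)) F) =
          matOf (polyOf (m + 1) c.1) (polyOf_monic _ _) (polyOf_natDegree _ _) := rfl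
      have e2 : ((Matrix.GeneralLinearGroup.mkOfDetNeZero
        (matOf (polyOf (m + 1) c'.1) (polyOf_monic _ _) (polyOf_natDegree _ _))
        (matOf_det_ne_zero _ _ _ (by
          have := polyOf_coeff (m + 1) c'.1 0
          rw [Fin.val_zero] at this
          rw [this]; exact c'.2)) : Matrix.GeneralLinearGroup (Fin (m + 1)) F) :
          Matrix (Fin (m + 1)) (Fin (m + 1)) F) =
          matOf (polyOf (m + 1) c'.1) (polyOf_monic _ _) (polyOf_natDegree _ _) := rfl
      rw [e1, e2, matOf_charpoly, matOf_charpoly] at h2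
      exact h2
    exact Subtype.ext (polyOf_injective (m + 1) h3)
  rw [← hS]
  exact Nat.card_le_card_of_injective Φ hΦ

end Cfsg.Agent.Helper77.GLClass
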