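import Mathlib
import Cfsg.Agent.Lib.Helper77.FongDefect

/-!
# Knörr's theorem, part A: Brauer vanishing forces central characters into the local ideal.
-/

set_option autoImplicit false
set_option linter.unusedSectionVars false
set_option linter.style.haveILetI false

namespace Cfsg.Agent.Helper77

open Cfsg Cfsg.Agent.Helper79

universe u

section k1

variable {A : Type u} [Group A] [Fintype A] {p : ℕ} {M : Ideal AlgInt}

/-- If the central character of `θ ∈ b` does not vanish (mod the local ideal) on the class of `g`,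
a conjugate of any defect group of `b` centralizes `g`. -/
theorem exists_conj_le_centralizer_of_centralChar [Fact p.Prime] (hM : IsPModular p M)
    {b : Set (IrrCharacter A)} (hb : IsPBlock M b) {E : Subgroup A} (hE : IsDefectGroup p M b E)
    {θ : IrrCharacter A} (hθ : θ ∈ b) (g : A)
    (h : ¬ MemLocalIdeal M (centralChar (θ : A → ℂ) g)) :
    ∃ x : A, E.map (MulAut.conj x).toMonoidHom ≤ Subgroup.centralizer ({g} : Set A) := by
  obtain ⟨D⟩ : Nonempty (Sylow p (Subgroup.centralizer ({g} : Set A))) := inferInstance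
  have hdef := defectLE_blockCoeff hM hb g D hθ h
  obtain ⟨x₀, ⟨-, hx₀J, -⟩, hEle, hEp, -⟩ := isDefectGroup_iff_card.mp hE
  obtain ⟨x, hx⟩ := hdef x₀ hx₀J E hEp hEle
  exact ⟨x, hx.trans (sylow_map_le_centralizer g D)⟩

/-- **Min-max, vanishing form**: a central element with coefficients in the local ring that
vanishes (mod the local ideal) on the centralizer of a defect group of `b` is killed (mod the
local ideal) by the central characters of `b`. -/
theorem memLocalIdeal_omega_of_vanish_centralizer [Fact p.Prime] (hM : IsPModular p M)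
    {b : Set (IrrCharacter A)} (hb : IsPBlock M b) {E : Subgroup A} (hE : IsDefectGroup p M b E)
    {θ : IrrCharacter A} (hθ : θ ∈ b) {z : A → ℂ} (hz : IsClassFunction A z)
    (hzR : IsRValued M z)
    (hzE : ∀ y ∈ Subgroup.centralizer (E : Set A), MemLocalIdeal M (z y)) :
    MemLocalIdeal M (omega (θ : A → ℂ) z) := by
  classical
  haveI := isPrime_of_isPModular hM
  haveI : Fintype (ConjClasses A) := Fintype.ofFinite _
  rw [omega_eq_sum_conjClasses (isClassFunction_of_isIrrCharacter θ.2) hz]
  refine memLocalIdeal_sum _ _ fun K _ => ?_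
  by_cases h : MemLocalIdeal M (centralChar (θ : A → ℂ) (Quotient.out K))
  · exact memLocalIdeal_mul_left (hzR _) h
  · obtain ⟨x, hx⟩ := exists_conj_le_centralizer_of_centralChar hM hb hE hθ _ h
    refine memLocalIdeal_mul_right ?_ (memLocalRing_centralChar θ.2 _)
    have h1 : z (Quotient.out K) = z (x⁻¹ * Quotient.out K * x) := by
      have := hz (Quotient.out K) x⁻¹
      rw [inv_inv] at this
      exact this.symm
    rw [h1]
    apply hzE
    rw [Subgroup.mem_centralizer_iff]
    intro e he
    have h2 : x * e * x⁻¹ ∈ Subgroup.centralizer ({Quotient.out K} : Set A) :=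
      hx ⟨e, he, by simp [MulAut.conj_apply]⟩
    have h3 := (Subgroup.mem_centralizer_iff.mp h2) (Quotient.out K) rfl
    -- h3 : out K * (x e x⁻¹) = (x e x⁻¹) * out K
    calc e * (x⁻¹ * Quotient.out K * x) = x⁻¹ * ((x * e * x⁻¹) * Quotient.out K) * x := by group
      _ = x⁻¹ * (Quotient.out K * (x * e * x⁻¹)) * x := by rw [h3]
      _ = x⁻¹ * Quotient.out K * x * e := by group

end k1

section partA

variable {G : Type u} [Group G] [Fintype G] {p : ℕ} {M : Ideal AlgInt}

/-- Brauer vanishing of the right factor is inherited by convolution products of `Q`-invariant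
functions. -/
theorem memLocalIdeal_conv_of_vanish_centralizer [Fact p.Prime] (hM : IsPModular p M)
    (Q : Subgroup G) (hQ : IsPGroup p Q) {c u : G → ℂ} (hc : IsRValued M c) (hu : IsRValued M u)
    (hcQ : ∀ t ∈ Q, ∀ x, c (t * x * t⁻¹) = c x) (huQ : ∀ t ∈ Q, ∀ x, u (t * x * t⁻¹) = u x)
    (huv : ∀ y ∈ Subgroup.centralizer (Q : Set G), MemLocalIdeal M (u y)) :
    ∀ y ∈ Subgroup.centralizer (Q : Set G), MemLocalIdeal M (conv c u y) := by
  classical
  haveI hpr := isPrime_of_isPModular hM
  haveI : Fintype (⊤ : Subgroup G) := Fintype.ofFinite _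
  intro y hy
  obtain ⟨r, hr, hreq⟩ := cutC_conv hM Q ⊤ hQ le_top c u hc hu hcQ huQ
  have h1 := congrFun hreq ⟨y, Subgroup.mem_top y⟩
  rw [cutC_of_mem _ _ _ hy] at h1
  rw [h1]
  simp only [Pi.add_apply, Pi.smul_apply, smul_eq_mul]
  refine memLocalIdeal_add ?_ (memLocalIdeal_mul_right (memLocalIdeal_natCast_self hM) (hr _))
  unfold conv
  refine memLocalIdeal_sum _ _ fun t _ => ?_
  refine memLocalIdeal_mul_left (isRValued_cutC _ _ hc t) ?_
  by_cases ht : ((t⁻¹ * (⟨y, Subgroup.mem_top y⟩ : (⊤ : Subgroup G)) : (⊤ : Subgroup G)) : G) ∈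
      Subgroup.centralizer ((Q : Subgroup G) : Set G)
  · rw [cutC_of_mem _ _ _ ht]
    exact huv _ ht
  · rw [cutC_of_notMem _ _ _ ht]
    exact memLocalIdeal_zero hpr.ne_top

/-- Brauer vanishing of the left factor is inherited by convolution products of `Q`-invariant
functions. -/
theorem memLocalIdeal_conv_of_vanish_centralizer_left [Fact p.Prime] (hM : IsPModular p M)
    (Q : Subgroup G) (hQ : IsPGroup p Q) {c u : G → ℂ} (hc : IsRValued M c) (hu : IsRValued M u)
    (hcQ : ∀ t ∈ Q, ∀ x, c (t * x * t⁻¹) = c x) (huQ : ∀ t ∈ Q, ∀ x, u (t * x * t⁻¹) = u x)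
    (hcv : ∀ y ∈ Subgroup.centralizer (Q : Set G), MemLocalIdeal M (c y)) :
    ∀ y ∈ Subgroup.centralizer (Q : Set G), MemLocalIdeal M (conv c u y) := by
  classical
  haveI hpr := isPrime_of_isPModular hM
  haveI : Fintype (⊤ : Subgroup G) := Fintype.ofFinite _
  intro y hy
  obtain ⟨r, hr, hreq⟩ := cutC_conv hM Q ⊤ hQ le_top c u hc hu hcQ huQ
  have h1 := congrFun hreq ⟨y, Subgroup.mem_top y⟩
  rw [cutC_of_mem _ _ _ hy] at h1
  rw [h1]
  simp only [Pi.add_apply, Pi.smul_apply, smul_eq_mul]
  refine memLocalIdeal_add ?_ (memLocalIdeal_mul_right (memLocalIdeal_natCast_self hM) (hr _))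
  unfold conv
  refine memLocalIdeal_sum _ _ fun t _ => ?_
  refine memLocalIdeal_mul_right ?_ (isRValued_cutC _ _ hu _)
  by_cases ht : ((t : (⊤ : Subgroup G)) : G) ∈ Subgroup.centralizer ((Q : Subgroup G) : Set G)
  · rw [cutC_of_mem _ _ _ ht]
    exact hcv _ ht
  · rw [cutC_of_notMem _ _ _ ht]
    exact memLocalIdeal_zero hpr.ne_top

/-- If `Q ≤ N` is a defect group of the block `b` of `N` and the `N`-invariant function `β` with
coefficients in the local ring vanishes (mod the local ideal) on `C_G(Q)`, then the central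
characters of `b` send the restriction of `β` to `N` into the local ideal. -/
theorem memLocalIdeal_omega_restr_of_vanish [Fact p.Prime] (hM : IsPModular p M)
    (N : Subgroup G) [Fintype N] {b : Set (IrrCharacter N)} (hb : IsPBlock M b)
    {Q : Subgroup G} (hQN : Q ≤ N) (hQ : IsDefectGroup p M b (Q.subgroupOf N))
    {β : G → ℂ} (hβR : IsRValued M β) (hβN : ∀ n ∈ N, ∀ g, β (n * g * n⁻¹) = β g)
    (hβv : ∀ y ∈ Subgroup.centralizer (Q : Set G), MemLocalIdeal M (β y))
    {θ : IrrCharacter N} (hθ : θ ∈ b) :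
    MemLocalIdeal M (omega (θ : N → ℂ) (restr N β)) := by
  refine memLocalIdeal_omega_of_vanish_centralizer hM hb hQ hθ (isClassFunction_restr N hβN)
    (fun n => hβR n) ?_
  intro y hy
  apply hβv
  rw [Subgroup.mem_centralizer_iff]
  intro q hq
  have hq' : (⟨q, hQN hq⟩ : N) ∈ Q.subgroupOf N := by
    rw [Subgroup.mem_subgroupOf]
    exact hq
  have := (Subgroup.mem_centralizer_iff.mp hy) _ hq'
  exact congrArg Subtype.val this

end partA

end Cfsg.Agent.Helper77
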