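import Mathlib
import Cfsg.Agent.Lib.Helper78.CoverAll
import Cfsg.Agent.Lib.Helper77.KnorrA

/-!
# Knörr's theorem, core: an `N`-invariant idempotent with radical segment products vanishes
modulo the local ideal (abstract form of helper78's graded nilpotency argument).
-/

set_option autoImplicit false
set_option linter.unusedSectionVars false
set_option linter.style.haveILetI false

namespace Cfsg.Agent.Helper77

open Cfsg Cfsg.Agent.Helper16 Cfsg.Agent.Helper78

section core

variable {G : Type*} [Group G] [Fintype G] {M : Ideal AlgInt}

theorem isRValued_cosetPart [hpr : M.IsPrime] (N : Subgroup G) [N.Normal] {E : G → ℂ}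
    (hER : IsRValued M E) (q : G ⧸ N) : IsRValued M (cosetPart N q E) := by
  classical
  intro g
  rw [cosetPart_apply]
  split_ifs
  · exact hER g
  · exact memLocalRing_zero hpr.ne_top

/-- **Graded nilpotency, abstract form.**  Let `E` be an `N`-invariant idempotent with coefficients
in the local ring.  If every product of coset parts of `E` of total degree one is radical in the
centre of the group algebra of `N`, then all coefficients of `E` lie in the local ideal. -/
theorem isMValued_of_segment_radical [hpr : M.IsPrime] (N : Subgroup G) [hN : N.Normal]
    [Fintype N] [Fintype (G ⧸ N)] {E : G → ℂ} (hER : IsRValued M E) (hEinv : IsNInv N E)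
    (hidem : conv E E = E)
    (hseg : ∀ S : List (G ⧸ N), S ≠ [] → S.prod = 1 →
      ∀ θ' : IrrCharacter N, MemLocalIdeal M (omega (θ' : N → ℂ)
        (fun m : N => convList (S.map (fun q => cosetPart N q E)) m))) :
    IsMValued M E := by
  classical
  have hβinv : ∀ q : G ⧸ N, IsNInv N (cosetPart N q E) := fun q => isNInv_cosetPart N hEinv q
  have hβR : ∀ q : G ⧸ N, IsRValued M (cosetPart N q E) := fun q => isRValued_cosetPart N hER q
  -- long products vanish modulo the local ideal
  have hlong : ∀ L : List (G ⧸ N),
      Nat.card (IrrCharacter N) * Fintype.card (G ⧸ N) ≤ L.length →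
      IsMValued M (convList (L.map (fun q => cosetPart N q E))) := by
    intro L hL
    obtain ⟨Ss, L', hlen, hSs, heq⟩ := exists_factor_segments N hEinv _ L hL
    rw [heq]
    apply isMValued_conv_left
    · have hsupp : ∀ a ∈ Ss.map (fun S => convList (S.map (fun q => cosetPart N q E))),
          SuppIn N a := by
        intro a ha
        obtain ⟨S, hS, rfl⟩ := List.mem_map.1 ha
        exact suppIn_convList_cosetPart N E S (hSs S hS).2
      intro g
      by_cases hg : g ∈ N
      · have h1 := convList_coe N _ hsupp ⟨g, hg⟩
        rw [show ((⟨g, hg⟩ : N) : G) = g from rfl] at h1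
        rw [h1]
        apply isMValued_convList_of_radical
        · rw [List.length_map, List.length_map, hlen]
        · intro σ hσ
          obtain ⟨a, ha, rfl⟩ := List.mem_map.1 hσ
          obtain ⟨S, hS, rfl⟩ := List.mem_map.1 ha
          apply isClassFunction_coe_of_isNInv
          apply isNInv_convList
          intro a ha
          obtain ⟨q, _, rfl⟩ := List.mem_map.1 ha
          exact hβinv q
        · intro σ hσ
          obtain ⟨a, ha, rfl⟩ := List.mem_map.1 hσ
          obtain ⟨S, hS, rfl⟩ := List.mem_map.1 ha
          intro m
          apply isRValued_convList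
          intro a ha
          obtain ⟨q, _, rfl⟩ := List.mem_map.1 ha
          exact hβR q
        · intro σ hσ
          obtain ⟨a, ha, rfl⟩ := List.mem_map.1 hσ
          obtain ⟨S, hS, rfl⟩ := List.mem_map.1 ha
          exact hseg S (hSs S hS).1 (hSs S hS).2
      · rw [suppIn_convList N _ hsupp g hg]
        exact memLocalIdeal_zero hpr.ne_top
    · apply isRValued_convList
      intro a ha
      obtain ⟨q, _, rfl⟩ := List.mem_map.1 ha
      exact hβR q
  -- expand the idempotent
  have hP : ∀ j : ℕ, ∀ L : List (G ⧸ N),
      Nat.card (IrrCharacter N) * Fintype.card (G ⧸ N) ≤ L.length + j →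
      IsMValued M (conv E (convList (L.map (fun q => cosetPart N q E)))) := by
    intro j
    induction j with
    | zero =>
      intro L hL
      exact isMValued_conv_right hER (hlong L (by omega))
    | succ j ih =>
      intro L hL
      obtain ⟨A, hA⟩ : ∃ A, A = convList (L.map (fun q => cosetPart N q E)) := ⟨_, rfl⟩
      rw [← hA]
      have h1 : conv E A = conv (conv E E) A := by rw [hidem]
      have h2 : conv E A = conv (∑ q : G ⧸ N, cosetPart N q E) A := by rw [sum_cosetPart N E]
      have h3 : conv E A = ∑ q : G ⧸ N, conv E (conv (cosetPart N q E) A) := by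
        rw [h1, conv_assoc, h2, conv_finsum_left, conv_finsum_right]
      rw [h3]
      apply isMValued_finsum
      intro q _
      have := ih (q :: L) (by rw [List.length_cons]; omega)
      rw [List.map_cons, convList, ← hA] at this
      exact this
  have := hP (Nat.card (IrrCharacter N) * Fintype.card (G ⧸ N)) [] (by simp)
  rw [List.map_nil, convList, conv_delta_right] at this
  exact this

end core

end Cfsg.Agent.Helper77
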