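import Mathlib
import Cfsg.Agent.Lib.Helper77.KnorrCore
import Cfsg.Agent.Lib.Helper77.PairConjugacy

/-!
# Knörr's theorem (S4438): if `B` covers the block `b` of `N ⊴ G` and `Q` is a defect group of `b`,
some defect group `P` of `B` has `P ∩ N = Q`.
-/

set_option autoImplicit false
set_option linter.unusedSectionVars false
set_option linter.style.haveILetI false

namespace Cfsg.Agent.Helper77

open Cfsg Cfsg.Agent.Helper78

section transport

variable {G : Type*} [Group G] [Fintype G]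

theorem omega_conjIrr_comp (N : Subgroup G) [hN : N.Normal] [Fintype N] (g : G)
    (θ : IrrCharacter N) (a : G → ℂ) :
    omega (Cfsg.Agent.Helper16.conjIrr N g θ : N → ℂ) (fun m : N => a (m : G)) =
      omega (θ : N → ℂ) (fun m : N => a (g * (m : G) * g⁻¹)) := by
  unfold omega
  have h1 : (Cfsg.Agent.Helper16.conjIrr N g θ : N → ℂ) 1 = (θ : N → ℂ) 1 := by
    rw [Cfsg.Agent.Helper16.conjIrr_apply, map_one]
  rw [h1]
  congr 1
  rw [← Equiv.sum_comp (MulAut.conjNormal g : MulAut N).toEquiv]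
  refine Finset.sum_congr rfl fun m _ => ?_
  rw [Cfsg.Agent.Helper16.conjIrr_apply]
  have h2 : (MulAut.conjNormal g⁻¹ : MulAut N) ((MulAut.conjNormal g : MulAut N).toEquiv m) = m := by
    apply Subtype.ext
    simp
  have h3 : (((MulAut.conjNormal g : MulAut N).toEquiv m : N) : G) = g * (m : G) * g⁻¹ := by
    simp [MulAut.conjNormal_apply]
  rw [h2]
  show a (((MulAut.conjNormal g : MulAut N).toEquiv m : N) : G) * _ = _
  rw [h3]

end transport

section main

variable {G : Type*} [Group G] [Fintype G] {p : ℕ} {M : Ideal AlgInt}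

/-- **Knörr, Brauer-map form.**  If the block `B` of `G` covers the block `b` of `N ⊴ G` and
`Q ≤ N` is a defect group of `b`, the idempotent of `B` does not vanish (modulo the local ideal) on
`C_G(Q)`. -/
theorem exists_mem_centralizer_not_memLocalIdeal_of_covers [Fact p.Prime] (hM : IsPModular p M)
    (N : Subgroup G) [hN : N.Normal] [Fintype N]
    {B : Set (IrrCharacter G)} (hB : IsPBlock M B) {b : Set (IrrCharacter N)} (hb : IsPBlock M b)
    (χ₀ : IrrCharacter G) (hχ₀ : χ₀ ∈ B) (θ₀ : IrrCharacter N) (hθ₀ : θ₀ ∈ b)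
    (hcon₀ : classInner (fun n : N => (χ₀ : G → ℂ) n) (θ₀ : N → ℂ) ≠ 0)
    {Q : Subgroup G} (hQN : Q ≤ N) (hQ : IsDefectGroup p M b (Q.subgroupOf N)) :
    ∃ y ∈ Subgroup.centralizer (Q : Set G), ¬ MemLocalIdeal M (blockCoeff B y) := by
  classical
  haveI hpr := isPrime_of_isPModular hM
  haveI : Fintype (G ⧸ N) := Fintype.ofFinite _
  by_contra hno
  push Not at hno
  obtain ⟨E, hEdef⟩ : ∃ E : G → ℂ, E = blockCoeff B := ⟨_, rfl⟩
  have hEcl : IsClassFunction G E := by rw [hEdef]; exact isClassFunction_blockCoeff B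
  have hER : IsRValued M E := by rw [hEdef]; exact isRValued_blockCoeff hB
  have hidem : conv E E = E := by rw [hEdef]; exact conv_blockCoeff_self B
  have hEinv : IsNInv N E := isNInv_of_isClassFunction N hEcl
  have hQp : IsPGroup p Q := by
    have h1 := isPGroup_of_isDefectGroup hQ
    have h2 := h1.map N.subtype
    rwa [Subgroup.map_subgroupOf_eq_of_le hQN] at h2
  obtain ⟨C, hCdef⟩ : ∃ C, C = Cfsg.Agent.Helper16.conjClosure N b := ⟨_, rfl⟩
  have hCst : ∀ x : G, ∀ θ ∈ C, Cfsg.Agent.Helper16.conjIrr N x θ ∈ C := by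
    rw [hCdef]
    exact fun x θ hθ => Cfsg.Agent.Helper16.conjClosure_conj_closed N b x θ hθ
  have hfcl : IsClassFunction G (Cfsg.Agent.Helper16.idemFun N C) :=
    Cfsg.Agent.Helper16.isClassFunction_idemFun N C hCst
  have hfsupp : SuppIn N (Cfsg.Agent.Helper16.idemFun N C) :=
    fun g hg => Cfsg.Agent.Helper16.idemFun_of_not_mem N C hg
  have hEf : conv E (Cfsg.Agent.Helper16.idemFun N C) = E := by
    apply eq_of_omega_eq (isClassFunction_conv hEcl hfcl) hEcl
    intro χ
    rw [omega_conv χ.2 hEcl hfcl, hEdef, omega_blockCoeff]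
    by_cases hχ : χ ∈ B
    · obtain ⟨θ₁, hθ₁⟩ := Cfsg.Agent.Helper16.exists_constituent N χ
      have hθ₁C : θ₁ ∈ C := by
        rw [hCdef]
        exact Cfsg.Agent.Helper16.mem_conjClosure_of_sameBlock N hM hb χ₀ χ
          (sameBlock_of_mem hB hχ₀ hχ) θ₀ θ₁ hθ₀ hcon₀ hθ₁
      rw [Cfsg.Agent.Helper16.omega_idemFun_of_constituent N C hCst χ θ₁ hθ₁, if_pos hθ₁C,
        if_pos hχ, mul_one]
    · rw [if_neg hχ, zero_mul]
  have hQgN : ∀ g : G, Q.map (MulAut.conj g).toMonoidHom ≤ N := by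
    rintro g _ ⟨q, hq, rfl⟩
    have := hN.conj_mem q (hQN hq) g
    simpa [MulAut.conj_apply] using this
  -- `E` vanishes modulo the local ideal on the centralizers of all conjugates of `Q`
  have hvan : ∀ g : G, ∀ y ∈ Subgroup.centralizer
      ((Q.map (MulAut.conj g).toMonoidHom : Subgroup G) : Set G), MemLocalIdeal M (E y) := by
    intro g y hy
    have h1 : E y = E (g⁻¹ * y * g) := by
      have := hEcl y g⁻¹
      rw [inv_inv] at this
      exact this.symm
    rw [h1, hEdef]
    apply hno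
    rw [Subgroup.mem_centralizer_iff]
    intro q hq
    have h2 : g * q * g⁻¹ ∈ Q.map (MulAut.conj g).toMonoidHom :=
      ⟨q, hq, by simp [MulAut.conj_apply]⟩
    have h3 := (Subgroup.mem_centralizer_iff.mp hy) _ h2
    calc q * (g⁻¹ * y * g) = g⁻¹ * ((g * q * g⁻¹) * y) * g := by group
      _ = g⁻¹ * (y * (g * q * g⁻¹)) * g := by rw [h3]
      _ = g⁻¹ * y * g * q := by group
  apply absurd (isMValued_of_segment_radical N hER hEinv hidem ?_) ?_
  swap
  · intro hEM
    have h5 := memLocalIdeal_omega_of_eqMod_zero χ₀.2 hEcl hEM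
    rw [hEdef, omega_blockCoeff, if_pos hχ₀] at h5
    exact not_memLocalIdeal_one h5
  intro S hSne hSprod θ'
  cases S with
  | nil => exact absurd rfl hSne
  | cons q S' =>
    obtain ⟨c, hc⟩ : ∃ c, c = convList (S'.map (fun q => cosetPart N q E)) := ⟨_, rfl⟩
    obtain ⟨β, hβ⟩ : ∃ β, β = convList ((q :: S').map (fun q => cosetPart N q E)) := ⟨_, rfl⟩
    have hβeq : β = conv (cosetPart N q E) c := by rw [hβ, hc, List.map_cons, convList]
    have hcinv : IsNInv N c := by
      rw [hc]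
      apply isNInv_convList
      intro a ha
      obtain ⟨q', _, rfl⟩ := List.mem_map.1 ha
      exact isNInv_cosetPart N hEinv q'
    have hcR : IsRValued M c := by
      rw [hc]
      apply isRValued_convList
      intro a ha
      obtain ⟨q', _, rfl⟩ := List.mem_map.1 ha
      exact isRValued_cosetPart N hER q'
    have huinv := isNInv_cosetPart N hEinv q
    have huR : IsRValued M (cosetPart N q E) := isRValued_cosetPart N hER q
    have hβsupp : SuppIn N β := by rw [hβ]; exact suppIn_convList_cosetPart N E _ hSprod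
    have hβinv : IsNInv N β := by rw [hβeq]; exact isNInv_conv N huinv hcinv
    have hβR : IsRValued M β := by rw [hβeq]; exact isRValued_conv huR hcR
    have hβvan : ∀ g : G, ∀ y ∈ Subgroup.centralizer
        ((Q.map (MulAut.conj g).toMonoidHom : Subgroup G) : Set G), MemLocalIdeal M (β y) := by
      intro g
      rw [hβeq]
      apply memLocalIdeal_conv_of_vanish_centralizer_left hM _ (hQp.map _) huR hcR
        (fun t ht x => huinv t (hQgN g ht) x) (fun t ht x => hcinv t (hQgN g ht) x)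
      intro y hy
      rw [cosetPart_apply]
      split_ifs
      · exact hvan g y hy
      · exact memLocalIdeal_zero hpr.ne_top
    rw [← hβ]
    by_cases hθ' : θ' ∈ C
    · rw [hCdef] at hθ'
      obtain ⟨g, hg⟩ := (Cfsg.Agent.Helper16.mem_conjClosure N b θ').1 hθ'
      have hT1 := omega_conjIrr_comp N g θ' (fun h => β (g⁻¹ * h * g))
      have hsimp : (fun m : N => (fun h => β (g⁻¹ * h * g)) (g * (m : G) * g⁻¹)) =
          fun m : N => β m := by
        funext m
        show β (g⁻¹ * (g * (m : G) * g⁻¹) * g) = β m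
        congr 1
        group
      rw [hsimp] at hT1
      rw [← hT1]
      refine memLocalIdeal_omega_restr_of_vanish hM N hb hQN hQ
        (β := fun h => β (g⁻¹ * h * g)) ?_ ?_ ?_ hg
      · intro h
        exact hβR _
      · intro n hn h
        have hn' : g⁻¹ * n * g ∈ N := by
          have := hN.conj_mem n hn g⁻¹
          simpa using this
        have := hβinv (g⁻¹ * n * g) hn' (g⁻¹ * h * g)
        rw [← this]
        congr 1
        group
      · intro y hy
        apply hβvan g⁻¹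
        rw [Subgroup.mem_centralizer_iff]
        rintro _ ⟨q', hq', rfl⟩
        have h3 := (Subgroup.mem_centralizer_iff.mp hy) q' hq'
        simp only [MulEquiv.coe_toMonoidHom, MulAut.conj_apply, inv_inv]
        calc g⁻¹ * q' * g * (g⁻¹ * y * g) = g⁻¹ * (q' * y) * g := by group
          _ = g⁻¹ * (y * q') * g := by rw [h3]
          _ = g⁻¹ * y * g * (g⁻¹ * q' * g) := by group
    · have hβf : conv β (Cfsg.Agent.Helper16.idemFun N C) = β := by
        rw [hβeq, Cfsg.Agent.Helper16.conv_assoc, ← conv_comm_of_suppIn N hfsupp hcinv,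
          ← Cfsg.Agent.Helper16.conv_assoc, conv_cosetPart N hfsupp, hEf]
      have hβNcl : IsClassFunction N (fun m : N => β m) := isClassFunction_coe_of_isNInv N hβinv
      have hfNcl : IsClassFunction N (fun m : N => Cfsg.Agent.Helper16.idemFun N C (m : G)) :=
        Cfsg.Agent.Helper16.isClassFunction_restrict N hfcl
      have h1 : conv (fun m : N => β m) (fun m : N => Cfsg.Agent.Helper16.idemFun N C (m : G)) =
          fun m : N => β m := by
        funext n
        rw [← conv_coe_of_suppIn N hβsupp, hβf]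
      have h2 := omega_conv θ'.2 hβNcl hfNcl
      rw [h1, Cfsg.Agent.Helper16.omega_idemFun_restrict, if_neg hθ', mul_zero] at h2
      rw [h2]
      exact memLocalIdeal_zero hpr.ne_top

/-- The idempotent of a block `B` of `G` covering `b` is absorbed by the idempotent of the
conjugation closure of `b`. -/
theorem conv_blockCoeff_idemFun_conjClosure [Fact p.Prime] (hM : IsPModular p M)
    (N : Subgroup G) [hN : N.Normal] [Fintype N]
    {B : Set (IrrCharacter G)} (hB : IsPBlock M B) {b : Set (IrrCharacter N)} (hb : IsPBlock M b)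
    (χ₀ : IrrCharacter G) (hχ₀ : χ₀ ∈ B) (θ₀ : IrrCharacter N) (hθ₀ : θ₀ ∈ b)
    (hcon₀ : classInner (fun n : N => (χ₀ : G → ℂ) n) (θ₀ : N → ℂ) ≠ 0) :
    conv (blockCoeff B) (Cfsg.Agent.Helper16.idemFun N (Cfsg.Agent.Helper16.conjClosure N b)) =
      blockCoeff B := by
  classical
  haveI hpr := isPrime_of_isPModular hM
  have hCst : ∀ x : G, ∀ θ ∈ Cfsg.Agent.Helper16.conjClosure N b,
      Cfsg.Agent.Helper16.conjIrr N x θ ∈ Cfsg.Agent.Helper16.conjClosure N b :=
    fun x θ hθ => Cfsg.Agent.Helper16.conjClosure_conj_closed N b x θ hθ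
  have hfcl := Cfsg.Agent.Helper16.isClassFunction_idemFun N _ hCst
  apply eq_of_omega_eq (isClassFunction_conv (isClassFunction_blockCoeff B) hfcl)
    (isClassFunction_blockCoeff B)
  intro χ
  rw [omega_conv χ.2 (isClassFunction_blockCoeff B) hfcl, omega_blockCoeff]
  by_cases hχ : χ ∈ B
  · obtain ⟨θ₁, hθ₁⟩ := Cfsg.Agent.Helper16.exists_constituent N χ
    have hθ₁C : θ₁ ∈ Cfsg.Agent.Helper16.conjClosure N b :=
      Cfsg.Agent.Helper16.mem_conjClosure_of_sameBlock N hM hb χ₀ χ
        (sameBlock_of_mem hB hχ₀ hχ) θ₀ θ₁ hθ₀ hcon₀ hθ₁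
    rw [Cfsg.Agent.Helper16.omega_idemFun_of_constituent N _ hCst χ θ₁ hθ₁, if_pos hθ₁C,
      if_pos hχ, mul_one]
  · rw [if_neg hχ, zero_mul]

/-- Blocks of `N` that are conjugate under `G` have the same minimal degree valuation. -/
theorem minVal_eq_of_conjIrr_mem [hpr : M.IsPrime] (N : Subgroup G) [hN : N.Normal] [Fintype N]
    {b b' : Set (IrrCharacter N)} (hb : IsPBlock M b) (hb' : IsPBlock M b') (g : G)
    {θ' : IrrCharacter N} (hθ' : θ' ∈ b') (hg : Cfsg.Agent.Helper16.conjIrr N g θ' ∈ b) :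
    Cfsg.Agent.Helper74.DO.minVal p b' = Cfsg.Agent.Helper74.DO.minVal p b := by
  unfold Cfsg.Agent.Helper74.DO.minVal
  congr 1
  ext n
  constructor
  · rintro ⟨ψ, hψ, rfl⟩
    refine ⟨Cfsg.Agent.Helper16.conjIrr N g ψ, ?_, ?_⟩
    · exact Cfsg.Agent.Helper77.mem_of_sameBlock hb hg
        (Cfsg.Agent.Helper16.sameBlock_conjIrr N g θ' ψ (sameBlock_of_mem hb' hθ' hψ))
    · show (charDegree (Cfsg.Agent.Helper16.conjIrr N g ψ : N → ℂ)).factorization p = _
      unfold charDegree
      rw [Cfsg.Agent.Helper16.conjIrr_one_apply]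
  · rintro ⟨ψ, hψ, rfl⟩
    refine ⟨Cfsg.Agent.Helper16.conjIrr N g⁻¹ ψ, ?_, ?_⟩
    · have h1 := Cfsg.Agent.Helper16.sameBlock_conjIrr (M := M) N g⁻¹ _ ψ
        (sameBlock_of_mem hb hg hψ)
      rw [Cfsg.Agent.Helper16.conjIrr_inv_conjIrr] at h1
      exact Cfsg.Agent.Helper77.mem_of_sameBlock hb' hθ' h1
    · show (charDegree (Cfsg.Agent.Helper16.conjIrr N g⁻¹ ψ : N → ℂ)).factorization p = _
      unfold charDegree
      rw [Cfsg.Agent.Helper16.conjIrr_one_apply]

/-- **Easy inclusion, order form**: if `B` covers `b` and `P` is a defect group of `B`, then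
`P ∩ N` is no larger than a defect group of `b`. -/
theorem card_inf_le_of_covers [Fact p.Prime] (hM : IsPModular p M)
    (N : Subgroup G) [hN : N.Normal] [Fintype N]
    {B : Set (IrrCharacter G)} (hB : IsPBlock M B) {b : Set (IrrCharacter N)} (hb : IsPBlock M b)
    (χ₀ : IrrCharacter G) (hχ₀ : χ₀ ∈ B) (θ₀ : IrrCharacter N) (hθ₀ : θ₀ ∈ b)
    (hcon₀ : classInner (fun n : N => (χ₀ : G → ℂ) n) (θ₀ : N → ℂ) ≠ 0)
    {P : Subgroup G} (hP : IsDefectGroup p M B P) :
    Nat.card ↥(P ⊓ N : Subgroup G) ≤ p ^ blockDefect p b := by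
  classical
  haveI hpr := isPrime_of_isPModular hM
  haveI : Fintype (⊤ : Subgroup G) := Fintype.ofFinite _
  obtain ⟨C, hCdef⟩ : ∃ C, C = Cfsg.Agent.Helper16.conjClosure N b := ⟨_, rfl⟩
  have hCst : ∀ x : G, ∀ θ ∈ C, Cfsg.Agent.Helper16.conjIrr N x θ ∈ C := by
    rw [hCdef]
    exact fun x θ hθ => Cfsg.Agent.Helper16.conjClosure_conj_closed N b x θ hθ
  obtain ⟨f, hfdef⟩ : ∃ f, f = Cfsg.Agent.Helper16.idemFun N C := ⟨_, rfl⟩
  have hfcl : IsClassFunction G f := by
    rw [hfdef]; exact Cfsg.Agent.Helper16.isClassFunction_idemFun N C hCst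
  have hfR : IsRValued M f := by
    rw [hfdef, hCdef]
    exact fun g => Cfsg.Agent.Helper16.memLocalRing_idemFun_conjClosure N hM hb g
  have hconv : conv (blockCoeff B) f = blockCoeff B := by
    rw [hfdef, hCdef]
    exact conv_blockCoeff_idemFun_conjClosure hM N hB hb χ₀ hχ₀ θ₀ hθ₀ hcon₀
  obtain ⟨x, ⟨hxR, hxJ, hxω⟩, hPle, hPp, -⟩ := isDefectGroup_iff_card.mp hP
  have hR : IsPGroup p (P ⊓ N : Subgroup G) := hPp.to_le inf_le_left
  have hxC : x ∈ Subgroup.centralizer ((P ⊓ N : Subgroup G) : Set G) :=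
    le_centralizer_singleton_iff.mp (inf_le_left.trans hPle)
  obtain ⟨r, hr, hreq⟩ := cutC_conv hM (P ⊓ N) ⊤ hR le_top (blockCoeff B) f
    (isRValued_blockCoeff hB) hfR
    (fun u _ y => isClassFunction_blockCoeff B y u) (fun u _ y => hfcl y u)
  rw [hconv] at hreq
  have hex : ∃ y ∈ Subgroup.centralizer ((P ⊓ N : Subgroup G) : Set G),
      ¬ MemLocalIdeal M (f y) := by
    by_contra hcon
    push Not at hcon
    apply hxJ
    have h1 := congrFun hreq ⟨x, Subgroup.mem_top x⟩
    rw [cutC_of_mem _ _ _ hxC] at h1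
    rw [h1]
    simp only [Pi.add_apply, Pi.smul_apply, smul_eq_mul]
    refine memLocalIdeal_add ?_ (memLocalIdeal_mul_right (memLocalIdeal_natCast_self hM) (hr _))
    unfold conv
    refine memLocalIdeal_sum _ _ fun t _ => ?_
    refine memLocalIdeal_mul_left (isRValued_cutC _ _ (isRValued_blockCoeff hB) t) ?_
    by_cases ht : ((t⁻¹ * (⟨x, Subgroup.mem_top x⟩ : (⊤ : Subgroup G)) : (⊤ : Subgroup G)) : G) ∈
        Subgroup.centralizer ((P ⊓ N : Subgroup G) : Set G)
    · rw [cutC_of_mem _ _ _ ht]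
      exact hcon _ ht
    · rw [cutC_of_notMem _ _ _ ht]
      exact memLocalIdeal_zero hpr.ne_top
  obtain ⟨y, hyC, hyJ⟩ := hex
  have hyN : y ∈ N := by
    by_contra hcon
    apply hyJ
    rw [hfdef, Cfsg.Agent.Helper16.idemFun_of_not_mem N C hcon]
    exact memLocalIdeal_zero hpr.ne_top
  -- decompose along the blocks of `N`
  obtain ⟨φ, hφdef⟩ : ∃ φ : N → ℂ, φ = fun m : N => f (m : G) := ⟨_, rfl⟩
  have hφcl : IsClassFunction N φ := by
    rw [hφdef]; exact Cfsg.Agent.Helper16.isClassFunction_restrict N hfcl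
  have hφω : ∀ θ : IrrCharacter N, omega (θ : N → ℂ) φ = if θ ∈ C then 1 else 0 := by
    intro θ
    rw [hφdef, hfdef]
    exact Cfsg.Agent.Helper16.omega_idemFun_restrict N C θ
  have hdecomp : φ = ∑ b' ∈ allBlocks M N, conv φ (blockCoeff b') := by
    rw [← conv_finsum_right, sum_blockCoeff_allBlocks, conv_delta_right]
  have hex2 : ∃ b' ∈ allBlocks M N, ¬ MemLocalIdeal M (conv φ (blockCoeff b') ⟨y, hyN⟩) := by
    by_contra hcon
    push Not at hcon
    apply hyJ
    have h1 : f y = φ ⟨y, hyN⟩ := by rw [hφdef]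
    rw [h1, hdecomp, Finset.sum_apply]
    exact memLocalIdeal_sum _ _ fun b' hb' => hcon b' hb'
  obtain ⟨b', hb'mem, hb'J⟩ := hex2
  have hb' : IsPBlock M b' := mem_allBlocks.mp hb'mem
  by_cases hbC : ∃ θ' ∈ b', θ' ∈ C
  · obtain ⟨θ', hθ'b', hθ'C⟩ := hbC
    have hsub : ∀ θ ∈ b', θ ∈ C := by
      intro θ hθ
      rw [hCdef] at hθ'C ⊢
      exact Cfsg.Agent.Helper16.conjClosure_block_closed N hb θ' hθ'C θ
        (sameBlock_of_mem hb' hθ'b' hθ)
    have heq : conv φ (blockCoeff b') = blockCoeff b' := by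
      apply eq_of_omega_eq (isClassFunction_conv hφcl (isClassFunction_blockCoeff b'))
        (isClassFunction_blockCoeff b')
      intro θ
      rw [omega_conv θ.2 hφcl (isClassFunction_blockCoeff b'), omega_blockCoeff, hφω]
      by_cases hθ : θ ∈ b'
      · rw [if_pos hθ, if_pos (hsub θ hθ), mul_one]
      · rw [if_neg hθ, mul_zero]
    rw [heq] at hb'J
    have hRN : IsPGroup p ((P ⊓ N : Subgroup G).subgroupOf N) := hR.comap_subtype
    obtain ⟨E', hE', hRE'⟩ := exists_isDefectGroup_ge_of_blockCoeff hM hb' hb'J _ hRN (by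
      intro t ht
      rw [Subgroup.mem_subgroupOf] at ht
      rw [Subgroup.mem_centralizer_iff]
      intro z hz
      rw [Set.mem_singleton_iff] at hz
      subst hz
      apply Subtype.ext
      show y * (t : G) = (t : G) * y
      exact (hyC (t : G) ht).symm)
    have hcardE' := Cfsg.Agent.Helper74.DO.card_defectGroup hM hb' E' hE'
    rw [hCdef] at hθ'C
    obtain ⟨g, hg⟩ := (Cfsg.Agent.Helper16.mem_conjClosure N b θ').1 hθ'C
    have hmin := minVal_eq_of_conjIrr_mem (p := p) N hb hb' g hθ'b' hg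
    have hdef : blockDefect p b' = blockDefect p b := by
      rw [Cfsg.Agent.Helper74.DO.blockDefect_eq, Cfsg.Agent.Helper74.DO.blockDefect_eq, hmin]
    rw [← hdef, ← hcardE', ← card_subgroupOf_of_le (inf_le_right : (P ⊓ N : Subgroup G) ≤ N)]
    exact Subgroup.card_le_of_le hRE'
  · exfalso
    apply hb'J
    have heq : conv φ (blockCoeff b') = 0 := by
      have h0 : IsClassFunction N (0 : N → ℂ) := fun _ _ => rfl
      apply eq_of_omega_eq (isClassFunction_conv hφcl (isClassFunction_blockCoeff b')) h0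
      intro θ
      have hz0 : omega (θ : N → ℂ) (0 : N → ℂ) = 0 := by unfold omega; simp
      rw [omega_conv θ.2 hφcl (isClassFunction_blockCoeff b'), omega_blockCoeff, hφω, hz0]
      by_cases hθ : θ ∈ b'
      · have : θ ∉ C := fun h => hbC ⟨θ, hθ, h⟩
        rw [if_neg this, zero_mul]
      · rw [if_neg hθ, mul_zero]
    rw [heq]
    exact memLocalIdeal_zero hpr.ne_top

/-- **Knörr's theorem.**  If the block `B` of `G` covers the block `b` of `N ⊴ G` and `Q ≤ N` is a
defect group of `b`, then some defect group `P` of `B` has `P ∩ N = Q`. -/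
theorem exists_isDefectGroup_inf_eq [Fact p.Prime] (hM : IsPModular p M)
    (N : Subgroup G) [hN : N.Normal] [Fintype N]
    {B : Set (IrrCharacter G)} (hB : IsPBlock M B) {b : Set (IrrCharacter N)} (hb : IsPBlock M b)
    (χ₀ : IrrCharacter G) (hχ₀ : χ₀ ∈ B) (θ₀ : IrrCharacter N) (hθ₀ : θ₀ ∈ b)
    (hcon₀ : classInner (fun n : N => (χ₀ : G → ℂ) n) (θ₀ : N → ℂ) ≠ 0)
    {Q : Subgroup G} (hQN : Q ≤ N) (hQ : IsDefectGroup p M b (Q.subgroupOf N)) :
    ∃ P : Subgroup G, IsDefectGroup p M B P ∧ P ⊓ N = Q := by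
  obtain ⟨y, hyC, hyJ⟩ := exists_mem_centralizer_not_memLocalIdeal_of_covers hM N hB hb χ₀ hχ₀
    θ₀ hθ₀ hcon₀ hQN hQ
  have hQp : IsPGroup p Q := by
    have h1 := isPGroup_of_isDefectGroup hQ
    have h2 := h1.map N.subtype
    rwa [Subgroup.map_subgroupOf_eq_of_le hQN] at h2
  obtain ⟨P, hP, hQP⟩ := exists_isDefectGroup_ge_of_blockCoeff hM hB hyJ Q hQp
    (le_centralizer_singleton_iff.mpr hyC)
  refine ⟨P, hP, ?_⟩
  have hle : Q ≤ P ⊓ N := le_inf hQP hQN
  have hcard : Nat.card ↥(P ⊓ N : Subgroup G) ≤ Nat.card Q := by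
    have h1 := card_inf_le_of_covers hM N hB hb χ₀ hχ₀ θ₀ hθ₀ hcon₀ hP
    have h2 := Cfsg.Agent.Helper74.DO.card_defectGroup hM hb _ hQ
    rw [card_subgroupOf_of_le hQN] at h2
    rw [h2]
    exact h1
  exact (Subgroup.eq_of_le_of_card_ge hle hcard).symm

end main

end Cfsg.Agent.Helper77
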