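import Mathlib
import Cfsg.Agent.Lib.Helper77.FongDefect

/-!
# Covering of blocks for a normal subgroup `K` of a subgroup `L` of `G` (relative versions).
-/

set_option autoImplicit false
set_option linter.unusedSectionVars false
set_option linter.style.haveILetI false

namespace Cfsg.Agent.Helper77

open Cfsg Cfsg.Agent.Helper79
open scoped ComplexConjugate

universe u

section transport3

variable {A A' : Type u} [Group A] [Group A'] [Fintype A] [Fintype A']

theorem classInner_comp_mulEquiv (φ : A ≃* A') (a b : A' → ℂ) :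
    classInner (fun x => a (φ x)) (fun x => b (φ x)) = classInner a b := by
  unfold classInner
  rw [Nat.card_congr φ.toEquiv]
  congr 1
  exact Equiv.sum_comp φ.toEquiv (fun y => a y * conj (b y))

end transport3

section rel

variable {G : Type u} [Group G] [Fintype G] {M : Ideal AlgInt}

/-- Restriction of a function on `L` to `K ≤ L`. -/
def resSub {K L : Subgroup G} (hKL : K ≤ L) (ζ : L → ℂ) : K → ℂ := fun k => ζ ⟨k, hKL k.2⟩

theorem exists_lying_over_rel {K L : Subgroup G} [Fintype K] [Fintype L] (hKL : K ≤ L)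
    (ξ : IrrCharacter K) :
    ∃ ζ : IrrCharacter L, classInner (resSub hKL (ζ : L → ℂ)) (ξ : K → ℂ) ≠ 0 := by
  haveI : Fintype (K.subgroupOf L) := Fintype.ofFinite _
  obtain ⟨φ, hφ⟩ : ∃ φ : K.subgroupOf L ≃* K, φ = Subgroup.subgroupOfEquivOfLe hKL := ⟨_, rfl⟩
  obtain ⟨ζ, hζ⟩ := Cfsg.Agent.Helper16.exists_lying_over (K.subgroupOf L) (mapIrr φ.symm ξ)
  refine ⟨ζ, ?_⟩
  rw [← classInner_comp_mulEquiv φ]
  convert hζ using 2
  · funext x
    rw [hφ]
    rfl
  · funext x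
    rw [mapIrr_coe, MulEquiv.symm_symm]

theorem exists_constituent_rel {K L : Subgroup G} [Fintype K] [Fintype L] (hKL : K ≤ L)
    (hLK : L ≤ Subgroup.normalizer (K : Set G)) (ζ : IrrCharacter L) :
    ∃ ξ : IrrCharacter K, classInner (resSub hKL (ζ : L → ℂ)) (ξ : K → ℂ) ≠ 0 := by
  haveI : Fintype (K.subgroupOf L) := Fintype.ofFinite _
  haveI : (K.subgroupOf L).Normal := (Subgroup.normal_subgroupOf_iff_le_normalizer hKL).mpr hLK
  obtain ⟨φ, hφ⟩ : ∃ φ : K.subgroupOf L ≃* K, φ = Subgroup.subgroupOfEquivOfLe hKL := ⟨_, rfl⟩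
  obtain ⟨ξ', hξ'⟩ := Cfsg.Agent.Helper16.exists_constituent (K.subgroupOf L) ζ
  refine ⟨mapIrr φ ξ', ?_⟩
  rw [← classInner_comp_mulEquiv φ]
  convert hξ' using 2
  · funext x
    rw [hφ]
    rfl
  · funext x
    rw [mapIrr_coe, MulEquiv.symm_apply_apply]

theorem omega_eq_of_constituent_rel {K L : Subgroup G} [Fintype K] [Fintype L] (hKL : K ≤ L)
    (hLK : L ≤ Subgroup.normalizer (K : Set G))
    (ζ : IrrCharacter L) (ξ : IrrCharacter K)
    (hne : classInner (resSub hKL (ζ : L → ℂ)) (ξ : K → ℂ) ≠ 0) {a : G → ℂ}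
    (ha : ∀ u ∈ L, ∀ x, a (u * x * u⁻¹) = a x) (hsupp : ∀ g ∈ L, g ∉ K → a g = 0) :
    omega (ζ : L → ℂ) (restr L a) = omega (ξ : K → ℂ) (restr K a) := by
  haveI : Fintype (K.subgroupOf L) := Fintype.ofFinite _
  haveI : (K.subgroupOf L).Normal := (Subgroup.normal_subgroupOf_iff_le_normalizer hKL).mpr hLK
  obtain ⟨φ, hφ⟩ : ∃ φ : K.subgroupOf L ≃* K, φ = Subgroup.subgroupOfEquivOfLe hKL := ⟨_, rfl⟩
  have hne' : classInner (fun n : K.subgroupOf L => (ζ : L → ℂ) n)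
      (mapIrr φ.symm ξ : K.subgroupOf L → ℂ) ≠ 0 := by
    rw [← classInner_comp_mulEquiv φ] at hne
    convert hne using 2
    · funext x
      rw [hφ]
      rfl
    · funext x
      rw [mapIrr_coe, MulEquiv.symm_symm]
  have h1 := omega_eq_of_constituent (K.subgroupOf L) ζ (mapIrr φ.symm ξ) hne'
    (isClassFunction_restr L ha)
    (fun l hl => hsupp _ l.2 (fun h => hl (Subgroup.mem_subgroupOf.mpr h)))
  rw [h1, omega_mapIrr]
  congr 1
  funext x
  rw [hφ]
  rfl

theorem classInner_subgroupOf_eq {K L : Subgroup G} [Fintype K] [Fintype L] (hKL : K ≤ L)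
    [Fintype (K.subgroupOf L)] (ζ : L → ℂ) (ξ : IrrCharacter K) :
    classInner (fun n : K.subgroupOf L => ζ n)
      (mapIrr (Subgroup.subgroupOfEquivOfLe hKL).symm ξ : K.subgroupOf L → ℂ) =
    classInner (resSub hKL ζ) (ξ : K → ℂ) := by
  obtain ⟨φ, hφ⟩ : ∃ φ : K.subgroupOf L ≃* K, φ = Subgroup.subgroupOfEquivOfLe hKL := ⟨_, rfl⟩
  rw [← hφ, ← classInner_comp_mulEquiv φ (resSub hKL ζ)]
  congr 1
  funext x
  rw [hφ]
  rfl

/-- Relative version of `sameBlock_of_cover_of_pIndex`. -/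
theorem sameBlock_of_cover_rel {p : ℕ} [Fact p.Prime] (hM : IsPModular p M)
    {K L : Subgroup G} [Fintype K] [Fintype L] (hKL : K ≤ L)
    (hLK : L ≤ Subgroup.normalizer (K : Set G)) (hidx : ∃ k : ℕ, K.relIndex L = p ^ k)
    (ζ ζ' : IrrCharacter L) (ξ ξ' : IrrCharacter K)
    (hξ : SameBlock M (ξ : K → ℂ) (ξ' : K → ℂ))
    (hne : classInner (resSub hKL (ζ : L → ℂ)) (ξ : K → ℂ) ≠ 0)
    (hne' : classInner (resSub hKL (ζ' : L → ℂ)) (ξ' : K → ℂ) ≠ 0) :
    SameBlock M (ζ : L → ℂ) (ζ' : L → ℂ) := by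
  haveI : Fintype (K.subgroupOf L) := Fintype.ofFinite _
  haveI : (K.subgroupOf L).Normal := (Subgroup.normal_subgroupOf_iff_le_normalizer hKL).mpr hLK
  rw [← classInner_subgroupOf_eq hKL] at hne hne'
  exact Cfsg.Agent.Helper16.sameBlock_of_cover_of_pIndex (K.subgroupOf L) hM hidx ζ ζ'
    (mapIrr (Subgroup.subgroupOfEquivOfLe hKL).symm ξ)
    (mapIrr (Subgroup.subgroupOfEquivOfLe hKL).symm ξ')
    (sameBlock_mapIrr (Subgroup.subgroupOfEquivOfLe hKL).symm hξ) hne hne'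

theorem classInner_resSub_conjIrr {K L : Subgroup G} [Fintype K] [Fintype L] (hKL : K ≤ L)
    (x : G) (hxK : x ∈ Subgroup.normalizer (K : Set G))
    (hxL : x ∈ Subgroup.normalizer (L : Set G)) (ζ : IrrCharacter L) (ξ : IrrCharacter K) :
    classInner (resSub hKL (conjIrr L x hxL ζ : L → ℂ)) (conjIrr K x hxK ξ : K → ℂ) =
      classInner (resSub hKL (ζ : L → ℂ)) (ξ : K → ℂ) := by
  rw [← classInner_comp_mulEquiv (conjEquivOf K x hxK).symm (resSub hKL (ζ : L → ℂ))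
    (ξ : K → ℂ)]
  rfl

/-- A block idempotent of `L` is supported on a normal subgroup `K` of `p`-power index. -/
theorem subgroupBlockCoeff_eq_zero_of_relIndex {p : ℕ} [Fact p.Prime] (hM : IsPModular p M)
    {K L : Subgroup G} [Fintype L] (hKL : K ≤ L)
    (hLK : L ≤ Subgroup.normalizer (K : Set G)) (hidx : ∃ k : ℕ, K.relIndex L = p ^ k)
    {e : Set (IrrCharacter L)} (he : IsPBlock M e) {g : G} (hg : g ∉ K) :
    subgroupBlockCoeff L e g = 0 := by
  haveI : (K.subgroupOf L).Normal := (Subgroup.normal_subgroupOf_iff_le_normalizer hKL).mpr hLK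
  by_cases hgL : g ∈ L
  · rw [subgroupBlockCoeff_eq_extZ, extZ_of_mem' _ _ hgL]
    exact Cfsg.Agent.Helper16.blockCoeff_eq_zero_of_pIndex hM (K.subgroupOf L) hidx he
      (g := ⟨g, hgL⟩) (fun h => hg (Subgroup.mem_subgroupOf.mp h))
  · exact subgroupBlockCoeff_of_notMem L e hgL

/-- The idempotent of a block `e` of `L` detects, on `K`, the characters covered by `e`. -/
theorem omega_restr_of_cover {p : ℕ} [Fact p.Prime] (hM : IsPModular p M)
    {K L : Subgroup G} [Fintype K] [Fintype L] (hKL : K ≤ L)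
    (hLK : L ≤ Subgroup.normalizer (K : Set G)) (hidx : ∃ k : ℕ, K.relIndex L = p ^ k)
    {e : Set (IrrCharacter L)} (he : IsPBlock M e) (ζ : IrrCharacter L) (ξ : IrrCharacter K)
    (hne : classInner (resSub hKL (ζ : L → ℂ)) (ξ : K → ℂ) ≠ 0) (hζ : ζ ∈ e) :
    omega (ξ : K → ℂ) (restr K (subgroupBlockCoeff L e)) = 1 := by
  classical
  have h1 := omega_eq_of_constituent_rel hKL hLK ζ ξ hne
    (fun u hu x => subgroupBlockCoeff_conj_of_mem L e u hu x)
    (fun g _ hg => subgroupBlockCoeff_eq_zero_of_relIndex hM hKL hLK hidx he hg)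
  rw [restr_subgroupBlockCoeff, omega_blockCoeff, if_pos hζ] at h1
  exact h1.symm

/-- The blocks of `K` covered by a block of `L` form a single `L`-orbit. -/
theorem exists_conjSet_eq_of_cover {p : ℕ} [Fact p.Prime] (hM : IsPModular p M)
    {K L : Subgroup G} [Fintype K] [Fintype L] (hKL : K ≤ L)
    (hLK : L ≤ Subgroup.normalizer (K : Set G)) (hidx : ∃ k : ℕ, K.relIndex L = p ^ k)
    {e : Set (IrrCharacter L)} (he : IsPBlock M e) {f f' : Set (IrrCharacter K)}
    (hf : IsPBlock M f) (hf' : IsPBlock M f') {ξ ξ' : IrrCharacter K} (hξ : ξ ∈ f)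
    (hξ' : ξ' ∈ f') {ζ ζ' : IrrCharacter L} (hζ : ζ ∈ e) (hζ' : ζ' ∈ e)
    (hne : classInner (resSub hKL (ζ : L → ℂ)) (ξ : K → ℂ) ≠ 0)
    (hne' : classInner (resSub hKL (ζ' : L → ℂ)) (ξ' : K → ℂ) ≠ 0) :
    ∃ l, ∃ hl : l ∈ L, f' = conjSet K l (hLK hl) f := by
  haveI hpr := isPrime_of_isPModular hM
  have h0 : MemLocalIdeal M ((1 : ℂ) - 1) := by
    rw [sub_self]
    exact memLocalIdeal_zero hpr.ne_top
  refine exists_conj_of_omega_one K L hKL hLK he
    (fun g hg => subgroupBlockCoeff_eq_zero_of_relIndex hM hKL hLK hidx he hg) hf hf' hξ hξ' ?_ ?_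
  · rw [omega_restr_of_cover hM hKL hLK hidx he ζ ξ hne hζ]
    exact h0
  · rw [omega_restr_of_cover hM hKL hLK hidx he ζ' ξ' hne' hζ']
    exact h0

end rel

end Cfsg.Agent.Helper77
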