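import Mathlib
import Cfsg.Agent.Lib.Helper77.Knorr
import Cfsg.Agent.Lib.Helper77.KnorrA
import Cfsg.Agent.Lib.Helper77.BrauerCorr
import Cfsg.Agent.Lib.Helper77.LocalBlock
import Cfsg.Agent.Lib.Helper77.RelCover
import Cfsg.Agent.Lib.Helper77.RelOrbit
import Cfsg.Agent.Lib.Helper76.InBlock2

/-!
# Tools for the Harris–Knörr correspondence (S4674), part 1 (helper77)
-/

set_option autoImplicit false
set_option linter.unusedSectionVars false
set_option linter.style.haveILetI false

namespace Cfsg.Agent.Helper77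

open Cfsg

universe u

section hk1

variable {G : Type u} [Group G] [Fintype G] {p : ℕ} {M : Ideal AlgInt}

/-- For `P C_G(P) ≤ H ≤ N_G(P)` every block of `H` induces a block of `G`. -/
theorem exists_isInducedBlock_between [Fact p.Prime] (hM : IsPModular p M)
    (P H : Subgroup G) [Fintype H] (hP : IsPGroup p P) (hPH : P ≤ H)
    (hCH : Subgroup.centralizer (P : Set G) ≤ H)
    (hHN : H ≤ Subgroup.normalizer (P : Set G))
    {b : Set (IrrCharacter H)} (hb : IsPBlock M b) :
    ∃ B : Set (IrrCharacter G), IsInducedBlock M H b B := by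
  haveI hpr := isPrime_of_isPModular hM
  obtain ⟨ξ, hξ⟩ := nonempty_of_isPBlock hb
  have hw := isModHom_wOf hM P H hP hPH hCH hHN ξ.2
  obtain ⟨B, hB, hB1⟩ := hw.exists_block
  exact ⟨B, isInducedBlock_of_isModHom H hb hξ hw hB hB1⟩

/-- If the induced central character of `ψ ∈ c` takes the value `1` on the idempotent of `B`,
then `c` induces `B`. -/
theorem isInducedBlock_of_omega_restr_one [Fact p.Prime] (hM : IsPModular p M)
    (P H : Subgroup G) [Fintype H] (hP : IsPGroup p P) (hPH : P ≤ H)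
    (hCH : Subgroup.centralizer (P : Set G) ≤ H)
    (hHN : H ≤ Subgroup.normalizer (P : Set G))
    {c : Set (IrrCharacter H)} (hc : IsPBlock M c) {B : Set (IrrCharacter G)} (hB : IsPBlock M B)
    {ψ : IrrCharacter H} (hψ : ψ ∈ c)
    (h1 : MemLocalIdeal M (omega (ψ : H → ℂ) (restr H (blockCoeff B)) - 1)) :
    IsInducedBlock M H c B := by
  haveI hpr := isPrime_of_isPModular hM
  have hw := isModHom_wOf hM P H hP hPH hCH hHN ψ.2
  refine isInducedBlock_of_isModHom H hc hψ hw hB ?_
  rw [wsum_wOf]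
  exact h1

/-- **Min-max, comparison form**: if `β` agrees (mod the local ideal) with the idempotent of the
block `c` of `H` on the centralizer of a defect group `P` of `c`, the central characters of `c`
send the restriction of `β` to `1`. -/
theorem memLocalIdeal_omega_restr_sub_one [Fact p.Prime] (hM : IsPModular p M)
    (H : Subgroup G) [Fintype H] {c : Set (IrrCharacter H)} (hc : IsPBlock M c)
    {P : Subgroup G} (hPH : P ≤ H) (hcP : IsDefectGroup p M c (P.subgroupOf H))
    {β : G → ℂ} (hβR : IsRValued M β) (hβH : ∀ h ∈ H, ∀ g, β (h * g * h⁻¹) = β g)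
    (hβ : ∀ y ∈ Subgroup.centralizer (P : Set G),
      MemLocalIdeal M (β y - subgroupBlockCoeff H c y))
    {ψ : IrrCharacter H} (hψ : ψ ∈ c) :
    MemLocalIdeal M (omega (ψ : H → ℂ) (restr H β) - 1) := by
  classical
  haveI hpr := isPrime_of_isPModular hM
  have hsR : IsRValued M (subgroupBlockCoeff H c) := by
    intro g
    rw [subgroupBlockCoeff_eq_extZ]
    by_cases hg : g ∈ H
    · rw [extZ_of_mem' _ _ hg]
      exact isRValued_blockCoeff hc _
    · rw [extZ_of_notMem _ _ hg]
      exact memLocalRing_zero hpr.ne_top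
  have h1 := memLocalIdeal_omega_restr_of_vanish hM H hc hPH hcP
    (β := fun g => β g - subgroupBlockCoeff H c g)
    (fun g => memLocalRing_sub (hβR g) (hsR g))
    (fun h hh g => by
      show β (h * g * h⁻¹) - subgroupBlockCoeff H c (h * g * h⁻¹) = β g - subgroupBlockCoeff H c g
      rw [hβH h hh g, subgroupBlockCoeff_conj_of_mem H c h hh g])
    hβ hψ
  have h2 : restr H (fun g => β g - subgroupBlockCoeff H c g) =
      restr H β - blockCoeff c := by
    funext h
    show β h - subgroupBlockCoeff H c (h : G) = β h - blockCoeff c h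
    rw [subgroupBlockCoeff_of_mem]
  rw [h2, omega_sub, omega_blockCoeff, if_pos hψ] at h1
  exact h1

/-- The `ω`-form of `IsInducedBlockIn`. -/
theorem omega_restr_congr_of_isInducedBlockIn [hpr : M.IsPrime] (N K : Subgroup G) (hKN : K ≤ N)
    [Fintype N] [Fintype K] {e : Set (IrrCharacter K)} {d : Set (IrrCharacter N)}
    (hed : IsInducedBlockIn M N K e d) {ξ : IrrCharacter K} (hξ : ξ ∈ e)
    {θ : IrrCharacter N} (hθ : θ ∈ d) {a : G → ℂ}
    (haN : ∀ n ∈ N, ∀ g, a (n * g * n⁻¹) = a g) (haR : IsRValued M a) :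
    MemLocalIdeal M (omega (ξ : K → ℂ) (restr K a) - omega (θ : N → ℂ) (restr N a)) := by
  classical
  haveI : Fintype (K.subgroupOf N) := Fintype.ofFinite _
  have h1 := (Cfsg.Agent.Helper76.InBlock.inducedBlockIn_iff N K hKN e d).mp hed
  have h2 := omega_restr_congr_of_isInducedBlock (K.subgroupOf N) h1
    (ξ := mapIrr (Subgroup.subgroupOfEquivOfLe hKN).symm ξ) ⟨ξ, hξ, rfl⟩ hθ
    (z := restr N a) (isClassFunction_restr N haN) (isRValued_restr N haR)
  rw [Cfsg.Agent.Helper76.InBlock.omega_down] at h2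
  exact h2

/-- **Knörr's theorem, relative form**: `K ⊴ H ≤ G`, the block `F` of `H` covers the block `f` of
`K`, and `Q ≤ K` is a defect group of `f`; then some defect group `Δ ≤ H` of `F` has
`Δ ∩ K = Q`. -/
theorem knorr_rel [Fact p.Prime] (hM : IsPModular p M) {H K : Subgroup G} [Fintype H] [Fintype K]
    (hKH : K ≤ H) (hHK : H ≤ Subgroup.normalizer (K : Set G))
    {F : Set (IrrCharacter H)} (hF : IsPBlock M F) {f : Set (IrrCharacter K)} (hf : IsPBlock M f)
    {ψ : IrrCharacter H} (hψ : ψ ∈ F) {ξ : IrrCharacter K} (hξ : ξ ∈ f)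
    (hne : classInner (resSub hKH (ψ : H → ℂ)) (ξ : K → ℂ) ≠ 0)
    {Q : Subgroup G} (hQK : Q ≤ K) (hQ : IsDefectGroup p M f (Q.subgroupOf K)) :
    ∃ Δ : Subgroup G, Δ ≤ H ∧ IsDefectGroup p M F (Δ.subgroupOf H) ∧ Δ ⊓ K = Q := by
  classical
  haveI : Fintype (K.subgroupOf H) := Fintype.ofFinite _
  haveI : (K.subgroupOf H).Normal := (Subgroup.normal_subgroupOf_iff_le_normalizer hKH).mpr hHK
  have hcon₀ : classInner (fun n : K.subgroupOf H => (ψ : H → ℂ) n)
      (mapIrr (Subgroup.subgroupOfEquivOfLe hKH).symm ξ : K.subgroupOf H → ℂ) ≠ 0 := by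
    rw [classInner_subgroupOf_eq hKH]
    exact hne
  have hQN' : Q.subgroupOf H ≤ K.subgroupOf H := by
    intro x hx
    rw [Subgroup.mem_subgroupOf] at hx ⊢
    exact hQK hx
  have hQ' : IsDefectGroup p M (downSet H K hKH f)
      ((Q.subgroupOf H).subgroupOf (K.subgroupOf H)) := by
    have h1 := isDefectGroup_mapSet (Subgroup.subgroupOfEquivOfLe hKH).symm hQ
    have heq : (Q.subgroupOf K).map
        (((Subgroup.subgroupOfEquivOfLe hKH).symm : K ≃* K.subgroupOf H) : K →* K.subgroupOf H) =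
        (Q.subgroupOf H).subgroupOf (K.subgroupOf H) := by
      ext y
      rw [Subgroup.mem_subgroupOf, Subgroup.mem_subgroupOf]
      constructor
      · rintro ⟨z, hz, rfl⟩
        exact Subgroup.mem_subgroupOf.mp hz
      · intro hy
        refine ⟨Subgroup.subgroupOfEquivOfLe hKH y, ?_, by simp⟩
        rw [SetLike.mem_coe, Subgroup.mem_subgroupOf]
        exact hy
    rw [heq] at h1
    exact h1
  obtain ⟨P', hP', hP'inf⟩ := exists_isDefectGroup_inf_eq (G := H) hM (K.subgroupOf H) hF
    (isPBlock_downSet H K hKH hf) ψ hψ (mapIrr (Subgroup.subgroupOfEquivOfLe hKH).symm ξ)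
    ⟨ξ, hξ, rfl⟩ hcon₀ hQN' hQ'
  refine ⟨P'.map H.subtype, ?_, ?_, ?_⟩
  · rintro _ ⟨x, _, rfl⟩
    exact x.2
  · have : (P'.map H.subtype).subgroupOf H = P' := by
      ext x
      rw [Subgroup.mem_subgroupOf]
      constructor
      · rintro ⟨y, hy, hyx⟩
        have : y = x := Subtype.ext hyx
        rwa [← this]
      · intro hx
        exact ⟨x, hx, rfl⟩
    rw [this]
    exact hP'
  · ext x
    rw [Subgroup.mem_inf]
    constructor
    · rintro ⟨⟨y, hy, rfl⟩, hxK⟩
      have h1 : y ∈ P' ⊓ K.subgroupOf H := ⟨hy, Subgroup.mem_subgroupOf.mpr hxK⟩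
      rw [hP'inf] at h1
      exact Subgroup.mem_subgroupOf.mp h1
    · intro hx
      have hxH : x ∈ H := hKH (hQK hx)
      have h1 : (⟨x, hxH⟩ : H) ∈ Q.subgroupOf H := Subgroup.mem_subgroupOf.mpr hx
      rw [← hP'inf] at h1
      exact ⟨⟨⟨x, hxH⟩, h1.1, rfl⟩, hQK hx⟩

/-- If the block `c` of `H ≥ N_G(P)` has defect group `P` and induces `B`, then `P` is a defect
group of `B` and the idempotents of `B` and `c` agree (mod the local ideal) on `C_G(P)`. -/
theorem defect_of_isInducedBlock_rel [Fact p.Prime] (hM : IsPModular p M) (P H : Subgroup G)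
    [Fintype H] (hP : IsPGroup p P) (hH : Subgroup.normalizer (P : Set G) ≤ H)
    {c : Set (IrrCharacter H)} (hcP : IsDefectGroup p M c (P.subgroupOf H))
    {B : Set (IrrCharacter G)} (hind : IsInducedBlock M H c B) :
    IsDefectGroup p M B P ∧ ∀ x : G, x ∈ Subgroup.centralizer (P : Set G) →
      MemLocalIdeal M (blockCoeff B x - subgroupBlockCoeff H c x) := by
  classical
  haveI hpr := isPrime_of_isPModular hM
  have hPH : P ≤ H := Subgroup.le_normalizer.trans hH
  have hc := hind.1
  have hB := hind.2.1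
  obtain ⟨B', ⟨hB', hB'P, hrel⟩, -⟩ := (brauer_corr_over hM P H hP hH).2 c hc hcP
  obtain ⟨ψ, hψ⟩ := nonempty_of_isPBlock hc
  obtain ⟨χ, hχ⟩ := nonempty_of_isPBlock hB
  have h1 := memLocalIdeal_omega_restr_sub_one hM H hc hPH hcP (β := blockCoeff B')
    (isRValued_blockCoeff hB') (fun h _ g => isClassFunction_blockCoeff B' g h) hrel hψ
  have h2 := omega_restr_congr_of_isInducedBlock H hind hψ hχ (isClassFunction_blockCoeff B')
    (isRValued_blockCoeff hB')
  rw [omega_blockCoeff] at h2
  have hχB' : χ ∈ B' := by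
    by_contra hcon
    rw [if_neg hcon, sub_zero] at h2
    have := memLocalIdeal_sub h2 h1
    rw [sub_sub_cancel] at this
    exact not_memLocalIdeal_one this
  have : B' = B := eq_of_isPBlock_of_mem hB' hB hχB' hχ
  subst this
  exact ⟨hB'P, hrel⟩

end hk1

end Cfsg.Agent.Helper77
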