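import Mathlib
import Cfsg.Agent.Lib.Helper77.HK1

/-!
# Tools for the Harris–Knörr correspondence (S4674), part 2 (helper77)
-/

set_option autoImplicit false
set_option linter.unusedSectionVars false
set_option linter.style.haveILetI false

namespace Cfsg.Agent.Helper77

open Cfsg

universe u

section hk2

variable {G : Type u} [Group G] [Fintype G] {p : ℕ} {M : Ideal AlgInt}

/-- Defect groups of the transported block `downSet`. -/
theorem isDefectGroup_downSet [Fact p.Prime] {H K : Subgroup G} [Fintype H] [Fintype K]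
    (hKH : K ≤ H) [Fintype (K.subgroupOf H)] {f : Set (IrrCharacter K)} {Q : Subgroup G}
    (hQ : IsDefectGroup p M f (Q.subgroupOf K)) :
    IsDefectGroup p M (downSet H K hKH f) ((Q.subgroupOf H).subgroupOf (K.subgroupOf H)) := by
  have h1 := isDefectGroup_mapSet (Subgroup.subgroupOfEquivOfLe hKH).symm hQ
  have heq : (Q.subgroupOf K).map
      (((Subgroup.subgroupOfEquivOfLe hKH).symm : K ≃* K.subgroupOf H) : K →* K.subgroupOf H) =
      (Q.subgroupOf H).subgroupOf (K.subgroupOf H) := by
    ext y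
    rw [Subgroup.mem_subgroupOf, Subgroup.mem_subgroupOf]
    constructor
    · rintro ⟨z, hz, rfl⟩
      exact Subgroup.mem_subgroupOf.mp hz
    · intro hy
      refine ⟨Subgroup.subgroupOfEquivOfLe hKH y, ?_, by simp⟩
      rw [SetLike.mem_coe, Subgroup.mem_subgroupOf]
      exact hy
  rw [heq] at h1
  exact h1

/-- Auxiliary form of the uniqueness in the first main theorem, for a subgroup equal to the
normalizer. -/
theorem fmt_unique_of_eq [Fact p.Prime] (hM : IsPModular p M) (D : Subgroup G)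
    (hD : IsPGroup p D) (X : Subgroup G) (hX : X = Subgroup.normalizer (D : Set G)) [Fintype X]
    {B : Set (IrrCharacter G)} {b b' : Set (IrrCharacter X)} (hb : IsPBlock M b)
    (hbD : IsDefectGroup p M b (D.subgroupOf X))
    (hind : IsInducedBlock M X b B) (hind' : IsInducedBlock M X b' B) : b' = b := by
  subst hX
  exact fmt_unique hM D hD hb hbD hind hind'

/-- **Uniqueness in the first main theorem, relative form**: two blocks of `K = N_N(Q)`
inducing the same block of `N`, one of them with defect group `Q`, are equal. -/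
theorem fmt_unique_rel [Fact p.Prime] (hM : IsPModular p M) (N : Subgroup G) [Fintype N]
    {Q : Subgroup G} (hQ : IsPGroup p Q) (hQN : Q ≤ N) (K : Subgroup G)
    (hK : K = Subgroup.normalizer (Q : Set G) ⊓ N) [Fintype K] (hKN : K ≤ N)
    [Fintype (K.subgroupOf N)]
    {d : Set (IrrCharacter N)} {e e' : Set (IrrCharacter K)} (he : IsPBlock M e)
    (heQ : IsDefectGroup p M e (Q.subgroupOf K))
    (h1 : IsInducedBlock M (K.subgroupOf N) (downSet N K hKN e) d)
    (h2 : IsInducedBlock M (K.subgroupOf N) (downSet N K hKN e') d) : e' = e := by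
  have hX : K.subgroupOf N = Subgroup.normalizer ((Q.subgroupOf N : Subgroup N) : Set N) := by
    ext y
    rw [mem_normalizer_subgroupOf_iff hQN, Subgroup.mem_subgroupOf, hK, Subgroup.mem_inf]
    exact ⟨fun h => h.1, fun h => ⟨h, y.2⟩⟩
  have h3 := fmt_unique_of_eq hM (Q.subgroupOf N) hQ.comap_subtype (K.subgroupOf N) hX
    (isPBlock_downSet N K hKN he) (isDefectGroup_downSet hKN heQ) h1 h2
  unfold downSet at h3
  exact mapSet_injective _ h3

end hk2

section hk3

variable {G : Type u} [Group G] [Fintype G] {p : ℕ} {M : Ideal AlgInt}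

/-- **Induction preserves covering**: if the block `c` of `H` induces `B`, `ψ ∈ c` lies over
`ξ ∈ Irr(K)`, `K = H ∩ N`, and the central character of `ξ` induces those of the block `d` of
`N ⊴ G`, then `B` covers `d`. -/
theorem covers_of_isInducedBlock [Fact p.Prime] (hM : IsPModular p M) (N : Subgroup G)
    [hN : N.Normal] [Fintype N] {H K : Subgroup G} [Fintype H] [Fintype K] (hKH : K ≤ H)
    (hHNK : ∀ g ∈ H, g ∈ N → g ∈ K) (hHK : H ≤ Subgroup.normalizer (K : Set G))
    {c : Set (IrrCharacter H)} {B : Set (IrrCharacter G)} (hind : IsInducedBlock M H c B)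
    {d : Set (IrrCharacter N)} (hd : IsPBlock M d) {ψ : IrrCharacter H} (hψ : ψ ∈ c)
    {ξ : IrrCharacter K} (hne : classInner (resSub hKH (ψ : H → ℂ)) (ξ : K → ℂ) ≠ 0)
    (hω : ∀ θ ∈ d, ∀ a : G → ℂ, IsClassFunction G a → IsRValued M a →
      MemLocalIdeal M (omega (ξ : K → ℂ) (restr K a) - omega (θ : N → ℂ) (restr N a)))
    (χ : IrrCharacter G) (hχ : χ ∈ B) :
    ∃ θ ∈ d, classInner (fun n : N => (χ : G → ℂ) n) (θ : N → ℂ) ≠ 0 := by
  classical
  haveI hpr := isPrime_of_isPModular hM
  obtain ⟨C, hCdef⟩ : ∃ C, C = Cfsg.Agent.Helper16.conjClosure N d := ⟨_, rfl⟩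
  have hCst : ∀ x : G, ∀ θ ∈ C, Cfsg.Agent.Helper16.conjIrr N x θ ∈ C := by
    rw [hCdef]
    exact fun x θ hθ => Cfsg.Agent.Helper16.conjClosure_conj_closed N d x θ hθ
  have ha : IsClassFunction G (Cfsg.Agent.Helper16.idemFun N C) :=
    Cfsg.Agent.Helper16.isClassFunction_idemFun N C hCst
  have haR : IsRValued M (Cfsg.Agent.Helper16.idemFun N C) := by
    rw [hCdef]
    exact fun g => Cfsg.Agent.Helper16.memLocalRing_idemFun_conjClosure N hM hd g
  obtain ⟨θ, hθ⟩ := nonempty_of_isPBlock hd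
  have e1 := omega_restr_congr_of_isInducedBlock H hind hψ hχ ha haR
  have e2 := omega_eq_of_constituent_rel hKH hHK ψ ξ hne (a := Cfsg.Agent.Helper16.idemFun N C)
    (fun u _ x => ha x u)
    (fun g hg hgK => Cfsg.Agent.Helper16.idemFun_of_not_mem N C (fun hgN => hgK (hHNK g hg hgN)))
  have e3 := hω θ hθ _ ha haR
  have e4 : omega (θ : N → ℂ) (restr N (Cfsg.Agent.Helper16.idemFun N C)) = 1 := by
    have := Cfsg.Agent.Helper16.omega_idemFun_restrict N C θ
    rw [if_pos (by rw [hCdef]; exact Cfsg.Agent.Helper16.subset_conjClosure N d hθ)] at this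
    exact this
  rw [e2] at e1
  rw [e4] at e3
  -- ω_χ(a) ≡ 1
  have e5 : MemLocalIdeal M (omega (χ : G → ℂ) (Cfsg.Agent.Helper16.idemFun N C) - 1) := by
    have := memLocalIdeal_sub e3 e1
    rwa [sub_sub_sub_cancel_left] at this
  obtain ⟨θ₁, hθ₁⟩ := Cfsg.Agent.Helper16.exists_constituent N χ
  rw [Cfsg.Agent.Helper16.omega_idemFun_of_constituent N C hCst χ θ₁ hθ₁] at e5
  have hθ₁C : θ₁ ∈ C := by
    by_contra hcon
    rw [if_neg hcon, zero_sub] at e5
    exact not_memLocalIdeal_one (by simpa using memLocalIdeal_neg e5)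
  rw [hCdef, Cfsg.Agent.Helper16.mem_conjClosure] at hθ₁C
  obtain ⟨g, hg⟩ := hθ₁C
  refine ⟨_, hg, ?_⟩
  rw [Cfsg.Agent.Helper16.classInner_restrict_conjIrr]
  exact hθ₁

end hk3

end Cfsg.Agent.Helper77
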