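import Mathlib
import Cfsg.Agent.Lib.Helper77.HK2
import Cfsg.Agent.Lib.Helper77.LocalDefect

/-!
# Tools for the Harris–Knörr correspondence (S4674), part 3 (helper77)
-/

set_option autoImplicit false
set_option linter.unusedSectionVars false
set_option linter.style.haveILetI false

namespace Cfsg.Agent.Helper77

open Cfsg

universe u

section hk4

variable {G : Type u} [Group G] [Fintype G] {p : ℕ} {M : Ideal AlgInt}

theorem conjIrr16_eq_mapIrr (N : Subgroup G) [hN : N.Normal] (x : G) (θ : IrrCharacter N) :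
    Cfsg.Agent.Helper16.conjIrr N x θ = mapIrr (MulAut.conjNormal x : N ≃* N) θ := by
  apply Subtype.ext
  funext n
  rw [Cfsg.Agent.Helper16.conjIrr_apply, mapIrr_coe, map_inv]
  rfl

theorem omega_conjFun_gen (K : Subgroup G) [Fintype K] (x : G)
    (hx : x ∈ Subgroup.normalizer (K : Set G)) (χ : K → ℂ) (v : K → ℂ) :
    omega (conjFun K x hx χ) v = omega χ (fun k => v (conjEquivOf K x hx k)) := by
  unfold omega conjFun
  rw [map_one]
  congr 1
  rw [← Equiv.sum_comp (conjEquivOf K x hx).toEquiv]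
  refine Finset.sum_congr rfl fun k _ => ?_
  simp only [MulEquiv.toEquiv_eq_coe, MulEquiv.coe_toEquiv, MulEquiv.symm_apply_apply]

theorem mem_normalizer_of_map_conj_le {Q : Subgroup G} {h : G}
    (hh : Q.map (MulAut.conj h).toMonoidHom ≤ Q) : h ∈ Subgroup.normalizer (Q : Set G) := by
  have heq : Q.map (MulAut.conj h).toMonoidHom = Q := by
    apply Subgroup.eq_of_le_of_card_ge hh
    rw [Subgroup.card_map_of_injective (MulAut.conj h).injective]
  rw [Subgroup.mem_normalizer_iff]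
  intro q
  constructor
  · intro hq
    rw [← heq]
    exact ⟨q, hq, by simp [MulAut.conj_apply]⟩
  · intro hq
    rw [← heq] at hq
    obtain ⟨q', hq', hqq⟩ := hq
    have : q' = q := by
      have h1 : h * q' * h⁻¹ = h * q * h⁻¹ := by simpa [MulAut.conj_apply] using hqq
      have h2 := mul_right_cancel h1
      exact mul_left_cancel h2
    rwa [← this]

/-- **Key step of Harris–Knörr (existence)**: if the block `c` of `H = N_G(Q)` induces a block `B`
of `G` covering `d`, then `c` covers the first main theorem correspondent `e` of `d`. -/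
theorem covers_of_isInducedBlock_of_covers [Fact p.Prime] (hM : IsPModular p M) (N : Subgroup G)
    [hN : N.Normal] [Fintype N] {Q : Subgroup G} (hQ : IsPGroup p Q) (hQN : Q ≤ N)
    (H K : Subgroup G) (hH : H = Subgroup.normalizer (Q : Set G))
    (hK : K = Subgroup.normalizer (Q : Set G) ⊓ N) [Fintype H] [Fintype K] (hKH : K ≤ H)
    {d : Set (IrrCharacter N)} (hd : IsPBlock M d)
    (hdQ : IsDefectGroup p M d (Q.subgroupOf N))
    {e : Set (IrrCharacter K)} (he : IsPBlock M e) (heQ : IsDefectGroup p M e (Q.subgroupOf K))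
    (hed : IsInducedBlockIn M N K e d)
    {c : Set (IrrCharacter H)} {B : Set (IrrCharacter G)} (hind : IsInducedBlock M H c B)
    (hBd : ∃ χ ∈ B, ∃ θ ∈ d, classInner (fun n : N => (χ : G → ℂ) n) (θ : N → ℂ) ≠ 0) :
    ∃ ψ ∈ c, ∃ ξ ∈ e, classInner (resSub hKH (ψ : H → ℂ)) (ξ : K → ℂ) ≠ 0 := by
  classical
  haveI hpr := isPrime_of_isPModular hM
  have hKN : K ≤ N := by rw [hK]; exact inf_le_right
  have hKNQ : K ≤ Subgroup.normalizer (Q : Set G) := by rw [hK]; exact inf_le_left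
  have hQK : Q ≤ K := by rw [hK]; exact le_inf Subgroup.le_normalizer hQN
  have hHK : H ≤ Subgroup.normalizer (K : Set G) := by
    intro h hh
    rw [hH] at hh
    rw [Subgroup.mem_normalizer_iff]
    intro k
    rw [hK, Subgroup.mem_inf, Subgroup.mem_inf]
    constructor
    · rintro ⟨h1, h2⟩
      exact ⟨Subgroup.mul_mem _ (Subgroup.mul_mem _ hh h1) (Subgroup.inv_mem _ hh),
        hN.conj_mem k h2 h⟩
    · rintro ⟨h1, h2⟩
      constructor
      · have := Subgroup.mul_mem _ (Subgroup.mul_mem _ (Subgroup.inv_mem _ hh) h1) hh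
        simpa [mul_assoc] using this
      · have := hN.conj_mem _ h2 h⁻¹
        simpa [mul_assoc] using this
  have hHNK : ∀ g ∈ H, g ∈ N → g ∈ K := by
    intro g hg hgN
    rw [hK]
    rw [hH] at hg
    exact ⟨hg, hgN⟩
  obtain ⟨ψ, hψ⟩ := nonempty_of_isPBlock hind.1
  obtain ⟨ξ'', hξ''⟩ := exists_constituent_rel hKH hHK ψ
  obtain ⟨χ, hχ, θ, hθ, hχθ⟩ := hBd
  -- (b)
  obtain ⟨C, hCdef⟩ : ∃ C, C = Cfsg.Agent.Helper16.conjClosure N d := ⟨_, rfl⟩
  have hCst : ∀ x : G, ∀ θ ∈ C, Cfsg.Agent.Helper16.conjIrr N x θ ∈ C := by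
    rw [hCdef]
    exact fun x θ hθ => Cfsg.Agent.Helper16.conjClosure_conj_closed N d x θ hθ
  have ha : IsClassFunction G (Cfsg.Agent.Helper16.idemFun N C) :=
    Cfsg.Agent.Helper16.isClassFunction_idemFun N C hCst
  have haR : IsRValued M (Cfsg.Agent.Helper16.idemFun N C) := by
    rw [hCdef]
    exact fun g => Cfsg.Agent.Helper16.memLocalRing_idemFun_conjClosure N hM hd g
  have e1 := omega_restr_congr_of_isInducedBlock H hind hψ hχ ha haR
  have e2 := omega_eq_of_constituent_rel hKH hHK ψ ξ'' hξ''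
    (a := Cfsg.Agent.Helper16.idemFun N C) (fun u _ x => ha x u)
    (fun g hg hgK => Cfsg.Agent.Helper16.idemFun_of_not_mem N C (fun hgN => hgK (hHNK g hg hgN)))
  have e0 : omega (χ : G → ℂ) (Cfsg.Agent.Helper16.idemFun N C) = 1 := by
    rw [Cfsg.Agent.Helper16.omega_idemFun_of_constituent N C hCst χ θ hχθ,
      if_pos (by rw [hCdef]; exact Cfsg.Agent.Helper16.subset_conjClosure N d hθ)]
  rw [e2, e0] at e1
  -- (c)
  haveI : Fintype (K.subgroupOf N) := Fintype.ofFinite _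
  have hQ' : IsPGroup p (Q.subgroupOf N) := hQ.comap_subtype
  have hQ'X : Q.subgroupOf N ≤ K.subgroupOf N := by
    intro y hy
    rw [Subgroup.mem_subgroupOf] at hy ⊢
    exact hQK hy
  have hCX : Subgroup.centralizer ((Q.subgroupOf N : Subgroup N) : Set N) ≤ K.subgroupOf N := by
    intro y hy
    rw [Subgroup.mem_subgroupOf, hK]
    exact ⟨Subgroup.centralizer_le_normalizer _ ((mem_centralizer_subgroupOf_iff hQN y).mp hy), y.2⟩
  have hXN : K.subgroupOf N ≤ Subgroup.normalizer ((Q.subgroupOf N : Subgroup N) : Set N) := by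
    intro y hy
    rw [mem_normalizer_subgroupOf_iff hQN]
    exact hKNQ (Subgroup.mem_subgroupOf.mp hy)
  obtain ⟨ξX, hξX⟩ : ∃ ξX, ξX = mapIrr (Subgroup.subgroupOfEquivOfLe hKN).symm ξ'' := ⟨_, rfl⟩
  have hw := isModHom_wOf hM (Q.subgroupOf N) (K.subgroupOf N) hQ' hQ'X hCX hXN ξX.2
  obtain ⟨d₂, hd₂, hd₂1⟩ := hw.exists_block
  have hind₂ := isInducedBlock_of_isModHom (K.subgroupOf N) (isPBlock_blockOf ξX)
    (mem_blockOf_self ξX) hw hd₂ hd₂1
  obtain ⟨θ₂, hθ₂⟩ := nonempty_of_isPBlock hd₂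
  have hc1 := omega_restr_congr_of_isInducedBlock (K.subgroupOf N) hind₂ (mem_blockOf_self ξX) hθ₂
    (z := restr N (Cfsg.Agent.Helper16.idemFun N C)) (isClassFunction_restr N (fun u _ x => ha x u))
    (isRValued_restr N haR)
  rw [hξX, Cfsg.Agent.Helper76.InBlock.omega_down] at hc1
  have hθ₂C : θ₂ ∈ C := by
    by_contra hcon
    have h3 := Cfsg.Agent.Helper16.omega_idemFun_restrict N C θ₂
    rw [if_neg hcon] at h3
    have h4 : omega (θ₂ : N → ℂ) (restr N (Cfsg.Agent.Helper16.idemFun N C)) = 0 := h3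
    rw [h4, sub_zero] at hc1
    have := memLocalIdeal_sub hc1 e1
    rw [sub_sub_cancel] at this
    exact not_memLocalIdeal_one this
  rw [hCdef, Cfsg.Agent.Helper16.mem_conjClosure] at hθ₂C
  obtain ⟨g, hg⟩ := hθ₂C
  -- (d)
  have hE₂R : IsRValued M (subgroupBlockCoeff N d₂) := isRValued_subgroupBlockCoeff N hd₂
  have hE₂K : ∀ u ∈ K, ∀ x, subgroupBlockCoeff N d₂ (u * x * u⁻¹) = subgroupBlockCoeff N d₂ x :=
    fun u hu x => subgroupBlockCoeff_conj_of_mem N d₂ u (hKN hu) x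
  have hd1' : MemLocalIdeal M (omega (ξ'' : K → ℂ) (restr K (subgroupBlockCoeff N d₂)) - 1) := by
    rw [wsum_wOf, ← restr_subgroupBlockCoeff N d₂, hξX,
      Cfsg.Agent.Helper76.InBlock.omega_down] at hd₂1
    exact hd₂1
  have hcut := omega_restr_sub_cutC hM Q K hQ hQK hKNQ ξ''.2 hE₂K hE₂R
  have hcut1 : MemLocalIdeal M
      (omega (ξ'' : K → ℂ) (cutC Q K (subgroupBlockCoeff N d₂)) - 1) := by
    have := memLocalIdeal_sub hd1' hcut
    rwa [sub_sub_sub_cancel_left] at this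
  obtain ⟨k, hk⟩ : ∃ k : K, ¬ MemLocalIdeal M (cutC Q K (subgroupBlockCoeff N d₂) k) := by
    by_contra hcon
    push Not at hcon
    have h5 := memLocalIdeal_omega_of_eqMod_zero ξ''.2 (isClassFunction_cutC hKNQ hE₂K) hcon
    have := memLocalIdeal_sub h5 hcut1
    rw [sub_sub_cancel] at this
    exact not_memLocalIdeal_one this
  have hkC : (k : G) ∈ Subgroup.centralizer (Q : Set G) := by
    by_contra hcon
    rw [cutC_of_notMem _ _ _ hcon] at hk
    exact hk (memLocalIdeal_zero hpr.ne_top)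
  rw [cutC_of_mem _ _ _ hkC] at hk
  -- (e)
  obtain ⟨θ', hθ'⟩ : ∃ θ', θ' = Cfsg.Agent.Helper16.conjIrr N g θ₂ := ⟨_, rfl⟩
  rw [← hθ'] at hg
  have hθ₂eq : θ₂ = mapIrr (MulAut.conjNormal g⁻¹ : N ≃* N) θ' := by
    rw [← conjIrr16_eq_mapIrr, hθ', Cfsg.Agent.Helper16.conjIrr_inv_conjIrr]
  have hd₂eq : d₂ = mapSet (MulAut.conjNormal g⁻¹ : N ≃* N) d := by
    rw [eq_blockOf_of_mem hd hg, mapSet_blockOf, ← hθ₂eq]
    exact eq_blockOf_of_mem hd₂ hθ₂
  have hD₂ : IsDefectGroup p M d₂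
      ((Q.subgroupOf N).map ((MulAut.conjNormal g⁻¹ : N ≃* N) : N →* N)) := by
    rw [hd₂eq]
    exact isDefectGroup_mapSet _ hdQ
  have hdef := defectLE_of_isDefectGroup hM hd₂ hD₂
  have hkx : ¬ MemLocalIdeal M (blockCoeff d₂ (⟨(k : G), hKN k.2⟩ : N)) := by
    rw [subgroupBlockCoeff_eq_extZ, extZ_of_mem' _ _ (hKN k.2)] at hk
    exact hk
  have hQcent : Q.subgroupOf N ≤ Subgroup.centralizer ({(⟨(k : G), hKN k.2⟩ : N)} : Set N) := by
    intro q hq
    rw [Subgroup.mem_centralizer_iff]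
    intro z hz
    rw [Set.mem_singleton_iff] at hz
    subst hz
    apply Subtype.ext
    have := (Subgroup.mem_centralizer_iff.mp hkC) (q : G) (Subgroup.mem_subgroupOf.mp hq)
    exact this.symm
  obtain ⟨y, hy⟩ := hdef _ hkx (Q.subgroupOf N) hQ' hQcent
  -- h := g * y normalizes Q
  have hhQ : g * (y : G) ∈ Subgroup.normalizer (Q : Set G) := by
    apply mem_normalizer_of_map_conj_le
    rintro _ ⟨q, hq, rfl⟩
    have h1 : (MulAut.conj y).toMonoidHom (⟨q, hQN hq⟩ : N) ∈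
        (Q.subgroupOf N).map ((MulAut.conjNormal g⁻¹ : N ≃* N) : N →* N) :=
      hy ⟨⟨q, hQN hq⟩, Subgroup.mem_subgroupOf.mpr hq, rfl⟩
    obtain ⟨q₁, hq₁, hqq⟩ := h1
    have h2 := congrArg Subtype.val hqq
    have h3 : ((((MulAut.conjNormal g⁻¹ : N ≃* N) : N →* N) q₁ : N) : G) =
        g⁻¹ * (q₁ : G) * g := by
      show ((MulAut.conjNormal g⁻¹ : MulAut N) q₁ : G) = _
      rw [MulAut.conjNormal_apply]
      simp
    have h4 : (((MulAut.conj y).toMonoidHom (⟨q, hQN hq⟩ : N) : N) : G) =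
        (y : G) * q * (y : G)⁻¹ := by
      simp [MulAut.conj_apply]
    rw [h3, h4] at h2
    have h5 : (MulAut.conj (g * (y : G))).toMonoidHom q = (q₁ : G) := by
      simp only [MulEquiv.coe_toMonoidHom, MulAut.conj_apply, mul_inv_rev]
      calc g * (y : G) * q * ((y : G)⁻¹ * g⁻¹) = g * ((y : G) * q * (y : G)⁻¹) * g⁻¹ := by group
        _ = g * (g⁻¹ * (q₁ : G) * g) * g⁻¹ := by rw [h2]
        _ = (q₁ : G) := by group
    rw [h5]
    exact Subgroup.mem_subgroupOf.mp hq₁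
  have hhH : g * (y : G) ∈ H := by rw [hH]; exact hhQ
  have hhK : g * (y : G) ∈ Subgroup.normalizer (K : Set G) := hHK hhH
  have hθ'h : θ' = Cfsg.Agent.Helper16.conjIrr N (g * (y : G)) θ₂ := by
    rw [Cfsg.Agent.Helper16.conjIrr_mul, Cfsg.Agent.Helper16.conjIrr_of_mem, hθ']
  -- d = mapSet (conjNormal h) d₂
  have hdeq : d = mapSet (MulAut.conjNormal (g * (y : G)) : N ≃* N) d₂ := by
    rw [eq_blockOf_of_mem hd hg, eq_blockOf_of_mem hd₂ hθ₂, mapSet_blockOf,
      ← conjIrr16_eq_mapIrr, ← hθ'h]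
  -- (f)
  obtain ⟨ξ₀, hξ₀⟩ : ∃ ξ₀, ξ₀ = conjIrr K (g * (y : G)) hhK ξ'' := ⟨_, rfl⟩
  have hone : MemLocalIdeal M (omega (ξ₀ : K → ℂ) (restr K (subgroupBlockCoeff N d)) - 1) := by
    have h6 : (ξ₀ : K → ℂ) = conjFun K (g * (y : G)) hhK (ξ'' : K → ℂ) := by rw [hξ₀]; rfl
    rw [h6, omega_conjFun_gen]
    have h7 : (fun k' : K => restr K (subgroupBlockCoeff N d)
        (conjEquivOf K (g * (y : G)) hhK k')) = restr K (subgroupBlockCoeff N d₂) := by
      funext k'
      show subgroupBlockCoeff N d (((conjEquivOf K (g * (y : G)) hhK k' : K) : G)) =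
        subgroupBlockCoeff N d₂ (k' : G)
      rw [conjEquivOf_apply_coe]
      have hk'N : (k' : G) ∈ N := hKN k'.2
      have hcN : g * (y : G) * (k' : G) * (g * (y : G))⁻¹ ∈ N := hN.conj_mem _ hk'N _
      rw [subgroupBlockCoeff_eq_extZ, extZ_of_mem' _ _ hcN, subgroupBlockCoeff_eq_extZ,
        extZ_of_mem' _ _ hk'N, hdeq, blockCoeff_mapSet]
      congr 1
      apply Subtype.ext
      show (((MulAut.conjNormal (g * (y : G)) : N ≃* N).symm
        ⟨g * (y : G) * (k' : G) * (g * (y : G))⁻¹, hcN⟩ : N) : G) = (k' : G)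
      have h8 : (MulAut.conjNormal (g * (y : G)) : N ≃* N).symm =
          (MulAut.conjNormal (g * (y : G))⁻¹ : N ≃* N) := by
        rw [map_inv]
        rfl
      rw [h8, MulAut.conjNormal_apply]
      simp only [inv_inv]
      group
    rw [h7]
    exact hd1'
  have hξ₀X : mapIrr (Subgroup.subgroupOfEquivOfLe hKN).symm ξ₀ ∈
      downSet N K hKN (blockOf M (ξ₀ : K → ℂ)) := ⟨ξ₀, mem_blockOf_self ξ₀, rfl⟩
  have hone' : MemLocalIdeal M (omega
      (mapIrr (Subgroup.subgroupOfEquivOfLe hKN).symm ξ₀ : K.subgroupOf N → ℂ)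
      (restr (K.subgroupOf N) (blockCoeff d)) - 1) := by
    rw [← restr_subgroupBlockCoeff N d, Cfsg.Agent.Helper76.InBlock.omega_down]
    exact hone
  have h2 : IsInducedBlock M (K.subgroupOf N) (downSet N K hKN (blockOf M (ξ₀ : K → ℂ))) d :=
    isInducedBlock_of_omega_restr_one hM (Q.subgroupOf N) (K.subgroupOf N) hQ' hQ'X hCX hXN
      (isPBlock_downSet N K hKN (isPBlock_blockOf ξ₀)) hd hξ₀X hone'
  have h1 := (Cfsg.Agent.Helper76.InBlock.inducedBlockIn_iff N K hKN e d).mp hed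
  have heq := fmt_unique_rel hM N hQ hQN K hK hKN he heQ h1 h2
  -- (g)
  refine ⟨ψ, hψ, ξ₀, ?_, ?_⟩
  · rw [← heq]
    exact mem_blockOf_self ξ₀
  · have h9 := classInner_resSub_conjIrr hKH (g * (y : G)) hhK
      (Subgroup.le_normalizer hhH) ψ ξ''
    rw [conjIrr_of_mem H _ _ hhH ψ, ← hξ₀] at h9
    rw [h9]
    exact hξ''

end hk4

end Cfsg.Agent.Helper77
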