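import Mathlib
import Cfsg.Agent.Lib.Helper77.HK3

/-!
# The Harris–Knörr correspondence (S4674) (helper77)
-/

set_option autoImplicit false
set_option linter.unusedSectionVars false
set_option linter.style.haveILetI false

namespace Cfsg.Agent.Helper77

open Cfsg

universe u

section hk5

variable {G : Type u} [Group G] [Fintype G] {p : ℕ} {M : Ideal AlgInt}

/-- If `P ∩ N = Q` with `N ⊴ G`, then `N_G(P) ≤ N_G(Q)`. -/
theorem normalizer_le_of_inf_eq (N : Subgroup G) [hN : N.Normal] {P Q : Subgroup G}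
    (hPN : P ⊓ N = Q) : Subgroup.normalizer (P : Set G) ≤ Subgroup.normalizer (Q : Set G) := by
  intro x hx
  rw [Subgroup.mem_normalizer_iff] at hx ⊢
  intro q
  rw [← hPN, Subgroup.mem_inf, Subgroup.mem_inf]
  constructor
  · rintro ⟨h1, h2⟩
    exact ⟨(hx q).mp h1, hN.conj_mem q h2 x⟩
  · rintro ⟨h1, h2⟩
    refine ⟨(hx q).mpr h1, ?_⟩
    have := hN.conj_mem _ h2 x⁻¹
    simpa [mul_assoc] using this

/-- **Harris–Knörr correspondence.** -/
theorem harris_knorr [Fact p.Prime] (hM : IsPModular p M) (N : Subgroup G)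
    [hN : N.Normal] [Fintype N] {Q : Subgroup G} (hQ : IsPGroup p Q) (hQN : Q ≤ N)
    (H K : Subgroup G) (hH : H = Subgroup.normalizer (Q : Set G))
    (hK : K = Subgroup.normalizer (Q : Set G) ⊓ N) [Fintype H] [Fintype K] (hKH : K ≤ H)
    {d : Set (IrrCharacter N)} (hd : IsPBlock M d)
    (hdQ : IsDefectGroup p M d (Q.subgroupOf N))
    {e : Set (IrrCharacter K)} (he : IsPBlock M e) (heQ : IsDefectGroup p M e (Q.subgroupOf K))
    (hed : IsInducedBlockIn M N K e d) :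
    (∀ c : Set (IrrCharacter H), IsPBlock M c →
      (∃ ψ ∈ c, ∃ ξ ∈ e, classInner (resSub hKH (ψ : H → ℂ)) (ξ : K → ℂ) ≠ 0) →
      ∃! B : Set (IrrCharacter G), IsInducedBlock M H c B ∧
        (∃ χ ∈ B, ∃ θ ∈ d, classInner (fun n : N => (χ : G → ℂ) n) (θ : N → ℂ) ≠ 0)) ∧
    (∀ B : Set (IrrCharacter G), IsPBlock M B →
      (∃ χ ∈ B, ∃ θ ∈ d, classInner (fun n : N => (χ : G → ℂ) n) (θ : N → ℂ) ≠ 0) →
      ∃! c : Set (IrrCharacter H), (IsPBlock M c ∧
        ∃ ψ ∈ c, ∃ ξ ∈ e, classInner (resSub hKH (ψ : H → ℂ)) (ξ : K → ℂ) ≠ 0) ∧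
        IsInducedBlock M H c B) := by
  classical
  haveI hpr := isPrime_of_isPModular hM
  have hKN : K ≤ N := by rw [hK]; exact inf_le_right
  have hQK : Q ≤ K := by rw [hK]; exact le_inf Subgroup.le_normalizer hQN
  have hQH : Q ≤ H := hQK.trans hKH
  have hCH : Subgroup.centralizer (Q : Set G) ≤ H := by
    rw [hH]; exact Subgroup.centralizer_le_normalizer _
  have hHNQ : H ≤ Subgroup.normalizer (Q : Set G) := by rw [hH]
  have hHK : H ≤ Subgroup.normalizer (K : Set G) := by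
    intro h hh
    rw [hH] at hh
    rw [Subgroup.mem_normalizer_iff]
    intro k
    rw [hK, Subgroup.mem_inf, Subgroup.mem_inf]
    constructor
    · rintro ⟨h1, h2⟩
      exact ⟨Subgroup.mul_mem _ (Subgroup.mul_mem _ hh h1) (Subgroup.inv_mem _ hh),
        hN.conj_mem k h2 h⟩
    · rintro ⟨h1, h2⟩
      constructor
      · have := Subgroup.mul_mem _ (Subgroup.mul_mem _ (Subgroup.inv_mem _ hh) h1) hh
        simpa [mul_assoc] using this
      · have := hN.conj_mem _ h2 h⁻¹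
        simpa [mul_assoc] using this
  have hHNK : ∀ g ∈ H, g ∈ N → g ∈ K := by
    intro g hg hgN
    rw [hK]
    rw [hH] at hg
    exact ⟨hg, hgN⟩
  constructor
  · -- (1)
    rintro c hc ⟨ψ, hψ, ξ, hξ, hne⟩
    obtain ⟨B, hind⟩ := exists_isInducedBlock_between hM Q H hQ hQH hCH hHNQ hc
    obtain ⟨χ, hχ⟩ := nonempty_of_isPBlock hind.2.1
    have hω : ∀ θ ∈ d, ∀ a : G → ℂ, IsClassFunction G a → IsRValued M a →
        MemLocalIdeal M (omega (ξ : K → ℂ) (restr K a) - omega (θ : N → ℂ) (restr N a)) :=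
      fun θ hθ a ha haR =>
        omega_restr_congr_of_isInducedBlockIn N K hKN hed hξ hθ (fun n _ g => ha g n) haR
    obtain ⟨θ, hθ, hχθ⟩ := covers_of_isInducedBlock hM N hKH hHNK hHK hind hd hψ hne hω χ hχ
    refine ⟨B, ⟨hind, χ, hχ, θ, hθ, hχθ⟩, ?_⟩
    rintro B' ⟨hind', -⟩
    exact isInducedBlock_unique H hind' hind
  · -- (2)
    rintro B hB ⟨χ₀, hχ₀, θ₀, hθ₀, hcon₀⟩
    obtain ⟨P, hP, hPN⟩ := exists_isDefectGroup_inf_eq hM N hB hd χ₀ hχ₀ θ₀ hθ₀ hcon₀ hQN hdQ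
    have hPp : IsPGroup p P := isPGroup_of_isDefectGroup hP
    have hNP : Subgroup.normalizer (P : Set G) ≤ H := by
      rw [hH]; exact normalizer_le_of_inf_eq N hPN
    have hPH : P ≤ H := Subgroup.le_normalizer.trans hNP
    obtain ⟨c₀, ⟨hc₀, hc₀P, hrel⟩, huniq⟩ := (brauer_corr_over hM P H hPp hNP).1 B hB hP
    obtain ⟨ψ₀, hψ₀⟩ := nonempty_of_isPBlock hc₀
    have hind₀ : IsInducedBlock M H c₀ B :=
      isInducedBlock_of_omega_restr_one hM Q H hQ hQH hCH hHNQ hc₀ hB hψ₀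
        (memLocalIdeal_omega_restr_sub_one hM H hc₀ hPH hc₀P (β := blockCoeff B)
          (isRValued_blockCoeff hB) (fun h _ g => isClassFunction_blockCoeff B g h) hrel hψ₀)
    have hcov₀ := covers_of_isInducedBlock_of_covers hM N hQ hQN H K hH hK hKH hd hdQ he heQ hed
      hind₀ ⟨χ₀, hχ₀, θ₀, hθ₀, hcon₀⟩
    refine ⟨c₀, ⟨⟨hc₀, hcov₀⟩, hind₀⟩, ?_⟩
    rintro c ⟨⟨hc, ψ, hψ, ξ, hξ, hne⟩, hind⟩
    apply huniq
    obtain ⟨Δ, hΔH, hcΔ, hΔK⟩ := knorr_rel hM hKH hHK hc he hψ hξ hne hQK heQ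
    have hΔN : Δ ⊓ N = Q := by
      rw [← hΔK]
      ext x
      rw [Subgroup.mem_inf, Subgroup.mem_inf]
      constructor
      · rintro ⟨h1, h2⟩
        exact ⟨h1, hHNK x (hΔH h1) h2⟩
      · rintro ⟨h1, h2⟩
        exact ⟨h1, hKN h2⟩
    have hΔp : IsPGroup p Δ := by
      have h1 := isPGroup_of_isDefectGroup hcΔ
      have h2 := h1.map H.subtype
      rwa [Subgroup.map_subgroupOf_eq_of_le hΔH] at h2
    have hNΔ : Subgroup.normalizer (Δ : Set G) ≤ H := by
      rw [hH]; exact normalizer_le_of_inf_eq N hΔN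
    obtain ⟨hΔB, hrelΔ⟩ := defect_of_isInducedBlock_rel hM Δ H hΔp hNΔ hcΔ hind
    obtain ⟨g, hg⟩ := exists_conj_eq_of_isDefectGroup hM hB hP hΔB
    have hgH : g ∈ H := by
      rw [hH]
      apply mem_normalizer_of_map_conj_le
      rintro _ ⟨q, hq, rfl⟩
      rw [← hΔN] at hq
      rw [← hPN, ← hg]
      refine ⟨⟨q, hq.1, rfl⟩, ?_⟩
      have := hN.conj_mem q hq.2 g
      simpa [MulAut.conj_apply] using this
    have hcP : IsDefectGroup p M c (P.subgroupOf H) := by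
      have h1 := isDefectGroup_conj hcΔ (⟨g, hgH⟩ : H)
      have heq : (Δ.subgroupOf H).map (MulAut.conj (⟨g, hgH⟩ : H)).toMonoidHom =
          P.subgroupOf H := by
        ext x
        rw [Subgroup.mem_subgroupOf, ← hg]
        constructor
        · rintro ⟨z, hz, rfl⟩
          refine ⟨(z : G), Subgroup.mem_subgroupOf.mp hz, ?_⟩
          simp [MulAut.conj_apply]
        · rintro ⟨z, hz, hzx⟩
          refine ⟨⟨z, hΔH hz⟩, Subgroup.mem_subgroupOf.mpr hz, ?_⟩
          apply Subtype.ext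
          rw [← hzx]
          simp [MulAut.conj_apply]
      rw [heq] at h1
      exact h1
    refine ⟨hc, hcP, ?_⟩
    intro x hx
    have hx' : g⁻¹ * x * g ∈ Subgroup.centralizer (Δ : Set G) := by
      rw [Subgroup.mem_centralizer_iff]
      intro z hz
      have hzP : g * z * g⁻¹ ∈ P := by
        rw [← hg]
        exact ⟨z, hz, by simp [MulAut.conj_apply]⟩
      have h3 := (Subgroup.mem_centralizer_iff.mp hx) _ hzP
      calc z * (g⁻¹ * x * g) = g⁻¹ * ((g * z * g⁻¹) * x) * g := by group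
        _ = g⁻¹ * (x * (g * z * g⁻¹)) * g := by rw [h3]
        _ = g⁻¹ * x * g * z := by group
    have h4 := hrelΔ _ hx'
    have h5 : blockCoeff B (g⁻¹ * x * g) = blockCoeff B x := by
      have := isClassFunction_blockCoeff B x g⁻¹
      rwa [inv_inv] at this
    have h6 : subgroupBlockCoeff H c (g⁻¹ * x * g) = subgroupBlockCoeff H c x := by
      have := subgroupBlockCoeff_conj_of_mem H c g⁻¹ (Subgroup.inv_mem _ hgH) x
      rwa [inv_inv] at this
    rw [h5, h6] at h4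
    exact h4

end hk5

end Cfsg.Agent.Helper77
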