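import Mathlib
import Cfsg.Agent.Lib.Helper53.IPDefs
import Cfsg.Agent.Lib.Helper76.CD2Basic
import Cfsg.Agent.Lib.Helper79.Restrict
import Cfsg.Agent.Lib.Helper79.LinearDeg

/-! IP server (helper53, S4463): piece (P1) `exists_ramified`. -/

set_option autoImplicit false

namespace Cfsg.Agent.Helper77.IP

open Cfsg Cfsg.Agent.Helper53.IP
open scoped ComplexConjugate commutatorElement

universe u

/-- (P1) a nonabelian `p`-group all of whose proper quotients are abelian has a fully ramified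
character. -/
theorem exists_ramified {Q : Type u} [Group Q] [Finite Q] (p : ℕ) (hp : p.Prime)
    (hP : IsPGroup p Q) (hna : ¬ ∀ a b : Q, a * b = b * a)
    (hq : ∀ L : Subgroup Q, L.Normal → L ≠ ⊥ → commutator Q ≤ L) :
    ∃ τ : IrrCharacter Q, 1 < charDegree (τ : Q → ℂ) ∧
      (∀ x : Q, x ∉ Subgroup.center Q → (τ : Q → ℂ) x = 0) ∧
      (∀ z ∈ Subgroup.center Q,
        Complex.normSq ((τ : Q → ℂ) z) = ((charDegree (τ : Q → ℂ) : ℕ) : ℝ) ^ 2) ∧
      (Subgroup.center Q).index = (charDegree (τ : Q → ℂ)) ^ 2 := by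
  classical
  have : Fact p.Prime := ⟨hp⟩
  have : Fintype Q := Fintype.ofFinite Q
  have hnt : Nontrivial Q := by
    by_contra h
    rw [not_nontrivial_iff_subsingleton] at h
    exact hna (fun a b => Subsingleton.elim _ _)
  have hZ : Subgroup.center Q ≠ ⊥ := by
    have h1 : Nontrivial (Subgroup.center Q) := hP.center_nontrivial
    exact (Subgroup.nontrivial_iff_ne_bot _).1 h1
  have hcZ : commutator Q ≤ Subgroup.center Q := hq _ inferInstance hZ
  obtain ⟨τ, hτ⟩ : ∃ τ : IrrCharacter Q, charDegree (τ : Q → ℂ) ≠ 1 := by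
    by_contra h
    push Not at h
    exact hna (Cfsg.Agent.Helper76.CD2.comm_of_all_linear h)
  have hpos := (Cfsg.Agent.Helper79.irr_one_eq τ).2
  have h1 : 1 < charDegree (τ : Q → ℂ) := by omega
  have hker : Cfsg.Agent.Helper79.irrKer τ = ⊥ := by
    by_contra h
    exact hτ ((Cfsg.Agent.Helper79.degree_one_iff τ).2 (hq _ inferInstance h))
  have hvan : ∀ x : Q, x ∉ Subgroup.center Q → (τ : Q → ℂ) x = 0 := by
    intro x hx
    rw [Subgroup.mem_center_iff] at hx
    push Not at hx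
    obtain ⟨y, hy⟩ := hx
    by_contra hne
    have hz : y * x * y⁻¹ * x⁻¹ ∈ Subgroup.center Q := by
      apply hcZ
      have := Subgroup.commutator_mem_commutator (Subgroup.mem_top y) (Subgroup.mem_top x)
      rw [commutatorElement_def] at this
      exact this
    have e1 : (τ : Q → ℂ) (y * x * y⁻¹ * x⁻¹ * x) = (τ : Q → ℂ) x := by
      have : y * x * y⁻¹ * x⁻¹ * x = y * x * y⁻¹ := by group
      rw [this, Cfsg.Agent.Helper79.irr_class]
    have e2 := Cfsg.Agent.Helper79.irr_central_mul τ (y * x * y⁻¹ * x⁻¹) hz x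
    rw [e1] at e2
    have e3 : (τ : Q → ℂ) (y * x * y⁻¹ * x⁻¹) = (τ : Q → ℂ) 1 := by
      apply mul_right_cancel₀ hne
      rw [← e2]
      ring
    have hz1 : y * x * y⁻¹ * x⁻¹ ∈ Cfsg.Agent.Helper79.irrKer τ :=
      (Cfsg.Agent.Helper79.mem_irrKer τ _).2 e3
    rw [hker, Subgroup.mem_bot] at hz1
    apply hy
    have : y * x = (y * x * y⁻¹ * x⁻¹) * (x * y) := by group
    rw [this, hz1, one_mul]
  have hcen : ∀ z ∈ Subgroup.center Q,
      Complex.normSq ((τ : Q → ℂ) z) = ((charDegree (τ : Q → ℂ) : ℕ) : ℝ) ^ 2 := by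
    intro z hz
    exact Cfsg.Agent.Helper79.irr_normSq_central τ z hz
  refine ⟨τ, h1, hvan, hcen, ?_⟩
  have hsum := Cfsg.Agent.Helper79.irr_sum_normSq τ
  have hterm : ∀ g : Q, Complex.normSq ((τ : Q → ℂ) g) =
      if g ∈ Subgroup.center Q then ((charDegree (τ : Q → ℂ) : ℕ) : ℝ) ^ 2 else 0 := by
    intro g
    split_ifs with hg
    · exact hcen g hg
    · rw [hvan g hg, map_zero]
  rw [Finset.sum_congr rfl (fun g _ => hterm g), Finset.sum_ite, Finset.sum_const_zero, add_zero,
    Finset.sum_const, nsmul_eq_mul] at hsum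
  have hcard : (Finset.univ.filter (fun g : Q => g ∈ Subgroup.center Q)).card =
      Nat.card (Subgroup.center Q) := by
    rw [Nat.card_eq_fintype_card, Fintype.card_subtype]
  rw [hcard] at hsum
  have hnat : Nat.card (Subgroup.center Q) * charDegree (τ : Q → ℂ) ^ 2 = Nat.card Q := by
    exact_mod_cast hsum
  have hidx := (Subgroup.center Q).card_mul_index
  have hpos' : 0 < Nat.card (Subgroup.center Q) := Nat.card_pos
  apply Nat.eq_of_mul_eq_mul_left hpos'
  rw [hidx, hnat]

end Cfsg.Agent.Helper77.IP
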