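import Mathlib

/-!
# JPC (J1) for helper35's S4150 server
-/

set_option autoImplicit false

namespace Cfsg.Agent.Helper77.JPC

open Equiv Equiv.Perm MulAction Subgroup

universe u

/-- `ℓ ^ 2 ∤ ℓ !` -/
theorem j1_sq_not_dvd_factorial {ℓ : ℕ} (hℓ : ℓ.Prime) : ¬ ℓ ^ 2 ∣ ℓ.factorial := by
  intro h
  obtain ⟨m, rfl⟩ : ∃ m, ℓ = m + 1 := ⟨ℓ - 1, by have := hℓ.pos; omega⟩
  rw [Nat.factorial_succ, pow_two] at h
  have h1 : (m + 1) ∣ m.factorial := Nat.dvd_of_mul_dvd_mul_left (Nat.succ_pos m) h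
  have h2 := (hℓ.dvd_factorial).1 h1
  omega

/-- (J1) an ℓ-group fixing the complement of an ℓ-cycle's support pointwise and containing the cycle
is `⟨g⟩`. -/
theorem zpowers_cycle_max {Ω : Type u} [Fintype Ω] [DecidableEq Ω] {ℓ : ℕ} (hℓ : ℓ.Prime)
    {g : Perm Ω} (hgc : g.IsCycle) (hgℓ : g.support.card = ℓ)
    (R' : Subgroup (Perm Ω)) (hfix : ∀ r ∈ R', ∀ t, t ∉ g.support → r t = t)
    (hp : IsPGroup ℓ R') (hle : zpowers g ≤ R') : R' ≤ zpowers g := by
  classical
  -- `R'` lies in the image of `Perm g.support`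
  have hR : R' ≤ (ofSubtype : Perm {x // x ∈ g.support} →* Perm Ω).range := by
    intro r hr
    have h2 : ∀ x, r x ≠ x → x ∈ g.support := by
      intro x hx
      by_contra hxs
      exact hx (hfix r hr x hxs)
    have h1 : ∀ x, r x ∈ g.support ↔ x ∈ g.support := by
      intro x
      constructor
      · intro hrx
        by_contra hxs
        rw [hfix r hr x hxs] at hrx
        exact hxs hrx
      · intro hx
        by_contra hrxs
        have e : r (r x) = r x := hfix r hr (r x) hrxs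
        have e' : r x = x := r.injective e
        rw [e'] at hrxs
        exact hrxs hx
    exact ⟨subtypePerm r h1, ofSubtype_subtypePerm h1 h2⟩
  have hcard_range : Nat.card (ofSubtype : Perm {x // x ∈ g.support} →* Perm Ω).range =
      ℓ.factorial := by
    rw [← Nat.card_congr (MonoidHom.ofInjective
      (f := (ofSubtype : Perm {x // x ∈ g.support} →* Perm Ω)) ofSubtype_injective).toEquiv,
      Nat.card_perm, Nat.card_eq_fintype_card, Fintype.card_coe, hgℓ]
  have hdvd : Nat.card R' ∣ ℓ.factorial := by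
    rw [← hcard_range]
    exact Subgroup.card_dvd_of_le hR
  have : Fact ℓ.Prime := ⟨hℓ⟩
  obtain ⟨k, hk⟩ := IsPGroup.exists_card_eq hp
  have hk1 : k ≤ 1 := by
    by_contra hk2
    push Not at hk2
    apply j1_sq_not_dvd_factorial hℓ
    refine dvd_trans ?_ hdvd
    rw [hk]
    exact pow_dvd_pow ℓ hk2
  have hcardR : Nat.card R' ≤ ℓ := by
    rw [hk]
    calc ℓ ^ k ≤ ℓ ^ 1 := Nat.pow_le_pow_right hℓ.pos hk1
      _ = ℓ := pow_one ℓ
  have hcardg : Nat.card (zpowers g) = ℓ := by
    rw [Nat.card_zpowers, hgc.orderOf, hgℓ]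
  have := Subgroup.eq_of_le_of_card_ge hle (by rw [hcardg]; exact hcardR)
  rw [this]

end Cfsg.Agent.Helper77.JPC
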