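import Mathlib

/-!
# JPC (J3) for helper35's S4150 server
-/

set_option autoImplicit false

namespace Cfsg.Agent.Helper77.JPC

open Equiv Equiv.Perm MulAction Subgroup

universe u

/-- (J3) `c` commutes with the ℓ-cycle `g` and induces the 3-cycle `(a b d)` outside `g.support`:
`c ^ ℓ` is a 3-cycle. -/
theorem isThreeCycle_pow_of_commute {Ω : Type u} [Fintype Ω] [DecidableEq Ω] {ℓ : ℕ}
    (hℓ : ℓ.Prime) (hℓ3 : ℓ ≠ 3) {g c : Perm Ω} (hgc : g.IsCycle) (hgℓ : g.support.card = ℓ)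
    (hcomm : Commute c g) {a b d : Ω} (ha : a ∉ g.support) (hb : b ∉ g.support)
    (hd : d ∉ g.support) (hab : a ≠ b) (hbd : b ≠ d) (had : a ≠ d)
    (hca : c a = b) (hcb : c b = d) (hcd : c d = a)
    (hfix : ∀ t, t ∉ g.support → t ≠ a → t ≠ b → t ≠ d → c t = t) :
    (c ^ ℓ).IsThreeCycle := by
  classical
  set τ : Perm Ω := swap a b * swap b d with hτ
  have hτ3 : τ.IsThreeCycle := by
    rw [hτ, swap_comm a b]
    exact isThreeCycle_swap_mul_swap_same hab.symm hbd had
  have hτa : τ a = b := by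
    rw [hτ, mul_apply, swap_apply_of_ne_of_ne hab had, swap_apply_left]
  have hτb : τ b = d := by
    rw [hτ, mul_apply, swap_apply_left, swap_apply_of_ne_of_ne had.symm hbd.symm]
  have hτd : τ d = a := by
    rw [hτ, mul_apply, swap_apply_right, swap_apply_right]
  have hτo : ∀ t, t ≠ a → t ≠ b → t ≠ d → τ t = t := by
    intro t h1 h2 h3
    rw [hτ, mul_apply, swap_apply_of_ne_of_ne h2 h3, swap_apply_of_ne_of_ne h1 h2]
  have hτsupp : ∀ t, t ∈ g.support → τ t = t := by
    intro t ht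
    apply hτo t
    · rintro rfl; exact ha ht
    · rintro rfl; exact hb ht
    · rintro rfl; exact hd ht
  have hτg : Commute τ g := by
    apply Disjoint.commute
    intro t
    by_cases ht : t ∈ g.support
    · left; exact hτsupp t ht
    · right; exact notMem_support.1 ht
  -- `c` acts on `g.support` as a power of `g`
  obtain ⟨hc', i, hi⟩ := (hgc.commute_iff).1 hcomm
  have hi' : g ^ i = ofSubtype (subtypePerm c hc') := hi
  have hgi_out : ∀ t, t ∉ g.support → (g ^ i) t = t := by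
    intro t ht
    rw [hi']
    exact ofSubtype_apply_of_not_mem _ ht
  have hgi_in : ∀ t, t ∈ g.support → (g ^ i) t = c t := by
    intro t ht
    rw [hi']
    exact ofSubtype_subtypePerm_of_mem hc' ht
  have hc_eq : c = g ^ i * τ := by
    ext t
    rw [mul_apply]
    by_cases ht : t ∈ g.support
    · rw [hτsupp t ht, hgi_in t ht]
    · by_cases h1 : t = a
      · rw [h1, hτa, hca, hgi_out b hb]
      by_cases h2 : t = b
      · rw [h2, hτb, hcb, hgi_out d hd]
      by_cases h3 : t = d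
      · rw [h3, hτd, hcd, hgi_out a ha]
      rw [hτo t h1 h2 h3, hfix t ht h1 h2 h3, hgi_out t ht]
  have hgo : orderOf g = ℓ := by rw [hgc.orderOf, hgℓ]
  have hgiℓ : (g ^ i) ^ ℓ = 1 := by
    rw [← zpow_natCast, ← zpow_mul, mul_comm, zpow_mul, zpow_natCast]
    conv_lhs => rw [← hgo]
    rw [pow_orderOf_eq_one, one_zpow]
  have hcomm2 : Commute (g ^ i) τ := (hτg.symm).zpow_left i
  have hcℓ : c ^ ℓ = τ ^ ℓ := by
    rw [hc_eq, hcomm2.mul_pow, hgiℓ, one_mul]
  rw [hcℓ]
  have hτo3 : orderOf τ = 3 := hτ3.orderOf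
  have hmod : τ ^ ℓ = τ ^ (ℓ % 3) := by
    conv_rhs => rw [← hτo3]
    exact (pow_mod_orderOf τ ℓ).symm
  rw [hmod]
  have h3 : ℓ % 3 = 0 ∨ ℓ % 3 = 1 ∨ ℓ % 3 = 2 := by omega
  rcases h3 with h | h | h
  · exfalso
    have hdvd : 3 ∣ ℓ := Nat.dvd_of_mod_eq_zero h
    have := (Nat.prime_dvd_prime_iff_eq Nat.prime_three hℓ).1 hdvd
    exact hℓ3 this.symm
  · rw [h, pow_one]; exact hτ3
  · rw [h, pow_two]; exact hτ3.isThreeCycle_sq

end Cfsg.Agent.Helper77.JPC
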