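import Mathlib
import Cfsg.Agent.Lib.Helper3.CharOrtho
import Cfsg.Agent.Lib.Helper3.CharArtin
import Cfsg.Agent.Lib.Helper3.CharDecomp
import Cfsg.Agent.Lib.Helper79.Linear

set_option autoImplicit false

/-! Weighted Parseval inequalities for integral combinations of linear characters of finite
abelian groups (towards Knörr's abelian-stabilizer criterion for `k(GV)`). -/

namespace Cfsg.Agent.Helper77.KGV

open scoped ComplexConjugate

universe u

/-- all Fourier coefficients are integers -/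
def IsZChar (B : Type u) [Group B] [Fintype B] (f : B → ℂ) : Prop :=
  ∀ χ : Cfsg.IrrCharacter B, ∃ n : ℤ, Cfsg.classInner f (χ : B → ℂ) = (n : ℂ)

/-- the weighted inequality `|B|^2 ≤ ∑ w |f|^2` for all nonzero integral combinations -/
def KProp (B : Type u) [Group B] [Fintype B] (w : B → ℝ) : Prop :=
  ∀ f : B → ℂ, IsZChar B f → f ≠ 0 →
    (Nat.card B : ℝ) ^ 2 ≤ ∑ b, w b * Complex.normSq (f b)

section Basic

variable {B : Type u} [Group B] [Fintype B]

theorem IsZChar.sub {f g : B → ℂ} (hf : IsZChar B f) (hg : IsZChar B g) : IsZChar B (f - g) := by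
  intro χ
  obtain ⟨n, hn⟩ := hf χ
  obtain ⟨m, hm⟩ := hg χ
  refine ⟨n - m, ?_⟩
  rw [Cfsg.Agent.Helper3.classInner_sub_left, hn, hm]
  push_cast; ring

theorem isZChar_of_isCharacter {f : B → ℂ} (hf : Cfsg.IsCharacter B f) : IsZChar B f := by
  intro χ
  obtain ⟨m, hm⟩ := Cfsg.Agent.Helper3.classInner_isCharacter_nat hf
    (Cfsg.Agent.Helper3.isCharacter_of_isIrrCharacter χ.2)
  exact ⟨m, by rw [hm]; push_cast; rfl⟩

theorem KProp.mono {w w' : B → ℝ} (hK : KProp B w) (h : ∀ b, w b ≤ w' b) : KProp B w' := by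
  intro f hf hne
  refine le_trans (hK f hf hne) ?_
  apply Finset.sum_le_sum
  intro b _
  exact mul_le_mul_of_nonneg_right (h b) (Complex.normSq_nonneg _)

end Basic

section Identity

theorem sum_normSq_sub {I : Type*} [Fintype I] (z : I → ℂ) :
    ∑ a, ∑ a', Complex.normSq (z a - z a') =
      2 * ((Fintype.card I : ℝ) * ∑ a, Complex.normSq (z a) - Complex.normSq (∑ a, z a)) := by
  have h1 : ∀ a a', Complex.normSq (z a - z a') =
      Complex.normSq (z a) + Complex.normSq (z a') - 2 * (z a * conj (z a')).re := by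
    intro a a'
    rw [Complex.normSq_sub]
  simp_rw [h1]
  have h2 : Complex.normSq (∑ a, z a) = ∑ a, ∑ a', (z a * conj (z a')).re := by
    have : ((Complex.normSq (∑ a, z a) : ℝ) : ℂ) = (∑ a, z a) * conj (∑ a, z a) := by
      rw [Complex.mul_conj]
    have h3 : Complex.normSq (∑ a, z a) = ((∑ a, z a) * conj (∑ a, z a)).re := by
      rw [← this, Complex.ofReal_re]
    rw [h3, map_sum, Finset.sum_mul, Complex.re_sum]
    apply Finset.sum_congr rfl
    intro a _
    rw [Finset.mul_sum, Complex.re_sum]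
  rw [h2]
  simp only [Finset.sum_sub_distrib, Finset.sum_add_distrib, Finset.sum_const, Finset.card_univ,
    nsmul_eq_mul, ← Finset.mul_sum]
  ring

end Identity

section Pairs

variable {B : Type u} [Group B] [Fintype B]

omit [Group B] in
theorem kprop_nonneg_sum (w : B → ℝ) (hw : ∀ b, 0 ≤ w b) (f : B → ℂ) :
    0 ≤ ∑ b, w b * Complex.normSq (f b) :=
  Finset.sum_nonneg fun b _ => mul_nonneg (hw b) (Complex.normSq_nonneg _)

theorem pairs_bound {I : Type*} [Fintype I] [DecidableEq I] (w : B → ℝ) (hw : ∀ b, 0 ≤ w b)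
    (hK : KProp B w) (f : I → B → ℂ) (hf : ∀ a, IsZChar B (f a)) (S : Finset I)
    (hS : ∀ a ∈ S, ∀ a' ∉ S, f a ≠ f a') :
    (S.card : ℝ) * ((Fintype.card I : ℝ) - S.card) * (Nat.card B : ℝ) ^ 2 ≤
      ∑ b, w b * ((Fintype.card I : ℝ) * ∑ a, Complex.normSq (f a b)
        - Complex.normSq (∑ a, f a b)) := by
  classical
  set N : ℝ := (Nat.card B : ℝ) ^ 2 with hN
  set Y : I → I → ℝ := fun a a' => ∑ b, w b * Complex.normSq ((f a - f a') b) with hY
  have hY0 : ∀ a a', 0 ≤ Y a a' := fun a a' => kprop_nonneg_sum w hw _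
  have hY1 : ∀ a a', f a ≠ f a' → N ≤ Y a a' := by
    intro a a' hne
    exact hK (f a - f a') ((hf a).sub (hf a')) (sub_ne_zero.mpr hne)
  have hrhs : ∑ b, w b * ((Fintype.card I : ℝ) * ∑ a, Complex.normSq (f a b)
        - Complex.normSq (∑ a, f a b)) = (1 / 2) * ∑ a, ∑ a', Y a a' := by
    have h1 : ∀ b, (Fintype.card I : ℝ) * ∑ a, Complex.normSq (f a b)
        - Complex.normSq (∑ a, f a b) = (1 / 2) * ∑ a, ∑ a', Complex.normSq (f a b - f a' b) := by
      intro b
      rw [sum_normSq_sub (fun a => f a b)]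
      ring
    have h3 : ∑ a, ∑ a', Y a a' = ∑ b, w b * ∑ a, ∑ a', Complex.normSq (f a b - f a' b) := by
      simp only [hY, Pi.sub_apply]
      calc ∑ a, ∑ a', ∑ b, w b * Complex.normSq (f a b - f a' b)
          = ∑ a, ∑ b, ∑ a', w b * Complex.normSq (f a b - f a' b) :=
            Finset.sum_congr rfl fun a _ => Finset.sum_comm
        _ = ∑ b, ∑ a, ∑ a', w b * Complex.normSq (f a b - f a' b) := Finset.sum_comm
        _ = ∑ b, w b * ∑ a, ∑ a', Complex.normSq (f a b - f a' b) := by
            simp only [Finset.mul_sum]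
    rw [h3, Finset.mul_sum]
    apply Finset.sum_congr rfl
    intro b _
    rw [h1 b]
    ring
  rw [hrhs]
  -- termwise lower bound
  have hterm : ∀ a a', (if (a ∈ S ∧ a' ∉ S) ∨ (a ∉ S ∧ a' ∈ S) then N else 0) ≤ Y a a' := by
    intro a a'
    split_ifs with h
    · rcases h with ⟨h1, h2⟩ | ⟨h1, h2⟩
      · exact hY1 a a' (hS a h1 a' h2)
      · exact hY1 a a' (fun h => hS a' h2 a h1 h.symm)
    · exact hY0 a a'
  have hcount : ∑ a, ∑ a', (if (a ∈ S ∧ a' ∉ S) ∨ (a ∉ S ∧ a' ∈ S) then N else 0)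
      = 2 * ((S.card : ℝ) * ((Fintype.card I : ℝ) - S.card) * N) := by
    have h1 : ∀ a, ∑ a', (if (a ∈ S ∧ a' ∉ S) ∨ (a ∉ S ∧ a' ∈ S) then N else 0)
        = if a ∈ S then ((Fintype.card I : ℝ) - S.card) * N else (S.card : ℝ) * N := by
      intro a
      by_cases ha : a ∈ S
      · simp only [ha, true_and, not_true_eq_false, false_and, or_false, if_true]
        rw [← Finset.sum_filter, Finset.sum_const, nsmul_eq_mul]
        congr 1
        have : (Finset.univ.filter fun a' => a' ∉ S) = Sᶜ := by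
          ext x; simp
        rw [this, Finset.card_compl, Nat.cast_sub (Finset.card_le_univ S)]
      · simp only [ha, false_and, not_false_eq_true, true_and, false_or, if_false]
        rw [← Finset.sum_filter, Finset.sum_const, nsmul_eq_mul]
        congr 1
        have : (Finset.univ.filter fun a' => a' ∈ S) = S := by
          ext x; simp
        rw [this]
    simp_rw [h1]
    rw [Finset.sum_ite, Finset.sum_const, Finset.sum_const, nsmul_eq_mul, nsmul_eq_mul]
    have e1 : (Finset.univ.filter fun a => a ∈ S) = S := by ext x; simp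
    have e2 : (Finset.univ.filter fun a => a ∉ S) = Sᶜ := by ext x; simp
    rw [e1, e2, Finset.card_compl, Nat.cast_sub (Finset.card_le_univ S)]
    ring
  have hle : ∑ a, ∑ a', (if (a ∈ S ∧ a' ∉ S) ∨ (a ∉ S ∧ a' ∈ S) then N else 0)
      ≤ ∑ a, ∑ a', Y a a' :=
    Finset.sum_le_sum fun a _ => Finset.sum_le_sum fun a' _ => hterm a a'
  rw [hcount] at hle
  linarith

end Pairs

end Cfsg.Agent.Helper77.KGV
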