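import Mathlib
import Cfsg.Agent.Lib.Helper77.KGV1

set_option autoImplicit false
set_option linter.unusedSectionVars false

/-! Fourier slices on a product of finite abelian groups; the product lemma for `KProp`. -/

namespace Cfsg.Agent.Helper77.KGV

open scoped ComplexConjugate

universe u

section Abelian

variable {A : Type u} [CommGroup A] [Fintype A]

theorem irr_hom (α : Cfsg.IrrCharacter A) :
    ∃ lam : A →* ℂˣ, (α : A → ℂ) = fun a => ((lam a : ℂˣ) : ℂ) :=
  Cfsg.Agent.Helper3.irr_abelian_hom mul_comm _ α.2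

theorem irr_one (α : Cfsg.IrrCharacter A) : (α : A → ℂ) 1 = 1 := by
  obtain ⟨lam, h⟩ := irr_hom α
  rw [h]; simp

theorem isClassFunction_comm (f : A → ℂ) : Cfsg.IsClassFunction A f := by
  intro g h
  rw [mul_inv_cancel_comm]

theorem col_orth [DecidableEq A] (a a' : A) :
    ∑ α : Cfsg.IrrCharacter A, (α : A → ℂ) a * conj ((α : A → ℂ) a')
      = if a = a' then (Nat.card A : ℂ) else 0 := by
  rw [Cfsg.Agent.Helper3.column_orthogonality]
  by_cases h : a = a'
  · subst h
    rw [if_pos (IsConj.refl a), if_pos rfl]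
    have : Subgroup.centralizer ({a} : Set A) = ⊤ := by
      ext x
      simp [Subgroup.mem_centralizer_iff, mul_comm]
    rw [this, Subgroup.card_top]
  · rw [if_neg h, if_neg]
    rw [isConj_iff_eq]
    exact h

theorem card_irr : Nat.card (Cfsg.IrrCharacter A) = Nat.card A := by
  rw [Cfsg.Agent.Helper3.card_irr_eq_card_conjClasses]
  exact (Nat.card_congr (ConjClasses.mkEquiv (α := A))).symm

theorem card_irr' : Fintype.card (Cfsg.IrrCharacter A) = Nat.card A := by
  rw [← Nat.card_eq_fintype_card, card_irr]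

/-- Fourier coefficient -/
noncomputable def coef (F : A → ℂ) (α : A → ℂ) : ℂ :=
  (Nat.card A : ℂ)⁻¹ * ∑ a, F a * conj (α a)

theorem card_ne_zero' : (Nat.card A : ℂ) ≠ 0 := by
  have : 0 < Nat.card A := Nat.card_pos
  exact_mod_cast this.ne'

theorem coef_inversion (F : A → ℂ) (a : A) :
    F a = ∑ α : Cfsg.IrrCharacter A, (α : A → ℂ) a * coef F (α : A → ℂ) := by
  classical
  unfold coef
  calc F a = (Nat.card A : ℂ)⁻¹ * ∑ a', F a' * (if a = a' then (Nat.card A : ℂ) else 0) := by
        simp only [mul_ite, mul_zero, Finset.sum_ite_eq, Finset.mem_univ, if_true]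
        field_simp [card_ne_zero' (A := A)]
    _ = (Nat.card A : ℂ)⁻¹ * ∑ a', F a' *
          ∑ α : Cfsg.IrrCharacter A, (α : A → ℂ) a * conj ((α : A → ℂ) a') := by
        simp only [col_orth]
    _ = ∑ α : Cfsg.IrrCharacter A, (α : A → ℂ) a *
          ((Nat.card A : ℂ)⁻¹ * ∑ a', F a' * conj ((α : A → ℂ) a')) := by
        simp only [Finset.mul_sum]
        rw [Finset.sum_comm]
        apply Finset.sum_congr rfl
        intro α _
        apply Finset.sum_congr rfl
        intro a' _
        ring

theorem coef_parseval_complex (F : A → ℂ) :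
    ∑ a, F a * conj (F a) = (Nat.card A : ℂ) *
      ∑ α : Cfsg.IrrCharacter A, coef F (α : A → ℂ) * conj (coef F (α : A → ℂ)) := by
  classical
  have h1 : ∀ α : Cfsg.IrrCharacter A, coef F (α : A → ℂ) * conj (coef F (α : A → ℂ))
      = (Nat.card A : ℂ)⁻¹ * (Nat.card A : ℂ)⁻¹ * ∑ a, ∑ a', F a * conj (F a') *
          ((α : A → ℂ) a' * conj ((α : A → ℂ) a)) := by
    intro α
    unfold coef
    rw [map_mul, map_inv₀, Complex.conj_natCast, map_sum]
    simp only [map_mul, Complex.conj_conj]
    rw [mul_mul_mul_comm, Finset.sum_mul_sum]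
    congr 1
    apply Finset.sum_congr rfl
    intro a _
    apply Finset.sum_congr rfl
    intro a' _
    ring
  simp_rw [h1]
  rw [← Finset.mul_sum]
  have h2 : ∑ α : Cfsg.IrrCharacter A, ∑ a, ∑ a', F a * conj (F a') *
          ((α : A → ℂ) a' * conj ((α : A → ℂ) a))
      = ∑ a, ∑ a', F a * conj (F a') * (if a' = a then (Nat.card A : ℂ) else 0) := by
    rw [Finset.sum_comm]
    apply Finset.sum_congr rfl
    intro a _
    rw [Finset.sum_comm]
    apply Finset.sum_congr rfl
    intro a' _
    rw [← Finset.mul_sum, col_orth]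
  rw [h2]
  simp only [mul_ite, mul_zero, Finset.sum_ite_eq', Finset.mem_univ, if_true]
  rw [← Finset.sum_mul]
  field_simp [card_ne_zero' (A := A)]

theorem coef_parseval (F : A → ℂ) :
    ∑ a, Complex.normSq (F a) = (Nat.card A : ℝ) *
      ∑ α : Cfsg.IrrCharacter A, Complex.normSq (coef F (α : A → ℂ)) := by
  have h := coef_parseval_complex F
  simp only [Complex.mul_conj] at h
  apply Complex.ofReal_injective
  push_cast
  exact h

theorem coef_sum_eq (F : A → ℂ) :
    F 1 = ∑ α : Cfsg.IrrCharacter A, coef F (α : A → ℂ) := by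
  rw [coef_inversion F 1]
  apply Finset.sum_congr rfl
  intro α _
  rw [irr_one, one_mul]

/-- a weighted sum in terms of Fourier coefficients -/
theorem weighted_sum [DecidableEq A] (F : A → ℂ) (x y : ℝ) :
    ∑ a, (if a = 1 then x else y) * Complex.normSq (F a)
      = y * ((Nat.card A : ℝ) * ∑ α : Cfsg.IrrCharacter A, Complex.normSq (coef F (α : A → ℂ)))
        + (x - y) * Complex.normSq (∑ α : Cfsg.IrrCharacter A, coef F (α : A → ℂ)) := by
  rw [← coef_parseval, ← coef_sum_eq]
  have h1 : ∀ a : A, (if a = 1 then x else y) * Complex.normSq (F a)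
      = y * Complex.normSq (F a) + (if a = 1 then (x - y) * Complex.normSq (F a) else 0) := by
    intro a
    split_ifs <;> ring
  simp_rw [h1]
  rw [Finset.sum_add_distrib, Finset.sum_ite_eq', if_pos (Finset.mem_univ _), Finset.mul_sum]

/-- the value at `1` of an integral combination is an integer -/
theorem IsZChar.apply_one {g : A → ℂ} (hg : IsZChar A g) : ∃ m : ℤ, g 1 = (m : ℂ) := by
  classical
  have h := Cfsg.Agent.Helper3.classFunction_eq_sum g (isClassFunction_comm g)
  choose n hn using hg
  refine ⟨∑ β : Cfsg.IrrCharacter A, n β, ?_⟩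
  have h2 := congrFun h 1
  rw [h2, Finset.sum_apply]
  push_cast
  apply Finset.sum_congr rfl
  intro β _
  rw [Pi.smul_apply, smul_eq_mul, irr_one, mul_one, hn]

end Abelian

end Cfsg.Agent.Helper77.KGV
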