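import Mathlib
import Cfsg.Agent.Lib.Helper77.KGV2

set_option autoImplicit false
set_option linter.unusedSectionVars false

/-! Slices on a product of finite abelian groups; the product lemma and transfer for `KProp`. -/

namespace Cfsg.Agent.Helper77.KGV

open scoped ComplexConjugate

universe u v

section Slices

variable {A : Type v} {B : Type u} [CommGroup A] [Fintype A] [CommGroup B] [Fintype B]

/-- the slices of a function on `A × B` along the characters of `A` -/
noncomputable def slice (f : A × B → ℂ) (α : A → ℂ) : B → ℂ :=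
  fun b => coef (fun a => f (a, b)) α

/-- product of two linear characters -/
noncomputable def prodChar (α : Cfsg.IrrCharacter A) (β : Cfsg.IrrCharacter B) :
    Cfsg.IrrCharacter (A × B) :=
  Cfsg.Agent.Helper79.linChar
    (((irr_hom α).choose.comp (MonoidHom.fst A B)) * ((irr_hom β).choose.comp (MonoidHom.snd A B)))

theorem prodChar_apply (α : Cfsg.IrrCharacter A) (β : Cfsg.IrrCharacter B) (a : A) (b : B) :
    (prodChar α β : A × B → ℂ) (a, b) = (α : A → ℂ) a * (β : B → ℂ) b := by
  unfold prodChar
  rw [Cfsg.Agent.Helper79.linChar_apply]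
  have h1 := congrFun (irr_hom α).choose_spec a
  have h2 := congrFun (irr_hom β).choose_spec b
  rw [h1, h2]
  simp

theorem isZChar_slice {f : A × B → ℂ} (hf : IsZChar (A × B) f) (α : Cfsg.IrrCharacter A) :
    IsZChar B (slice f (α : A → ℂ)) := by
  intro β
  obtain ⟨n, hn⟩ := hf (prodChar α β)
  refine ⟨n, ?_⟩
  rw [← hn]
  unfold Cfsg.classInner slice coef
  rw [Nat.card_prod, Fintype.sum_prod_type, Finset.sum_comm]
  push_cast
  rw [mul_inv, Finset.mul_sum, Finset.mul_sum]
  apply Finset.sum_congr rfl
  intro b _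
  simp only [prodChar_apply, map_mul, Finset.mul_sum, Finset.sum_mul]
  apply Finset.sum_congr rfl
  intro a _
  ring

theorem exists_slice_ne_zero {f : A × B → ℂ} (hf : f ≠ 0) :
    ∃ α : Cfsg.IrrCharacter A, slice f (α : A → ℂ) ≠ 0 := by
  by_contra h
  push Not at h
  apply hf
  funext ⟨a, b⟩
  have := coef_inversion (fun a => f (a, b)) a
  rw [this]
  apply Finset.sum_eq_zero
  intro α _
  have h2 := congrFun (h α) b
  unfold slice at h2
  rw [h2]
  simp

end Slices

section Product

variable {A : Type v} {B : Type u} [CommGroup A] [Fintype A] [CommGroup B] [Fintype B]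

/-- core estimate: weighted sum over `A × B` with weights `x` at `a = 1` and `y` elsewhere -/
theorem weighted_prod_sum [DecidableEq A] (w : B → ℝ) (f : A × B → ℂ) (x y : ℝ) :
    ∑ p : A × B, ((if p.1 = 1 then x else y) * w p.2) * Complex.normSq (f p)
      = y * ∑ b, w b * ((Nat.card A : ℝ) *
            ∑ α : Cfsg.IrrCharacter A, Complex.normSq (slice f (α : A → ℂ) b))
        + (x - y) * ∑ b, w b *
            Complex.normSq (∑ α : Cfsg.IrrCharacter A, slice f (α : A → ℂ) b) := by
  rw [Fintype.sum_prod_type, Finset.sum_comm, Finset.mul_sum, Finset.mul_sum,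
    ← Finset.sum_add_distrib]
  apply Finset.sum_congr rfl
  intro b _
  have h := weighted_sum (fun a => f (a, b)) x y
  have h2 : ∑ a, ((if a = 1 then x else y) * w b) * Complex.normSq (f (a, b))
      = w b * ∑ a, (if a = 1 then x else y) * Complex.normSq (f (a, b)) := by
    rw [Finset.mul_sum]
    apply Finset.sum_congr rfl
    intro a _
    ring
  rw [h2, h]
  unfold slice
  ring

theorem kprop_prod [DecidableEq A] (w : B → ℝ) (hw : ∀ b, 0 ≤ w b) (hK : KProp B w) :
    KProp (A × B) (fun p => (if p.1 = 1 then 1 else 1 + (Nat.card A : ℝ)) * w p.2) := by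
  classical
  intro f hf hne
  rw [weighted_prod_sum w f 1 (1 + (Nat.card A : ℝ))]
  set e : ℝ := (Nat.card A : ℝ) with he
  set N : ℝ := (Nat.card B : ℝ) ^ 2 with hN
  set s : Cfsg.IrrCharacter A → B → ℂ := fun α => slice f (α : A → ℂ) with hs
  have hsZ : ∀ α, IsZChar B (s α) := fun α => isZChar_slice hf α
  set S : Finset (Cfsg.IrrCharacter A) := Finset.univ.filter fun α => s α ≠ 0 with hS
  have hSne : S.Nonempty := by
    obtain ⟨α, hα⟩ := exists_slice_ne_zero (A := A) hne
    exact ⟨α, by rw [hS, Finset.mem_filter]; exact ⟨Finset.mem_univ _, hα⟩⟩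
  have hS1 : (1 : ℝ) ≤ S.card := by exact_mod_cast hSne.card_pos
  have hcard : (Fintype.card (Cfsg.IrrCharacter A) : ℝ) = e := by rw [card_irr']
  have hS2 : (S.card : ℝ) ≤ e := by
    rw [← hcard]; exact_mod_cast Finset.card_le_univ S
  have hpairs := pairs_bound w hw hK s hsZ S (by
    intro a ha a' ha'
    rw [hS, Finset.mem_filter] at ha ha'
    have h1 : s a' = 0 := by
      by_contra h; exact ha' ⟨Finset.mem_univ _, h⟩
    rw [h1]; exact ha.2)
  rw [hcard] at hpairs
  -- first part
  have hfirst : (S.card : ℝ) * N ≤ ∑ b, w b * ∑ α : Cfsg.IrrCharacter A, Complex.normSq (s α b) := by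
    have h1 : ∑ b, w b * ∑ α : Cfsg.IrrCharacter A, Complex.normSq (s α b)
        = ∑ α : Cfsg.IrrCharacter A, ∑ b, w b * Complex.normSq (s α b) := by
      simp only [Finset.mul_sum]
      exact Finset.sum_comm
    rw [h1]
    have h2 : ∀ α : Cfsg.IrrCharacter A, (if α ∈ S then N else 0)
        ≤ ∑ b, w b * Complex.normSq (s α b) := by
      intro α
      split_ifs with h
      · rw [hS, Finset.mem_filter] at h
        exact hK (s α) (hsZ α) h.2
      · exact kprop_nonneg_sum w hw _
    have h3 : ∑ α : Cfsg.IrrCharacter A, (if α ∈ S then N else 0) = (S.card : ℝ) * N := by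
      rw [Finset.sum_ite_mem, Finset.univ_inter, Finset.sum_const, nsmul_eq_mul]
    rw [← h3]
    exact Finset.sum_le_sum fun α _ => h2 α
  have e0 : 0 ≤ e := by positivity
  have hcardAB : (Nat.card (A × B) : ℝ) ^ 2 = e * e * N := by
    rw [Nat.card_prod]; push_cast; ring
  rw [hcardAB]
  have hexp : (1 + e) * ∑ b, w b * (e * ∑ α : Cfsg.IrrCharacter A, Complex.normSq (s α b))
      + (1 - (1 + e)) * ∑ b, w b * Complex.normSq (∑ α : Cfsg.IrrCharacter A, s α b)
      = e * (∑ b, w b * ∑ α : Cfsg.IrrCharacter A, Complex.normSq (s α b))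
        + e * ∑ b, w b * (e * ∑ α : Cfsg.IrrCharacter A, Complex.normSq (s α b)
            - Complex.normSq (∑ α : Cfsg.IrrCharacter A, s α b)) := by
    simp only [mul_sub, Finset.sum_sub_distrib, Finset.mul_sum]
    have : ∀ b, w b * (e * ∑ α : Cfsg.IrrCharacter A, Complex.normSq (s α b))
        = e * (w b * ∑ α : Cfsg.IrrCharacter A, Complex.normSq (s α b)) := fun b => by ring
    simp only [← Finset.mul_sum]
    simp only [this, ← Finset.mul_sum]
    ring
  rw [hexp]
  have hN0 : 0 ≤ N := by positivity
  have hkey : e * N ≤ (S.card : ℝ) * N + (S.card : ℝ) * (e - S.card) * N := by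
    have : 0 ≤ ((S.card : ℝ) - 1) * (e - S.card) := mul_nonneg (by linarith) (by linarith)
    nlinarith
  nlinarith

end Product

end Cfsg.Agent.Helper77.KGV
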