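import Mathlib
import Cfsg.Agent.Lib.Helper77.KGV3

set_option autoImplicit false
set_option linter.unusedSectionVars false

/-! Lower bound for the punctured weighted sum, transfer of `KProp` along injections, base case. -/

namespace Cfsg.Agent.Helper77.KGV

open scoped ComplexConjugate

universe u v

section Lower

variable {A : Type v} {B : Type u} [CommGroup A] [Fintype A] [CommGroup B] [Fintype B]

/-- if not all slices are equal, the punctured weighted sum is at least `(|A| - 1) |B|^2` -/
theorem main_lower [DecidableEq A] (w : B → ℝ) (hw : ∀ b, 0 ≤ w b) (hK : KProp B w)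
    (f : A × B → ℂ) (hf : IsZChar (A × B) f)
    (α₀ α₁ : Cfsg.IrrCharacter A) (hne : slice f (α₀ : A → ℂ) ≠ slice f (α₁ : A → ℂ)) :
    ((Nat.card A : ℝ) - 1) * (Nat.card B : ℝ) ^ 2 ≤
      ∑ p : A × B, ((if p.1 = 1 then 0 else 1) * w p.2) * Complex.normSq (f p) := by
  classical
  rw [weighted_prod_sum w f 0 1]
  set e : ℝ := (Nat.card A : ℝ) with he
  set N : ℝ := (Nat.card B : ℝ) ^ 2 with hN
  set s : Cfsg.IrrCharacter A → B → ℂ := fun α => slice f (α : A → ℂ) with hs
  have hsZ : ∀ α, IsZChar B (s α) := fun α => isZChar_slice hf α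
  set S : Finset (Cfsg.IrrCharacter A) := Finset.univ.filter fun α => s α = s α₀ with hS
  have h0 : α₀ ∈ S := by rw [hS, Finset.mem_filter]; exact ⟨Finset.mem_univ _, rfl⟩
  have h1 : α₁ ∉ S := by
    rw [hS, Finset.mem_filter]
    rintro ⟨-, h⟩
    exact hne h.symm
  have hS1 : (1 : ℝ) ≤ S.card := by exact_mod_cast (Finset.card_pos.mpr ⟨α₀, h0⟩)
  have hcard : (Fintype.card (Cfsg.IrrCharacter A) : ℝ) = e := by rw [card_irr']
  have hS2 : (S.card : ℝ) + 1 ≤ e := by
    rw [← hcard]
    have : S.card < Fintype.card (Cfsg.IrrCharacter A) := by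
      rw [← Finset.card_univ]
      apply Finset.card_lt_card
      rw [Finset.ssubset_iff_of_subset (Finset.subset_univ S)]
      exact ⟨α₁, Finset.mem_univ _, h1⟩
    exact_mod_cast this
  have hpairs := pairs_bound w hw hK s hsZ S (by
    intro a ha a' ha'
    rw [hS, Finset.mem_filter] at ha ha'
    intro h
    apply ha'
    exact ⟨Finset.mem_univ _, by rw [← h]; exact ha.2⟩)
  rw [hcard] at hpairs
  have hexp : (1 : ℝ) * ∑ b, w b * (e * ∑ α : Cfsg.IrrCharacter A, Complex.normSq (s α b))
      + (0 - 1) * ∑ b, w b * Complex.normSq (∑ α : Cfsg.IrrCharacter A, s α b)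
      = ∑ b, w b * (e * ∑ α : Cfsg.IrrCharacter A, Complex.normSq (s α b)
            - Complex.normSq (∑ α : Cfsg.IrrCharacter A, s α b)) := by
    simp only [mul_sub, Finset.sum_sub_distrib]
    ring
  rw [hexp]
  have hN0 : 0 ≤ N := by positivity
  have hkey : (e - 1) * N ≤ (S.card : ℝ) * (e - S.card) * N := by
    have : 0 ≤ ((S.card : ℝ) - 1) * (e - 1 - S.card) := mul_nonneg (by linarith) (by linarith)
    nlinarith
  linarith

end Lower

section Transfer

variable {C A : Type u} [CommGroup C] [Fintype C] [CommGroup A] [Fintype A]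

/-- restriction of a linear character along a homomorphism -/
noncomputable def compChar (ι : C →* A) (lam : Cfsg.IrrCharacter A) : Cfsg.IrrCharacter C :=
  Cfsg.Agent.Helper79.linChar ((irr_hom lam).choose.comp ι)

theorem compChar_apply (ι : C →* A) (lam : Cfsg.IrrCharacter A) (c : C) :
    (compChar ι lam : C → ℂ) c = (lam : A → ℂ) (ι c) := by
  unfold compChar
  rw [Cfsg.Agent.Helper79.linChar_apply]
  have h1 := congrFun (irr_hom lam).choose_spec (ι c)
  rw [h1]
  simp

theorem kprop_of_injective (ι : C →* A) (hι : Function.Injective ι) (w : A → ℝ)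
    (hK : KProp A w) : KProp C (fun c => w (ι c)) := by
  classical
  intro ξ hξ hne
  set r : ℂ := (Nat.card A : ℂ) / (Nat.card C : ℂ) with hr
  have hA0 : (Nat.card A : ℂ) ≠ 0 := card_ne_zero'
  have hC0 : (Nat.card C : ℂ) ≠ 0 := card_ne_zero'
  have hr0 : r ≠ 0 := div_ne_zero hA0 hC0
  set g : A → ℂ := Function.extend ι (fun c => r * ξ c) 0 with hg
  have hg1 : ∀ c, g (ι c) = r * ξ c := fun c => hι.extend_apply _ _ c
  have hg2 : ∀ a, a ∉ Set.range ι → g a = 0 := by
    intro a ha
    rw [hg, Function.extend_apply' _ _ _ (by simpa using ha)]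
    rfl
  have hsum : ∀ F : A → ℂ → ℂ, (∀ a, F a 0 = 0) → ∑ a, F a (g a) = ∑ c, F (ι c) (r * ξ c) := by
    intro F hF
    symm
    apply Fintype.sum_of_injective ι hι
    · intro a ha
      rw [hg2 a ha, hF]
    · intro c
      rw [hg1]
  have hgZ : IsZChar A g := by
    intro lam
    obtain ⟨n, hn⟩ := hξ (compChar ι lam)
    refine ⟨n, ?_⟩
    rw [← hn]
    unfold Cfsg.classInner
    rw [hsum (fun a z => z * conj ((lam : A → ℂ) a)) (fun a => by simp)]
    rw [Finset.mul_sum, Finset.mul_sum]
    apply Finset.sum_congr rfl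
    intro c _
    rw [compChar_apply, hr]
    field_simp
  have hgne : g ≠ 0 := by
    intro h
    apply hne
    funext c
    have := congrFun h (ι c)
    rw [hg1] at this
    simpa [hr0] using this
  have h1 := hK g hgZ hgne
  have hsumR : ∑ a, w a * Complex.normSq (g a)
      = ∑ c, w (ι c) * Complex.normSq (r * ξ c) := by
    symm
    apply Fintype.sum_of_injective ι hι
    · intro a ha
      rw [hg2 a ha]; simp
    · intro c
      rw [hg1]
  rw [hsumR] at h1
  have hnr : Complex.normSq r = (Nat.card A : ℝ) ^ 2 / (Nat.card C : ℝ) ^ 2 := by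
    rw [hr, Complex.normSq_div, Complex.normSq_natCast, Complex.normSq_natCast]
    ring
  have h2 : ∑ c, w (ι c) * Complex.normSq (r * ξ c)
      = ((Nat.card A : ℝ) ^ 2 / (Nat.card C : ℝ) ^ 2) * ∑ c, w (ι c) * Complex.normSq (ξ c) := by
    rw [Finset.mul_sum]
    apply Finset.sum_congr rfl
    intro c _
    rw [Complex.normSq_mul, hnr]
    ring
  rw [h2] at h1
  have hA : (0 : ℝ) < (Nat.card A : ℝ) ^ 2 := by
    have : 0 < Nat.card A := Nat.card_pos
    positivity
  have hC : (0 : ℝ) < (Nat.card C : ℝ) ^ 2 := by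
    have : 0 < Nat.card C := Nat.card_pos
    positivity
  rw [div_mul_eq_mul_div, le_div_iff₀ hC] at h1
  have h3 : (Nat.card A : ℝ) ^ 2 * (Nat.card C : ℝ) ^ 2
      ≤ (Nat.card A : ℝ) ^ 2 * ∑ c, w (ι c) * Complex.normSq (ξ c) := h1
  exact le_of_mul_le_mul_left h3 hA

end Transfer

section Base

/-- base case: the trivial group with weight `1` -/
theorem kprop_punit : KProp PUnit.{u + 1} (fun _ => (1 : ℝ)) := by
  intro f hf hne
  obtain ⟨n, hn⟩ := hf (Cfsg.Agent.Helper79.trivChar PUnit.{u + 1})
  have h1 : f PUnit.unit = (n : ℂ) := by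
    rw [← hn]
    unfold Cfsg.classInner
    simp [Cfsg.Agent.Helper79.trivChar_apply]
  have hn0 : n ≠ 0 := by
    rintro rfl
    apply hne
    funext x
    cases x
    simpa using h1
  simp only [Nat.card_unique, Nat.cast_one, one_pow, one_mul, Finset.univ_unique,
    PUnit.default_eq_unit, Finset.sum_singleton, h1, Complex.normSq_intCast]
  have : (1 : ℤ) ≤ n * n := by
    have := Int.one_le_abs hn0
    nlinarith [abs_mul_abs_self n]
  exact_mod_cast this

end Base

end Cfsg.Agent.Helper77.KGV
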