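import Mathlib
import Cfsg.Agent.Lib.Helper77.KGV4
import Cfsg.Agent.Lib.Helper52.External

set_option autoImplicit false
set_option linter.unusedSectionVars false

/-! The weighted inequality for an abelian group acting faithfully and coprimely on an
elementary abelian group. -/

namespace Cfsg.Agent.Helper77.KGV

universe u v

section Disjoint

variable {M : Type v} [CommGroup M]

theorem eq_of_mul_eq_mul_of_disjoint {H₁ H₂ : Subgroup M} (h : H₁ ⊓ H₂ = ⊥) {a a' b b' : M}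
    (ha : a ∈ H₁) (ha' : a' ∈ H₁) (hb : b ∈ H₂) (hb' : b' ∈ H₂) (heq : a * b = a' * b') :
    a = a' ∧ b = b' := by
  have h1 : a'⁻¹ * a = b' * b⁻¹ := by
    calc a'⁻¹ * a = a'⁻¹ * (a * b) * b⁻¹ := by group
      _ = a'⁻¹ * (a' * b') * b⁻¹ := by rw [heq]
      _ = b' * b⁻¹ := by group
  have h2 : a'⁻¹ * a ∈ H₁ ⊓ H₂ :=
    ⟨H₁.mul_mem (H₁.inv_mem ha') ha, h1 ▸ H₂.mul_mem hb' (H₂.inv_mem hb)⟩
  rw [h, Subgroup.mem_bot] at h2
  have h3 : a = a' := (inv_mul_eq_one.mp h2).symm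
  refine ⟨h3, ?_⟩
  rw [h3] at heq
  exact mul_left_cancel heq

theorem card_sup_of_disjoint (H₁ H₂ : Subgroup M) (h : H₁ ⊓ H₂ = ⊥) :
    Nat.card ↥(H₁ ⊔ H₂) = Nat.card H₁ * Nat.card H₂ := by
  rw [← Nat.card_prod]
  symm
  apply Nat.card_congr
  refine Equiv.ofBijective (fun x : H₁ × H₂ => ⟨(x.1 : M) * x.2,
    Subgroup.mul_mem _ (Subgroup.mem_sup_left x.1.2) (Subgroup.mem_sup_right x.2.2)⟩) ⟨?_, ?_⟩
  · rintro ⟨⟨a, ha⟩, ⟨b, hb⟩⟩ ⟨⟨a', ha'⟩, ⟨b', hb'⟩⟩ heq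
    simp only [Subtype.mk.injEq] at heq
    obtain ⟨h1, h2⟩ := eq_of_mul_eq_mul_of_disjoint h ha ha' hb hb' heq
    subst h1; subst h2; rfl
  · rintro ⟨x, hx⟩
    obtain ⟨y, hy, z, hz, rfl⟩ := Subgroup.mem_sup.mp hx
    exact ⟨(⟨y, hy⟩, ⟨z, hz⟩), rfl⟩

end Disjoint

section Action

variable {C : Type u} [CommGroup C] {M : Type v} [CommGroup M] [MulDistribMulAction C M]

/-- fixed points of a single element -/
def fixSub (c : C) : Subgroup M where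
  carrier := {m | c • m = m}
  mul_mem' := by
    intro a b ha hb
    simp only [Set.mem_ofPred_eq] at ha hb ⊢
    rw [smul_mul', ha, hb]
  one_mem' := smul_one c
  inv_mem' := by
    intro a ha
    simp only [Set.mem_ofPred_eq] at ha ⊢
    rw [smul_inv', ha]

theorem mem_fixSub (c : C) (m : M) : m ∈ fixSub (M := M) c ↔ c • m = m := Iff.rfl

/-- invariance of a subgroup -/
def Inv (C : Type u) [CommGroup C] {M : Type v} [CommGroup M] [MulDistribMulAction C M]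
    (U : Subgroup M) : Prop := ∀ c : C, ∀ u ∈ U, c • u ∈ U

theorem inv_inf_fixSub {U : Subgroup M} (hU : Inv C U) (c : C) : Inv C (U ⊓ fixSub c) := by
  intro d u hu
  refine ⟨hU d u hu.1, ?_⟩
  have h : c • u = u := hu.2
  show c • (d • u) = d • u
  rw [smul_smul, mul_comm, ← smul_smul, h]

theorem inv_inf {U U' : Subgroup M} (hU : Inv C U) (hU' : Inv C U') : Inv C (U ⊓ U') :=
  fun c u hu => ⟨hU c u hu.1, hU' c u hu.2⟩

/-- fixed points in a disjoint sum of invariant subgroups -/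
theorem sup_inf_fixSub_le {U₁ U₂ : Subgroup M} (h : U₁ ⊓ U₂ = ⊥) (h₁ : Inv C U₁) (h₂ : Inv C U₂)
    (c : C) : (U₁ ⊔ U₂) ⊓ fixSub c ≤ (U₁ ⊓ fixSub c) ⊔ (U₂ ⊓ fixSub c) := by
  rintro u ⟨hu, hfix⟩
  obtain ⟨y, hy, z, hz, rfl⟩ := Subgroup.mem_sup.mp hu
  have hfix' : c • (y * z) = y * z := hfix
  rw [smul_mul'] at hfix'
  obtain ⟨e1, e2⟩ := eq_of_mul_eq_mul_of_disjoint h (h₁ c y hy) hy (h₂ c z hz) hz hfix'
  exact Subgroup.mul_mem _ (Subgroup.mem_sup_left ⟨hy, e1⟩) (Subgroup.mem_sup_right ⟨hz, e2⟩)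

theorem card_sup_inf_fixSub_le [Finite M] {U₁ U₂ : Subgroup M} (h : U₁ ⊓ U₂ = ⊥) (h₁ : Inv C U₁)
    (h₂ : Inv C U₂) (c : C) :
    Nat.card ↥((U₁ ⊔ U₂) ⊓ fixSub c) ≤
      Nat.card ↥(U₁ ⊓ fixSub c) * Nat.card ↥(U₂ ⊓ fixSub c) := by
  have hd : (U₁ ⊓ fixSub c) ⊓ (U₂ ⊓ fixSub c) = ⊥ := by
    rw [eq_bot_iff, ← h]
    exact inf_le_inf inf_le_left inf_le_left
  rw [← card_sup_of_disjoint _ _ hd]
  exact Subgroup.card_le_of_le (sup_inf_fixSub_le h h₁ h₂ c)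

/-- minimal invariant subgroups -/
def MinInv (C : Type u) [CommGroup C] {M : Type v} [CommGroup M] [MulDistribMulAction C M]
    (U : Subgroup M) : Prop :=
  Inv C U ∧ U ≠ ⊥ ∧ ∀ U' : Subgroup M, U' ≤ U → Inv C U' → U' = ⊥ ∨ U' = U

theorem exists_minInv [Finite M] {U : Subgroup M} (hU : Inv C U) (hne : U ≠ ⊥) :
    ∃ U₁ : Subgroup M, U₁ ≤ U ∧ MinInv C U₁ := by
  have hfin : {W : Subgroup M | Inv C W ∧ W ≠ ⊥}.Finite := Set.toFinite _
  obtain ⟨W, hWU, hW⟩ := hfin.exists_le_minimal (a := U) ⟨hU, hne⟩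
  refine ⟨W, hWU, hW.prop.1, hW.prop.2, ?_⟩
  intro U' hU'W hU'
  by_cases h0 : U' = ⊥
  · exact Or.inl h0
  · right
    exact le_antisymm hU'W (hW.le_of_le ⟨hU', h0⟩ hU'W)

variable [Finite M]

theorem minInv_fix_of_mem_stabilizer {U₁ : Subgroup M} (hmin : MinInv C U₁) {u₀ : M}
    (hu₀ : u₀ ∈ U₁) (hne : u₀ ≠ 1) {c : C} (hc : c ∈ MulAction.stabilizer C u₀) :
    ∀ u ∈ U₁, c • u = u := by
  have h1 := hmin.2.2 (U₁ ⊓ fixSub c) inf_le_left (inv_inf_fixSub hmin.1 c)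
  rcases h1 with h1 | h1
  · exfalso
    have : u₀ ∈ U₁ ⊓ fixSub c := ⟨hu₀, MulAction.mem_stabilizer_iff.mp hc⟩
    rw [h1, Subgroup.mem_bot] at this
    exact hne this
  · intro u hu
    have : u ∈ U₁ ⊓ fixSub c := by rw [h1]; exact hu
    exact this.2

theorem minInv_fix_eq_bot {U₁ : Subgroup M} (hmin : MinInv C U₁) {u₀ : M}
    (hu₀ : u₀ ∈ U₁) {c : C} (hc : c ∉ MulAction.stabilizer C u₀) :
    U₁ ⊓ fixSub c = ⊥ := by
  have h1 := hmin.2.2 (U₁ ⊓ fixSub c) inf_le_left (inv_inf_fixSub hmin.1 c)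
  rcases h1 with h1 | h1
  · exact h1
  · exfalso
    apply hc
    rw [MulAction.mem_stabilizer_iff]
    have : u₀ ∈ U₁ ⊓ fixSub c := by rw [h1]; exact hu₀
    exact this.2

theorem card_quotient_stabilizer_lt {U₁ : Subgroup M} (hU₁ : Inv C U₁) {u₀ : M}
    (hu₀ : u₀ ∈ U₁) (hne : u₀ ≠ 1) :
    Nat.card (C ⧸ MulAction.stabilizer C u₀) + 1 ≤ Nat.card U₁ := by
  have e := MulAction.orbitEquivQuotientStabilizer C u₀
  rw [← Nat.card_congr e, Nat.card_coe_set_eq]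
  have hsub : insert (1 : M) (MulAction.orbit C u₀) ⊆ (U₁ : Set M) := by
    intro x hx
    rcases Set.mem_insert_iff.mp hx with rfl | hx
    · exact U₁.one_mem
    · obtain ⟨c, rfl⟩ := hx
      exact hU₁ c u₀ hu₀
  have h1 : (1 : M) ∉ MulAction.orbit C u₀ := by
    rintro ⟨c, hc⟩
    apply hne
    have hc' : c • u₀ = 1 := hc
    have : c⁻¹ • (c • u₀) = c⁻¹ • (1 : M) := by rw [hc']
    rwa [inv_smul_smul, smul_one] at this
  have h2 := Set.ncard_le_ncard hsub (Set.toFinite _)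
  rw [Set.ncard_insert_of_notMem h1 (Set.toFinite _)] at h2
  have h3 : (U₁ : Set M).ncard = Nat.card U₁ := by
    rw [← Nat.card_coe_set_eq]; rfl
  rw [h3] at h2
  exact h2

end Action

end Cfsg.Agent.Helper77.KGV
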