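import Mathlib
import Cfsg.Agent.Lib.Helper77.KGV5

set_option autoImplicit false
set_option linter.unusedSectionVars false

/-! Induction over invariant subgroups: the weighted inequality for a faithful coprime action of
an abelian group on an elementary abelian group. -/

namespace Cfsg.Agent.Helper77.KGV

universe u v

section Induction

variable {C : Type u} [CommGroup C] [Fintype C] {M : Type v} [CommGroup M] [Finite M]
  [MulDistribMulAction C M]

/-- the inductive statement -/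
def Good (C : Type u) [CommGroup C] [Fintype C] {M : Type v} [CommGroup M]
    [MulDistribMulAction C M] (U : Subgroup M) : Prop :=
  ∃ (A : Type u) (_ : CommGroup A) (_ : Fintype A) (w : A → ℝ) (ι : C →* A),
    KProp A w ∧ (∀ a, 0 ≤ w a) ∧ (∀ c : C, ι c = 1 → ∀ u ∈ U, c • u = u) ∧
    ∀ c : C, w (ι c) * (Nat.card ↥(U ⊓ fixSub c) : ℝ) ≤ (Nat.card U : ℝ)

theorem good_bot : Good C (⊥ : Subgroup M) := by
  refine ⟨PUnit.{u + 1}, inferInstance, inferInstance, fun _ => 1, 1, kprop_punit,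
    fun _ => zero_le_one, ?_, ?_⟩
  · intro c _ u hu
    rw [Subgroup.mem_bot] at hu
    rw [hu, smul_one]
  · intro c
    have : (⊥ : Subgroup M) ⊓ fixSub c = ⊥ := bot_inf_eq _
    rw [this]
    simp

theorem good_step (p : ℕ) (hp : p.Prime) (hM : ∀ m : M, m ^ p = 1)
    (hcop : (Nat.card C).Coprime (Nat.card M)) (U : Subgroup M) (hU : Inv C U) (hne : U ≠ ⊥)
    (ih : ∀ U' : Subgroup M, Inv C U' → Nat.card U' < Nat.card U → Good C U') : Good C U := by
  classical
  obtain ⟨U₁, hU₁U, hmin⟩ := exists_minInv hU hne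
  -- invariant complement
  obtain ⟨K', -, hK'inv, hK'inf, hK'sup⟩ :=
    Cfsg.Agent.Helper52.exists_invariant_complement_mod (A := C) (G := M) hcop
      (⊥ : Subgroup M) (by
        intro a x hx
        rw [Subgroup.mem_bot] at hx
        rw [hx, smul_one]; exact Subgroup.mem_bot.mpr rfl)
      (by
        rw [commutator_def, Subgroup.commutator_le]
        intro x _ y _
        rw [Subgroup.mem_bot, commutatorElement_eq_one_iff_mul_comm]
        exact mul_comm x y)
      p hp (by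
        intro x
        rw [Subgroup.mem_bot]
        exact hM x)
      U₁ bot_le hmin.1
  set U₂ : Subgroup M := K' ⊓ U with hU₂
  have hU₂inv : Inv C U₂ := inv_inf hK'inv hU
  have hdisj : U₁ ⊓ U₂ = ⊥ := by
    rw [eq_bot_iff, ← hK'inf]
    exact inf_le_inf le_rfl inf_le_left
  have hsup : U₁ ⊔ U₂ = U := by
    rw [hU₂, ← sup_inf_assoc_of_le K' hU₁U, hK'sup, top_inf_eq]
  have hcardU : Nat.card U = Nat.card U₁ * Nat.card U₂ := by
    rw [← hsup, card_sup_of_disjoint _ _ hdisj]
  -- a nontrivial element of U₁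
  obtain ⟨u₀, hu₀, hu₀ne⟩ : ∃ u₀ ∈ U₁, u₀ ≠ 1 := by
    by_contra h
    push Not at h
    exact hmin.2.1 ((Subgroup.eq_bot_iff_forall _).mpr h)
  have hcard₁ : 2 ≤ Nat.card U₁ := by
    have := card_quotient_stabilizer_lt hmin.1 hu₀ hu₀ne
    have h1 : 0 < Nat.card (C ⧸ MulAction.stabilizer C u₀) := Nat.card_pos
    omega
  have hcard₂ : 0 < Nat.card U₂ := Nat.card_pos
  have hlt : Nat.card U₂ < Nat.card U := by
    rw [hcardU]
    nlinarith
  obtain ⟨A₂, iA₂, fA₂, w₂, ι₂, hK₂, hw₂, hker₂, hwt₂⟩ := ih U₂ hU₂inv hlt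
  set K : Subgroup C := MulAction.stabilizer C u₀ with hK
  letI : Fintype (C ⧸ K) := Fintype.ofFinite _
  refine ⟨(C ⧸ K) × A₂, inferInstance, inferInstance,
    fun q => (if q.1 = 1 then 1 else 1 + (Nat.card (C ⧸ K) : ℝ)) * w₂ q.2,
    (QuotientGroup.mk' K).prod ι₂, kprop_prod w₂ hw₂ hK₂, ?_, ?_, ?_⟩
  · intro q
    apply mul_nonneg _ (hw₂ q.2)
    split_ifs
    · exact zero_le_one
    · positivity
  · intro c hc u hu
    rw [MonoidHom.prod_apply, Prod.mk_eq_one] at hc
    obtain ⟨hc1, hc2⟩ := hc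
    have hcK : c ∈ K := by
      rw [QuotientGroup.mk'_apply, QuotientGroup.eq_one_iff] at hc1
      exact hc1
    rw [← hsup] at hu
    obtain ⟨y, hy, z, hz, rfl⟩ := Subgroup.mem_sup.mp hu
    rw [smul_mul', minInv_fix_of_mem_stabilizer hmin hu₀ hu₀ne hcK y hy, hker₂ c hc2 z hz]
  · intro c
    rw [MonoidHom.prod_apply]
    simp only
    set t : ℝ := if (QuotientGroup.mk' K) c = 1 then 1 else 1 + (Nat.card (C ⧸ K) : ℝ) with ht
    have ht0 : 0 ≤ t := by
      rw [ht]; split_ifs
      · exact zero_le_one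
      · positivity
    have h1 : t * (Nat.card ↥(U₁ ⊓ fixSub c) : ℝ) ≤ (Nat.card U₁ : ℝ) := by
      by_cases hcK : c ∈ K
      · have : (QuotientGroup.mk' K) c = 1 := by
          rw [QuotientGroup.mk'_apply, QuotientGroup.eq_one_iff]; exact hcK
        rw [ht, if_pos this, one_mul]
        exact_mod_cast Subgroup.card_le_of_le inf_le_left
      · have : ¬ (QuotientGroup.mk' K) c = 1 := by
          rw [QuotientGroup.mk'_apply, QuotientGroup.eq_one_iff]; exact hcK
        rw [ht, if_neg this, minInv_fix_eq_bot hmin hu₀ hcK]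
        have h2 := card_quotient_stabilizer_lt hmin.1 hu₀ hu₀ne
        simp only [Subgroup.card_bot, Nat.cast_one, mul_one]
        rw [add_comm]
        exact_mod_cast h2
    have h2 := hwt₂ c
    have h3 : (Nat.card ↥(U ⊓ fixSub c) : ℝ)
        ≤ (Nat.card ↥(U₁ ⊓ fixSub c) : ℝ) * (Nat.card ↥(U₂ ⊓ fixSub c) : ℝ) := by
      have := card_sup_inf_fixSub_le hdisj hmin.1 hU₂inv c
      rw [hsup] at this
      exact_mod_cast this
    have h4 : (0 : ℝ) ≤ w₂ (ι₂ c) := hw₂ _
    calc t * w₂ (ι₂ c) * (Nat.card ↥(U ⊓ fixSub c) : ℝ)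
        ≤ t * w₂ (ι₂ c) * ((Nat.card ↥(U₁ ⊓ fixSub c) : ℝ) * (Nat.card ↥(U₂ ⊓ fixSub c) : ℝ)) :=
          mul_le_mul_of_nonneg_left h3 (mul_nonneg ht0 h4)
      _ = (t * (Nat.card ↥(U₁ ⊓ fixSub c) : ℝ)) * (w₂ (ι₂ c) * (Nat.card ↥(U₂ ⊓ fixSub c) : ℝ)) := by
          ring
      _ ≤ (Nat.card U₁ : ℝ) * (Nat.card U₂ : ℝ) := by
          apply mul_le_mul h1 h2 _ (by positivity)
          exact mul_nonneg h4 (by positivity)
      _ = (Nat.card U : ℝ) := by rw [hcardU]; push_cast; ring

theorem good_all (p : ℕ) (hp : p.Prime) (hM : ∀ m : M, m ^ p = 1)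
    (hcop : (Nat.card C).Coprime (Nat.card M)) :
    ∀ (n : ℕ) (U : Subgroup M), Inv C U → Nat.card U = n → Good C U := by
  intro n
  induction n using Nat.strong_induction_on with
  | _ n ih =>
    intro U hU hn
    by_cases hne : U = ⊥
    · rw [hne]; exact good_bot
    · apply good_step p hp hM hcop U hU hne
      intro U' hU' hlt
      exact ih (Nat.card U') (hn ▸ hlt) U' hU' rfl

/-- **Knörr's lemma**: for an abelian group `C` acting faithfully and coprimely on an elementary
abelian `p`-group `M`, every nonzero integral combination `ξ` of linear characters of `C`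
satisfies `|C|^2 ≤ ∑_c |M : C_M(c)| |ξ(c)|^2`. -/
theorem kprop_action (p : ℕ) (hp : p.Prime) (hM : ∀ m : M, m ^ p = 1)
    (hcop : (Nat.card C).Coprime (Nat.card M))
    (hfaith : ∀ c : C, (∀ m : M, c • m = m) → c = 1) :
    KProp C (fun c => (Nat.card M : ℝ) / (Nat.card ↥(fixSub (M := M) c) : ℝ)) := by
  obtain ⟨A, iA, fA, w, ι, hK, hw, hker, hwt⟩ :=
    good_all (C := C) p hp hM hcop (Nat.card (⊤ : Subgroup M)) ⊤
      (fun _ _ _ => Subgroup.mem_top _) rfl
  have hinj : Function.Injective ι := by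
    rw [injective_iff_map_eq_one]
    intro c hc
    exact hfaith c fun m => hker c hc m (Subgroup.mem_top m)
  refine (kprop_of_injective ι hinj w hK).mono ?_
  intro c
  have h := hwt c
  rw [top_inf_eq, Subgroup.card_top] at h
  have hpos : (0 : ℝ) < (Nat.card ↥(fixSub (M := M) c) : ℝ) := by
    have : 0 < Nat.card ↥(fixSub (M := M) c) := Nat.card_pos
    exact_mod_cast this
  rw [le_div_iff₀ hpos]
  exact h

end Induction

end Cfsg.Agent.Helper77.KGV
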