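import Mathlib

set_option autoImplicit false
set_option linter.unusedSectionVars false

/-! Group-theoretic part of the abelian-stabilizer criterion: centralizers of the elements
`v^j c` in `V ⋊ G`. -/

namespace Cfsg.Agent.Helper77.KGV

universe u

open scoped Pointwise

section Cent

variable {X : Type u} [Group X]

theorem commute_of_commute_mul {v c y : X} {p n j : ℕ} (hp : 1 < p) (hvp : v ^ p = 1)
    (hcn : c ^ n = 1) (hvc : Commute v c) (hcop : Nat.Coprime (j * n) p)
    (hy : Commute y (v ^ j * c)) : Commute y v := by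
  obtain ⟨s, -, hs⟩ := Nat.exists_mul_mod_eq_one_of_coprime hcop hp
  have h1 : (v ^ j * c) ^ (n * s) = v := by
    rw [(hvc.pow_left j).mul_pow, pow_mul c, hcn, one_pow, mul_one, ← pow_mul,
      pow_eq_pow_mod _ hvp, ← mul_assoc, hs, pow_one]
  have h2 := hy.pow_right (n * s)
  rwa [h1] at h2

variable [Finite X]

theorem card_centralizer_le (V G : Subgroup X) [V.Normal]
    (hVc : ∀ a ∈ V, ∀ b ∈ V, a * b = b * a) (hsup : V ⊔ G = ⊤)
    (v : X) (hv : v ∈ V) (p : ℕ) (hp : p.Prime) (hvp : v ^ p = 1)
    (hab : ∀ a ∈ G ⊓ Subgroup.centralizer ({v} : Set X),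
      ∀ b ∈ G ⊓ Subgroup.centralizer ({v} : Set X), a * b = b * a)
    (hcop : (Nat.card ↥(G ⊓ Subgroup.centralizer ({v} : Set X))).Coprime p)
    (c : X) (hc : c ∈ G ⊓ Subgroup.centralizer ({v} : Set X)) (j : ℕ) (hj : ¬ p ∣ j) :
    Nat.card ↥(Subgroup.centralizer ({v ^ j * c} : Set X)) ≤
      Nat.card ↥(V ⊓ Subgroup.centralizer ({c} : Set X)) *
        Nat.card ↥(G ⊓ Subgroup.centralizer ({v} : Set X)) := by
  classical
  set Cs : Subgroup X := G ⊓ Subgroup.centralizer ({v} : Set X) with hCs
  have hcv : Commute v c := by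
    have := (Subgroup.mem_inf.mp hc).2
    rw [Subgroup.mem_centralizer_iff] at this
    exact this v (Set.mem_singleton v)
  have hcn : c ^ Nat.card Cs = 1 := by
    have : (⟨c, hc⟩ : Cs) ^ Nat.card Cs = 1 := pow_card_eq_one'
    exact congrArg Subtype.val this
  have hcop2 : Nat.Coprime (j * Nat.card Cs) p := by
    apply Nat.Coprime.mul_left _ hcop
    exact ((Nat.Prime.coprime_iff_not_dvd hp).mpr hj).symm
  rw [← Nat.card_prod]
  -- the product map
  let Φ : ↥(V ⊓ Subgroup.centralizer ({c} : Set X)) × ↥Cs →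
      ↥(Subgroup.centralizer ({v ^ j * c} : Set X)) := fun q =>
    ⟨(q.1 : X) * (q.2 : X), by
      rw [Subgroup.mem_centralizer_iff]
      intro h hh
      rw [Set.mem_singleton_iff] at hh
      subst hh
      obtain ⟨⟨u, hu⟩, ⟨g, hg⟩⟩ := q
      simp only
      have h1 : Commute u c := by
        have := (Subgroup.mem_inf.mp hu).2
        rw [Subgroup.mem_centralizer_iff] at this
        exact (this c (Set.mem_singleton c)).symm
      have h2 : Commute u (v ^ j) := hVc u (Subgroup.mem_inf.mp hu).1 (v ^ j) (V.pow_mem hv j)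
      have h3 : Commute g v := by
        have := (Subgroup.mem_inf.mp hg).2
        rw [Subgroup.mem_centralizer_iff] at this
        exact (this v (Set.mem_singleton v)).symm
      have h4 : Commute g c := hab g hg c hc
      have h5 : Commute (u * g) (v ^ j * c) :=
        Commute.mul_left (Commute.mul_right h2 h1) (Commute.mul_right (h3.pow_right j) h4)
      exact h5.symm.eq⟩
  apply Nat.card_le_card_of_surjective Φ
  rintro ⟨y, hy⟩
  rw [Subgroup.mem_centralizer_iff] at hy
  have hy1 : Commute y (v ^ j * c) := (hy _ (Set.mem_singleton _)).symm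
  have hyv : Commute y v := commute_of_commute_mul hp.one_lt hvp hcn hcv hcop2 hy1
  have hyc : Commute y c := by
    have h1 : Commute y (v ^ j) := hyv.pow_right j
    have h2 : c = (v ^ j)⁻¹ * (v ^ j * c) := by group
    rw [h2]
    exact Commute.mul_right h1.inv_right hy1
  -- decompose y
  have hy_top : y ∈ V ⊔ G := by rw [hsup]; exact Subgroup.mem_top y
  have hmul : y ∈ (V : Set X) * (G : Set X) := by
    rw [← Subgroup.normal_mul]; exact hy_top
  obtain ⟨u, hu, g, hg, rfl⟩ := Set.mem_mul.mp hmul
  have huv : Commute u v := hVc u hu v hv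
  have hgv : Commute g v := by
    have h2 : g = u⁻¹ * (u * g) := by group
    rw [h2]
    exact Commute.mul_left huv.inv_left hyv
  have hgCs : g ∈ Cs := by
    refine Subgroup.mem_inf.mpr ⟨hg, ?_⟩
    rw [Subgroup.mem_centralizer_iff]
    intro h hh
    rw [Set.mem_singleton_iff] at hh
    subst hh
    exact hgv.symm.eq
  have hgc : Commute g c := hab g hgCs c hc
  have huc : Commute u c := by
    have h2 : u = (u * g) * g⁻¹ := by group
    rw [h2]
    exact Commute.mul_left hyc hgc.inv_left
  have huC : u ∈ V ⊓ Subgroup.centralizer ({c} : Set X) := by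
    refine Subgroup.mem_inf.mpr ⟨hu, ?_⟩
    rw [Subgroup.mem_centralizer_iff]
    intro h hh
    rw [Set.mem_singleton_iff] at hh
    subst hh
    exact huc.symm.eq
  exact ⟨(⟨u, huC⟩, ⟨g, hgCs⟩), rfl⟩

end Cent

end Cfsg.Agent.Helper77.KGV
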