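import Mathlib
import Cfsg.Agent.Lib.Helper77.KGV6
import Cfsg.Agent.Lib.Helper77.KGV7
import Cfsg.Agent.Lib.Helper81.CharCorr
import Cfsg.Agent.S0169

set_option autoImplicit false
set_option linter.unusedSectionVars false
set_option linter.style.haveILetI false

/-! Knörr's abelian-stabilizer criterion for the `k(GV)` problem. -/

namespace Cfsg.Agent.Helper77.KGV

open scoped ComplexConjugate

universe u

section PowHom

variable {X : Type u} [Group X]

/-- the homomorphism `k ↦ v^k` from `ZMod p` when `v^p = 1` -/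
noncomputable def powHom (p : ℕ) [NeZero p] (v : X) (hv : v ^ p = 1) :
    Multiplicative (ZMod p) →* X where
  toFun k := v ^ (Multiplicative.toAdd k).val
  map_one' := by simp
  map_mul' a b := by
    rw [toAdd_mul, ZMod.val_add, ← pow_eq_pow_mod _ hv, pow_add]

theorem powHom_apply (p : ℕ) [NeZero p] (v : X) (hv : v ^ p = 1) (k : Multiplicative (ZMod p)) :
    powHom p v hv k = v ^ (Multiplicative.toAdd k).val := rfl

end PowHom

section Main

variable {X : Type u} [Group X] [Finite X]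

theorem sum_normSq_irr [Fintype X] (x : X) :
    ∑ χ : Cfsg.IrrCharacter X, Complex.normSq ((χ : X → ℂ) x)
      = (Nat.card ↥(Subgroup.centralizer ({x} : Set X)) : ℝ) := by
  classical
  have h := Cfsg.Agent.Helper3.column_orthogonality (G := X) x x
  rw [if_pos (IsConj.refl x)] at h
  simp only [Complex.mul_conj] at h
  apply Complex.ofReal_injective
  push_cast
  exact h

theorem core (p : ℕ) [hp : Fact p.Prime] (V : Subgroup X) [V.Normal]
    (hVexp : ∀ v ∈ V, v ^ p = 1) (hidx : ¬ p ∣ V.index)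
    (hself : Subgroup.centralizer (V : Set X) = V) (G : Subgroup X)
    (hGV : Subgroup.IsComplement' V G) (v : X) (hv : v ∈ V)
    (hab : ∀ a ∈ G ⊓ Subgroup.centralizer ({v} : Set X),
      ∀ b ∈ G ⊓ Subgroup.centralizer ({v} : Set X), a * b = b * a) :
    Nat.card (ConjClasses X) ≤ Nat.card V := by
  classical
  letI : Fintype X := Fintype.ofFinite X
  set Cs : Subgroup X := G ⊓ Subgroup.centralizer ({v} : Set X) with hCs
  have hVc : ∀ a ∈ V, ∀ b ∈ V, a * b = b * a := by
    intro a ha b hb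
    have : a ∈ Subgroup.centralizer (V : Set X) := by rw [hself]; exact ha
    rw [Subgroup.mem_centralizer_iff] at this
    exact (this b hb).symm
  have hvp : v ^ p = 1 := hVexp v hv
  -- cardinalities
  have hVpg : IsPGroup p ↥V := fun g => ⟨1, by
    rw [pow_one]; exact Subtype.ext (by simpa using hVexp g g.2)⟩
  obtain ⟨k, hk⟩ := hVpg.exists_card_eq
  have hGcard : V.index = Nat.card G := hGV.symm.index_eq_card
  have hcopCs : (Nat.card ↥Cs).Coprime p := by
    have h1 : Nat.card ↥Cs ∣ V.index := by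
      rw [hGcard]; exact Subgroup.card_dvd_of_le inf_le_left
    have h2 : Nat.Coprime p V.index := (Nat.Prime.coprime_iff_not_dvd hp.out).mpr hidx
    exact (Nat.Coprime.coprime_dvd_right h1 h2).symm
  have hcop : (Nat.card ↥Cs).Coprime (Nat.card ↥V) := by
    rw [hk]; exact hcopCs.pow_right k
  -- instances
  letI instM : CommGroup ↥V :=
    { (inferInstance : Group ↥V) with mul_comm := fun a b => Subtype.ext (hVc a a.2 b b.2) }
  letI instC : CommGroup ↥Cs :=
    { (inferInstance : Group ↥Cs) with mul_comm := fun a b => Subtype.ext (hab a a.2 b b.2) }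
  letI : Fintype ↥Cs := Fintype.ofFinite _
  letI act : MulDistribMulAction ↥Cs ↥V :=
    MulDistribMulAction.compHom ↥V ((MulAut.conjNormal (H := V)).comp Cs.subtype)
  have hsmul : ∀ (c : ↥Cs) (m : ↥V), ((c • m : ↥V) : X) = (c : X) * (m : X) * (c : X)⁻¹ := by
    intro c m
    change ((MulAut.conjNormal (H := V) (c : X)) m : X) = _
    rw [MulAut.conjNormal_apply]
  have hM : ∀ m : ↥V, m ^ p = 1 := fun m => Subtype.ext (by simpa using hVexp m m.2)
  have hfaith : ∀ c : ↥Cs, (∀ m : ↥V, c • m = m) → c = 1 := by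
    intro c hc
    have h1 : (c : X) ∈ Subgroup.centralizer (V : Set X) := by
      rw [Subgroup.mem_centralizer_iff]
      intro h hh
      have := congrArg Subtype.val (hc ⟨h, hh⟩)
      rw [hsmul] at this
      simp only at this
      calc h * (c : X) = ((c : X) * h * (c : X)⁻¹) * (c : X) := by rw [this]
        _ = (c : X) * h := by group
    rw [hself] at h1
    have h2 : (c : X) ∈ V ⊓ G := ⟨h1, (Subgroup.mem_inf.mp c.2).1⟩
    rw [hGV.disjoint.eq_bot, Subgroup.mem_bot] at h2
    exact Subtype.ext h2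
  have hK := kprop_action (C := ↥Cs) (M := ↥V) p hp.out hM hcop hfaith
  -- fixed points
  have hfix : ∀ c : ↥Cs, Nat.card ↥(fixSub (M := ↥V) c)
      = Nat.card ↥(V ⊓ Subgroup.centralizer ({(c : X)} : Set X)) := by
    intro c
    apply Nat.card_congr
    refine ⟨fun m => ⟨((m : ↥V) : X), Subgroup.mem_inf.mpr ⟨(m : ↥V).2, ?_⟩⟩,
      fun x => ⟨⟨(x : X), (Subgroup.mem_inf.mp x.2).1⟩, ?_⟩, fun m => rfl, fun x => rfl⟩
    · rw [Subgroup.mem_centralizer_iff]
      intro h hh
      rw [Set.mem_singleton_iff] at hh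
      subst hh
      have h1 : c • (m : ↥V) = (m : ↥V) := m.2
      have := congrArg Subtype.val h1
      rw [hsmul] at this
      calc (c : X) * ((m : ↥V) : X) = ((c : X) * ((m : ↥V) : X) * (c : X)⁻¹) * (c : X) := by group
        _ = ((m : ↥V) : X) * (c : X) := by rw [this]
    · show c • (⟨(x : X), (Subgroup.mem_inf.mp x.2).1⟩ : ↥V) = ⟨(x : X), (Subgroup.mem_inf.mp x.2).1⟩
      apply Subtype.ext
      rw [hsmul]
      have h1 := (Subgroup.mem_inf.mp x.2).2
      rw [Subgroup.mem_centralizer_iff] at h1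
      have h2 := h1 (c : X) (Set.mem_singleton _)
      simp only
      rw [h2, mul_inv_cancel_right]
  -- the homomorphism
  haveI : NeZero p := ⟨hp.out.ne_zero⟩
  let F : Multiplicative (ZMod p) × ↥Cs →* X :=
    (powHom p v hvp).noncommCoprod Cs.subtype (by
      intro m n
      rw [powHom_apply]
      have h1 := (Subgroup.mem_inf.mp n.2).2
      rw [Subgroup.mem_centralizer_iff] at h1
      have h2 : Commute v (n : X) := h1 v (Set.mem_singleton v)
      exact h2.pow_left _)
  have hF : ∀ q : Multiplicative (ZMod p) × ↥Cs,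
      F q = v ^ (Multiplicative.toAdd q.1).val * (q.2 : X) := fun q => rfl
  have hcardA : Nat.card (Multiplicative (ZMod p)) = p := by
    rw [Nat.card_eq_fintype_card, Fintype.card_multiplicative, ZMod.card]
  set Δ : ↥Cs → ℝ := fun c => (Nat.card ↥V : ℝ) / (Nat.card ↥(fixSub (M := ↥V) c) : ℝ) with hΔ
  have hΔ0 : ∀ c, 0 ≤ Δ c := fun c => by rw [hΔ]; positivity
  -- lower bound for each irreducible character
  have hlow : ∀ χ : Cfsg.IrrCharacter X, ((p : ℝ) - 1) * (Nat.card ↥Cs : ℝ) ^ 2 ≤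
      ∑ q : Multiplicative (ZMod p) × ↥Cs, ((if q.1 = 1 then 0 else 1) * Δ q.2) *
        Complex.normSq ((χ : X → ℂ) (F q)) := by
    intro χ
    set f : Multiplicative (ZMod p) × ↥Cs → ℂ := fun q => (χ : X → ℂ) (F q) with hf
    have hfZ : IsZChar (Multiplicative (ZMod p) × ↥Cs) f :=
      isZChar_of_isCharacter (Cfsg.Agent.Helper81.isCharacter_comp_hom F
        (Cfsg.Agent.Helper3.isCharacter_of_isIrrCharacter χ.2))
    by_cases hex : ∃ α₀ α₁ : Cfsg.IrrCharacter (Multiplicative (ZMod p)),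
        slice f (α₀ : _ → ℂ) ≠ slice f (α₁ : _ → ℂ)
    · obtain ⟨α₀, α₁, hne⟩ := hex
      have := main_lower Δ hΔ0 hK f hfZ α₀ α₁ hne
      rw [hcardA] at this
      exact this
    · exfalso
      push Not at hex
      set α₀ : Cfsg.IrrCharacter (Multiplicative (ZMod p)) :=
        Cfsg.Agent.Helper79.trivChar _ with hα₀
      set g : ↥Cs → ℂ := slice f (α₀ : _ → ℂ) with hg
      have hgZ : IsZChar ↥Cs g := isZChar_slice hfZ α₀
      obtain ⟨m, hm⟩ := hgZ.apply_one
      have h1 : f (1, 1) = (p : ℂ) * (m : ℂ) := by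
        have := coef_sum_eq (fun a => f (a, (1 : ↥Cs)))
        rw [this]
        have h2 : ∀ α : Cfsg.IrrCharacter (Multiplicative (ZMod p)),
            coef (fun a => f (a, (1 : ↥Cs))) (α : _ → ℂ) = (m : ℂ) := by
          intro α
          have := congrFun (hex α α₀) 1
          unfold slice at this
          rw [this, ← hm]
          rfl
        simp only [h2, Finset.sum_const, Finset.card_univ, nsmul_eq_mul]
        rw [card_irr', hcardA]
      obtain ⟨n, ρ, hirr, hχ⟩ := χ.2
      have h3 : f (1, 1) = (n : ℂ) := by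
        have hF1 : F ((1 : Multiplicative (ZMod p)), (1 : ↥Cs)) = 1 := map_one F
        rw [hf]
        simp only
        rw [hF1, ← hχ, Representation.char_one]
        simp
      haveI := hirr
      have h4 := Cfsg.Agent.S0169.result ρ V hVc
      rw [Module.finrank_fin_fun] at h4
      rw [h3] at h1
      have h5 : (n : ℤ) = (p : ℤ) * m := by exact_mod_cast h1
      have h6 : (p : ℤ) ∣ (n : ℤ) := ⟨m, h5⟩
      have h7 : p ∣ n := Int.natCast_dvd_natCast.mp h6
      exact hidx (h7.trans h4)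
  -- upper bound
  have hup : ∀ q : Multiplicative (ZMod p) × ↥Cs,
      ((if q.1 = 1 then 0 else 1) * Δ q.2) *
        ∑ χ : Cfsg.IrrCharacter X, Complex.normSq ((χ : X → ℂ) (F q))
      ≤ (if q.1 = 1 then 0 else 1) * ((Nat.card ↥V : ℝ) * (Nat.card ↥Cs : ℝ)) := by
    intro q
    by_cases hq : q.1 = 1
    · rw [if_pos hq]; simp
    · rw [if_neg hq, one_mul, one_mul, sum_normSq_irr, hF]
      have hj : ¬ p ∣ (Multiplicative.toAdd q.1).val := by
        intro hdvd
        apply hq
        have h1 : (Multiplicative.toAdd q.1).val < p := ZMod.val_lt _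
        have h2 : (Multiplicative.toAdd q.1).val = 0 := Nat.eq_zero_of_dvd_of_lt hdvd h1
        have h3 : Multiplicative.toAdd q.1 = 0 := (ZMod.val_eq_zero _).mp h2
        exact h3
      have h1 := card_centralizer_le V G hVc hGV.sup_eq_top v hv p hp.out hvp hab hcopCs
        (q.2 : X) q.2.2 (Multiplicative.toAdd q.1).val hj
      rw [← hfix q.2] at h1
      have h2 : (Nat.card ↥(Subgroup.centralizer
          ({v ^ (Multiplicative.toAdd q.1).val * (q.2 : X)} : Set X)) : ℝ)
          ≤ (Nat.card ↥(fixSub (M := ↥V) q.2) : ℝ) * (Nat.card ↥Cs : ℝ) := by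
        exact_mod_cast h1
      have hpos : (0 : ℝ) < (Nat.card ↥(fixSub (M := ↥V) q.2) : ℝ) := by
        have : 0 < Nat.card ↥(fixSub (M := ↥V) q.2) := Nat.card_pos
        exact_mod_cast this
      rw [hΔ]
      simp only
      rw [div_mul_eq_mul_div, div_le_iff₀ hpos]
      have hV0 : (0 : ℝ) ≤ (Nat.card ↥V : ℝ) := by positivity
      nlinarith [mul_le_mul_of_nonneg_left h2 hV0]
  -- assemble
  have hcount : ∑ q : Multiplicative (ZMod p) × ↥Cs,
      (if q.1 = 1 then (0 : ℝ) else 1) * ((Nat.card ↥V : ℝ) * (Nat.card ↥Cs : ℝ))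
      = ((p : ℝ) - 1) * (Nat.card ↥Cs : ℝ) * ((Nat.card ↥V : ℝ) * (Nat.card ↥Cs : ℝ)) := by
    rw [Fintype.sum_prod_type]
    have h1 : ∀ a : Multiplicative (ZMod p), ∑ c : ↥Cs,
        (if a = 1 then (0 : ℝ) else 1) * ((Nat.card ↥V : ℝ) * (Nat.card ↥Cs : ℝ))
        = (Nat.card ↥Cs : ℝ) * ((Nat.card ↥V : ℝ) * (Nat.card ↥Cs : ℝ))
          - (if a = 1 then (Nat.card ↥Cs : ℝ) * ((Nat.card ↥V : ℝ) * (Nat.card ↥Cs : ℝ)) else 0) := by
      intro a
      rw [Finset.sum_const, Finset.card_univ, nsmul_eq_mul, ← Nat.card_eq_fintype_card]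
      split_ifs <;> ring
    simp only [h1]
    rw [Finset.sum_sub_distrib, Finset.sum_const, Finset.card_univ, nsmul_eq_mul,
      Finset.sum_ite_eq' Finset.univ (1 : Multiplicative (ZMod p)), if_pos (Finset.mem_univ _),
      ← Nat.card_eq_fintype_card, hcardA]
    ring
  have htotal : (Nat.card (Cfsg.IrrCharacter X) : ℝ) * (((p : ℝ) - 1) * (Nat.card ↥Cs : ℝ) ^ 2)
      ≤ ((p : ℝ) - 1) * (Nat.card ↥Cs : ℝ) * ((Nat.card ↥V : ℝ) * (Nat.card ↥Cs : ℝ)) := by
    calc (Nat.card (Cfsg.IrrCharacter X) : ℝ) * (((p : ℝ) - 1) * (Nat.card ↥Cs : ℝ) ^ 2)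
        = ∑ _χ : Cfsg.IrrCharacter X, (((p : ℝ) - 1) * (Nat.card ↥Cs : ℝ) ^ 2) := by
          rw [Finset.sum_const, Finset.card_univ, nsmul_eq_mul, Nat.card_eq_fintype_card]
      _ ≤ ∑ χ : Cfsg.IrrCharacter X, ∑ q : Multiplicative (ZMod p) × ↥Cs,
            ((if q.1 = 1 then 0 else 1) * Δ q.2) * Complex.normSq ((χ : X → ℂ) (F q)) :=
          Finset.sum_le_sum fun χ _ => hlow χ
      _ = ∑ q : Multiplicative (ZMod p) × ↥Cs, ((if q.1 = 1 then 0 else 1) * Δ q.2) *
            ∑ χ : Cfsg.IrrCharacter X, Complex.normSq ((χ : X → ℂ) (F q)) := by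
          rw [Finset.sum_comm]
          apply Finset.sum_congr rfl
          intro q _
          rw [Finset.mul_sum]
      _ ≤ ∑ q : Multiplicative (ZMod p) × ↥Cs,
            (if q.1 = 1 then (0 : ℝ) else 1) * ((Nat.card ↥V : ℝ) * (Nat.card ↥Cs : ℝ)) :=
          Finset.sum_le_sum fun q _ => hup q
      _ = _ := hcount
  rw [← Cfsg.Agent.Helper3.card_irr_eq_card_conjClasses]
  have hp1 : (0 : ℝ) < (p : ℝ) - 1 := by
    have : (1 : ℝ) < p := by exact_mod_cast hp.out.one_lt
    linarith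
  have hCpos : (0 : ℝ) < (Nat.card ↥Cs : ℝ) := by
    have : 0 < Nat.card ↥Cs := Nat.card_pos
    exact_mod_cast this
  have hfin : (Nat.card (Cfsg.IrrCharacter X) : ℝ) ≤ (Nat.card ↥V : ℝ) := by
    have hpos : (0 : ℝ) < ((p : ℝ) - 1) * (Nat.card ↥Cs : ℝ) ^ 2 := by positivity
    have h1 : (Nat.card (Cfsg.IrrCharacter X) : ℝ) * (((p : ℝ) - 1) * (Nat.card ↥Cs : ℝ) ^ 2)
        ≤ (Nat.card ↥V : ℝ) * (((p : ℝ) - 1) * (Nat.card ↥Cs : ℝ) ^ 2) := by
      calc _ ≤ _ := htotal
        _ = _ := by ring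
    exact le_of_mul_le_mul_right h1 hpos
  exact_mod_cast hfin

end Main

end Cfsg.Agent.Helper77.KGV
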