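import Mathlib
import Cfsg.Agent.Lib.Helper77.Knorr

/-!
# A stable covered block with defect group `P ∩ N` (S4671).
-/

set_option autoImplicit false
set_option linter.unusedSectionVars false
set_option linter.style.haveILetI false

namespace Cfsg.Agent.Helper77

open Cfsg Cfsg.Agent.Helper78

universe u

section stable

variable {G : Type u} [Group G] [Fintype G] {p : ℕ} {M : Ideal AlgInt}

/-- If no member of `B` lies over a member of the block `c` of `N ⊴ G`, the product of the
idempotents of `B` and `c` vanishes. -/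
theorem conv_blockCoeff_subgroupBlockCoeff_eq_zero
    (N : Subgroup G) [hN : N.Normal] [Fintype N]
    (B : Set (IrrCharacter G)) (c : Set (IrrCharacter N))
    (hno : ∀ χ ∈ B, ∀ θ ∈ c, classInner (fun n : N => (χ : G → ℂ) n) (θ : N → ℂ) = 0) :
    conv (blockCoeff B) (subgroupBlockCoeff N c) = 0 := by
  classical
  obtain ⟨C, hCdef⟩ : ∃ C, C = Cfsg.Agent.Helper16.conjClosure N c := ⟨_, rfl⟩
  have hCst : ∀ x : G, ∀ θ ∈ C, Cfsg.Agent.Helper16.conjIrr N x θ ∈ C := by
    rw [hCdef]
    exact fun x θ hθ => Cfsg.Agent.Helper16.conjClosure_conj_closed N c x θ hθ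
  obtain ⟨f, hfdef⟩ : ∃ f, f = Cfsg.Agent.Helper16.idemFun N C := ⟨_, rfl⟩
  have hfcl : IsClassFunction G f := by
    rw [hfdef]; exact Cfsg.Agent.Helper16.isClassFunction_idemFun N C hCst
  have hfsupp : SuppIn N f := by
    rw [hfdef]; exact fun g hg => Cfsg.Agent.Helper16.idemFun_of_not_mem N C hg
  have hEf : conv (blockCoeff B) f = 0 := by
    have h0 : IsClassFunction G (0 : G → ℂ) := fun _ _ => rfl
    apply eq_of_omega_eq (isClassFunction_conv (isClassFunction_blockCoeff B) hfcl) h0
    intro χ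
    have hz0 : omega (χ : G → ℂ) (0 : G → ℂ) = 0 := by unfold omega; simp
    rw [hz0, omega_conv χ.2 (isClassFunction_blockCoeff B) hfcl, omega_blockCoeff]
    by_cases hχ : χ ∈ B
    · obtain ⟨θ₁, hθ₁⟩ := Cfsg.Agent.Helper16.exists_constituent N χ
      have hθ₁C : θ₁ ∉ C := by
        intro h
        rw [hCdef] at h
        obtain ⟨g, hg⟩ := (Cfsg.Agent.Helper16.mem_conjClosure N c θ₁).1 h
        apply hθ₁
        rw [← Cfsg.Agent.Helper16.classInner_restrict_conjIrr N χ g θ₁]
        exact hno χ hχ _ hg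
      rw [hfdef, Cfsg.Agent.Helper16.omega_idemFun_of_constituent N C hCst χ θ₁ hθ₁,
        if_neg hθ₁C, mul_zero]
    · rw [if_neg hχ, zero_mul]
  have hfc : conv f (subgroupBlockCoeff N c) = subgroupBlockCoeff N c := by
    funext g
    by_cases hg : g ∈ N
    · have h1 := conv_coe_of_suppIn N hfsupp (subgroupBlockCoeff N c) ⟨g, hg⟩
      rw [show ((⟨g, hg⟩ : N) : G) = g from rfl] at h1
      rw [h1]
      have h2 : (fun m : N => subgroupBlockCoeff N c (m : G)) = blockCoeff c :=
        restr_subgroupBlockCoeff N c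
      rw [h2]
      have hφcl : IsClassFunction N (fun m : N => f (m : G)) :=
        Cfsg.Agent.Helper16.isClassFunction_restrict N hfcl
      have h3 : conv (fun m : N => f (m : G)) (blockCoeff c) = blockCoeff c := by
        apply eq_of_omega_eq (isClassFunction_conv hφcl (isClassFunction_blockCoeff c))
          (isClassFunction_blockCoeff c)
        intro θ
        rw [omega_conv θ.2 hφcl (isClassFunction_blockCoeff c), omega_blockCoeff, hfdef,
          Cfsg.Agent.Helper16.omega_idemFun_restrict N C θ]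
        by_cases hθ : θ ∈ c
        · have : θ ∈ C := by
            rw [hCdef]; exact Cfsg.Agent.Helper16.subset_conjClosure N c hθ
          rw [if_pos hθ, if_pos this, mul_one]
        · rw [if_neg hθ, mul_zero]
      rw [h3, ← h2]
    · rw [suppIn_conv N hfsupp (fun g hg => subgroupBlockCoeff_of_notMem N c hg) g hg,
        subgroupBlockCoeff_of_notMem N c hg]
  rw [← hfc, ← Cfsg.Agent.Helper16.conv_assoc, hEf, conv_zero_left]

/-- **S4671.**  If `P` is a defect group of the block `B` of `G` and `N ⊴ G`, some `P`-stable block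
`c` of `N` covered by `B` has defect group `P ∩ N`. -/
theorem exists_stable_block_inf_defectGroup [Fact p.Prime] (hM : IsPModular p M)
    (N : Subgroup G) [hN : N.Normal] [Fintype N]
    {B : Set (IrrCharacter G)} (hB : IsPBlock M B) {P : Subgroup G}
    (hP : IsDefectGroup p M B P) :
    ∃ c : Set (IrrCharacter N), IsPBlock M c ∧ (∀ x ∈ P, StabilizesBlock N c x) ∧
      (∃ χ ∈ B, ∃ θ ∈ c, classInner (fun n : N => (χ : G → ℂ) n) (θ : N → ℂ) ≠ 0) ∧
      IsDefectGroup p M c ((P ⊓ N).subgroupOf N) := by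
  classical
  haveI hpr := isPrime_of_isPModular hM
  haveI : Fintype (⊤ : Subgroup G) := Fintype.ofFinite _
  have hp0 : (p : ℂ) ≠ 0 := by exact_mod_cast hM.1.ne_zero
  have hPN : P ≤ Subgroup.normalizer (N : Set G) := by
    rw [Subgroup.normalizer_eq_top]
    exact le_top
  obtain ⟨x₀, ⟨hxR, hxJ, hxω⟩, hPle, hPp, -⟩ := isDefectGroup_iff_card.mp hP
  have hx₀C : x₀ ∈ Subgroup.centralizer (P : Set G) := le_centralizer_singleton_iff.mp hPle
  obtain ⟨t, htdef⟩ : ∃ t : Set (IrrCharacter N) → ℂ,
      t = fun c => conv (blockCoeff B) (subgroupBlockCoeff N c) x₀ := ⟨_, rfl⟩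
  have htR : ∀ c, IsPBlock M c → MemLocalRing M (t c) := by
    intro c hc
    rw [htdef]
    exact isRValued_conv (isRValued_blockCoeff hB) (isRValued_subgroupBlockCoeff N hc) x₀
  have hsum : ∑ c ∈ allBlocks M N, t c = blockCoeff B x₀ := by
    rw [htdef]
    simp only []
    rw [← Finset.sum_apply, ← conv_finsum_right, sum_subgroupBlockCoeff_allBlocks,
      conv_delta_right]
  have hinv : ∀ (u : G) (hu : u ∈ P) (c : Set (IrrCharacter N)),
      t (conjSet N u (hPN hu) c) = t c := by
    intro u hu c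
    rw [htdef]
    simp only []
    unfold conv
    rw [← Equiv.sum_comp (MulAut.conj u).toEquiv]
    refine Finset.sum_congr rfl fun k _ => ?_
    have h1 : (MulAut.conj u).toEquiv k = u * k * u⁻¹ := by simp [MulAut.conj_apply]
    rw [h1, isClassFunction_blockCoeff B k u, subgroupBlockCoeff_conjSet]
    have hux : u⁻¹ * x₀ * u = x₀ := by
      have := (Subgroup.mem_centralizer_iff.mp hx₀C) u hu
      calc u⁻¹ * x₀ * u = u⁻¹ * (x₀ * u) := by group
        _ = u⁻¹ * (u * x₀) := by rw [← this]
        _ = x₀ := by group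
    have h2 : u⁻¹ * ((u * k * u⁻¹)⁻¹ * x₀) * u = k⁻¹ * (u⁻¹ * x₀ * u) := by group
    rw [h2, hux]
  -- the non-stable part
  have hns : MemLocalIdeal M (∑ f ∈ (allBlocks M N).filter
      (fun f => ¬ IsStableSet N P hPN f), t f) := by
    letI := nonStableAction M N P hPN
    haveI : Fintype (NonStableBlock M N P hPN) := by
      unfold NonStableBlock
      exact Fintype.ofFinite _
    have hkey := memLocalRing_sum_div_of_no_fixedPoints hM (P := P) hPp
      (X := NonStableBlock M N P hPN)
      (fun f => by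
        have hnot := f.2.2
        unfold IsStableSet at hnot
        push Not at hnot
        obtain ⟨x, hx, hne⟩ := hnot
        exact ⟨⟨x, hx⟩, fun h => hne (congrArg Subtype.val h)⟩)
      (fun f => t f.1)
      (fun u f => hinv u u.2 f.1)
      (fun f => htR f.1 f.2.1)
    have heq : ∑ f ∈ (allBlocks M N).filter (fun f => ¬ IsStableSet N P hPN f), t f =
        ∑ f : NonStableBlock M N P hPN, t f.1 := by
      symm
      refine Finset.sum_bij (fun f _ => f.1) (fun f _ => ?_) (fun f _ g _ h => Subtype.ext h)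
        (fun f hf => ?_) (fun f _ => rfl)
      · exact Finset.mem_filter.mpr ⟨mem_allBlocks.mpr f.2.1, f.2.2⟩
      · obtain ⟨h1, h2⟩ := Finset.mem_filter.mp hf
        exact ⟨⟨f, mem_allBlocks.mp h1, h2⟩, Finset.mem_univ _, rfl⟩
    rw [heq]
    have := memLocalIdeal_mul_right ((memLocalIdeal_natCast_iff hM p).mpr dvd_rfl) hkey
    rwa [mul_div_cancel₀ _ hp0] at this
  have hex : ∃ f ∈ (allBlocks M N).filter (fun f => IsStableSet N P hPN f),
      ¬ MemLocalIdeal M (t f) := by
    by_contra hcon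
    push Not at hcon
    have h1 := memLocalIdeal_sum (M := M) _ t hcon
    have h2 := Finset.sum_filter_add_sum_filter_not (allBlocks M N)
      (fun f => IsStableSet N P hPN f) t
    rw [hsum] at h2
    apply hxJ
    rw [← h2]
    exact memLocalIdeal_add h1 hns
  obtain ⟨c, hcmem, hct⟩ := hex
  obtain ⟨hcB, hcst⟩ := Finset.mem_filter.mp hcmem
  have hc : IsPBlock M c := mem_allBlocks.mp hcB
  -- covering
  have hcov : ∃ χ ∈ B, ∃ θ ∈ c, classInner (fun n : N => (χ : G → ℂ) n) (θ : N → ℂ) ≠ 0 := by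
    by_contra hno
    push Not at hno
    apply hct
    rw [htdef]
    simp only []
    rw [conv_blockCoeff_subgroupBlockCoeff_eq_zero N B c hno]
    exact memLocalIdeal_zero hpr.ne_top
  obtain ⟨χ, hχ, θ, hθ, hcon⟩ := hcov
  -- the Brauer map at `P`
  have hcinvP : ∀ u ∈ P, ∀ x, subgroupBlockCoeff N c (u * x * u⁻¹) = subgroupBlockCoeff N c x :=
    subgroupBlockCoeff_conj_of_stable N P hPN hcst
  obtain ⟨r, hr, hreq⟩ := cutC_conv hM P ⊤ hPp le_top (blockCoeff B) (subgroupBlockCoeff N c)
    (isRValued_blockCoeff hB) (isRValued_subgroupBlockCoeff N hc)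
    (fun u _ y => isClassFunction_blockCoeff B y u) hcinvP
  have hex2 : ∃ y ∈ Subgroup.centralizer (P : Set G),
      ¬ MemLocalIdeal M (subgroupBlockCoeff N c y) := by
    by_contra hcon2
    push Not at hcon2
    apply hct
    rw [htdef]
    simp only []
    have h1 := congrFun hreq ⟨x₀, Subgroup.mem_top x₀⟩
    rw [cutC_of_mem _ _ _ hx₀C] at h1
    rw [h1]
    simp only [Pi.add_apply, Pi.smul_apply, smul_eq_mul]
    refine memLocalIdeal_add ?_ (memLocalIdeal_mul_right (memLocalIdeal_natCast_self hM) (hr _))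
    unfold conv
    refine memLocalIdeal_sum _ _ fun s _ => ?_
    refine memLocalIdeal_mul_left (isRValued_cutC _ _ (isRValued_blockCoeff hB) s) ?_
    by_cases hs : ((s⁻¹ * (⟨x₀, Subgroup.mem_top x₀⟩ : (⊤ : Subgroup G)) : (⊤ : Subgroup G)) : G) ∈
        Subgroup.centralizer (P : Set G)
    · rw [cutC_of_mem _ _ _ hs]
      exact hcon2 _ hs
    · rw [cutC_of_notMem _ _ _ hs]
      exact memLocalIdeal_zero hpr.ne_top
  obtain ⟨y, hyC, hyJ⟩ := hex2
  have hyN : y ∈ N := by
    by_contra hcon2
    apply hyJ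
    rw [subgroupBlockCoeff_of_notMem N c hcon2]
    exact memLocalIdeal_zero hpr.ne_top
  have hyJ' : ¬ MemLocalIdeal M (blockCoeff c ⟨y, hyN⟩) := by
    rwa [subgroupBlockCoeff_eq_extZ, extZ_of_mem' _ _ hyN] at hyJ
  have hR : IsPGroup p (P ⊓ N : Subgroup G) := hPp.to_le inf_le_left
  obtain ⟨E, hE, hRE⟩ := exists_isDefectGroup_ge_of_blockCoeff hM hc hyJ' _ hR.comap_subtype (by
    intro s hs
    have hs : (s : G) ∈ P ⊓ N := hs
    rw [Subgroup.mem_centralizer_iff]
    intro z hz
    rw [Set.mem_singleton_iff] at hz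
    subst hz
    apply Subtype.ext
    show y * (s : G) = (s : G) * y
    exact ((Subgroup.mem_centralizer_iff.mp hyC) (s : G) hs.1).symm)
  -- Knörr
  have hE'N : E.map N.subtype ≤ N := Subgroup.map_subtype_le E
  have hE'sub : (E.map N.subtype).subgroupOf N = E :=
    Subgroup.comap_map_eq_self_of_injective (Subgroup.subtype_injective N) E
  obtain ⟨P', hP', hP'N⟩ := exists_isDefectGroup_inf_eq hM N hB hc χ hχ θ hθ hcon hE'N
    (by rw [hE'sub]; exact hE)
  obtain ⟨g, hg⟩ := exists_conj_eq_of_isDefectGroup hM hB hP hP'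
  have hsub : (E.map N.subtype).map (MulAut.conj g).toMonoidHom ≤ P ⊓ N := by
    rintro _ ⟨e, he, rfl⟩
    have heP' : e ∈ P' ⊓ N := by rw [hP'N]; exact he
    refine ⟨?_, ?_⟩
    · rw [← hg]
      exact ⟨e, heP'.1, rfl⟩
    · have := hN.conj_mem e heP'.2 g
      simpa [MulAut.conj_apply] using this
  have hcard : Nat.card E ≤ Nat.card ((P ⊓ N : Subgroup G).subgroupOf N) := by
    rw [card_subgroupOf_of_le (inf_le_right : (P ⊓ N : Subgroup G) ≤ N)]
    have h1 : Nat.card E = Nat.card (E.map N.subtype) :=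
      (Subgroup.card_map_of_injective (Subgroup.subtype_injective N)).symm
    have h2 : Nat.card (E.map N.subtype) =
        Nat.card ((E.map N.subtype).map (MulAut.conj g).toMonoidHom) :=
      (Subgroup.card_map_of_injective (MulAut.conj g).injective).symm
    rw [h1, h2]
    exact Subgroup.card_le_of_le hsub
  have hEeq : (P ⊓ N : Subgroup G).subgroupOf N = E := Subgroup.eq_of_le_of_card_ge hRE hcard
  refine ⟨c, hc, ?_, ⟨χ, hχ, θ, hθ, hcon⟩, ?_⟩
  · intro x hx
    exact (stabilizesBlock_iff_conjSet_eq N x (hPN hx) hc).mpr (hcst x hx)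
  · rw [hEeq]
    exact hE

end stable

end Cfsg.Agent.Helper77
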