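-- helper77: Konvisser lemma (P1) for helper52 (S3117).
import Mathlib

set_option autoImplicit false

namespace Cfsg.Agent.Helper77.Konv

variable {W : Type*} [Group W]

theorem comm_of_sq (hW : ∀ w : W, w * w = 1) (a b : W) : a * b = b * a := by
  have ha : a * a = 1 := hW a
  have hb : b * b = 1 := hW b
  calc a * b = a * b * (b * a * (b * a)) := by rw [hW (b * a), mul_one]
    _ = a * (b * b) * a * (b * a) := by group
    _ = b * a := by rw [hb, mul_one, ha, one_mul]

/-- the fixed-point subgroup of an automorphism -/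
def fixSub (σ : MulAut W) : Subgroup W where
  carrier := {w | σ w = w}
  one_mem' := by simp
  mul_mem' := by
    intro a b ha hb
    simp only [Set.mem_ofPred_eq] at ha hb ⊢
    rw [map_mul, ha, hb]
  inv_mem' := by
    intro a ha
    simp only [Set.mem_ofPred_eq] at ha ⊢
    rw [map_inv, ha]

theorem mem_fixSub (σ : MulAut W) (w : W) : w ∈ fixSub σ ↔ σ w = w := Iff.rfl

theorem pow_apply_of_fix (σ : MulAut W) (w : W) (hw : σ w = w) (i : ℕ) : (σ ^ i) w = w := by
  induction i with
  | zero => simp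
  | succ i ih => rw [pow_succ, MulAut.mul_apply, hw, ih]

theorem zpow_apply_of_fix (σ : MulAut W) (w : W) (hw : σ w = w) (i : ℤ) : (σ ^ i) w = w := by
  have hinv : σ⁻¹ w = w := by
    have : σ⁻¹ (σ w) = w := by
      rw [← MulAut.mul_apply, inv_mul_cancel, MulAut.one_apply]
    rwa [hw] at this
  cases i with
  | ofNat n => simpa using pow_apply_of_fix σ w hw n
  | negSucc n =>
    rw [zpow_negSucc, ← inv_pow]
    exact pow_apply_of_fix σ⁻¹ w hinv (n + 1)

theorem card_fix_modEq [Finite W] (σ : MulAut W) (p : ℕ) (hp : p.Prime) (hσ : orderOf σ = p) :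
    Nat.card W ≡ Nat.card (fixSub σ) [MOD p] := by
  have : Fact p.Prime := ⟨hp⟩
  have hP : IsPGroup p (Subgroup.zpowers σ) := by
    apply IsPGroup.of_card (n := 1)
    rw [Nat.card_zpowers, hσ, pow_one]
  have h1 := hP.card_modEq_card_fixedPoints W
  have h2 : (MulAction.fixedPoints (Subgroup.zpowers σ) W) = ((fixSub σ : Subgroup W) : Set W) := by
    ext w
    constructor
    · intro hw
      have := hw ⟨σ, Subgroup.mem_zpowers σ⟩
      exact this
    · intro hw
      rintro ⟨g, hg⟩
      obtain ⟨i, rfl⟩ := Subgroup.mem_zpowers_iff.mp hg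
      exact zpow_apply_of_fix σ w hw i
  have h3 : Nat.card (MulAction.fixedPoints (Subgroup.zpowers σ) W) = Nat.card (fixSub σ) := by
    rw [h2]; rfl
  rwa [h3] at h1

/-- ordered product `f 0 * f 1 * ... * f (n-1)` (no commutativity instance needed) -/
def nprod (f : ℕ → W) : ℕ → W
  | 0 => 1
  | n + 1 => nprod f n * f n

theorem nprod_zero (f : ℕ → W) : nprod f 0 = 1 := rfl

theorem nprod_succ (f : ℕ → W) (n : ℕ) : nprod f (n + 1) = nprod f n * f n := rfl

theorem nprod_mul (hW : ∀ w : W, w * w = 1) (f g : ℕ → W) (n : ℕ) :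
    nprod (fun i => f i * g i) n = nprod f n * nprod g n := by
  induction n with
  | zero => simp [nprod_zero]
  | succ n ih =>
    rw [nprod_succ, nprod_succ, nprod_succ, ih]
    calc nprod f n * nprod g n * (f n * g n)
        = nprod f n * (nprod g n * f n) * g n := by group
      _ = nprod f n * (f n * nprod g n) * g n := by rw [comm_of_sq hW (nprod g n) (f n)]
      _ = nprod f n * f n * (nprod g n * g n) := by group

theorem nprod_one (n : ℕ) : nprod (fun _ => (1 : W)) n = 1 := by
  induction n with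
  | zero => rfl
  | succ n ih => rw [nprod_succ, ih, one_mul]

theorem nprod_const (w : W) (n : ℕ) : nprod (fun _ => w) n = w ^ n := by
  induction n with
  | zero => simp [nprod_zero]
  | succ n ih => rw [nprod_succ, ih, pow_succ]

theorem nprod_congr (f g : ℕ → W) (n : ℕ) (h : ∀ i, i < n → f i = g i) :
    nprod f n = nprod g n := by
  induction n with
  | zero => rfl
  | succ n ih =>
    rw [nprod_succ, nprod_succ, ih (fun i hi => h i (Nat.lt_succ_of_lt hi)), h n (Nat.lt_succ_self n)]

theorem map_nprod (σ : MulAut W) (f : ℕ → W) (n : ℕ) :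
    σ (nprod f n) = nprod (fun i => σ (f i)) n := by
  induction n with
  | zero => simp [nprod_zero]
  | succ n ih => rw [nprod_succ, nprod_succ, map_mul, ih]

theorem nprod_shift (hW : ∀ w : W, w * w = 1) (f : ℕ → W) (n : ℕ) :
    nprod (fun i => f (i + 1)) n * f 0 = nprod f n * f n := by
  induction n with
  | zero => simp [nprod_zero]
  | succ n ih =>
    rw [nprod_succ, nprod_succ]
    calc nprod (fun i => f (i + 1)) n * f (n + 1) * f 0
        = (nprod (fun i => f (i + 1)) n * f 0) * f (n + 1) := by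
          rw [mul_assoc, comm_of_sq hW (f (n + 1)) (f 0), ← mul_assoc]
      _ = nprod f n * f n * f (n + 1) := by rw [ih]

/-- the norm map as a monoid hom, for an exponent-2 group -/
def normHom (hW : ∀ w : W, w * w = 1) (σ : MulAut W) : W →* W where
  toFun w := nprod (fun i => (σ ^ i) w) 7
  map_one' := by
    have : (fun i : ℕ => (σ ^ i) (1 : W)) = fun _ => 1 := by
      funext i; simp
    rw [this, nprod_one]
  map_mul' := by
    intro a b
    have : (fun i : ℕ => (σ ^ i) (a * b)) = fun i => (σ ^ i) a * (σ ^ i) b := by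
      funext i; simp
    rw [this, nprod_mul hW]

theorem normHom_apply (hW : ∀ w : W, w * w = 1) (σ : MulAut W) (w : W) :
    normHom hW σ w = nprod (fun i => (σ ^ i) w) 7 := rfl

theorem sigma_normHom (hW : ∀ w : W, w * w = 1) (σ : MulAut W) (hσ : σ ^ 7 = 1) (w : W) :
    σ (normHom hW σ w) = normHom hW σ w := by
  rw [normHom_apply, map_nprod]
  have h1 : (fun i : ℕ => σ ((σ ^ i) w)) = fun i => (σ ^ (i + 1)) w := by
    funext i
    rw [pow_succ', MulAut.mul_apply]
  rw [h1]
  have h2 := nprod_shift hW (fun i => (σ ^ i) w) 7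
  simp only [hσ, pow_zero] at h2
  exact mul_right_cancel h2

theorem normHom_sigma (hW : ∀ w : W, w * w = 1) (σ : MulAut W) (hσ : σ ^ 7 = 1) (w : W) :
    normHom hW σ (σ w) = normHom hW σ w := by
  rw [← sigma_normHom hW σ hσ w, normHom_apply, normHom_apply, map_nprod]
  apply nprod_congr
  intro i _
  rw [← MulAut.mul_apply, ← MulAut.mul_apply, ← pow_succ, ← pow_succ']

theorem normHom_of_fix (hW : ∀ w : W, w * w = 1) (σ : MulAut W) (w : W) (hw : σ w = w) :
    normHom hW σ w = w := by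
  rw [normHom_apply]
  have : (fun i : ℕ => (σ ^ i) w) = fun _ => w := by
    funext i; exact pow_apply_of_fix σ w hw i
  rw [this, nprod_const]
  have h2 : w ^ 2 = 1 := by rw [pow_two]; exact hW w
  calc w ^ 7 = (w ^ 2) ^ 3 * w := by rw [← pow_mul, ← pow_succ]
    _ = w := by rw [h2, one_pow, one_mul]

theorem range_normHom (hW : ∀ w : W, w * w = 1) (σ : MulAut W) (hσ : σ ^ 7 = 1) :
    (normHom hW σ).range = fixSub σ := by
  ext w
  constructor
  · rintro ⟨x, rfl⟩
    exact sigma_normHom hW σ hσ x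
  · intro hw
    exact ⟨w, normHom_of_fix hW σ w hw⟩

theorem card_ker_normHom [Finite W] (hW : ∀ w : W, w * w = 1) (σ : MulAut W) (hσ : σ ^ 7 = 1) :
    Nat.card (normHom hW σ).ker * Nat.card (fixSub σ) = Nat.card W := by
  have h1 := Subgroup.card_mul_index (normHom hW σ).ker
  rw [Subgroup.index_ker, range_normHom hW σ hσ] at h1
  exact h1

theorem arith (m k p : ℕ) (hp : p.Prime) (hp5 : 5 ≤ p) (hm : 2 ^ m ≤ 16) (hk : k < m)
    (hmod : 2 ^ m ≡ 2 ^ k [MOD p]) :
    (p = 5 ∧ m = 4 ∧ k = 0) ∨ (p = 7 ∧ ((m = 3 ∧ k = 0) ∨ (m = 4 ∧ k = 1))) := by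
  have hm4 : m ≤ 4 := by
    by_contra hcon
    push Not at hcon
    have : 2 ^ 5 ≤ 2 ^ m := Nat.pow_le_pow_right (by norm_num) hcon
    omega
  have hle : 2 ^ k ≤ 2 ^ m := Nat.pow_le_pow_right (by norm_num) hk.le
  have hdvd : p ∣ 2 ^ m - 2 ^ k := (Nat.modEq_iff_dvd' hle).mp hmod.symm
  have hpos : 0 < 2 ^ m - 2 ^ k := by
    have : 2 ^ k < 2 ^ m := Nat.pow_lt_pow_right (by norm_num) hk
    omega
  have hple : p ≤ 2 ^ m - 2 ^ k := Nat.le_of_dvd hpos hdvd
  have hp16 : p ≤ 16 := by
    have : 2 ^ m - 2 ^ k ≤ 2 ^ m := Nat.sub_le _ _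
    omega
  interval_cases m <;> interval_cases k <;> interval_cases p <;>
    first
    | (exfalso; revert hp; norm_num; done)
    | (exfalso; revert hdvd; norm_num; done)
    | simp

theorem P1 [Finite W] (hW : ∀ w : W, w * w = 1) (hc : Nat.card W ≤ 16) (σ : MulAut W)
    (p : ℕ) (hp : p.Prime) (hp5 : 5 ≤ p) (hσ : orderOf σ = p) :
    (p = 5 ∧ Nat.card W = 16 ∧ ∀ w, σ w = w → w = 1) ∨
    (p = 7 ∧ ∃ U : Subgroup W, Nat.card U = 8 ∧ (∀ u ∈ U, σ u ∈ U) ∧ ∀ u ∈ U, σ u = u → u = 1) := by
  have : Fact (Nat.Prime 2) := ⟨Nat.prime_two⟩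
  have hP2 : IsPGroup 2 W := fun g => ⟨1, by rw [pow_one, pow_two]; exact hW g⟩
  obtain ⟨m, hm⟩ := hP2.exists_card_eq
  obtain ⟨k, hk⟩ := (hP2.to_subgroup (fixSub σ)).exists_card_eq
  have hmod := card_fix_modEq σ p hp hσ
  rw [hm, hk] at hmod
  have hne : fixSub σ ≠ ⊤ := by
    intro htop
    have h1 : σ = 1 := by
      ext w
      have : w ∈ fixSub σ := by rw [htop]; exact Subgroup.mem_top w
      rw [MulAut.one_apply]
      exact (mem_fixSub σ w).mp this
    rw [h1, orderOf_one] at hσ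
    omega
  have hkm : k < m := by
    have hdvd : Nat.card (fixSub σ) ∣ Nat.card W := Subgroup.card_subgroup_dvd_card _
    rw [hm, hk] at hdvd
    have hle : k ≤ m := (Nat.pow_dvd_pow_iff_le_right (by norm_num)).mp hdvd
    rcases Nat.lt_or_ge k m with h | h
    · exact h
    · exfalso
      have hkm : k = m := le_antisymm hle h
      apply hne
      apply Subgroup.eq_top_of_card_eq
      rw [hk, hm, hkm]
  have hcase := arith m k p hp hp5 (by rw [← hm]; exact hc) hkm hmod
  rcases hcase with ⟨hp5', hm4, hk0⟩ | ⟨hp7, hmk⟩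
  · left
    refine ⟨hp5', by rw [hm, hm4]; norm_num, ?_⟩
    intro w hw
    have hbot : fixSub σ = ⊥ := by
      apply Subgroup.eq_bot_of_card_eq
      rw [hk, hk0, pow_zero]
    have : w ∈ fixSub σ := hw
    rw [hbot] at this
    exact Subgroup.mem_bot.mp this
  · right
    refine ⟨hp7, ?_⟩
    have hσ7 : σ ^ 7 = 1 := by
      rw [← hp7, ← hσ]; exact pow_orderOf_eq_one σ
    refine ⟨(normHom hW σ).ker, ?_, ?_, ?_⟩
    · have h1 := card_ker_normHom hW σ hσ7
      rw [hm, hk] at h1
      rcases hmk with ⟨hm3, hk0⟩ | ⟨hm4, hk1⟩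
      · rw [hm3, hk0] at h1; omega
      · rw [hm4, hk1] at h1; omega
    · intro u hu
      rw [MonoidHom.mem_ker] at hu ⊢
      rw [normHom_sigma hW σ hσ7, hu]
    · intro u hu hfix
      rw [MonoidHom.mem_ker] at hu
      rw [← normHom_of_fix hW σ u hfix, hu]

end Cfsg.Agent.Helper77.Konv
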