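-- helper77: Konvisser lemma (P2) for helper52 (S3117).
import Mathlib
import Cfsg.Agent.Lib.Helper52.KonvDefs

set_option autoImplicit false

namespace Cfsg.Agent.Helper77.Konv

open Cfsg.Agent.Helper52.Konv

variable {W T : Type*} [Group W] [Group T]

theorem aq_comm {q : W → T} (h : AQ q) (a b : W) : a * b = b * a := by
  have h1 : a * b * (a * b) = 1 := h.W_sq _
  have ha : a * a = 1 := h.W_sq a
  have hb : b * b = 1 := h.W_sq b
  calc a * b = a * b * (b * a * (b * a)) := by rw [h.W_sq (b * a), mul_one]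
    _ = a * (b * b) * a * (b * a) := by group
    _ = b * a := by rw [hb, mul_one, ha, one_mul]

theorem t_cube {q : W → T} (h : AQ q) (c : T) : c * c * c = c := by
  rw [h.T_sq c, one_mul]

theorem exists_mem_not_mem_finset (U : Subgroup W) [Finite U] (s : Finset W)
    (hs : s.card < Nat.card U) : ∃ x ∈ U, x ∉ s := by
  classical
  by_contra hcon
  push Not at hcon
  have hsub : (U : Set W) ⊆ (s : Set W) := fun x hx => by simpa using hcon x hx
  have h1 : Nat.card U ≤ s.card := by
    have : Set.ncard (U : Set W) ≤ Set.ncard (s : Set W) :=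
      Set.ncard_le_ncard hsub (Finset.finite_toSet s)
    rw [Set.ncard_coe_finset] at this
    have h2 : Set.ncard (U : Set W) = Nat.card U := by
      rw [← Nat.card_coe_set_eq]; rfl
    omega
  omega

theorem pow_fix_of_prime (σ : MulAut W) (hσ : σ ^ 7 = 1) (w : W) (d : ℕ) (hd0 : 0 < d) (hd7 : d < 7)
    (hw : (σ ^ d) w = w) : σ w = w := by
  -- σ = (σ^d)^m for some m
  have hcop : Nat.Coprime d 7 := by
    have h7 : Nat.Prime 7 := by norm_num
    exact (Nat.Coprime.symm ((Nat.Prime.coprime_iff_not_dvd h7).mpr (fun hdvd => by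
      have := Nat.le_of_dvd hd0 hdvd; omega)))
  obtain ⟨m, -, hm⟩ := Nat.exists_mul_mod_eq_one_of_coprime hcop (by norm_num)
  have hpow : ∀ k : ℕ, ((σ ^ d) ^ k) w = w := by
    intro k
    induction k with
    | zero => simp
    | succ k ih => rw [pow_succ, MulAut.mul_apply, hw, ih]
  have h1 : (σ ^ d) ^ m = σ := by
    rw [← pow_mul]
    have h2 : d * m = 7 * (d * m / 7) + 1 := by
      have := Nat.div_add_mod (d * m) 7
      omega
    rw [h2, pow_add, pow_mul, hσ, one_pow, one_mul, pow_one]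
  have := hpow m
  rwa [h1] at this

theorem P2 {q : W → T} (h : AQ q) (σ : MulAut W) (hσ : σ ^ 7 = 1) (hq : ∀ w, q (σ w) = q w)
    (U : Subgroup W) (hU : Nat.card U = 8) (hinv : ∀ u ∈ U, σ u ∈ U)
    (hfpf : ∀ u ∈ U, σ u = u → u = 1) : False := by
  classical
  have : Finite U := Nat.finite_of_card_ne_zero (by omega)
  -- a nontrivial element
  obtain ⟨u0, hu0U, hu0⟩ : ∃ x ∈ U, x ∉ ({1} : Finset W) :=
    exists_mem_not_mem_finset U _ (by simp [hU])
  have hu0ne : u0 ≠ 1 := by simpa using hu0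
  -- powers of σ preserve U, q
  have hpowU : ∀ i : ℕ, ∀ u ∈ U, (σ ^ i) u ∈ U := by
    intro i
    induction i with
    | zero => intro u hu; simpa using hu
    | succ i ih => intro u hu; rw [pow_succ, MulAut.mul_apply]; exact ih _ (hinv u hu)
  have hpowq : ∀ i : ℕ, ∀ w, q ((σ ^ i) w) = q w := by
    intro i
    induction i with
    | zero => intro w; simp
    | succ i ih => intro w; rw [pow_succ, MulAut.mul_apply, ih, hq]
  -- the orbit map
  let f : Fin 7 → {x : U // x ≠ 1} := fun i =>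
    ⟨⟨(σ ^ (i : ℕ)) u0, hpowU i u0 hu0U⟩, by
      intro hone
      have h1 : (σ ^ (i : ℕ)) u0 = 1 := congrArg Subtype.val hone
      have : (σ ^ (i : ℕ)) u0 = (σ ^ (i : ℕ)) 1 := by rw [h1, map_one]
      exact hu0ne ((σ ^ (i : ℕ)).injective this)⟩
  have hf_inj : Function.Injective f := by
    -- wlog i < j
    have key : ∀ i j : Fin 7, (i : ℕ) < (j : ℕ) → f i ≠ f j := by
      intro i j hij heq
      have h1 : (σ ^ (i : ℕ)) u0 = (σ ^ (j : ℕ)) u0 := by
        have := congrArg (fun z : {x : U // x ≠ 1} => ((z : U) : W)) heq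
        simpa [f] using this
      have h2 : (j : ℕ) = (i : ℕ) + ((j : ℕ) - (i : ℕ)) := by omega
      rw [h2, pow_add, MulAut.mul_apply] at h1
      have h3 : (σ ^ ((j : ℕ) - (i : ℕ))) u0 = u0 := ((σ ^ (i : ℕ)).injective h1).symm
      have h4 : σ u0 = u0 :=
        pow_fix_of_prime σ hσ u0 _ (by omega) (by have := j.isLt; omega) h3
      exact hu0ne (hfpf u0 hu0U h4)
    intro i j hij
    by_contra hne
    rcases lt_or_gt_of_ne (fun hh => hne (Fin.ext hh)) with hlt | hgt
    · exact key i j hlt hij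
    · exact key j i hgt hij.symm
  have hcard : Nat.card {x : U // x ≠ 1} = 7 := by
    have h1 : Nat.card {x : U // x ≠ 1} = Nat.card U - 1 := by
      have : Fintype U := Fintype.ofFinite U
      rw [Nat.card_eq_fintype_card, Nat.card_eq_fintype_card]
      exact Fintype.card_subtype_compl (fun x : U => x = 1) |>.trans (by simp)
    rw [h1, hU]
  have hf_surj : Function.Surjective f := by
    have : Finite {x : U // x ≠ 1} := Subtype.finite
    have : Fintype {x : U // x ≠ 1} := Fintype.ofFinite _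
    have hc : Fintype.card (Fin 7) = Fintype.card {x : U // x ≠ 1} := by
      rw [← Nat.card_eq_fintype_card, ← Nat.card_eq_fintype_card, hcard]; simp
    exact ((Fintype.bijective_iff_injective_and_card f).mpr ⟨hf_inj, hc⟩).2
  set c := q u0 with hc
  have hqc : ∀ x ∈ U, x ≠ 1 → q x = c := by
    intro x hx hx1
    obtain ⟨i, hi⟩ := hf_surj ⟨⟨x, hx⟩, fun hh => hx1 (congrArg Subtype.val hh)⟩
    have h1 : (σ ^ (i : ℕ)) u0 = x := by
      have := congrArg (fun z : {x : U // x ≠ 1} => ((z : U) : W)) hi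
      simpa [f] using this
    rw [← h1, hpowq]
  have hc1 : c ≠ 1 := fun hh => hu0ne (h.aniso u0 hh)
  -- choose v, v'
  obtain ⟨v, hvU, hv⟩ : ∃ x ∈ U, x ∉ ({1, u0} : Finset W) :=
    exists_mem_not_mem_finset U _ (by
      have : ({1, u0} : Finset W).card ≤ 2 := Finset.card_le_two
      omega)
  obtain ⟨v', hv'U, hv'⟩ : ∃ x ∈ U, x ∉ ({1, u0, v, u0 * v} : Finset W) :=
    exists_mem_not_mem_finset U _ (by
      have : ({1, u0, v, u0 * v} : Finset W).card ≤ 4 := Finset.card_le_four
      omega)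
  simp only [Finset.mem_insert, Finset.mem_singleton, not_or] at hv hv'
  obtain ⟨hv1, hvu⟩ := hv
  obtain ⟨hv'1, hv'u, hv'v, hv'uv⟩ := hv'
  have hmul_ne : ∀ a b : W, a ≠ b → a * b ≠ 1 := by
    intro a b hab hone
    apply hab
    calc a = a * (b * b) := by rw [h.W_sq b, mul_one]
      _ = (a * b) * b := by group
      _ = b := by rw [hone, one_mul]
  have hpol : ∀ x ∈ U, x ≠ 1 → x ≠ u0 → pol q u0 x = c := by
    intro x hx hx1 hxu
    unfold pol
    rw [hqc (u0 * x) (U.mul_mem hu0U hx) (hmul_ne u0 x (Ne.symm hxu)), hqc x hx hx1]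
    exact t_cube h c
  have h1 := hpol v hvU hv1 hvu
  have h2 := hpol v' hv'U hv'1 hv'u
  have h3 := hpol (v * v') (U.mul_mem hvU hv'U) (hmul_ne v v' (Ne.symm hv'v)) (by
    intro hh
    apply hv'uv
    -- v * v' = u0 → v' = u0 * v
    calc v' = (v * v) * v' := by rw [h.W_sq v, one_mul]
      _ = v * (v * v') := by group
      _ = v * u0 := by rw [hh]
      _ = u0 * v := aq_comm h v u0)
  rw [h.bilin, h1, h2, h.T_sq] at h3
  exact hc1 h3.symm

end Cfsg.Agent.Helper77.Konv
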