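import Mathlib

/-!
# M11CT (G5), (G11) cores for helper49's S4429 server: pure group theory (Mathlib only)
-/

set_option autoImplicit false

namespace Cfsg.Agent.Helper77.M11CT

open Subgroup

variable {G : Type*} [Group G]

/-- a non-identity element of a subgroup of prime order generates it -/
theorem h77_gen_of_prime_card [Finite G] {p : ℕ} (hp : p.Prime) (P : Subgroup G)
    (hP : Nat.card P = p) (x : G) (hxP : x ∈ P) (hx1 : x ≠ 1) :
    orderOf x = p ∧ Subgroup.zpowers x = P := by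
  have hdvd : orderOf x ∣ p := hP ▸ Subgroup.orderOf_dvd_natCard P hxP
  have hne : orderOf x ≠ 1 := fun h => hx1 (orderOf_eq_one_iff.1 h)
  have hox : orderOf x = p := by
    rcases (Nat.dvd_prime hp).1 hdvd with h | h
    · exact absurd h hne
    · exact h
  refine ⟨hox, ?_⟩
  apply Subgroup.eq_of_le_of_card_ge (Subgroup.zpowers_le.2 hxP)
  rw [Nat.card_zpowers, hox, hP]

theorem h77_exists_ne_one {p : ℕ} (hp : p.Prime) (P : Subgroup G) (hP : Nat.card P = p) :
    ∃ x ∈ P, x ≠ 1 := by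
  by_contra hcon
  push Not at hcon
  have hbot : P = ⊥ := (Subgroup.eq_bot_iff_forall P).2 hcon
  rw [hbot, Subgroup.card_bot] at hP
  exact hp.one_lt.ne hP

/-- elements of `C(x)` centralize `zpowers x` -/
theorem h77_conj_zpow {g x : G} (hg : g * x = x * g) (n : ℤ) : g * x ^ n * g⁻¹ = x ^ n := by
  have hc : Commute g x := hg
  have := (hc.zpow_right n).eq
  rw [this, mul_inv_cancel_right]

theorem h77_centralizer_le_normalizer (P : Subgroup G) (x : G) (hzp : Subgroup.zpowers x = P) :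
    Subgroup.centralizer ({x} : Set G) ≤ Subgroup.normalizer (P : Set G) := by
  intro g hg
  have key : ∀ c ∈ Subgroup.centralizer ({x} : Set G), ∀ y ∈ P, c * y * c⁻¹ = y := by
    intro c hc y hy
    rw [← hzp] at hy
    obtain ⟨n, rfl⟩ := Subgroup.mem_zpowers_iff.1 hy
    exact h77_conj_zpow (Subgroup.mem_centralizer_singleton_iff.1 hc) n
  rw [Subgroup.mem_normalizer_iff]
  intro h
  constructor
  · intro hh
    rw [key g hg h hh]
    exact hh
  · intro hh
    have h1 := key g⁻¹ (inv_mem hg) _ hh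
    have e : g⁻¹ * (g * h * g⁻¹) * g⁻¹⁻¹ = h := by group
    rw [e] at h1
    rw [h1]
    exact hh

/-- orbit counting: if `|N(P)| = |C(x)| * (|P| - 1)` then all non-identity elements of `P` are
conjugate to `x` -/
theorem h77_conj_orbit [Finite G] (P : Subgroup G) (x : G) (hxP : x ∈ P) (hx1 : x ≠ 1)
    (hNC : Nat.card (Subgroup.normalizer (P : Set G))
      = Nat.card (Subgroup.centralizer ({x} : Set G)) * (Nat.card P - 1)) :
    ∀ y ∈ P, y ≠ 1 → ∃ g : G, g * x * g⁻¹ = y := by
  classical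
  have : Fintype G := Fintype.ofFinite G
  set N := Subgroup.normalizer (P : Set G) with hN
  set C := Subgroup.centralizer ({x} : Set G) with hC
  let Nf : Finset G := Finset.univ.filter (fun g => g ∈ N)
  let Cf : Finset G := Finset.univ.filter (fun g => g ∈ C)
  let Pf : Finset G := Finset.univ.filter (fun g => g ∈ P)
  let T : Finset G := Pf.erase 1
  have hNf : Nf.card = Nat.card N := by
    rw [Nat.card_eq_fintype_card, Fintype.card_subtype]
  have hCf : Cf.card = Nat.card C := by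
    rw [Nat.card_eq_fintype_card, Fintype.card_subtype]
  have hPf : Pf.card = Nat.card P := by
    rw [Nat.card_eq_fintype_card, Fintype.card_subtype]
  have hT : T.card = Nat.card P - 1 := by
    rw [Finset.card_erase_of_mem, hPf]
    exact Finset.mem_filter.2 ⟨Finset.mem_univ _, one_mem P⟩
  let f : G → G := fun g => g * x * g⁻¹
  have himg : Nf.image f ⊆ T := by
    intro y hy
    obtain ⟨g, hg, rfl⟩ := Finset.mem_image.1 hy
    have hgN : g ∈ N := (Finset.mem_filter.1 hg).2
    refine Finset.mem_erase.2 ⟨?_, Finset.mem_filter.2 ⟨Finset.mem_univ _, ?_⟩⟩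
    · intro h1
      exact hx1 (conj_eq_one_iff.1 h1)
    · exact (Subgroup.mem_normalizer_iff.1 hgN x).1 hxP
  have hfib : ∀ b ∈ Nf.image f, (Nf.filter (fun a => f a = b)).card ≤ Cf.card := by
    intro b hb
    obtain ⟨g₀, _, rfl⟩ := Finset.mem_image.1 hb
    apply Finset.card_le_card_of_injOn (fun g => g₀⁻¹ * g)
    · intro g hg
      have hg' : f g = f g₀ := (Finset.mem_filter.1 hg).2
      refine Finset.mem_coe.2 (Finset.mem_filter.2 ⟨Finset.mem_univ _, ?_⟩)
      rw [hC, Subgroup.mem_centralizer_singleton_iff]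
      have h1 : g * x * g⁻¹ = g₀ * x * g₀⁻¹ := hg'
      have h2 : g * x = g₀ * x * g₀⁻¹ * g := by
        rw [← h1]
        group
      calc g₀⁻¹ * g * x = g₀⁻¹ * (g * x) := by group
        _ = g₀⁻¹ * (g₀ * x * g₀⁻¹ * g) := by rw [h2]
        _ = x * (g₀⁻¹ * g) := by group
    · intro a _ b _ hab
      exact mul_left_cancel hab
  have hle := Finset.card_le_mul_card_image (f := f) Nf Cf.card hfib
  rw [hNf, hCf, hNC] at hle
  have hCpos : 0 < Nat.card C := Nat.card_pos
  have hle2 : Nat.card P - 1 ≤ (Nf.image f).card := Nat.le_of_mul_le_mul_left hle hCpos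
  have heq : Nf.image f = T := Finset.eq_of_subset_of_card_le himg (by rw [hT]; exact hle2)
  intro y hyP hy1
  have hyT : y ∈ T :=
    Finset.mem_erase.2 ⟨hy1, Finset.mem_filter.2 ⟨Finset.mem_univ _, hyP⟩⟩
  rw [← heq] at hyT
  obtain ⟨g, _, hg⟩ := Finset.mem_image.1 hyT
  exact ⟨g, hg⟩

/-- (G5) core -/
theorem h77_g5_core [Finite G] (P : Subgroup G) (hP : Nat.card P = 5)
    (hN : Nat.card (Subgroup.normalizer (P : Set G)) = 20)
    (hII : ∀ z y : G, orderOf z = 2 → orderOf y = 5 → Commute z y → False) :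
    ∃ x : G, orderOf x = 5 ∧ Nat.card (Subgroup.centralizer ({x} : Set G)) = 5 ∧
      ∀ k : ℕ, 0 < k → k < 5 → IsConj x (x ^ k) := by
  have h5 : Nat.Prime 5 := by norm_num
  obtain ⟨x, hxP, hx1⟩ := h77_exists_ne_one h5 P hP
  obtain ⟨hox, hzp⟩ := h77_gen_of_prime_card h5 P hP x hxP hx1
  have hCN := h77_centralizer_le_normalizer P x hzp
  have hxC : x ∈ Subgroup.centralizer ({x} : Set G) :=
    Subgroup.mem_centralizer_singleton_iff.2 rfl
  have hd1 : 5 ∣ Nat.card (Subgroup.centralizer ({x} : Set G)) := by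
    have h1 := Subgroup.card_dvd_of_le (Subgroup.zpowers_le.2 hxC)
    rwa [Nat.card_zpowers, hox] at h1
  have hd2 : Nat.card (Subgroup.centralizer ({x} : Set G)) ∣ 20 := by
    have h1 := Subgroup.card_dvd_of_le hCN
    rwa [hN] at h1
  have hodd : ¬ 2 ∣ Nat.card (Subgroup.centralizer ({x} : Set G)) := by
    intro h2
    have : Fact (Nat.Prime 2) := ⟨Nat.prime_two⟩
    obtain ⟨z, hz⟩ := exists_prime_orderOf_dvd_card' (G := Subgroup.centralizer ({x} : Set G)) 2 h2
    have hz2 : orderOf (z : G) = 2 := by rw [Subgroup.orderOf_coe]; exact hz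
    have hcomm : (z : G) * x = x * (z : G) := Subgroup.mem_centralizer_singleton_iff.1 z.2
    exact hII (z : G) x hz2 hox hcomm
  have hC5 : Nat.card (Subgroup.centralizer ({x} : Set G)) = 5 := by
    have hle : Nat.card (Subgroup.centralizer ({x} : Set G)) ≤ 20 :=
      Nat.le_of_dvd (by norm_num) hd2
    generalize Nat.card (Subgroup.centralizer ({x} : Set G)) = c at *
    interval_cases c <;> omega
  refine ⟨x, hox, hC5, ?_⟩
  have horb := h77_conj_orbit P x hxP hx1 (by rw [hN, hC5, hP])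
  intro k hk0 hk5
  have hxk1 : x ^ k ≠ 1 := by
    intro h1
    have := orderOf_dvd_of_pow_eq_one h1
    rw [hox] at this
    have := Nat.le_of_dvd hk0 this
    omega
  obtain ⟨g, hg⟩ := horb (x ^ k) (pow_mem hxP k) hxk1
  exact isConj_iff.2 ⟨g, hg⟩

/-- (G11) core -/
theorem h77_g11_core [Finite G] (Q : Subgroup G) (hQ : Nat.card Q = 11)
    (hN : Nat.card (Subgroup.normalizer (Q : Set G)) = 55)
    (hCQ : Nat.card (Subgroup.centralizer (Q : Set G)) = 11) :
    ∃ x : G, orderOf x = 11 ∧ Nat.card (Subgroup.centralizer ({x} : Set G)) = 11 ∧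
      IsConj x (x ^ 3) ∧ ¬ IsConj x x⁻¹ := by
  classical
  have h11 : Nat.Prime 11 := by norm_num
  obtain ⟨x, hxQ, hx1⟩ := h77_exists_ne_one h11 Q hQ
  obtain ⟨hox, hzp⟩ := h77_gen_of_prime_card h11 Q hQ x hxQ hx1
  have hCN := h77_centralizer_le_normalizer Q x hzp
  have hCeq : Subgroup.centralizer ({x} : Set G) = Subgroup.centralizer (Q : Set G) := by
    ext g
    rw [Subgroup.mem_centralizer_singleton_iff, Subgroup.mem_centralizer_iff]
    constructor
    · intro hg h hh
      have hh' : h ∈ Subgroup.zpowers x := by rw [hzp]; exact hh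
      obtain ⟨n, rfl⟩ := Subgroup.mem_zpowers_iff.1 hh'
      have hc : Commute g x := hg
      exact ((hc.zpow_right n).eq).symm
    · intro hg
      exact (hg x hxQ).symm
  have hC11 : Nat.card (Subgroup.centralizer ({x} : Set G)) = 11 := by rw [hCeq, hCQ]
  -- an element of the normalizer outside the centralizer
  obtain ⟨g, hgN, hgC⟩ : ∃ g ∈ Subgroup.normalizer (Q : Set G),
      g ∉ Subgroup.centralizer ({x} : Set G) := by
    by_contra hcon
    push Not at hcon
    have hle : Subgroup.normalizer (Q : Set G) ≤ Subgroup.centralizer ({x} : Set G) := hcon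
    have := Subgroup.card_dvd_of_le hle
    rw [hN, hC11] at this
    omega
  have hg55 : g ^ 55 = 1 := by
    have h1 : (⟨g, hgN⟩ : Subgroup.normalizer (Q : Set G)) ^ Nat.card (Subgroup.normalizer (Q : Set G)) = 1 :=
      pow_card_eq_one'
    rw [hN] at h1
    exact congrArg Subtype.val h1
  have hgx : g * x * g⁻¹ ∈ Subgroup.zpowers x := by
    rw [hzp]
    exact (Subgroup.mem_normalizer_iff.1 hgN x).1 hxQ
  rw [mem_zpowers_iff_mem_range_orderOf, hox] at hgx
  obtain ⟨m, hm, hxm⟩ := Finset.mem_image.1 hgx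
  have hm11 : m < 11 := Finset.mem_range.1 hm
  have hxm' : g * x * g⁻¹ = x ^ m := hxm.symm
  have hpow : ∀ j : ℕ, g ^ j * x * (g ^ j)⁻¹ = x ^ (m ^ j) := by
    intro j
    induction j with
    | zero => simp
    | succ j ih =>
      have e : g ^ (j + 1) * x * (g ^ (j + 1))⁻¹ = g * (g ^ j * x * (g ^ j)⁻¹) * g⁻¹ := by
        rw [pow_succ']
        group
      rw [e, ih, ← conj_pow, hxm', ← pow_mul, pow_succ']
  have h55 := hpow 55
  rw [hg55] at h55
  have h55' : x ^ 1 = x ^ (m ^ 55) := by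
    rw [pow_one]
    simpa using h55
  have hmod : m ^ 55 ≡ 1 [MOD 11] := by
    have := pow_eq_pow_iff_modEq.1 h55'.symm
    rw [hox] at this
    exact this
  have hmodm : ∀ j : ℕ, m ^ j % 11 = 3 → IsConj x (x ^ 3) := by
    intro j hj
    have h1 := hpow j
    have h2 : x ^ (m ^ j) = x ^ 3 := by
      rw [pow_eq_pow_iff_modEq, hox]
      exact hj
    rw [h2] at h1
    exact isConj_iff.2 ⟨g ^ j, h1⟩
  have hconj3 : IsConj x (x ^ 3) := by
    have hmod' : m ^ 55 % 11 = 1 := hmod
    interval_cases m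
    · norm_num at hmod'
    · exfalso
      apply hgC
      rw [Subgroup.mem_centralizer_singleton_iff]
      have h1 : g * x * g⁻¹ = x := by rw [hxm', pow_one]
      calc g * x = g * x * g⁻¹ * g := by group
        _ = x * g := by rw [h1]
    · norm_num at hmod'
    · exact hmodm 1 (by norm_num)
    · exact hmodm 4 (by norm_num)
    · exact hmodm 2 (by norm_num)
    · norm_num at hmod'
    · norm_num at hmod'
    · norm_num at hmod'
    · exact hmodm 3 (by norm_num)
    · norm_num at hmod'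
  refine ⟨x, hox, hC11, hconj3, ?_⟩
  intro hinv
  obtain ⟨c, hc⟩ := isConj_iff.1 hinv
  -- `c` normalizes `Q`
  have hcinv : c⁻¹ * x * c⁻¹⁻¹ = x⁻¹ := by
    have : x = c⁻¹ * x⁻¹ * c := by rw [← hc]; group
    calc c⁻¹ * x * c⁻¹⁻¹ = c⁻¹ * x * c := by rw [inv_inv]
      _ = (c⁻¹ * x⁻¹ * c)⁻¹ := by group
      _ = x⁻¹ := by rw [← this]
  have hmap : ∀ d : G, d * x * d⁻¹ = x⁻¹ → ∀ h ∈ Q, d * h * d⁻¹ ∈ Q := by
    intro d hd h hh
    have hh' : h ∈ Subgroup.zpowers x := by rw [hzp]; exact hh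
    obtain ⟨n, rfl⟩ := Subgroup.mem_zpowers_iff.1 hh'
    have : d * x ^ n * d⁻¹ = (x⁻¹) ^ n := by
      rw [← hd]
      exact (conj_zpow).symm
    rw [this, ← hzp]
    exact Subgroup.zpow_mem _ (Subgroup.inv_mem _ (Subgroup.mem_zpowers x)) n
  have hcN : c ∈ Subgroup.normalizer (Q : Set G) := by
    rw [Subgroup.mem_normalizer_iff]
    intro h
    constructor
    · exact hmap c hc h
    · intro hh
      have := hmap c⁻¹ hcinv _ hh
      have e : c⁻¹ * (c * h * c⁻¹) * c⁻¹⁻¹ = h := by group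
      rwa [e] at this
  have hc55 : c ^ 55 = 1 := by
    have h1 : (⟨c, hcN⟩ : Subgroup.normalizer (Q : Set G)) ^ Nat.card (Subgroup.normalizer (Q : Set G)) = 1 :=
      pow_card_eq_one'
    rw [hN] at h1
    exact congrArg Subtype.val h1
  -- `c ^ 2` commutes with `x`
  have hc2 : c ^ 2 * x = x * c ^ 2 := by
    have h1 : c * x = x⁻¹ * c := by rw [← hc]; group
    have h2 : c * x⁻¹ = x * c := by
      have : c * x⁻¹ * c⁻¹ = x := by
        calc c * x⁻¹ * c⁻¹ = (c * x * c⁻¹)⁻¹ := by group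
          _ = x := by rw [hc, inv_inv]
      calc c * x⁻¹ = c * x⁻¹ * c⁻¹ * c := by group
        _ = x * c := by rw [this]
    calc c ^ 2 * x = c * (c * x) := by rw [pow_two, mul_assoc]
      _ = c * (x⁻¹ * c) := by rw [h1]
      _ = (c * x⁻¹) * c := by rw [mul_assoc]
      _ = x * c * c := by rw [h2]
      _ = x * c ^ 2 := by rw [pow_two, mul_assoc]
  have hcc : c = (c ^ 2) ^ 28 := by
    rw [← pow_mul]
    calc c = c ^ 55 * c := by rw [hc55, one_mul]
      _ = c ^ (2 * 28) := by rw [← pow_succ]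
  have hcx : c * x = x * c := by
    have hcm : Commute (c ^ 2) x := hc2
    have := (hcm.pow_left 28).eq
    rwa [← hcc] at this
  have hxx : x = x⁻¹ := by
    calc x = c * x * c⁻¹ := by rw [hcx]; group
      _ = x⁻¹ := hc
  have hx2 : x ^ 2 = 1 := by
    rw [pow_two]
    calc x * x = x * x⁻¹ := by rw [← hxx]
      _ = 1 := mul_inv_cancel x
  have := orderOf_dvd_of_pow_eq_one hx2
  rw [hox] at this
  omega

end Cfsg.Agent.Helper77.M11CT
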