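import Mathlib
import Cfsg.Agent.Lib.Helper7.M11LAMain
import Cfsg.Agent.Lib.Helper77.M11CTCore

/-!
# M11CT (G5), (G11) for helper49's S4429 server
-/

set_option autoImplicit false

namespace Cfsg.Agent.Helper77.M11CT

open Cfsg

universe u

/-- (G5) An element of order 5 with centralizer of order 5, conjugate to all its non-trivial
powers. -/
theorem exists_order_five {G : Type u} [Group G] [Finite G] [IsSimpleGroup G] (hG : Nat.card G = 7920) :
    ∃ x : G, orderOf x = 5 ∧ Nat.card (Subgroup.centralizer ({x} : Set G)) = 5 ∧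
      ∀ k : ℕ, 0 < k → k < 5 → IsConj x (x ^ k) := by
  have F := Cfsg.Agent.Helper7.M11LA.facts hG
  have : Fact (Nat.Prime 5) := ⟨by norm_num⟩
  obtain ⟨P⟩ : Nonempty (Sylow 5 G) := inferInstance
  exact h77_g5_core (P : Subgroup G) (Cfsg.Agent.Helper7.M11LA.card_sylow5 hG P) (F.np P)
    (fun z y hz hy hzy => Cfsg.Agent.Helper7.M11LA.caseII F z y hz hy hzy)

/-- (G11) An element of order 11 with centralizer of order 11, conjugate to its cube, not
conjugate to its inverse. -/
theorem exists_order_eleven {G : Type u} [Group G] [Finite G] [IsSimpleGroup G] (hG : Nat.card G = 7920) :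
    ∃ x : G, orderOf x = 11 ∧ Nat.card (Subgroup.centralizer ({x} : Set G)) = 11 ∧
      IsConj x (x ^ 3) ∧ ¬ IsConj x x⁻¹ := by
  have F := Cfsg.Agent.Helper7.M11LA.facts hG
  have : Fact (Nat.Prime 11) := ⟨by norm_num⟩
  obtain ⟨Q⟩ : Nonempty (Sylow 11 G) := inferInstance
  exact h77_g11_core (Q : Subgroup G) (Cfsg.Agent.Helper7.M11LA.card_sylow11 hG Q) (F.nq Q)
    (F.cq Q)

end Cfsg.Agent.Helper77.M11CT
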