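import Mathlib
import Cfsg.Prelude.Def_Characters
import Cfsg.Agent.Lib.Helper3.CharNilpotent
import Cfsg.Agent.Lib.Helper81.CharCorr
import Cfsg.Agent.Lib.Helper79.CharBasic

/-!
# Characters of finite powers of a group (helper77, for S4573)
-/

set_option autoImplicit false
set_option linter.unusedSectionVars false
set_option linter.style.haveILetI false

namespace Cfsg.Agent.Helper77.MG

open Cfsg
open scoped ComplexConjugate

universe u

/-- `G` is an M-group: every irreducible character is induced from a linear character. -/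
def IsMGroup (G : Type u) [Group G] [Fintype G] : Prop :=
  ∀ χ : G → ℂ, IsIrrCharacter G χ →
    ∃ (H : Subgroup G) (lam : ↥H →* ℂˣ), χ = indFun H (fun h => (lam h : ℂ))

section pi

variable {ι : Type u} [Fintype ι] [DecidableEq ι] {M : Type u} [Group M] [Fintype M]

/-- The outer tensor product of a family of class functions. -/
def piChar (c : ι → M → ℂ) : (ι → M) → ℂ := fun m => ∏ i, c i (m i)

theorem piChar_apply (c : ι → M → ℂ) (m : ι → M) : piChar c m = ∏ i, c i (m i) := rfl

theorem isCharacter_piChar {c : ι → M → ℂ} (hc : ∀ i, IsCharacter M (c i)) :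
    IsCharacter (ι → M) (piChar c) := by
  have h1 : piChar c = ∏ i, (fun m : ι → M => c i (m i)) := by
    funext m
    rw [Finset.prod_apply]
    rfl
  rw [h1]
  apply Finset.prod_induction _ (fun f => IsCharacter (ι → M) f)
  · intro a b ha hb
    exact Helper3.isCharacter_mul ha hb
  · exact Helper3.isCharacter_one
  · intro i _
    exact Helper81.isCharacter_comp_hom (Pi.evalMonoidHom (fun _ : ι => M) i) (hc i)

theorem sum_pi_prod (f : ι → M → ℂ) :
    ∑ m : ι → M, ∏ i, f i (m i) = ∏ i, ∑ x : M, f i x := by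
  rw [Finset.prod_univ_sum, Fintype.piFinset_univ]

theorem classInner_piChar (c c' : ι → M → ℂ) :
    classInner (piChar c) (piChar c') = ∏ i, classInner (c i) (c' i) := by
  unfold classInner
  rw [Finset.prod_mul_distrib, ← sum_pi_prod]
  congr 1
  · rw [Finset.prod_const, Finset.card_univ, Nat.card_fun, Nat.card_eq_fintype_card (α := ι)]
    push_cast
    rw [inv_pow]
  · apply Finset.sum_congr rfl
    intro m _
    rw [piChar_apply, piChar_apply, map_prod, ← Finset.prod_mul_distrib]

theorem isIrrCharacter_piChar {c : ι → M → ℂ} (hc : ∀ i, IsIrrCharacter M (c i)) :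
    IsIrrCharacter (ι → M) (piChar c) := by
  apply Helper3.isIrrCharacter_of_classInner_self_eq_one
  · exact isCharacter_piChar (fun i => Helper81.IsIrrCharacter.isCharacter (hc i))
  · rw [classInner_piChar]
    apply Finset.prod_eq_one
    intro i _
    exact Helper3.classInner_irr_self (hc i)

theorem piChar_injective {c c' : ι → M → ℂ} (hc : ∀ i, IsIrrCharacter M (c i))
    (hc' : ∀ i, IsIrrCharacter M (c' i)) (h : piChar c = piChar c') : c = c' := by
  funext i
  by_contra hne
  have h1 : classInner (piChar c) (piChar c') = 1 := by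
    rw [← h]
    exact Helper3.classInner_irr_self (isIrrCharacter_piChar hc)
  rw [classInner_piChar] at h1
  have h2 : ∏ i, classInner (c i) (c' i) = 0 := by
    apply Finset.prod_eq_zero (Finset.mem_univ i)
    exact Helper3.classInner_irr_ne (hc i) (hc' i) hne
  rw [h2] at h1
  exact zero_ne_one h1

theorem reg_eq_sum [DecidableEq M] (x : M) :
    (if x = 1 then (Nat.card M : ℂ) else 0)
      = ∑ χ : IrrCharacter M, (χ : M → ℂ) 1 * (χ : M → ℂ) x := by
  rw [← Helper3.regular_character_apply, Helper3.regular_character_eq_sum, Finset.sum_apply]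
  apply Finset.sum_congr rfl
  intro χ _
  rfl

theorem exists_piChar_eq {θ : (ι → M) → ℂ} (hθ : IsIrrCharacter (ι → M) θ) :
    ∃ c : ι → M → ℂ, (∀ i, IsIrrCharacter M (c i)) ∧ θ = piChar c := by
  classical
  by_contra hcon
  push Not at hcon
  have h0 : ∀ c : ι → IrrCharacter M,
      classInner θ (piChar (fun i => (c i : M → ℂ))) = 0 := by
    intro c
    by_contra hne
    exact hcon _ (fun i => (c i).2)
      (Helper81.eq_of_classInner_ne_zero hθ (isIrrCharacter_piChar (fun i => (c i).2)) hne)
  have hR : (fun m : ι → M => ∏ i, (if m i = 1 then (Nat.card M : ℂ) else 0))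
      = ∑ c : ι → IrrCharacter M,
          (∏ i, (c i : M → ℂ) 1) • piChar (fun i => (c i : M → ℂ)) := by
    funext m
    rw [Finset.sum_apply]
    simp_rw [reg_eq_sum]
    rw [Finset.prod_univ_sum, Fintype.piFinset_univ]
    apply Finset.sum_congr rfl
    intro c _
    rw [Pi.smul_apply, piChar_apply, smul_eq_mul, ← Finset.prod_mul_distrib]
  have h1 : classInner θ (fun m : ι → M => ∏ i, (if m i = 1 then (Nat.card M : ℂ) else 0))
      = θ 1 := by
    unfold classInner
    rw [Finset.sum_eq_single (1 : ι → M)]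
    · simp only [Pi.one_apply, if_true, Finset.prod_const, Finset.card_univ, map_pow,
        Complex.conj_natCast]
      rw [Nat.card_fun, Nat.card_eq_fintype_card (α := ι)]
      push_cast
      have hne : ((Nat.card M : ℂ)) ^ Fintype.card ι ≠ 0 :=
        pow_ne_zero _ (by exact_mod_cast (Nat.card_pos (α := M)).ne')
      field_simp
    · intro m _ hm
      have : ∃ i, m i ≠ 1 := by
        by_contra hall
        push Not at hall
        exact hm (funext hall)
      obtain ⟨i, hi⟩ := this
      have : (∏ i, (if m i = 1 then (Nat.card M : ℂ) else 0)) = 0 :=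
        Finset.prod_eq_zero (Finset.mem_univ i) (if_neg hi)
      simp only [this, map_zero, mul_zero]
    · intro h
      exact absurd (Finset.mem_univ _) h
  have h2 : classInner θ (fun m : ι → M => ∏ i, (if m i = 1 then (Nat.card M : ℂ) else 0))
      = 0 := by
    rw [hR, Helper81.classInner_sum_right]
    apply Finset.sum_eq_zero
    intro c _
    rw [Helper81.classInner_smul_right, h0, mul_zero]
  rw [h1] at h2
  exact Helper79.irr_one_ne_zero ⟨θ, hθ⟩ h2

theorem extendByZero_pi (H : ι → Subgroup M) (lam : ∀ i, H i → ℂ) (y : ι → M) :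
    extendByZero (Subgroup.pi Set.univ H)
        (fun h => ∏ i, lam i ⟨h.1 i, h.2 i (Set.mem_univ i)⟩) y
      = ∏ i, extendByZero (H i) (lam i) (y i) := by
  by_cases hy : y ∈ Subgroup.pi Set.univ H
  · rw [Helper81.extendByZero_apply_mem _ _ hy]
    apply Finset.prod_congr rfl
    intro i _
    rw [Helper81.extendByZero_apply_mem (H i) (lam i) (hy i (Set.mem_univ i))]
  · rw [Helper81.extendByZero_apply_not_mem _ _ hy]
    have : ∃ i, y i ∉ H i := by
      by_contra hall
      push Not at hall
      exact hy (fun i _ => hall i)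
    obtain ⟨i, hi⟩ := this
    exact (Finset.prod_eq_zero (Finset.mem_univ i)
      (Helper81.extendByZero_apply_not_mem (H i) (lam i) hi)).symm

/-- the product subgroup is the product of its factors -/
def piSubEquiv (H : ι → Subgroup M) : ↥(Subgroup.pi Set.univ H) ≃ (∀ i, ↥(H i)) where
  toFun h := fun i => ⟨h.1 i, h.2 i (Set.mem_univ i)⟩
  invFun k := ⟨fun i => (k i).1, fun i _ => (k i).2⟩
  left_inv _ := rfl
  right_inv _ := rfl

theorem card_pi_subgroup (H : ι → Subgroup M) :
    Nat.card ↥(Subgroup.pi Set.univ H) = ∏ i, Nat.card ↥(H i) := by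
  rw [Nat.card_congr (piSubEquiv H), Nat.card_pi]

theorem indFun_pi (H : ι → Subgroup M) (lam : ∀ i, H i → ℂ) :
    indFun (Subgroup.pi Set.univ H) (fun h => ∏ i, lam i ⟨h.1 i, h.2 i (Set.mem_univ i)⟩)
      = piChar (fun i => indFun (H i) (lam i)) := by
  funext m
  rw [piChar_apply]
  simp only [Helper3.indFun_apply]
  rw [Finset.prod_mul_distrib, ← sum_pi_prod]
  congr 1
  · rw [card_pi_subgroup]
    push_cast
    rw [Finset.prod_inv_distrib]
  · apply Finset.sum_congr rfl
    intro x _
    rw [extendByZero_pi]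
    rfl

/-- the product of a family of linear characters -/
def piLam (H : ι → Subgroup M) (lam : ∀ i, ↥(H i) →* ℂˣ) :
    ↥(Subgroup.pi Set.univ H) →* ℂˣ where
  toFun h := ∏ i, lam i ⟨h.1 i, h.2 i (Set.mem_univ i)⟩
  map_one' := by
    apply Finset.prod_eq_one
    intro i _
    exact map_one (lam i)
  map_mul' a b := by
    rw [← Finset.prod_mul_distrib]
    apply Finset.prod_congr rfl
    intro i _
    rw [← map_mul]
    rfl

theorem isMGroup_pi (hM : IsMGroup M) : IsMGroup (ι → M) := by
  intro θ hθ
  obtain ⟨c, hc, rfl⟩ := exists_piChar_eq hθ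
  choose H lam hlam using fun i => hM (c i) (hc i)
  refine ⟨Subgroup.pi Set.univ H, piLam H lam, ?_⟩
  have h1 : (fun h : ↥(Subgroup.pi Set.univ H) => ((piLam H lam h : ℂˣ) : ℂ))
      = fun h => ∏ i, (fun k : ↥(H i) => ((lam i k : ℂˣ) : ℂ)) ⟨h.1 i, h.2 i (Set.mem_univ i)⟩ := by
    funext h
    change ((∏ i, lam i ⟨h.1 i, h.2 i (Set.mem_univ i)⟩ : ℂˣ) : ℂ) = _
    rw [Units.coe_prod]
  rw [h1, indFun_pi H (fun i (k : ↥(H i)) => ((lam i k : ℂˣ) : ℂ))]
  congr 1
  funext i
  exact hlam i

end pi

end Cfsg.Agent.Helper77.MG
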