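import Mathlib
import Cfsg.Prelude.Def_Characters
import Cfsg.Agent.Lib.Helper77.MG1
import Cfsg.Agent.Lib.Helper79.Coprime.Param

/-!
# Transport of M-groups and characters above a normal subgroup of prime index
(helper77, for S4573)
-/

set_option autoImplicit false
set_option linter.unusedSectionVars false
set_option linter.style.haveILetI false

namespace Cfsg.Agent.Helper77.MG

open Cfsg
open scoped ComplexConjugate

universe u

section transport

variable {G G' : Type u} [Group G] [Fintype G] [Group G'] [Fintype G']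

theorem extendByZero_map_equiv (e : G ≃* G') (H : Subgroup G) (f : H → ℂ) (y : G) :
    extendByZero (H.map (e : G →* G')) (fun k => f ((e.subgroupMap H).symm k)) (e y)
      = extendByZero H f y := by
  by_cases hy : y ∈ H
  · have hy' : e y ∈ H.map (e : G →* G') := Subgroup.mem_map_of_mem _ hy
    rw [Helper81.extendByZero_apply_mem _ _ hy', Helper81.extendByZero_apply_mem _ _ hy]
    congr 1
    rw [MulEquiv.symm_apply_eq]
    rfl
  · have hy' : e y ∉ H.map (e : G →* G') := by
      rintro ⟨z, hz, hzy⟩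
      have : z = y := e.injective hzy
      exact hy (this ▸ hz)
    rw [Helper81.extendByZero_apply_not_mem _ _ hy', Helper81.extendByZero_apply_not_mem _ _ hy]

theorem indFun_map_equiv (e : G ≃* G') (H : Subgroup G) (f : H → ℂ) (y : G) :
    indFun (H.map (e : G →* G')) (fun k => f ((e.subgroupMap H).symm k)) (e y)
      = indFun H f y := by
  rw [Helper3.indFun_apply, Helper3.indFun_apply]
  congr 1
  · rw [Nat.card_congr (e.subgroupMap H).toEquiv]
  · rw [← Equiv.sum_comp e.toEquiv]
    apply Finset.sum_congr rfl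
    intro x _
    rw [← extendByZero_map_equiv e H f]
    congr 1
    simp

theorem isMGroup_of_mulEquiv (e : G ≃* G') (h : IsMGroup G) : IsMGroup G' := by
  intro χ' hχ'
  obtain ⟨H, lam, hlam⟩ := h (fun x => χ' (e x)) (Helper81.isIrrCharacter_comp_equiv e hχ')
  refine ⟨H.map (e : G →* G'), lam.comp (e.subgroupMap H).symm.toMonoidHom, ?_⟩
  funext y'
  obtain ⟨y, rfl⟩ := e.surjective y'
  have h1 := congrFun hlam y
  rw [h1, ← indFun_map_equiv e H]
  rfl

end transport

section primeIndex

variable {W : Type u} [Group W] [Fintype W]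

theorem eq_or_eq_top_of_index_prime (B : Subgroup W) (hp : B.index.Prime)
    (T : Subgroup W) (hBT : B ≤ T) : T = B ∨ T = ⊤ := by
  have h1 := Subgroup.relIndex_mul_index hBT
  have h2 : T.index ∣ B.index := Dvd.intro_left _ h1
  rcases (Nat.dvd_prime hp).mp h2 with h | h
  · right
    exact Subgroup.index_eq_one.mp h
  · left
    rw [h] at h1
    have h3 : B.relIndex T = 1 := by
      have : B.relIndex T * B.index = 1 * B.index := by rw [h1, one_mul]
      exact Nat.eq_of_mul_eq_mul_right hp.pos this
    exact le_antisymm (Subgroup.relIndex_eq_one.mp h3) hBT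

/-- a character above a non-invariant character of a normal subgroup of prime index is
induced from it -/
theorem eq_indFun_of_not_invariant (B : Subgroup W) [Fintype B] (hB : B.Normal)
    (hp : B.index.Prime) {θ : B → ℂ} (hθ : IsIrrCharacter B θ) (w : W)
    (hw : Helper81.conjFun B hB θ w ≠ θ) {χ : W → ℂ} (hχ : IsIrrCharacter W χ)
    (hne : classInner (fun b : B => χ b) θ ≠ 0) : χ = indFun B θ := by
  have hθc : IsClassFunction B θ :=
    Helper81.isClassFunction_of_isCharacter (Helper81.IsIrrCharacter.isCharacter hθ)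
  have hle : B ≤ Helper3.inertiaSubgroup B hB θ := Helper3.le_inertiaSubgroup B hB hθc
  have hT : Helper3.inertiaSubgroup B hB θ = B := by
    rcases eq_or_eq_top_of_index_prime B hp _ hle with h | h
    · exact h
    · exfalso
      have : w ∈ Helper3.inertiaSubgroup B hB θ := by rw [h]; exact Subgroup.mem_top w
      exact hw ((Helper3.mem_inertiaSubgroup B hB θ w).mp this)
  have hT' : ∀ g : W, g ∈ B ↔ Helper81.conjFun B hB θ g = θ := by
    intro g
    rw [← Helper3.mem_inertiaSubgroup, hT]
  obtain ⟨ψ, hψ, hind, hmult⟩ := Helper81.clifford_corr_surj B B hB le_rfl hθ hT' hχ hne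
  have hres : Helper81.resTo (le_refl B) ψ = ψ := rfl
  rw [hres] at hmult
  have hψθ : ψ = θ := Helper81.eq_of_classInner_ne_zero hψ hθ (by rw [hmult]; exact hne)
  rw [← hind, hψθ]

/-- characters above an extendible character of a normal subgroup with abelian quotient are
the twists of a given extension by linear characters -/
theorem exists_twist_of_extension (B : Subgroup W) [Fintype B] (hB : B.Normal)
    (hcomm : ∀ a b : W, a * b * a⁻¹ * b⁻¹ ∈ B)
    {χ₀ : W → ℂ} (hχ₀ : IsCharacter W χ₀) (hres : IsIrrCharacter B (fun b : B => χ₀ b))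
    {χ : W → ℂ} (hχ : IsIrrCharacter W χ)
    (hne : classInner (fun b : B => χ b) (fun b : B => χ₀ b) ≠ 0) :
    ∃ μ : W →* ℂˣ, χ = fun w => (μ w : ℂ) * χ₀ w := by
  haveI := hB
  have hirr : IsIrrCharacter W χ₀ := Helper79.Cop.irr_of_res_irr B hχ₀ hres
  obtain ⟨β, hβ, hmul⟩ := Helper79.Cop.gallagher_surj B hB ⟨χ₀, hirr⟩ ⟨χ, hχ⟩ hres hne
  have hK : ∀ k ∈ B, (β : W → ℂ) k = (β : W → ℂ) 1 := by
    intro k hk
    exact (Helper79.mem_irrKer β k).mp (hβ hk)
  obtain ⟨βb, hβb, hβeq⟩ := Helper3.isIrrCharacter_quotient B β.2 hK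
  have hc : ∀ x y : W ⧸ B, x * y = y * x := by
    intro x y
    obtain ⟨a, rfl⟩ := QuotientGroup.mk_surjective x
    obtain ⟨b, rfl⟩ := QuotientGroup.mk_surjective y
    have h1 := hcomm a b
    rw [← QuotientGroup.eq_one_iff] at h1
    simp only [QuotientGroup.mk_mul, QuotientGroup.mk_inv] at h1
    have h2 : (a : W ⧸ B) * b = (a * b * (a : W ⧸ B)⁻¹ * (b : W ⧸ B)⁻¹) * (b * a) := by group
    rw [h2, h1, one_mul]
  haveI : Fintype (W ⧸ B) := Fintype.ofFinite _
  obtain ⟨lam, hlam⟩ := Helper3.irr_abelian_hom hc βb hβb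
  refine ⟨lam.comp (QuotientGroup.mk' B), ?_⟩
  funext w
  have h3 := congrFun hmul w
  simp only [Pi.mul_apply] at h3
  rw [h3, hβeq w, hlam]
  rfl

end primeIndex

end Cfsg.Agent.Helper77.MG
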