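import Mathlib
import Cfsg.Prelude.Def_Characters
import Cfsg.Agent.Lib.Helper77.MG2
import Cfsg.Agent.Lib.Helper79.Linear
import Cfsg.Agent.Lib.Helper81.CharProd

/-!
# The wreath product of an M-group with a group of prime order is an M-group
(helper77, for S4573)
-/

set_option autoImplicit false
set_option linter.unusedSectionVars false
set_option linter.style.haveILetI false

namespace Cfsg.Agent.Helper77.MG

open Cfsg RegularWreathProduct
open scoped ComplexConjugate

universe u

section wreathBasic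

variable {M Q : Type u} [Group M] [Group Q]

/-- the finiteness instance used for wreath products -/
@[reducible] noncomputable def wrFintype (M Q : Type u) [Group M] [Finite M] [Group Q] [Finite Q] :
    Fintype (M ≀ᵣ Q) := Fintype.ofFinite _

theorem wr_conj_left (w b : M ≀ᵣ Q) (hb : b.right = 1) (x : Q) :
    (w * b * w⁻¹).left x = w.left x * b.left (w.right⁻¹ * x) * (w.left x)⁻¹ := by
  simp [hb]

theorem wr_conj_right (w b : M ≀ᵣ Q) (hb : b.right = 1) :
    (w * b * w⁻¹).right = 1 := by
  simp [hb]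

theorem wr_conj_left' (x b : M ≀ᵣ Q) (hb : b.right = 1) (k : Q) :
    (x⁻¹ * b * x).left k
      = (x.left (x.right * k))⁻¹ * b.left (x.right * k) * x.left (x.right * k) := by
  simp [hb]

/-- the base group of the wreath product -/
def baseSub (M Q : Type u) [Group M] [Group Q] : Subgroup (M ≀ᵣ Q) :=
  (rightHom : M ≀ᵣ Q →* Q).ker

theorem mem_baseSub (w : M ≀ᵣ Q) : w ∈ baseSub M Q ↔ w.right = 1 := MonoidHom.mem_ker

theorem baseSub_normal : (baseSub M Q).Normal := MonoidHom.normal_ker _

theorem rightHom_surjective : Function.Surjective (rightHom : M ≀ᵣ Q →* Q) :=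
  fun q => ⟨inl q, rfl⟩

theorem baseSub_index : (baseSub M Q).index = Nat.card Q := by
  unfold baseSub
  rw [Subgroup.index_ker, MonoidHom.range_eq_top.mpr rightHom_surjective]
  exact Nat.card_congr Subgroup.topEquiv.toEquiv

/-- the base group is the power of `M` -/
def baseEquiv (M Q : Type u) [Group M] [Group Q] : (Q → M) ≃* ↥(baseSub M Q) where
  toFun f := ⟨⟨f, 1⟩, (mem_baseSub _).mpr rfl⟩
  invFun b := b.1.left
  left_inv f := rfl
  right_inv b := by
    apply Subtype.ext
    apply RegularWreathProduct.ext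
    · rfl
    · exact ((mem_baseSub b.1).mp b.2).symm
  map_mul' f g := by
    apply Subtype.ext
    apply RegularWreathProduct.ext
    · funext q
      simp
    · simp

theorem baseEquiv_symm_apply (b : ↥(baseSub M Q)) : (baseEquiv M Q).symm b = b.1.left := by
  rfl

theorem baseEquiv_apply_left (f : Q → M) : ((baseEquiv M Q f : ↥(baseSub M Q)) : M ≀ᵣ Q).left = f :=
  rfl

theorem baseEquiv_apply_right (f : Q → M) :
    ((baseEquiv M Q f : ↥(baseSub M Q)) : M ≀ᵣ Q).right = 1 := rfl

/-- the subgroup of the wreath product with all coordinates in `H` -/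
def wrSub (Q : Type u) [Group Q] (H : Subgroup M) : Subgroup (M ≀ᵣ Q) where
  carrier := {w | ∀ q, w.left q ∈ H}
  one_mem' := fun _ => H.one_mem
  mul_mem' := by
    intro a b ha hb q
    show a.left q * b.left (a.right⁻¹ * q) ∈ H
    exact H.mul_mem (ha q) (hb _)
  inv_mem' := by
    intro a ha q
    show (a.left (a.right * q))⁻¹ ∈ H
    exact H.inv_mem (ha _)

theorem mem_wrSub (H : Subgroup M) (w : M ≀ᵣ Q) : w ∈ wrSub Q H ↔ ∀ q, w.left q ∈ H := Iff.rfl

end wreathBasic

section wreath

variable {M Q : Type u} [Group M] [Fintype M] [Group Q] [Fintype Q] [DecidableEq Q]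

attribute [local instance] wrFintype

/-- the product of the coordinates of a linear character -/
def wrLam (Q : Type u) [Group Q] [Fintype Q] (H : Subgroup M) (lam : ↥H →* ℂˣ) :
    ↥(wrSub Q H) →* ℂˣ where
  toFun u := ∏ q, lam ⟨u.1.left q, u.2 q⟩
  map_one' := by
    apply Finset.prod_eq_one
    intro q _
    exact map_one lam
  map_mul' a b := by
    have h1 : ∀ q, lam ⟨(a * b).1.left q, (a * b).2 q⟩
        = lam ⟨a.1.left q, a.2 q⟩ * lam ⟨b.1.left (a.1.right⁻¹ * q), b.2 _⟩ := by
      intro q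
      rw [← map_mul]
      rfl
    rw [Finset.prod_congr rfl (fun q _ => h1 q), Finset.prod_mul_distrib]
    congr 1
    exact Equiv.prod_comp (Equiv.mulLeft a.1.right⁻¹) (fun q => lam ⟨b.1.left q, b.2 q⟩)

theorem wrLam_apply (H : Subgroup M) (lam : ↥H →* ℂˣ) (u : ↥(wrSub Q H)) :
    wrLam Q H lam u = ∏ q, lam ⟨u.1.left q, u.2 q⟩ := rfl

theorem extendByZero_wrLam (H : Subgroup M) (lam : ↥H →* ℂˣ) (z : M ≀ᵣ Q) :
    extendByZero (wrSub Q H) (fun u => ((wrLam Q H lam u : ℂˣ) : ℂ)) z
      = ∏ q, extendByZero H (fun h => ((lam h : ℂˣ) : ℂ)) (z.left q) := by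
  by_cases hz : z ∈ wrSub Q H
  · rw [Helper81.extendByZero_apply_mem _ _ hz, wrLam_apply, Units.coe_prod]
    apply Finset.prod_congr rfl
    intro q _
    rw [Helper81.extendByZero_apply_mem H _ (hz q)]
  · rw [Helper81.extendByZero_apply_not_mem _ _ hz]
    have : ∃ q, z.left q ∉ H := by
      by_contra hall
      push Not at hall
      exact hz hall
    obtain ⟨q, hq⟩ := this
    exact (Finset.prod_eq_zero (Finset.mem_univ q)
      (Helper81.extendByZero_apply_not_mem H _ hq)).symm

/-- the subgroup `wrSub` as a product -/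
def wrSubEquiv (H : Subgroup M) : ↥(wrSub Q H) ≃ (Q → ↥H) × Q where
  toFun u := (fun q => ⟨u.1.left q, u.2 q⟩, u.1.right)
  invFun k := ⟨⟨fun q => (k.1 q).1, k.2⟩, fun q => (k.1 q).2⟩
  left_inv _ := rfl
  right_inv _ := rfl

theorem card_wrSub (H : Subgroup M) :
    Nat.card ↥(wrSub Q H) = Nat.card ↥H ^ Nat.card Q * Nat.card Q := by
  rw [Nat.card_congr (wrSubEquiv H), Nat.card_prod, Nat.card_fun]

theorem sum_wr (F : M ≀ᵣ Q → ℂ) :
    ∑ x : M ≀ᵣ Q, F x = ∑ s : Q, ∑ f : Q → M, F ⟨f, s⟩ := by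
  rw [← Equiv.sum_comp (equivProd M Q).symm, Fintype.sum_prod_type, Finset.sum_comm]
  rfl

theorem indFun_wrLam_base (H : Subgroup M) (lam : ↥H →* ℂˣ) (b : M ≀ᵣ Q) (hb : b.right = 1) :
    indFun (wrSub Q H) (fun u => ((wrLam Q H lam u : ℂˣ) : ℂ)) b
      = ∏ q, indFun H (fun h => ((lam h : ℂˣ) : ℂ)) (b.left q) := by
  rw [Helper3.indFun_apply]
  simp only [extendByZero_wrLam, wr_conj_left' _ b hb]
  have h1 : ∀ x : M ≀ᵣ Q,
      ∏ k, extendByZero H (fun h => ((lam h : ℂˣ) : ℂ))
          ((x.left (x.right * k))⁻¹ * b.left (x.right * k) * x.left (x.right * k))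
        = ∏ y, extendByZero H (fun h => ((lam h : ℂˣ) : ℂ))
          ((x.left y)⁻¹ * b.left y * x.left y) := by
    intro x
    exact Equiv.prod_comp (Equiv.mulLeft x.right)
      (fun y => extendByZero H (fun h => ((lam h : ℂˣ) : ℂ)) ((x.left y)⁻¹ * b.left y * x.left y))
  simp only [h1]
  rw [sum_wr]
  simp only []
  have h2 : ∀ s : Q, ∑ f : Q → M, ∏ y, extendByZero H (fun h => ((lam h : ℂˣ) : ℂ))
      ((f y)⁻¹ * b.left y * f y)
      = ∏ y, ∑ m : M, extendByZero H (fun h => ((lam h : ℂˣ) : ℂ)) (m⁻¹ * b.left y * m) := by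
    intro s
    exact sum_pi_prod (fun y m => extendByZero H (fun h => ((lam h : ℂˣ) : ℂ))
      (m⁻¹ * b.left y * m))
  rw [Finset.sum_congr rfl (fun s _ => h2 s)]
  simp only [Finset.sum_const, Finset.card_univ, nsmul_eq_mul, Helper3.indFun_apply]
  rw [Finset.prod_mul_distrib, Finset.prod_const, Finset.card_univ, card_wrSub]
  have hH : (Nat.card ↥H : ℂ) ≠ 0 := by exact_mod_cast (Nat.card_pos (α := ↥H)).ne'
  have hQ : (Fintype.card Q : ℂ) ≠ 0 := by exact_mod_cast (Fintype.card_pos (α := Q)).ne'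
  rw [Nat.card_eq_fintype_card (α := Q)]
  push_cast
  field_simp
  have h3 : (Nat.card ↥H : ℂ) ^ Fintype.card Q * (1 / (Nat.card ↥H : ℂ)) ^ Fintype.card Q = 1 := by
    rw [← mul_pow, mul_one_div_cancel hH, one_pow]
  rw [mul_right_comm, h3, one_mul]

theorem isClassFunction_hom {G : Type u} [Group G] (μ : G →* ℂˣ) :
    IsClassFunction G (fun w => ((μ w : ℂˣ) : ℂ)) := by
  intro g h
  simp only [map_mul, map_inv]
  congr 1
  rw [mul_comm (μ h), mul_assoc, mul_inv_cancel, mul_one]

/-- the wreath product of an M-group with a group of prime order is an M-group -/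
theorem isMGroup_wreath (hp : (Nat.card Q).Prime) (hM : IsMGroup M) : IsMGroup (M ≀ᵣ Q) := by
  classical
  intro χ hχ
  have hB : (baseSub M Q).Normal := baseSub_normal
  haveI : Fintype ↥(baseSub M Q) := Fintype.ofFinite _
  have hidx : (baseSub M Q).index.Prime := by rw [baseSub_index]; exact hp
  have hχc : IsCharacter (M ≀ᵣ Q) χ := Helper81.IsIrrCharacter.isCharacter hχ
  have hres : IsCharacter ↥(baseSub M Q) (fun b : ↥(baseSub M Q) => χ b) :=
    Helper81.isCharacter_restrict (baseSub M Q) hχc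
  have hres0 : (fun b : ↥(baseSub M Q) => χ b) ≠ 0 := by
    intro h0
    have h1 := congrFun h0 1
    exact Helper79.irr_one_ne_zero ⟨χ, hχ⟩ h1
  obtain ⟨θ, hθ, hne⟩ := Helper81.exists_irr_constituent hres hres0
  have hθ' : IsIrrCharacter (Q → M) (fun f => θ (baseEquiv M Q f)) :=
    Helper81.isIrrCharacter_comp_equiv (baseEquiv M Q) hθ
  obtain ⟨c, hc, hcθ⟩ := exists_piChar_eq hθ'
  have hθb : ∀ b : ↥(baseSub M Q), θ b = ∏ q, c q (b.1.left q) := by
    intro b
    have h1 := congrFun hcθ ((baseEquiv M Q).symm b)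
    simp only [MulEquiv.apply_symm_apply] at h1
    rw [h1, piChar_apply]
    rfl
  by_cases hconst : ∀ y, c y = c 1
  · -- the invariant case
    obtain ⟨H, lam, hlam⟩ := hM (c 1) (hc 1)
    have hχ₀ : IsCharacter (M ≀ᵣ Q)
        (indFun (wrSub Q H) (fun u => ((wrLam Q H lam u : ℂˣ) : ℂ))) :=
      Helper81.isCharacter_indFun (wrSub Q H)
        (Helper81.IsIrrCharacter.isCharacter (Helper79.linChar (wrLam Q H lam)).2)
    have hχ₀B : (fun b : ↥(baseSub M Q) =>
        indFun (wrSub Q H) (fun u => ((wrLam Q H lam u : ℂˣ) : ℂ)) b) = θ := by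
      funext b
      rw [hθb b, indFun_wrLam_base H lam b.1 ((mem_baseSub b.1).mp b.2)]
      apply Finset.prod_congr rfl
      intro q _
      rw [hconst q, hlam]
    have hcomm : ∀ a b : M ≀ᵣ Q, a * b * a⁻¹ * b⁻¹ ∈ baseSub M Q := by
      intro a b
      rw [mem_baseSub]
      haveI : Fact (Nat.card Q).Prime := ⟨hp⟩
      haveI : IsCyclic Q := isCyclic_of_prime_card (p := Nat.card Q) rfl
      letI : CommGroup Q := IsCyclic.commGroup
      have h1 : (a * b * a⁻¹ * b⁻¹).right = a.right * b.right * a.right⁻¹ * b.right⁻¹ := by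
        simp
      rw [h1, mul_comm a.right b.right, mul_assoc b.right, mul_inv_cancel, mul_one,
        mul_inv_cancel]
    obtain ⟨μ, hμ⟩ := exists_twist_of_extension (baseSub M Q) hB hcomm hχ₀
      (by rw [hχ₀B]; exact hθ) hχ (by rw [hχ₀B]; exact hne)
    refine ⟨wrSub Q H, wrLam Q H lam * μ.comp (wrSub Q H).subtype, ?_⟩
    have h2 := Helper81.indFun_mul_restrict (wrSub Q H)
      (fun u => ((wrLam Q H lam u : ℂˣ) : ℂ)) (isClassFunction_hom μ)
    rw [hμ]
    funext w
    have h3 := congrFun h2 w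
    rw [Pi.mul_apply] at h3
    rw [mul_comm, ← h3]
    congr 1
  · -- the non-invariant case
    push Not at hconst
    obtain ⟨y, hy⟩ := hconst
    have hw : Helper81.conjFun (baseSub M Q) hB θ (inl y) ≠ θ := by
      intro heq
      apply hy
      have h1 : ∀ b : ↥(baseSub M Q),
          Helper81.conjFun (baseSub M Q) hB θ (inl y) b = ∏ q, c (y * q) (b.1.left q) := by
        intro b
        rw [Helper81.conjFun_apply, hθb]
        simp only [wr_conj_left _ b.1 ((mem_baseSub b.1).mp b.2)]
        rw [← Equiv.prod_comp (Equiv.mulLeft y)]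
        apply Finset.prod_congr rfl
        intro q _
        simp
      have h2 : piChar (fun q => c (y * q)) = piChar c := by
        funext f
        have h3 := h1 (baseEquiv M Q f)
        rw [heq, hθb] at h3
        exact h3.symm
      have h3 := piChar_injective (fun q => hc (y * q)) hc h2
      have h4 := congrFun h3 1
      simpa using h4
    have hχ_eq := eq_indFun_of_not_invariant (baseSub M Q) hB hidx hθ (inl y) hw hχ hne
    have hBM : IsMGroup ↥(baseSub M Q) :=
      isMGroup_of_mulEquiv (baseEquiv M Q) (isMGroup_pi hM)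
    rw [hχ_eq]
    exact Helper3.monomial_of_induced (baseSub M Q) (hBM θ hθ)

end wreath

end Cfsg.Agent.Helper77.MG
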