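import Mathlib
import Cfsg.Prelude.Def_Characters
import Cfsg.Agent.Lib.Helper77.MG3
import Cfsg.Agent.Lib.Helper55.Solv

/-!
# Every finite solvable group embeds in an M-group (helper77, for S4573)
-/

set_option autoImplicit false
set_option linter.unusedSectionVars false
set_option linter.style.haveILetI false

namespace Cfsg.Agent.Helper77.MG

open Cfsg RegularWreathProduct
open scoped ComplexConjugate

universe u

section embed

variable {G : Type u} [Group G] (N : Subgroup G) [N.Normal] {M : Type u} [Group M]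

theorem kk_mem (g : G) (q : G ⧸ N) :
    (Quotient.out q)⁻¹ * g * Quotient.out (((g : G ⧸ N))⁻¹ * q) ∈ N := by
  rw [← QuotientGroup.eq_one_iff]
  simp only [QuotientGroup.mk_mul, QuotientGroup.mk_inv, QuotientGroup.out_eq']
  group

/-- the cocycle of the Kaloujnine–Krasner embedding -/
noncomputable def kkCoc (g : G) (q : G ⧸ N) : ↥N :=
  ⟨(Quotient.out q)⁻¹ * g * Quotient.out (((g : G ⧸ N))⁻¹ * q), kk_mem N g q⟩

theorem kkCoc_one (q : G ⧸ N) : kkCoc N 1 q = 1 := by
  apply Subtype.ext
  simp [kkCoc]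

theorem kkCoc_mul (g h : G) (q : G ⧸ N) :
    kkCoc N (g * h) q = kkCoc N g q * kkCoc N h (((g : G ⧸ N))⁻¹ * q) := by
  apply Subtype.ext
  simp only [kkCoc, Subgroup.coe_mul]
  have h1 : (((g * h : G) : G ⧸ N))⁻¹ * q = ((h : G ⧸ N))⁻¹ * (((g : G ⧸ N))⁻¹ * q) := by
    rw [QuotientGroup.mk_mul, mul_inv_rev, mul_assoc]
  rw [h1]
  group

/-- the Kaloujnine–Krasner embedding, composed with a homomorphism of the normal subgroup -/
noncomputable def kkHom (f₀ : ↥N →* M) : G →* (M ≀ᵣ (G ⧸ N)) where
  toFun g := ⟨fun q => f₀ (kkCoc N g q), (g : G ⧸ N)⟩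
  map_one' := by
    apply RegularWreathProduct.ext
    · funext q
      show f₀ (kkCoc N 1 q) = 1
      rw [kkCoc_one, map_one]
    · rfl
  map_mul' g h := by
    apply RegularWreathProduct.ext
    · funext q
      show f₀ (kkCoc N (g * h) q) = f₀ (kkCoc N g q) * f₀ (kkCoc N h (((g : G ⧸ N))⁻¹ * q))
      rw [← map_mul, kkCoc_mul]
    · rfl

theorem kkHom_injective (f₀ : ↥N →* M) (hf : Function.Injective f₀) :
    Function.Injective (kkHom N f₀) := by
  rw [injective_iff_map_eq_one]
  intro g hg
  have h1 : (g : G ⧸ N) = 1 := congrArg RegularWreathProduct.right hg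
  have h2 : f₀ (kkCoc N g 1) = 1 := congrFun (congrArg RegularWreathProduct.left hg) 1
  have h3 : kkCoc N g 1 = 1 := hf (h2.trans (map_one f₀).symm)
  have h4 : (Quotient.out (1 : G ⧸ N))⁻¹ * g * Quotient.out (((g : G ⧸ N))⁻¹ * 1) = 1 :=
    congrArg Subtype.val h3
  rw [h1, inv_one, one_mul] at h4
  have h5 : g = Quotient.out (1 : G ⧸ N) *
      ((Quotient.out (1 : G ⧸ N))⁻¹ * g * Quotient.out (1 : G ⧸ N)) *
      (Quotient.out (1 : G ⧸ N))⁻¹ := by group
  rw [h5, h4, mul_one, mul_inv_cancel]

end embed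

/-- every finite solvable group embeds in an M-group -/
theorem exists_embedding_aux : ∀ (n : ℕ) (G : Type u) [Group G] [Finite G],
    Group.IsSolvable G → Nat.card G = n →
    ∃ (M : Type u) (_ : Group M) (_ : Fintype M), IsMGroup M ∧
      ∃ f : G →* M, Function.Injective f := by
  intro n
  induction n using Nat.strong_induction_on with
  | _ n ih =>
    intro G _ _ hsolv hcard
    by_cases htriv : Subsingleton G
    · haveI : Fintype G := Fintype.ofFinite G
      refine ⟨G, inferInstance, inferInstance, ?_, MonoidHom.id G, fun _ _ h => h⟩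
      intro χ hχ
      exact Helper3.monomial_of_comm (fun a b => Subsingleton.elim _ _) hχ
    · haveI : Nontrivial G := not_subsingleton_iff_nontrivial.mp htriv
      haveI := hsolv
      obtain ⟨N, hN, hNp⟩ := Helper55.exists_normal_prime_index hsolv
      haveI := hN
      have hlt : Nat.card N < n := by
        rw [← hcard, ← Subgroup.index_mul_card N]
        have h2 : 2 ≤ N.index := hNp.two_le
        have h1 : 0 < Nat.card N := Nat.card_pos
        nlinarith
      obtain ⟨M₀, iG, iF, hM₀, f₀, hf₀⟩ :=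
        ih (Nat.card N) hlt ↥N (inferInstance : Group.IsSolvable ↥N) rfl
      classical
      haveI : Fintype (G ⧸ N) := Fintype.ofFinite _
      have hQp : (Nat.card (G ⧸ N)).Prime := by
        rw [← Subgroup.index_eq_card]
        exact hNp
      exact ⟨M₀ ≀ᵣ (G ⧸ N), inferInstance, wrFintype M₀ (G ⧸ N), isMGroup_wreath hQp hM₀,
        kkHom N f₀, kkHom_injective N f₀ hf₀⟩

theorem exists_embedding {G : Type u} [Group G] [Finite G] (hsolv : Group.IsSolvable G) :
    ∃ (M : Type u) (_ : Group M) (_ : Fintype M),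
      (∀ χ : M → ℂ, Cfsg.IsIrrCharacter M χ →
        (∃ (H : Subgroup M) (lam : ↥H →* ℂˣ), χ = Cfsg.indFun H (fun h => (lam h : ℂ)))) ∧
      ∃ f : G →* M, Function.Injective f :=
  exists_embedding_aux (Nat.card G) G hsolv rfl

end Cfsg.Agent.Helper77.MG
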