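import Mathlib
import Cfsg.Agent.Lib.Helper77.RelCover
import Cfsg.Agent.Lib.Helper77.FusSaturatedA

/-!
# Nilpotent blocks and normal subgroups of `p`-power index
-/

set_option autoImplicit false
set_option linter.unusedSectionVars false
set_option linter.style.haveILetI false

namespace Cfsg.Agent.Helper77

open Cfsg Cfsg.Agent.Helper79

universe u

section grouplemmas

variable {G : Type u} [Group G]

/-- A `p`-regular element lies in every normal subgroup of `p`-power index. -/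
theorem mem_of_isPRegular_of_index [Finite G] {p : ℕ} (N : Subgroup G) [N.Normal]
    (hN : ∃ k : ℕ, N.index = p ^ k) {x : G} (hx : IsPRegular p x) (hp : p.Prime) : x ∈ N := by
  obtain ⟨k, hk⟩ := hN
  have h1 : x ^ (p ^ k) ∈ N := by
    rw [← hk]
    exact Subgroup.pow_index_mem N x
  have hcop : Nat.Coprime (p ^ k) (orderOf x) :=
    Nat.Coprime.pow_left k ((Nat.Prime.coprime_iff_not_dvd hp).mpr hx)
  obtain ⟨m, hm⟩ := exists_pow_eq_self_of_coprime hcop
  rw [← hm]
  exact N.pow_mem h1 m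

/-- Coprime action on a `p`-group stabilizing a normal series with trivial action on the
factors. -/
theorem mem_centralizer_of_commutator_mem [Finite G] {p : ℕ} [Fact p.Prime] {Q R : Subgroup G}
    {x : G} (hR : IsPGroup p R) (hxR : x ∈ Subgroup.centralizer (R : Set G))
    (hcomm : ∀ q ∈ Q, q⁻¹ * (x * q * x⁻¹) ∈ R) (hreg : ¬ p ∣ orderOf x) :
    x ∈ Subgroup.centralizer (Q : Set G) := by
  rw [Subgroup.mem_centralizer_iff]
  intro q hq
  obtain ⟨r, hr⟩ : ∃ r, r = q⁻¹ * (x * q * x⁻¹) := ⟨_, rfl⟩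
  have hrR : r ∈ R := hr ▸ hcomm q hq
  have hxr : ∀ n : ℕ, x * r ^ n = r ^ n * x := fun n =>
    ((Subgroup.mem_centralizer_iff.mp hxR) (r ^ n) (R.pow_mem hrR n)).symm
  have hstep : x * q * x⁻¹ = q * r := by rw [hr]; group
  have hpow : ∀ n : ℕ, x ^ n * q * (x ^ n)⁻¹ = q * r ^ n := by
    intro n
    induction n with
    | zero => simp
    | succ n ih =>
      have e1 : x ^ (n + 1) * q * (x ^ (n + 1))⁻¹ = x * (x ^ n * q * (x ^ n)⁻¹) * x⁻¹ := by
        rw [pow_succ']
        group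
      rw [e1, ih]
      have e2 : x * (q * r ^ n) * x⁻¹ = (x * q * x⁻¹) * (x * r ^ n) * x⁻¹ := by group
      rw [e2, hstep, hxr n, pow_succ']
      group
  have h1 := hpow (orderOf x)
  rw [pow_orderOf_eq_one, one_mul, inv_one, mul_one] at h1
  have h2 : r ^ orderOf x = 1 := by
    have := mul_left_cancel (a := q) (b := 1) (c := r ^ orderOf x) (by rw [mul_one]; exact h1)
    exact this.symm
  have h3 : orderOf r ∣ orderOf x := orderOf_dvd_of_pow_eq_one h2
  obtain ⟨j, hj⟩ := hR ⟨r, hrR⟩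
  have hj' : r ^ p ^ j = 1 := by
    have := congrArg Subtype.val hj
    simpa using this
  have h4 : orderOf r ∣ p ^ j := orderOf_dvd_of_pow_eq_one hj'
  obtain ⟨i, -, hi⟩ := (Nat.dvd_prime_pow (Fact.out : p.Prime)).mp h4
  have hi0 : i = 0 := by
    by_contra hne
    apply hreg
    have : p ∣ orderOf r := by
      rw [hi]
      exact dvd_pow_self p hne
    exact this.trans h3
  rw [hi0, pow_zero, orderOf_eq_one_iff] at hi
  rw [hi, mul_one] at hstep
  calc q * x = (x * q * x⁻¹) * x := by rw [hstep]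
    _ = x * q := by group

/-- An element lies in a subgroup as soon as all its powers of prime power order do. -/
theorem mem_of_forall_primePow_mem [Finite G] (C : Subgroup G) (x : G)
    (h : ∀ y ∈ Subgroup.zpowers x, (∃ q a : ℕ, q.Prime ∧ orderOf y = q ^ a) → y ∈ C) :
    x ∈ C := by
  classical
  have hn : 0 < orderOf x := orderOf_pos x
  have hex : ∃ d, 0 < d ∧ x ^ d ∈ C :=
    ⟨orderOf x, hn, by rw [pow_orderOf_eq_one]; exact C.one_mem⟩
  obtain ⟨d, ⟨hd0, hdC⟩, hmin⟩ : ∃ d, (0 < d ∧ x ^ d ∈ C) ∧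
      ∀ m, (0 < m ∧ x ^ m ∈ C) → d ≤ m :=
    ⟨Nat.find hex, Nat.find_spec hex, fun m hm => Nat.find_min' hex hm⟩
  have hdvd : ∀ m, x ^ m ∈ C → d ∣ m := by
    intro m hm
    by_contra hnd
    have hr : 0 < m % d := Nat.pos_of_ne_zero (fun h0 => hnd (Nat.dvd_of_mod_eq_zero h0))
    have hlt : m % d < d := Nat.mod_lt _ hd0
    have hmem : x ^ (m % d) ∈ C := by
      have e : x ^ m = (x ^ d) ^ (m / d) * x ^ (m % d) := by
        rw [← pow_mul, ← pow_add, Nat.div_add_mod]
      have h2 : x ^ (m % d) = ((x ^ d) ^ (m / d))⁻¹ * x ^ m := by rw [e]; group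
      rw [h2]
      exact C.mul_mem (C.inv_mem (C.pow_mem hdC _)) hm
    exact absurd (hmin _ ⟨hr, hmem⟩) (not_le.mpr hlt)
  by_cases hd1 : d = 1
  · subst hd1
    simpa using hdC
  exfalso
  obtain ⟨q, hq, hqd⟩ := Nat.exists_prime_and_dvd hd1
  have hdn : d ∣ orderOf x := hdvd _ (by rw [pow_orderOf_eq_one]; exact C.one_mem)
  have hmdvd : ordCompl[q] (orderOf x) ∣ orderOf x := Nat.ordCompl_dvd (orderOf x) q
  have hm0 : ordCompl[q] (orderOf x) ≠ 0 := by
    intro h0
    rw [h0, zero_dvd_iff] at hmdvd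
    exact hn.ne' hmdvd
  have hy : x ^ (ordCompl[q] (orderOf x)) ∈ C := by
    apply h _ (Subgroup.npow_mem_zpowers x _)
    refine ⟨q, (orderOf x).factorization q, hq, ?_⟩
    rw [orderOf_pow' x hm0, Nat.gcd_eq_right hmdvd]
    have h5 := Nat.ordProj_mul_ordCompl_eq_self (orderOf x) q
    exact Nat.div_eq_of_eq_mul_left (Nat.pos_of_ne_zero hm0) h5.symm
  exact Nat.not_dvd_ordCompl hq hn.ne' (hqd.trans (hdvd _ hy))

end grouplemmas

section action

variable {G : Type u} [Group G] [Fintype G]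

/-- Conjugation action of a subgroup of `N_G(K)` on sets of irreducible characters of `K`. -/
@[instance_reducible]
def blockAct (K P : Subgroup G) (hPK : P ≤ Subgroup.normalizer (K : Set G)) :
    MulAction P (Set (IrrCharacter K)) where
  smul x f := conjSet K x (hPK x.2) f
  one_smul f := by
    show conjSet K ((1 : P) : G) _ f = f
    rw [conjSet_congr K (show ((1 : P) : G) = 1 from rfl) _ (Subgroup.one_mem _), conjSet_one]
  mul_smul x y f := by
    show conjSet K ((x * y : P) : G) _ f = conjSet K x _ (conjSet K y _ f)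
    rw [conjSet_congr K (show ((x * y : P) : G) = (x : G) * (y : G) from rfl) _
      (Subgroup.mul_mem _ (hPK x.2) (hPK y.2)), conjSet_mul K x y (hPK x.2) (hPK y.2)]

/-- The same action on an invariant family. -/
@[instance_reducible]
def blockActOn (K P : Subgroup G) (hPK : P ≤ Subgroup.normalizer (K : Set G))
    (Ω : Set (Set (IrrCharacter K)))
    (hΩ : ∀ y (hy : y ∈ P), ∀ f ∈ Ω, conjSet K y (hPK hy) f ∈ Ω) : MulAction P Ω where
  smul x f := ⟨conjSet K x (hPK x.2) f.1, hΩ x x.2 f.1 f.2⟩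
  one_smul f := by
    apply Subtype.ext
    show conjSet K ((1 : P) : G) _ f.1 = f.1
    rw [conjSet_congr K (show ((1 : P) : G) = 1 from rfl) _ (Subgroup.one_mem _), conjSet_one]
  mul_smul x y f := by
    apply Subtype.ext
    show conjSet K ((x * y : P) : G) _ f.1 = conjSet K x _ (conjSet K y _ f.1)
    rw [conjSet_congr K (show ((x * y : P) : G) = (x : G) * (y : G) from rfl) _
      (Subgroup.mul_mem _ (hPK x.2) (hPK y.2)), conjSet_mul K x y (hPK x.2) (hPK y.2)]

/-- A `q`-element normalizing `K ⊴ L` (with `L/K` a `p`-group, `q ≠ p`) and preserving an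
`L`-orbit of sets of characters of `K` fixes a member of the orbit. -/
theorem exists_fixed_conjSet {p q : ℕ} [Fact p.Prime] [Fact q.Prime] (hqp : q ≠ p)
    {K L : Subgroup G} [Fintype K] (hKL : K ≤ L) (hLK : L ≤ Subgroup.normalizer (K : Set G))
    (hidx : ∃ k : ℕ, K.relIndex L = p ^ k) (x : G)
    (hxK : x ∈ Subgroup.normalizer (K : Set G)) (hxL : x ∈ Subgroup.normalizer (L : Set G))
    (hxq : ∃ a : ℕ, orderOf x = q ^ a) (f₁ : Set (IrrCharacter K))
    (hinv : ∃ l, ∃ hl : l ∈ L, conjSet K x hxK f₁ = conjSet K l (hLK hl) f₁) :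
    ∃ l, ∃ hl : l ∈ L,
      conjSet K x hxK (conjSet K l (hLK hl) f₁) = conjSet K l (hLK hl) f₁ := by
  classical
  letI actL := blockAct K L hLK
  obtain ⟨Ω, hΩ⟩ : ∃ Ω : Set (Set (IrrCharacter K)), Ω = MulAction.orbit L f₁ := ⟨_, rfl⟩
  have hΩmem : ∀ f, f ∈ Ω ↔ ∃ l, ∃ hl : l ∈ L, f = conjSet K l (hLK hl) f₁ := by
    intro f
    rw [hΩ, MulAction.mem_orbit_iff]
    constructor
    · rintro ⟨l, rfl⟩
      exact ⟨l, l.2, rfl⟩
    · rintro ⟨l, hl, rfl⟩
      exact ⟨⟨l, hl⟩, rfl⟩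
  have hcard : ∃ j, Nat.card Ω = p ^ j := by
    have h1 : (MulAction.stabilizer L f₁).index = Ω.ncard := by
      rw [hΩ]
      exact MulAction.index_stabilizer L f₁
    have h2 : K.subgroupOf L ≤ MulAction.stabilizer L f₁ := by
      intro l hl
      rw [MulAction.mem_stabilizer_iff]
      obtain ⟨hlN, h3⟩ := le_stabSub K f₁ (Subgroup.mem_subgroupOf.mp hl)
      exact h3
    have h3 := Subgroup.index_dvd_of_le h2
    obtain ⟨k, hk⟩ := hidx
    have hk' : (K.subgroupOf L).index = p ^ k := hk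
    rw [hk', h1] at h3
    obtain ⟨j, -, hj⟩ := (Nat.dvd_prime_pow Fact.out).mp h3
    exact ⟨j, by rw [Nat.card_coe_set_eq]; exact hj⟩
  have hx1 : conjSet K x hxK f₁ ∈ Ω := by
    obtain ⟨l, hl, h⟩ := hinv
    exact (hΩmem _).mpr ⟨l, hl, h⟩
  have hstep : ∀ y (hyK : y ∈ Subgroup.normalizer (K : Set G)),
      y ∈ Subgroup.normalizer (L : Set G) → conjSet K y hyK f₁ ∈ Ω →
      ∀ f ∈ Ω, conjSet K y hyK f ∈ Ω := by
    intro y hyK hyL hy f hf
    obtain ⟨l, hl, rfl⟩ := (hΩmem f).mp hf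
    obtain ⟨l', hl', hy'⟩ := (hΩmem _).mp hy
    rw [hΩmem]
    have hyl : y * l * y⁻¹ ∈ L := (Subgroup.mem_normalizer_iff.mp hyL l).mp hl
    have hylK := hLK hyl
    have hmul1 : y * l * y⁻¹ * y ∈ Subgroup.normalizer (K : Set G) :=
      Subgroup.mul_mem _ hylK hyK
    have hmul2 : y * l ∈ Subgroup.normalizer (K : Set G) := Subgroup.mul_mem _ hyK (hLK hl)
    refine ⟨y * l * y⁻¹ * l', L.mul_mem hyl hl', ?_⟩
    rw [conjSet_mul K (y * l * y⁻¹) l' hylK (hLK hl'), ← hy',
      ← conjSet_mul K (y * l * y⁻¹) y hylK hyK hmul1, ← conjSet_mul K y l hyK (hLK hl) hmul2]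
    exact conjSet_congr K (by group) _ _ f₁
  have hpow : ∀ n : ℕ, ∃ hK : x ^ n ∈ Subgroup.normalizer (K : Set G),
      conjSet K (x ^ n) hK f₁ ∈ Ω := by
    intro n
    induction n with
    | zero =>
      refine ⟨by rw [pow_zero]; exact Subgroup.one_mem _, ?_⟩
      rw [hΩmem]
      exact ⟨1, L.one_mem, conjSet_congr K (pow_zero x) _ _ f₁⟩
    | succ n ih =>
      obtain ⟨hK, hmem⟩ := ih
      have hK' : x ^ (n + 1) ∈ Subgroup.normalizer (K : Set G) := Subgroup.pow_mem _ hxK _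
      refine ⟨hK', ?_⟩
      have e : conjSet K (x ^ (n + 1)) hK' f₁ = conjSet K x hxK (conjSet K (x ^ n) hK f₁) := by
        rw [← conjSet_mul K x (x ^ n) hxK hK (by rw [← pow_succ']; exact hK')]
        exact conjSet_congr K (pow_succ' x n) _ _ f₁
      rw [e]
      exact hstep x hxK hxL hx1 _ hmem
  have hXK : Subgroup.zpowers x ≤ Subgroup.normalizer (K : Set G) :=
    (Subgroup.zpowers_le).mpr hxK
  have hXL : Subgroup.zpowers x ≤ Subgroup.normalizer (L : Set G) :=
    (Subgroup.zpowers_le).mpr hxL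
  have hΩinv : ∀ y (hy : y ∈ Subgroup.zpowers x), ∀ f ∈ Ω, conjSet K y (hXK hy) f ∈ Ω := by
    intro y hy f hf
    obtain ⟨n, hn⟩ := mem_powers_iff_mem_zpowers.mpr hy
    have hn' : x ^ n = y := hn
    subst hn'
    obtain ⟨hK, hmem⟩ := hpow n
    exact hstep _ (hXK hy) (hXL hy) hmem f hf
  letI actX := blockActOn K (Subgroup.zpowers x) hXK Ω hΩinv
  have hXq : IsPGroup q (Subgroup.zpowers x) := by
    obtain ⟨a, ha⟩ := hxq
    exact IsPGroup.of_card (n := a) (by rw [Nat.card_zpowers, ha])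
  have hnd : ¬ q ∣ Nat.card Ω := by
    obtain ⟨j, hj⟩ := hcard
    rw [hj]
    intro hdvd
    have h1 := Nat.Prime.dvd_of_dvd_pow (Fact.out : q.Prime) hdvd
    exact hqp ((Nat.prime_dvd_prime_iff_eq Fact.out Fact.out).mp h1)
  obtain ⟨⟨f₀, hf₀⟩, hfix⟩ := hXq.nonempty_fixed_point_of_prime_not_dvd_card Ω hnd
  obtain ⟨l, hl, rfl⟩ := (hΩmem f₀).mp hf₀
  refine ⟨l, hl, ?_⟩
  have h1 := MulAction.mem_fixedPoints.mp hfix ⟨x, Subgroup.mem_zpowers x⟩
  exact congrArg Subtype.val h1

end action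

section down

variable {G : Type u} [Group G] (N : Subgroup G)

/-- `C_N(R') ≃ C_G(R) ∩ N`. -/
def dnEquiv (R' : Subgroup N) :
    Subgroup.centralizer (R' : Set N) ≃*
      ↥(Subgroup.centralizer ((R'.map N.subtype : Subgroup G) : Set G) ⊓ N) where
  toFun c := ⟨((c : N) : G), ⟨up_mem_centralizer N c.2, (c : N).2⟩⟩
  invFun c := ⟨⟨(c : G), c.2.2⟩, down_mem_centralizer N c.2.1⟩
  left_inv _ := rfl
  right_inv _ := rfl
  map_mul' _ _ := rfl

theorem dnEquiv_apply_coe (R' : Subgroup N) (c : Subgroup.centralizer (R' : Set N)) :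
    ((dnEquiv N R' c : _) : G) = ((c : N) : G) := rfl

theorem dnEquiv_symm_apply_coe (R' : Subgroup N)
    (c : ↥(Subgroup.centralizer ((R'.map N.subtype : Subgroup G) : Set G) ⊓ N)) :
    ((((dnEquiv N R').symm c : _) : N) : G) = (c : G) := rfl

theorem up_mem_normalizer {R' : Subgroup N} {x : N}
    (hx : x ∈ Subgroup.normalizer (R' : Set N)) :
    (x : G) ∈ Subgroup.normalizer ((R'.map N.subtype : Subgroup G) : Set G) := by
  rw [Subgroup.mem_normalizer_iff] at hx ⊢
  intro g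
  constructor
  · rintro ⟨a, ha, rfl⟩
    exact ⟨x * a * x⁻¹, (hx a).mp ha, rfl⟩
  · rintro ⟨b, hb, hbe⟩
    refine ⟨x⁻¹ * b * x, (hx _).mpr ?_, ?_⟩
    · have e : x * (x⁻¹ * b * x) * x⁻¹ = b := by group
      rw [e]
      exact hb
    · have hbe' : (b : G) = (x : G) * g * (x : G)⁻¹ := hbe
      show ((x⁻¹ * b * x : N) : G) = g
      push_cast
      rw [hbe']
      group

theorem down_mem_normalizer {R' : Subgroup N} {x : N}
    (hx : (x : G) ∈ Subgroup.normalizer ((R'.map N.subtype : Subgroup G) : Set G)) :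
    x ∈ Subgroup.normalizer (R' : Set N) := by
  rw [Subgroup.mem_normalizer_iff] at hx ⊢
  intro a
  constructor
  · intro ha
    obtain ⟨b, hb, hbe⟩ := (hx (a : G)).mp ⟨a, ha, rfl⟩
    have : b = x * a * x⁻¹ := Subtype.ext hbe
    rw [← this]
    exact hb
  · intro ha
    obtain ⟨b, hb, hbe⟩ := (hx (a : G)).mpr ⟨x * a * x⁻¹, ha, rfl⟩
    have : b = a := Subtype.ext hbe
    rw [← this]
    exact hb

variable [Fintype G]

theorem brauerOmega_dn (R' : Subgroup N) [Fintype (Subgroup.centralizer (R' : Set N))]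
    [Fintype ↥(Subgroup.centralizer ((R'.map N.subtype : Subgroup G) : Set G) ⊓ N)]
    (c : Set (IrrCharacter N)) (ξ' : IrrCharacter (Subgroup.centralizer (R' : Set N))) :
    brauerOmega R' (blockCoeff c) (ξ' : Subgroup.centralizer (R' : Set N) → ℂ) =
      omega (mapIrr (dnEquiv N R') ξ' : _ → ℂ)
        (restr (Subgroup.centralizer ((R'.map N.subtype : Subgroup G) : Set G) ⊓ N)
          (subgroupBlockCoeff N c)) := by
  haveI : Fintype N := Fintype.ofFinite _
  rw [brauerOmega_eq_omega, omega_mapIrr]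
  congr 1
  funext x
  show blockCoeff c (x : N) = subgroupBlockCoeff N c (((x : N)) : G)
  rw [subgroupBlockCoeff_eq_extZ, extZ_of_mem]

theorem mapSet_dnEquiv_conjSet (R' : Subgroup N) (x : N)
    (hx' : x ∈ Subgroup.normalizer
      ((Subgroup.centralizer (R' : Set N) : Subgroup N) : Set N))
    (hxK : (x : G) ∈ Subgroup.normalizer
      ((Subgroup.centralizer ((R'.map N.subtype : Subgroup G) : Set G) ⊓ N : Subgroup G) : Set G))
    (f' : Set (IrrCharacter (Subgroup.centralizer (R' : Set N)))) :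
    mapSet (dnEquiv N R') (conjSet (Subgroup.centralizer (R' : Set N)) x hx' f') =
      conjSet (Subgroup.centralizer ((R'.map N.subtype : Subgroup G) : Set G) ⊓ N) (x : G) hxK
        (mapSet (dnEquiv N R') f') := by
  unfold mapSet conjSet
  rw [Set.image_image, Set.image_image]
  refine Set.image_congr fun χ _ => ?_
  apply Subtype.ext
  funext k
  rw [mapIrr_coe]
  show χ.1 _ = χ.1 _
  refine congrArg χ.1 ?_
  apply Subtype.ext
  apply Subtype.ext
  rfl

end down

section main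

variable {G : Type u} [Group G] [Fintype G] {p : ℕ} {M : Ideal AlgInt}

theorem mem_normalizer_inf_normal {L : Subgroup G} (N : Subgroup G) [hN : N.Normal] {x : G}
    (hx : x ∈ Subgroup.normalizer (L : Set G)) :
    x ∈ Subgroup.normalizer ((L ⊓ N : Subgroup G) : Set G) := by
  rw [Subgroup.mem_normalizer_iff] at hx ⊢
  intro g
  have h1 : g ∈ N ↔ x * g * x⁻¹ ∈ N := by
    constructor
    · intro h
      exact hN.conj_mem g h x
    · intro h
      have := hN.conj_mem _ h x⁻¹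
      have e : x⁻¹ * (x * g * x⁻¹) * x⁻¹⁻¹ = g := by group
      rwa [e] at this
  rw [Subgroup.mem_inf, Subgroup.mem_inf, ← hx g, ← h1]

theorem relIndex_inf_normal_pow [Fact p.Prime] (N : Subgroup G) [N.Normal]
    (hN : ∃ k : ℕ, N.index = p ^ k) (L : Subgroup G) : ∃ k : ℕ, (L ⊓ N).relIndex L = p ^ k := by
  obtain ⟨k, hk⟩ := hN
  rw [Subgroup.inf_relIndex_left]
  have h := Subgroup.relIndex_dvd_index_of_normal N L
  rw [hk] at h
  obtain ⟨j, -, hj⟩ := (Nat.dvd_prime_pow Fact.out).mp h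
  exact ⟨j, hj⟩

theorem brauerOmega_eq_omega_restr (P : Subgroup G)
    [Fintype (Subgroup.centralizer (P : Set G))] (β : G → ℂ)
    (ξ : Subgroup.centralizer (P : Set G) → ℂ) :
    brauerOmega P β ξ = omega ξ (restr (Subgroup.centralizer (P : Set G)) β) :=
  brauerOmega_eq_omega P β ξ

theorem omega_restr_eq_of_cover (N : Subgroup G) [hN : N.Normal] {c : Set (IrrCharacter N)}
    {B : Set (IrrCharacter G)} (hBc : ∀ g : G, blockCoeff B g = subgroupBlockCoeff N c g)
    (L : Subgroup G) [Fintype L] [Fintype ↥(L ⊓ N)] (ζ : IrrCharacter L)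
    (ξ : IrrCharacter ↥(L ⊓ N))
    (hne : classInner (resSub (inf_le_left : L ⊓ N ≤ L) (ζ : L → ℂ)) (ξ : ↥(L ⊓ N) → ℂ) ≠ 0) :
    omega (ζ : L → ℂ) (restr L (blockCoeff B)) =
      omega (ξ : ↥(L ⊓ N) → ℂ) (restr (L ⊓ N) (subgroupBlockCoeff N c)) := by
  have hfun : blockCoeff B = subgroupBlockCoeff N c := funext hBc
  have hLK : L ≤ Subgroup.normalizer ((L ⊓ N : Subgroup G) : Set G) :=
    fun l hl => mem_normalizer_inf_normal N (Subgroup.le_normalizer hl)
  rw [hfun]
  refine omega_eq_of_constituent_rel inf_le_left hLK ζ ξ hne ?_ ?_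
  · intro u _ x
    rw [← hfun]
    exact isClassFunction_blockCoeff B x u
  · intro g hgL hgK
    exact subgroupBlockCoeff_of_notMem N c (fun hgN => hgK ⟨hgL, hgN⟩)

/-- The block of `L` containing a character lying over a member of an `x`-stable block of
`K ⊴ L` (with `L/K` a `p`-group) is `x`-stable. -/
theorem conjSet_blockOf_eq_of_cover [Fact p.Prime] (hM : IsPModular p M)
    {K L : Subgroup G} [Fintype K] [Fintype L] (hKL : K ≤ L)
    (hLK : L ≤ Subgroup.normalizer (K : Set G)) (hidx : ∃ k : ℕ, K.relIndex L = p ^ k)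
    (x : G) (hxK : x ∈ Subgroup.normalizer (K : Set G))
    (hxL : x ∈ Subgroup.normalizer (L : Set G)) {f : Set (IrrCharacter K)}
    (hf : IsPBlock M f) (hxf : conjSet K x hxK f = f) (ζ : IrrCharacter L)
    (ξ : IrrCharacter K) (hξ : ξ ∈ f)
    (hne : classInner (resSub hKL (ζ : L → ℂ)) (ξ : K → ℂ) ≠ 0) :
    conjSet L x hxL (blockOf M (ζ : L → ℂ)) = blockOf M (ζ : L → ℂ) := by
  haveI hpr := isPrime_of_isPModular hM
  rw [conjSet_blockOf]
  apply blockOf_eq_of_sameBlock
  have hξ' : conjIrr K x hxK ξ ∈ f := by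
    have : conjIrr K x hxK ξ ∈ conjSet K x hxK f := ⟨ξ, hξ, rfl⟩
    rwa [hxf] at this
  refine sameBlock_of_cover_rel hM hKL hLK hidx ζ (conjIrr L x hxL ζ) ξ (conjIrr K x hxK ξ)
    (sameBlock_of_mem hf hξ hξ') hne ?_
  rw [classInner_resSub_conjIrr]
  exact hne

/-- If `B` is nilpotent, so is `c`. -/
theorem isNilpotentBlock_down [Fact p.Prime] (hM : IsPModular p M) (N : Subgroup G)
    [hNn : N.Normal] (hN : ∃ k : ℕ, N.index = p ^ k) {c : Set (IrrCharacter N)}
    (hc : IsPBlock M c) {B : Set (IrrCharacter G)} (hB : IsPBlock M B)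
    (hBc : ∀ g : G, blockCoeff B g = subgroupBlockCoeff N c g)
    (hnil : IsNilpotentBlock p M B) : IsNilpotentBlock p M c := by
  classical
  haveI hpr := isPrime_of_isPModular hM
  haveI : Fintype N := Fintype.ofFinite _
  refine ⟨hc, fun R' f' hpair x' hx'N hx'st hx'reg => ?_⟩
  obtain ⟨⟨hR'p, hf'⟩, -, hom⟩ := hpair
  haveI : Fintype (Subgroup.centralizer (R' : Set N)) := Fintype.ofFinite _
  haveI : Fintype (Subgroup.centralizer ((R'.map N.subtype : Subgroup G) : Set G)) :=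
    Fintype.ofFinite _
  haveI : Fintype ↥(Subgroup.centralizer ((R'.map N.subtype : Subgroup G) : Set G) ⊓ N) :=
    Fintype.ofFinite _
  have hKL : Subgroup.centralizer ((R'.map N.subtype : Subgroup G) : Set G) ⊓ N ≤
      Subgroup.centralizer ((R'.map N.subtype : Subgroup G) : Set G) := inf_le_left
  have hLK : Subgroup.centralizer ((R'.map N.subtype : Subgroup G) : Set G) ≤
      Subgroup.normalizer ((Subgroup.centralizer ((R'.map N.subtype : Subgroup G) : Set G) ⊓ N :
        Subgroup G) : Set G) :=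
    fun l hl => mem_normalizer_inf_normal N (Subgroup.le_normalizer hl)
  have hidx := relIndex_inf_normal_pow (p := p) N hN
    (Subgroup.centralizer ((R'.map N.subtype : Subgroup G) : Set G))
  obtain ⟨ξ', hξ'⟩ := nonempty_of_isPBlock hf'
  obtain ⟨ζ, hζ⟩ := exists_lying_over_rel hKL (mapIrr (dnEquiv N R') ξ')
  have hRp : IsPGroup p (R'.map N.subtype) := hR'p.map _
  have hζ1 : MemLocalIdeal M (brauerOmega (R'.map N.subtype) (blockCoeff B)
      (ζ : Subgroup.centralizer ((R'.map N.subtype : Subgroup G) : Set G) → ℂ) - 1) := by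
    have h1 := omega_restr_eq_of_cover N hBc
      (Subgroup.centralizer ((R'.map N.subtype : Subgroup G) : Set G)) ζ
      (mapIrr (dnEquiv N R') ξ') hζ
    rw [brauerOmega_eq_omega_restr, h1, ← brauerOmega_dn]
    exact hom ξ' hξ'
  have hpairB : IsBrauerPairOf p M B (R'.map N.subtype) (blockOf M (ζ : _ → ℂ)) := by
    refine ⟨⟨hRp, isPBlock_blockOf ζ⟩, hB, fun ζ' hζ' => ?_⟩
    have h2 := memLocalIdeal_brauerOmega_sub_of_invariant (M := M) (R'.map N.subtype)
      (isRValued_blockCoeff hB) (fun u _ x => isClassFunction_blockCoeff B x u) ζ'.2 ζ.2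
      (sameBlock_symm hζ')
    have := memLocalIdeal_add h2 hζ1
    rwa [sub_add_sub_cancel] at this
  have hxR : (x' : G) ∈ Subgroup.normalizer ((R'.map N.subtype : Subgroup G) : Set G) :=
    up_mem_normalizer N hx'N
  have hxL := normalizer_le_normalizer_centralizer _ hxR
  have hxK := mem_normalizer_inf_normal N hxL
  have hx'C := normalizer_le_normalizer_centralizer R' hx'N
  have hfst : conjSet _ (x' : G) hxK (mapSet (dnEquiv N R') f') = mapSet (dnEquiv N R') f' := by
    rw [← mapSet_dnEquiv_conjSet N R' x' hx'C hxK,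
      (stabilizesBlock_iff_conjSet_eq _ x' hx'C hf').mp hx'st]
  have hst : StabilizesBlock (Subgroup.centralizer ((R'.map N.subtype : Subgroup G) : Set G))
      (blockOf M (ζ : _ → ℂ)) (x' : G) := by
    rw [stabilizesBlock_iff_conjSet_eq _ _ hxL (isPBlock_blockOf ζ)]
    exact conjSet_blockOf_eq_of_cover hM hKL hLK hidx (x' : G) hxK hxL (isPBlock_mapSet _ hf')
      hfst ζ _ ⟨ξ', hξ', rfl⟩ hζ
  have hreg : IsPRegular p (x' : G) := by
    unfold IsPRegular at hx'reg ⊢
    rwa [Subgroup.orderOf_coe]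
  have := hnil.2 _ _ hpairB (x' : G) hxR hst hreg
  exact down_mem_centralizer N this

set_option maxHeartbeats 800000 in
/-- Core of the converse: elements of prime power order. -/
theorem mem_centralizer_of_prime_pow_order [Fact p.Prime] (hM : IsPModular p M) (N : Subgroup G)
    [hNn : N.Normal] (hN : ∃ k : ℕ, N.index = p ^ k) {c : Set (IrrCharacter N)}
    (hc : IsPBlock M c) {B : Set (IrrCharacter G)} (hB : IsPBlock M B)
    (hBc : ∀ g : G, blockCoeff B g = subgroupBlockCoeff N c g)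
    (hnil : IsNilpotentBlock p M c) {Q : Subgroup G}
    {e : Set (IrrCharacter (Subgroup.centralizer (Q : Set G)))}
    (hpair : IsBrauerPairOf p M B Q e) {x : G}
    (hxQ : x ∈ Subgroup.normalizer (Q : Set G))
    (hxst : StabilizesBlock (Subgroup.centralizer (Q : Set G)) e x) {q : ℕ} [Fact q.Prime]
    (hqp : q ≠ p) (hxq : ∃ a : ℕ, orderOf x = q ^ a) :
    x ∈ Subgroup.centralizer (Q : Set G) := by
  classical
  haveI hpr := isPrime_of_isPModular hM
  haveI : Fintype N := Fintype.ofFinite _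
  have hQp : IsPGroup p Q := hpair.1.1
  have he : IsPBlock M e := hpair.1.2
  have hxreg : IsPRegular p x := by
    obtain ⟨a, ha⟩ := hxq
    unfold IsPRegular
    rw [ha]
    intro hdvd
    exact hqp ((Nat.prime_dvd_prime_iff_eq Fact.out Fact.out).mp
      (Nat.Prime.dvd_of_dvd_pow Fact.out hdvd)).symm
  have hxN : x ∈ N := mem_of_isPRegular_of_index N hN hxreg Fact.out
  obtain ⟨R', hR'def⟩ : ∃ R' : Subgroup N, R' = (Q ⊓ N).subgroupOf N := ⟨_, rfl⟩
  have hR : R'.map N.subtype = Q ⊓ N := by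
    rw [hR'def]
    exact Subgroup.map_subgroupOf_eq_of_le inf_le_right
  have hR'p : IsPGroup p R' := by
    rw [hR'def]
    exact (hQp.to_le inf_le_left).comap_subtype
  have hRQ : R'.map N.subtype ≤ Q := by
    rw [hR]
    exact inf_le_left
  have hQR : Q ≤ Subgroup.normalizer ((R'.map N.subtype : Subgroup G) : Set G) := by
    rw [hR]
    intro y hy
    exact mem_normalizer_inf_normal N (Subgroup.le_normalizer hy)
  have hxR : x ∈ Subgroup.normalizer ((R'.map N.subtype : Subgroup G) : Set G) := by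
    rw [hR]
    exact mem_normalizer_inf_normal N hxQ
  obtain ⟨eR, heR, -⟩ := existsUnique_isNormalSubpair hM Q (R'.map N.subtype) e ⟨hQp, he⟩ hRQ hQR
  have hRp : IsPGroup p (R'.map N.subtype) := heR.1.1
  have heRb : IsPBlock M eR := heR.1.2
  have hle : SubpairLE p M (R'.map N.subtype) eR Q e := Relation.ReflTransGen.single heR
  have hpairR : IsBrauerPairOf p M B (R'.map N.subtype) eR :=
    (isBrauerPairOf_iff_of_subpairLE hM Q _ e eR ⟨hQp, he⟩ heR.1 hle B hB).mp hpair
  have hle' := ConjRel.subpairLE (conjRel_conjBlock x (R'.map N.subtype) eR)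
    (conjRel_self_of_stabilizes he hxQ hxst) hle
  have hxeR : StabilizesBlock (Subgroup.centralizer ((R'.map N.subtype : Subgroup G) : Set G))
      eR x := stabilizesBlock_of_subpairLE_conj hM ⟨hQp, he⟩ hRQ heRb hle hxR hle'
  haveI : Fintype (Subgroup.centralizer (R' : Set N)) := Fintype.ofFinite _
  haveI : Fintype (Subgroup.centralizer ((R'.map N.subtype : Subgroup G) : Set G)) :=
    Fintype.ofFinite _
  haveI : Fintype ↥(Subgroup.centralizer ((R'.map N.subtype : Subgroup G) : Set G) ⊓ N) :=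
    Fintype.ofFinite _
  have hKL : Subgroup.centralizer ((R'.map N.subtype : Subgroup G) : Set G) ⊓ N ≤
      Subgroup.centralizer ((R'.map N.subtype : Subgroup G) : Set G) := inf_le_left
  have hLK : Subgroup.centralizer ((R'.map N.subtype : Subgroup G) : Set G) ≤
      Subgroup.normalizer ((Subgroup.centralizer ((R'.map N.subtype : Subgroup G) : Set G) ⊓ N :
        Subgroup G) : Set G) :=
    fun l hl => mem_normalizer_inf_normal N (Subgroup.le_normalizer hl)
  have hidx := relIndex_inf_normal_pow (p := p) N hN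
    (Subgroup.centralizer ((R'.map N.subtype : Subgroup G) : Set G))
  have hxL := normalizer_le_normalizer_centralizer _ hxR
  have hxK := mem_normalizer_inf_normal N hxL
  have hxeR' : conjSet _ x hxL eR = eR := (stabilizesBlock_iff_conjSet_eq _ x hxL heRb).mp hxeR
  obtain ⟨ζ₁, hζ₁⟩ := nonempty_of_isPBlock heRb
  obtain ⟨ξ₁, hξ₁⟩ := exists_constituent_rel hKL hLK ζ₁
  have hζx : conjIrr _ x hxL ζ₁ ∈ eR := by
    have : conjIrr _ x hxL ζ₁ ∈ conjSet _ x hxL eR := ⟨ζ₁, hζ₁, rfl⟩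
    rwa [hxeR'] at this
  have hinv : ∃ l, ∃ hl : l ∈ Subgroup.centralizer ((R'.map N.subtype : Subgroup G) : Set G),
      conjSet _ x hxK (blockOf M (ξ₁ : _ → ℂ)) =
        conjSet _ l (hLK hl) (blockOf M (ξ₁ : _ → ℂ)) := by
    refine exists_conjSet_eq_of_cover hM hKL hLK hidx heRb (isPBlock_blockOf ξ₁)
      (isPBlock_conjSet _ x hxK (isPBlock_blockOf ξ₁)) (mem_blockOf_self ξ₁)
      (ξ' := conjIrr _ x hxK ξ₁) ⟨ξ₁, mem_blockOf_self ξ₁, rfl⟩ hζ₁ hζx hξ₁ ?_
    rw [classInner_resSub_conjIrr]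
    exact hξ₁
  obtain ⟨l, hl, hfix⟩ := exists_fixed_conjSet (p := p) (q := q) hqp
    (K := Subgroup.centralizer ((R'.map N.subtype : Subgroup G) : Set G) ⊓ N)
    (L := Subgroup.centralizer ((R'.map N.subtype : Subgroup G) : Set G))
    hKL hLK hidx x hxK hxL hxq _ hinv
  have hlL : l ∈ Subgroup.normalizer ((Subgroup.centralizer
      ((R'.map N.subtype : Subgroup G) : Set G) : Subgroup G) : Set G) := Subgroup.le_normalizer hl
  have hζ₀ : classInner (resSub hKL (ζ₁ : _ → ℂ)) (conjIrr _ l (hLK hl) ξ₁ : _ → ℂ) ≠ 0 := by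
    have h1 := classInner_resSub_conjIrr hKL l (hLK hl) hlL ζ₁ ξ₁
    rw [conjIrr_of_mem _ l hlL hl ζ₁] at h1
    rw [h1]
    exact hξ₁
  have hf₀ : IsPBlock M (conjSet _ l (hLK hl) (blockOf M (ξ₁ : _ → ℂ))) :=
    isPBlock_conjSet _ l _ (isPBlock_blockOf ξ₁)
  have hξ₀ : conjIrr _ l (hLK hl) ξ₁ ∈ conjSet _ l (hLK hl) (blockOf M (ξ₁ : _ → ℂ)) :=
    ⟨ξ₁, mem_blockOf_self ξ₁, rfl⟩
  have hclassK : IsClassFunction
      ↥(Subgroup.centralizer ((R'.map N.subtype : Subgroup G) : Set G) ⊓ N)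
      (restr (Subgroup.centralizer ((R'.map N.subtype : Subgroup G) : Set G) ⊓ N)
        (subgroupBlockCoeff N c)) :=
    isClassFunction_restr _ (fun u hu x => subgroupBlockCoeff_conj_of_mem N c u hu.2 x)
  have hRvalK : IsRValued M
      (restr (Subgroup.centralizer ((R'.map N.subtype : Subgroup G) : Set G) ⊓ N)
        (subgroupBlockCoeff N c)) :=
    isRValued_restr _ (isRValued_subgroupBlockCoeff N hc)
  have hpair' : IsBrauerPairOf p M c R' (mapSet (dnEquiv N R').symm
      (conjSet _ l (hLK hl) (blockOf M (ξ₁ : _ → ℂ)))) := by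
    refine ⟨⟨hR'p, isPBlock_mapSet _ hf₀⟩, hc, ?_⟩
    rintro _ ⟨ξ, hξ, rfl⟩
    rw [brauerOmega_dn, mapIrr_mapIrr_symm]
    have h1 := memLocalIdeal_omega_sub ξ.2 (conjIrr _ l (hLK hl) ξ₁).2
      (sameBlock_of_mem hf₀ hξ hξ₀) hclassK hRvalK
    have h2 := omega_restr_eq_of_cover N hBc
      (Subgroup.centralizer ((R'.map N.subtype : Subgroup G) : Set G)) ζ₁
      (conjIrr _ l (hLK hl) ξ₁) hζ₀
    have h3 := hpairR.2.2 ζ₁ hζ₁
    rw [brauerOmega_eq_omega_restr, h2] at h3
    have := memLocalIdeal_add h1 h3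
    rwa [sub_add_sub_cancel] at this
  have hx'N : (⟨x, hxN⟩ : N) ∈ Subgroup.normalizer (R' : Set N) :=
    down_mem_normalizer N (x := ⟨x, hxN⟩) hxR
  have hx'C := normalizer_le_normalizer_centralizer R' hx'N
  have hx'st : StabilizesBlock (Subgroup.centralizer (R' : Set N))
      (mapSet (dnEquiv N R').symm (conjSet _ l (hLK hl) (blockOf M (ξ₁ : _ → ℂ))))
      (⟨x, hxN⟩ : N) := by
    rw [stabilizesBlock_iff_conjSet_eq _ _ hx'C (isPBlock_mapSet _ hf₀)]
    apply mapSet_injective (dnEquiv N R')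
    rw [mapSet_dnEquiv_conjSet N R' ⟨x, hxN⟩ hx'C hxK, mapSet_mapSet_symm]
    exact hfix
  have hx'reg : IsPRegular p (⟨x, hxN⟩ : N) := by
    unfold IsPRegular at hxreg ⊢
    rw [← Subgroup.orderOf_coe]
    exact hxreg
  have h4 := hnil.2 R' _ hpair' ⟨x, hxN⟩ hx'N hx'st hx'reg
  have hxCR : x ∈ Subgroup.centralizer ((R'.map N.subtype : Subgroup G) : Set G) :=
    up_mem_centralizer N h4
  refine mem_centralizer_of_commutator_mem hRp hxCR ?_ hxreg
  intro y hy
  rw [hR]
  refine ⟨Q.mul_mem (Q.inv_mem hy) ((Subgroup.mem_normalizer_iff.mp hxQ y).mp hy), ?_⟩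
  have h5 : y⁻¹ * x * y ∈ N := by
    have := hNn.conj_mem x hxN y⁻¹
    rwa [inv_inv] at this
  have e5 : y⁻¹ * (x * y * x⁻¹) = (y⁻¹ * x * y) * x⁻¹ := by group
  rw [e5]
  exact N.mul_mem h5 (N.inv_mem hxN)

/-- If `c` is nilpotent, so is `B`. -/
theorem isNilpotentBlock_up [Fact p.Prime] (hM : IsPModular p M) (N : Subgroup G)
    [hNn : N.Normal] (hN : ∃ k : ℕ, N.index = p ^ k) {c : Set (IrrCharacter N)}
    (hc : IsPBlock M c) {B : Set (IrrCharacter G)} (hB : IsPBlock M B)
    (hBc : ∀ g : G, blockCoeff B g = subgroupBlockCoeff N c g)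
    (hnil : IsNilpotentBlock p M c) : IsNilpotentBlock p M B := by
  haveI hpr := isPrime_of_isPModular hM
  refine ⟨hB, fun Q e hpair x hxQ hxst hxreg => ?_⟩
  apply mem_of_forall_primePow_mem
  rintro y hy ⟨q, a, hq, hya⟩
  by_cases ha : a = 0
  · have : y = 1 := by
      rw [ha, pow_zero, orderOf_eq_one_iff] at hya
      exact hya
    rw [this]
    exact Subgroup.one_mem _
  haveI : Fact q.Prime := ⟨hq⟩
  have hyreg : ¬ p ∣ orderOf y := fun h => hxreg (h.trans (orderOf_dvd_of_mem_zpowers hy))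
  have hqp : q ≠ p := by
    rintro rfl
    apply hyreg
    rw [hya]
    exact dvd_pow_self _ ha
  have hyQ : y ∈ Subgroup.normalizer (Q : Set G) := (Subgroup.zpowers_le.mpr hxQ) hy
  have hyst : StabilizesBlock (Subgroup.centralizer (Q : Set G)) e y := by
    have h1 := mem_stabSub_of_stabilizesBlock hpair.1.2 hxst
    exact stabilizesBlock_of_mem_stabSub hpair.1.2 ((Subgroup.zpowers_le.mpr h1) hy)
  exact mem_centralizer_of_prime_pow_order hM N hN hc hB hBc hnil hpair hyQ hyst hqp ⟨a, hya⟩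

end main

end Cfsg.Agent.Helper77
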