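import Mathlib
import Cfsg.Agent.Lib.Helper77.FusSaturatedB
import Cfsg.Agent.Lib.Helper84.FusAlp3

/-!
# Nilpotent blocks and the inner fusion system (S4686).
-/

set_option autoImplicit false
set_option linter.unusedSectionVars false
set_option linter.style.haveILetI false

namespace Cfsg.Agent.Helper77

open Cfsg Cfsg.Agent.Helper79 Cfsg.FusionSystem

universe u

section nilfus

variable {G : Type u} [Group G] [Fintype G] {p : ℕ} {M : Ideal AlgInt}

/-- In a nilpotent block, the automorphism groups of the fusion system are `p`-groups. -/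
theorem isPGroup_autGroup_of_isNilpotentBlock [Fact p.Prime] (hM : IsPModular p M)
    {B : Set (IrrCharacter G)} {P : Subgroup G}
    {e : Set (IrrCharacter (Subgroup.centralizer (P : Set G)))}
    {F : FusionSystem P} (hF : IsBlockFusionSystemOn p M B P e F)
    (hnil : IsNilpotentBlock p M B) {Q : Subgroup G} (hQP : Q ≤ P) :
    IsPGroup p (F.autGroup Q) := by
  classical
  haveI hpr := isPrime_of_isPModular hM
  have hp : p.Prime := Fact.out
  have hPe : IsBrauerPair p M P e := hF.1.1.1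
  have hQ : IsPGroup p Q := hPe.1.to_le hQP
  obtain ⟨f, hf, hle⟩ := exists_subpairLE hM _ P Q e hPe hQP rfl
  have hT := mem_pairStab_iff (M := M) hf
  have hTN : pairStab Q f ≤ Subgroup.normalizer (Q : Set G) := le_normalizer_of_hT hT
  have hQf : IsBrauerPairOf p M B Q f :=
    (isBrauerPairOf_iff_of_subpairLE hM P Q e f hPe ⟨hQ, hf⟩ hle B hF.1.1.2.1).mp hF.1.1
  rw [autGroup_eq_autInducedBy hM hF hQP hf hle,
    autInducedBy_eq_map_actHom Q (pairStab Q f) (pairStab Q f) hTN inf_le_left]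
  rintro ⟨_, s, -, rfl⟩
  have hs0 : orderOf s ≠ 0 := (orderOf_pos s).ne'
  obtain ⟨k, m, hm, hkm⟩ := Nat.exists_eq_pow_mul_and_not_dvd hs0 p hp.ne_one
  refine ⟨k, ?_⟩
  apply Subtype.ext
  rw [Subgroup.coe_pow, Subgroup.coe_one, ← map_pow, ← MonoidHom.mem_ker, actHom_ker,
    Subgroup.mem_subgroupOf]
  have hord : orderOf (s ^ p ^ k) = m := by
    rw [orderOf_pow' s (pow_pos hp.pos k).ne', hkm,
      Nat.gcd_eq_right (Dvd.intro m rfl), Nat.mul_div_cancel_left _ (pow_pos hp.pos k)]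
  have hmem := (hT ((s ^ p ^ k : pairStab Q f) : G)).1 (s ^ p ^ k : pairStab Q f).2
  refine hnil.2 Q f hQf _ hmem.1 hmem.2 ?_
  show ¬ p ∣ orderOf ((s ^ p ^ k : pairStab Q f) : G)
  rw [Subgroup.orderOf_coe, hord]
  exact hm

/-- **S4686**: a block is nilpotent iff its fusion system is the inner fusion system. -/
theorem isNilpotentBlock_iff_hom_eq_inner [Fact p.Prime] (hM : IsPModular p M)
    {B : Set (IrrCharacter G)} {P : Subgroup G}
    {e : Set (IrrCharacter (Subgroup.centralizer (P : Set G)))}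
    (hmax : IsMaximalBrauerPair p M B P e)
    {F : FusionSystem P} (hF : IsBlockFusionSystemOn p M B P e F) :
    IsNilpotentBlock p M B ↔ ∀ Q : Subgroup G, F.Hom Q = (innerFusionSystem P).Hom Q := by
  classical
  haveI hpr := isPrime_of_isPModular hM
  have hp : p.Prime := Fact.out
  have hPe : IsBrauerPair p M P e := hmax.1.1
  haveI : Finite P := inferInstance
  constructor
  · intro hnil Q
    have hsat := isSaturated_of_isBlockFusionSystemOn hM hF
    have h1 := Cfsg.Agent.Helper84.eq_inner_of_isPGroup F hPe.1 hsat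
      (fun Q hQ => isPGroup_autGroup_of_isNilpotentBlock hM hF hnil hQ)
    rw [h1]
  · intro hinner
    refine ⟨hmax.1.2.1, ?_⟩
    intro Q f hQf x hxN hxst hxreg
    obtain ⟨y, hy⟩ := exists_conj_subpairLE hM hmax hQf
    have hQ₁P : Q.map (MulAut.conj y).toMonoidHom ≤ P := le_of_reflTransGen hy
    have hf₁ : IsPBlock M (conjBlock Q y f) := (isBrauerPair_conjBlock y hQf.1).2
    have hx₁N : y * x * y⁻¹ ∈ Subgroup.normalizer
        ((Q.map (MulAut.conj y).toMonoidHom : Subgroup G) : Set G) :=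
      (mem_normalizer_map_conj_iff Q y x).2 hxN
    have hx₁st := stabilizesBlock_conjBlock y x hxst
    have hle₁ := (conjRel_self_of_stabilizes hf₁ hx₁N hx₁st).subpairLE_conjBlock_of hy
    have hmemF : conjHom (Q.map (MulAut.conj y).toMonoidHom) (y * x * y⁻¹) ∈
        F.Hom (Q.map (MulAut.conj y).toMonoidHom) :=
      (hF.2 _ _).2 ⟨hQ₁P, y * x * y⁻¹, fun _ => rfl, le_of_reflTransGen hle₁, _, hy, hle₁⟩
    rw [hinner] at hmemF
    obtain ⟨-, u, huP, hu⟩ := hmemF
    -- the induced automorphism has order dividing both a `p'`-number and a `p`-power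
    have huN : u ∈ Subgroup.normalizer
        ((Q.map (MulAut.conj y).toMonoidHom : Subgroup G) : Set G) := by
      rw [Subgroup.mem_normalizer_iff]
      intro z
      constructor
      · intro hz
        have h1 := hu ⟨z, hz⟩
        have h2 : y * x * y⁻¹ * z * (y * x * y⁻¹)⁻¹ = u * z * u⁻¹ := h1
        rw [← h2]
        exact (Subgroup.mem_normalizer_iff.mp hx₁N z).mp hz
      · intro hz
        have hz' : (y * x * y⁻¹)⁻¹ * (u * z * u⁻¹) * (y * x * y⁻¹) ∈
            Q.map (MulAut.conj y).toMonoidHom := by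
          have := (Subgroup.mem_normalizer_iff.mp (Subgroup.inv_mem _ hx₁N) (u * z * u⁻¹)).mp hz
          simpa using this
        have h1 := hu ⟨_, hz'⟩
        have h2 : y * x * y⁻¹ * ((y * x * y⁻¹)⁻¹ * (u * z * u⁻¹) * (y * x * y⁻¹)) *
            (y * x * y⁻¹)⁻¹ = u * ((y * x * y⁻¹)⁻¹ * (u * z * u⁻¹) * (y * x * y⁻¹)) * u⁻¹ := h1
        have h3 : z = (y * x * y⁻¹)⁻¹ * (u * z * u⁻¹) * (y * x * y⁻¹) := by
          have e1 : y * x * y⁻¹ * ((y * x * y⁻¹)⁻¹ * (u * z * u⁻¹) * (y * x * y⁻¹)) *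
              (y * x * y⁻¹)⁻¹ = u * z * u⁻¹ := by group
          rw [e1] at h2
          exact mul_left_cancel (mul_right_cancel h2)
        rw [h3]
        exact hz'
    obtain ⟨Q₁, hQ₁def⟩ : ∃ Q₁ : Subgroup G, Q₁ = Q.map (MulAut.conj y).toMonoidHom := ⟨_, rfl⟩
    rw [← hQ₁def] at hx₁N huN hu
    have hαeq : Q₁.normalizerMonoidHom ⟨y * x * y⁻¹, hx₁N⟩ = Q₁.normalizerMonoidHom ⟨u, huN⟩ := by
      ext z
      exact hu z
    have hd1 : orderOf (Q₁.normalizerMonoidHom ⟨y * x * y⁻¹, hx₁N⟩) ∣ orderOf x := by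
      have h1 := orderOf_map_dvd Q₁.normalizerMonoidHom
        (⟨y * x * y⁻¹, hx₁N⟩ : Subgroup.normalizer (Q₁ : Set G))
      have h2 : orderOf (⟨y * x * y⁻¹, hx₁N⟩ : Subgroup.normalizer (Q₁ : Set G)) = orderOf x := by
        rw [← Subgroup.orderOf_coe]
        show orderOf (y * x * y⁻¹) = orderOf x
        have := orderOf_injective (MulAut.conj y).toMonoidHom (MulAut.conj y).injective x
        simpa [MulAut.conj_apply] using this
      rwa [h2] at h1
    have hd2 : ∃ k, orderOf (Q₁.normalizerMonoidHom ⟨y * x * y⁻¹, hx₁N⟩) ∣ p ^ k := by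
      obtain ⟨k, hk⟩ := (hPe.1 ⟨u, huP⟩)
      refine ⟨k, ?_⟩
      rw [hαeq]
      apply orderOf_dvd_of_pow_eq_one
      rw [← map_pow]
      have : (⟨u, huN⟩ : Subgroup.normalizer (Q₁ : Set G)) ^ p ^ k = 1 := by
        apply Subtype.ext
        have := congrArg Subtype.val hk
        simpa using this
      rw [this, map_one]
    obtain ⟨k, hd2⟩ := hd2
    have hcop : (orderOf x).Coprime (p ^ k) :=
      Nat.Coprime.pow_right k ((Nat.Prime.coprime_iff_not_dvd hp).mpr hxreg).symm
    have hone : orderOf (Q₁.normalizerMonoidHom ⟨y * x * y⁻¹, hx₁N⟩) = 1 :=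
      Nat.eq_one_of_dvd_coprimes hcop hd1 hd2
    rw [orderOf_eq_one_iff, ← MonoidHom.mem_ker, Subgroup.normalizerMonoidHom_ker,
      Subgroup.mem_subgroupOf] at hone
    have hx₁C : y * x * y⁻¹ ∈ Subgroup.centralizer (Q₁ : Set G) := hone
    rw [hQ₁def] at hx₁C
    exact (mem_centralizer_map_conj_iff Q y x).1 hx₁C

end nilfus

end Cfsg.Agent.Helper77
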