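import Mathlib
import Cfsg.Agent.Lib.Helper77.NilpotentFusion

/-!
# Local blocks of a nilpotent block (S4688).
-/

set_option autoImplicit false
set_option linter.unusedSectionVars false
set_option linter.style.haveILetI false

namespace Cfsg.Agent.Helper77

open Cfsg Cfsg.Agent.Helper79 Cfsg.FusionSystem

universe u

section shift

variable {G : Type u} [Group G] [Fintype G]

theorem mem_centralizer_sup_iff (Q R : Subgroup G) (c : G) :
    c ∈ Subgroup.centralizer ((Q ⊔ R : Subgroup G) : Set G) ↔
      c ∈ Subgroup.centralizer (Q : Set G) ∧ c ∈ Subgroup.centralizer (R : Set G) := by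
  rw [← le_centralizer_singleton_iff, ← le_centralizer_singleton_iff,
    ← le_centralizer_singleton_iff, sup_le_iff]

/-- `C_{C_G(Q)}(R') ≃ C_G(Q R)`. -/
def shiftEquiv (Q : Subgroup G) (R' : Subgroup (Subgroup.centralizer (Q : Set G))) :
    Subgroup.centralizer (R' : Set (Subgroup.centralizer (Q : Set G))) ≃*
      Subgroup.centralizer
        ((Q ⊔ R'.map (Subgroup.centralizer (Q : Set G)).subtype : Subgroup G) : Set G) where
  toFun c := ⟨((c : Subgroup.centralizer (Q : Set G)) : G), by
    rw [mem_centralizer_sup_iff]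
    exact ⟨(c : Subgroup.centralizer (Q : Set G)).2, up_mem_centralizer _ c.2⟩⟩
  invFun c := ⟨⟨(c : G), ((mem_centralizer_sup_iff Q _ _).1 c.2).1⟩,
    down_mem_centralizer _ ((mem_centralizer_sup_iff Q _ _).1 c.2).2⟩
  left_inv _ := rfl
  right_inv _ := rfl
  map_mul' _ _ := rfl

theorem shiftEquiv_apply_coe (Q : Subgroup G) (R' : Subgroup (Subgroup.centralizer (Q : Set G)))
    (c : Subgroup.centralizer (R' : Set (Subgroup.centralizer (Q : Set G)))) :
    ((shiftEquiv Q R' c : _) : G) = ((c : Subgroup.centralizer (Q : Set G)) : G) := rfl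

theorem shiftEquiv_symm_apply_coe (Q : Subgroup G)
    (R' : Subgroup (Subgroup.centralizer (Q : Set G)))
    (c : Subgroup.centralizer
        ((Q ⊔ R'.map (Subgroup.centralizer (Q : Set G)).subtype : Subgroup G) : Set G)) :
    ((((shiftEquiv Q R').symm c : _) : Subgroup.centralizer (Q : Set G)) : G) = (c : G) := rfl

end shift

section nillocal

variable {G : Type u} [Group G] [Fintype G] {p : ℕ} {M : Ideal AlgInt}

/-- A Brauer pair `(R', h')` of the block `f` of `C_G(Q)` gives the normal inclusion
`(Q, f) ⊴ (Q R, h)`. -/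
theorem isNormalSubpair_shift [Fact p.Prime] (hM : IsPModular p M) {Q : Subgroup G}
    {f : Set (IrrCharacter (Subgroup.centralizer (Q : Set G)))} (hQf : IsBrauerPair p M Q f)
    {R' : Subgroup (Subgroup.centralizer (Q : Set G))}
    {h' : Set (IrrCharacter (Subgroup.centralizer
      (R' : Set (Subgroup.centralizer (Q : Set G)))))}
    (hpair : IsBrauerPairOf p M f R' h') :
    IsNormalSubpair p M Q f (Q ⊔ R'.map (Subgroup.centralizer (Q : Set G)).subtype)
      (mapSet (shiftEquiv Q R') h') := by
  classical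
  haveI hpr := isPrime_of_isPModular hM
  have hf := hQf.2
  have hT := mem_pairStab_iff (M := M) hf
  have hRC : R'.map (Subgroup.centralizer (Q : Set G)).subtype ≤
      Subgroup.centralizer (Q : Set G) := Subgroup.map_subtype_le R'
  have hRN : R'.map (Subgroup.centralizer (Q : Set G)).subtype ≤
      Subgroup.normalizer (Q : Set G) := hRC.trans (Subgroup.centralizer_le_normalizer _)
  refine ⟨hQf, ⟨hQf.1.to_sup_of_normal_left' (hpair.1.1.map _) hRN, isPBlock_mapSet _ hpair.1.2⟩,
    le_sup_left, sup_le Subgroup.le_normalizer hRN, ?_, ?_⟩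
  · intro x hx
    have hS : Q ⊔ R'.map (Subgroup.centralizer (Q : Set G)).subtype ≤ pairStab Q f :=
      sup_le (self_le_of_hT hf hT) (hRC.trans (centralizer_le_of_hT hf hT))
    exact ((hT x).1 (hS hx)).2
  · rintro _ ⟨ξ', hξ', rfl⟩
    have h1 := hpair.2.2 ξ' hξ'
    have h2 : brauerOmega (Q ⊔ R'.map (Subgroup.centralizer (Q : Set G)).subtype)
        (subgroupBlockCoeff (Subgroup.centralizer (Q : Set G)) f)
        (fun c => (ξ' : _ → ℂ) ((shiftEquiv Q R').symm c)) =
        brauerOmega R' (blockCoeff f) (ξ' : _ → ℂ) := by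
      unfold brauerOmega
      rw [← finsum_comp_equiv (shiftEquiv Q R').toEquiv]
      refine finsum_congr fun c => ?_
      simp only [MulEquiv.toEquiv_eq_coe, EquivLike.coe_coe, MulEquiv.symm_apply_apply, map_one]
      rw [shiftEquiv_apply_coe, subgroupBlockCoeff_eq_extZ, extZ_of_mem]
    have e' : ((mapIrr (shiftEquiv Q R') ξ' : IrrCharacter _) : _ → ℂ) =
        fun c => (ξ' : _ → ℂ) ((shiftEquiv Q R').symm c) := rfl
    rw [e', h2]
    exact h1

/-- **S4688**. -/
theorem nilpotent_local [Fact p.Prime] (hM : IsPModular p M)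
    {B : Set (IrrCharacter G)} {P : Subgroup G}
    {e : Set (IrrCharacter (Subgroup.centralizer (P : Set G)))}
    (hmax : IsMaximalBrauerPair p M B P e) (hnil : IsNilpotentBlock p M B)
    {Q : Subgroup G} {f : Set (IrrCharacter (Subgroup.centralizer (Q : Set G)))}
    (hQf : IsBrauerPairOf p M B Q f) :
    IsNilpotentBlock p M f ∧ (SubpairLE p M Q f P e → IsDefectGroup p M f
      ((P ⊓ Subgroup.centralizer (Q : Set G)).subgroupOf (Subgroup.centralizer (Q : Set G)))) := by
  classical
  haveI hpr := isPrime_of_isPModular hM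
  have hPe : IsBrauerPair p M P e := hmax.1.1
  have hB : IsPBlock M B := hmax.1.2.1
  have hf : IsPBlock M f := hQf.1.2
  constructor
  · refine ⟨hf, ?_⟩
    intro R' h' hpair x hxN hxst hxreg
    have hnorm := isNormalSubpair_shift hM hQf.1 hpair
    have hSh : IsBrauerPairOf p M B (Q ⊔ R'.map (Subgroup.centralizer (Q : Set G)).subtype)
        (mapSet (shiftEquiv Q R') h') :=
      (isBrauerPairOf_iff_of_subpairLE hM _ Q _ f hnorm.2.1 hQf.1
        (Relation.ReflTransGen.single hnorm) B hB).mpr hQf
    -- the element `x` in `G`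
    have hyQ : ((x : Subgroup.centralizer (Q : Set G)) : G) ∈ Subgroup.normalizer (Q : Set G) :=
      Subgroup.centralizer_le_normalizer _ x.2
    have hyR : ((x : Subgroup.centralizer (Q : Set G)) : G) ∈ Subgroup.normalizer
        ((R'.map (Subgroup.centralizer (Q : Set G)).subtype : Subgroup G) : Set G) :=
      Subgroup.le_normalizer_map _ ⟨x, hxN, rfl⟩
    have hyS : ((x : Subgroup.centralizer (Q : Set G)) : G) ∈ Subgroup.normalizer
        ((Q ⊔ R'.map (Subgroup.centralizer (Q : Set G)).subtype : Subgroup G) : Set G) :=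
      Subgroup.normalizer_inf_normalizer_le_normalizer_sup _ _ (Subgroup.mem_inf.mpr ⟨hyQ, hyR⟩)
    have hyst : StabilizesBlock (Subgroup.centralizer
        ((Q ⊔ R'.map (Subgroup.centralizer (Q : Set G)).subtype : Subgroup G) : Set G))
        (mapSet (shiftEquiv Q R') h') ((x : Subgroup.centralizer (Q : Set G)) : G) := by
      refine ⟨normalizer_le_normalizer_centralizer _ hyS, ?_⟩
      rintro _ ⟨χ', hχ', rfl⟩
      obtain ⟨χ₂', hχ₂', hc⟩ := hxst.2 χ' hχ'
      refine ⟨mapIrr (shiftEquiv Q R') χ₂', ⟨χ₂', hχ₂', rfl⟩, ?_⟩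
      intro k k' hk
      rw [mapIrr_coe, mapIrr_coe]
      apply hc
      apply Subtype.ext
      exact hk
    have hyreg : IsPRegular p ((x : Subgroup.centralizer (Q : Set G)) : G) := by
      show ¬ p ∣ orderOf ((x : Subgroup.centralizer (Q : Set G)) : G)
      rw [Subgroup.orderOf_coe]
      exact hxreg
    have hcen := hnil.2 _ _ hSh _ hyS hyst hyreg
    exact down_mem_centralizer _ ((mem_centralizer_sup_iff Q _ _).1 hcen).2
  · intro hle
    have hQP : Q ≤ P := le_of_reflTransGen hle
    have hF := isBlockFusionSystemOn_blockFusion hM hmax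
    have hinner := (isNilpotentBlock_iff_hom_eq_inner hM hmax hF).1 hnil
    refine (isFullyCentralized_iff hM hF hQP hf hle).1 ⟨hQP, ?_⟩
    rintro Q' ⟨φ, hφ, rfl⟩
    rw [hinner] at hφ
    obtain ⟨-, u, huP, hu⟩ := hφ
    rw [range_eq_map_of_conj hu]
    unfold FusionSystem.centralizerIn
    have e1 : P ⊓ Subgroup.centralizer
        ((Q.map (MulAut.conj u).toMonoidHom : Subgroup G) : Set G) =
        (P ⊓ Subgroup.centralizer (Q : Set G)).map (MulAut.conj u).toMonoidHom := by
      rw [Subgroup.map_inf_eq _ _ _ (MulAut.conj u).injective, map_conj_centralizer,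
        Cfsg.Agent.Helper84.map_conj_eq_self_of_mem huP]
    rw [e1, Subgroup.card_map_of_injective (MulAut.conj u).injective]

end nillocal

end Cfsg.Agent.Helper77
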