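import Mathlib
import Cfsg.Prelude.Def_Blocks
import Cfsg.Agent.Lib.Helper55.O2520Defs
import Cfsg.Agent.Lib.Helper17.Simple
import Cfsg.Agent.Lib.Helper17.Burnside
import Cfsg.Agent.Lib.Helper17.Order8Dihedral
import Cfsg.Agent.S0111

/-!
# O2520 (row S0984), wave 2, piece (S3B) `centralizer_sylow3` (helper55 server; statement verbatim).
-/

set_option autoImplicit false

namespace Cfsg.Agent.Helper77.O2520

open Cfsg Cfsg.Agent.Helper55.O2520
open scoped Classical

universe u

/-- the rotation subgroup of `DihedralGroup 4` -/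
def h77_rot : Subgroup (DihedralGroup 4) where
  carrier := {x | ∃ i : ZMod 4, x = DihedralGroup.r i}
  mul_mem' := by
    rintro _ _ ⟨i, rfl⟩ ⟨j, rfl⟩
    exact ⟨i + j, by simp⟩
  one_mem' := ⟨0, DihedralGroup.one_def⟩
  inv_mem' := by
    rintro _ ⟨i, rfl⟩
    exact ⟨-i, by simp⟩

theorem h77_mem_rot {x : DihedralGroup 4} : x ∈ h77_rot ↔ ∃ i : ZMod 4, x = DihedralGroup.r i :=
  Iff.rfl

theorem h77_rot_index : h77_rot.index = 2 := by
  rw [Subgroup.index_eq_two_iff]
  refine ⟨DihedralGroup.sr 0, ?_⟩
  intro b
  cases b with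
  | r i =>
    right
    refine ⟨⟨i, rfl⟩, ?_⟩
    rintro ⟨j, hj⟩
    simp at hj
  | sr i =>
    left
    refine ⟨⟨0 - i, by simp⟩, ?_⟩
    rintro ⟨j, hj⟩
    simp at hj

theorem h77_rot_central (x : DihedralGroup 4) (hx : x ∈ h77_rot) (h2 : x * x = 1)
    (y : DihedralGroup 4) : x * y = y * x := by
  obtain ⟨i, rfl⟩ := hx
  have hi : i + i = 0 := by
    rw [DihedralGroup.r_mul_r, DihedralGroup.one_def] at h2
    exact DihedralGroup.r.inj h2
  cases y with
  | r j => rw [DihedralGroup.r_mul_r, DihedralGroup.r_mul_r, add_comm]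
  | sr j =>
    rw [DihedralGroup.r_mul_sr, DihedralGroup.sr_mul_r]
    congr 1
    have : -i = i := by
      have := eq_neg_of_add_eq_zero_left hi
      exact this.symm
    rw [sub_eq_add_neg, this]

section grp
variable {G : Type u} [Group G] [Finite G] [IsSimpleGroup G] (hG : Nat.card G = 2520)
include hG

/-- no normal subgroup of index 2 -/
theorem h77_no_index_two (M : Subgroup G) (hM : M.Normal) (h2 : M.index = 2) : False := by
  rcases hM.eq_bot_or_eq_top with h | h
  · rw [h, Subgroup.index_bot, hG] at h2; omega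
  · rw [h, Subgroup.index_top] at h2; omega

/-- an involution is not central -/
theorem h77_centralizer_ne_top (t : G) (ht : orderOf t = 2) :
    Subgroup.centralizer ({t} : Set G) ≠ ⊤ := by
  intro htop
  have htc : t ∈ Subgroup.center G := by
    rw [Subgroup.mem_center_iff]
    intro g
    have hg : g ∈ Subgroup.centralizer ({t} : Set G) := by rw [htop]; trivial
    rw [Subgroup.mem_centralizer_singleton_iff] at hg
    exact hg
  rcases (inferInstance : (Subgroup.center G).Normal).eq_bot_or_eq_top with h | h
  · rw [h, Subgroup.mem_bot] at htc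
    rw [htc, orderOf_one] at ht; omega
  · have hcomm : IsMulCommutative G := ⟨⟨fun a b => by
      have ha : a ∈ Subgroup.center G := by rw [h]; trivial
      rw [Subgroup.mem_center_iff] at ha
      exact (ha b).symm⟩⟩
    exact Cfsg.Agent.Helper17.not_comm_of_not_prime (by rw [hG]; norm_num) hcomm

/-- (S3B) -/
theorem centralizer_sylow3 (h7 : Nat.card (Sylow 7 G) = 120) (h3 : Nat.card (Sylow 3 G) = 70)
    (P : Sylow 3 G)
    (hovg : ∀ K : Subgroup G, Subgroup.normalizer ((P : Subgroup G) : Set G) < K → K ≠ ⊤ →
      Nat.card K = 360) :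
    Done G ∨ Subgroup.centralizer ((P : Subgroup G) : Set G) = (P : Subgroup G) := by
  have : Fact (Nat.Prime 3) := ⟨by norm_num⟩
  have : Fact (Nat.Prime 2) := ⟨by norm_num⟩
  have hP9 : Nat.card (P : Subgroup G) = 9 := by
    have := Cfsg.Agent.Helper17.sylow_card_eq P (k := 2) (m := 280) (by rw [hG]; norm_num) (by norm_num)
    simpa using this
  have hN36 : Nat.card (Subgroup.normalizer ((P : Subgroup G) : Set G)) = 36 := by
    have h1 : (Subgroup.normalizer ((P : Subgroup G) : Set G)).index = 70 := by
      rw [← h3]; exact (P.card_eq_index_normalizer).symm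
    have h2 := (Subgroup.normalizer ((P : Subgroup G) : Set G)).card_mul_index
    rw [h1, hG] at h2
    omega
  have hPcomm : ∀ a ∈ (P : Subgroup G), ∀ b ∈ (P : Subgroup G), a * b = b * a := by
    intro a ha b hb
    have hc : IsMulCommutative (P : Subgroup G) :=
      IsPGroup.isMulCommutative_of_card_eq_prime_sq (p := 3) (by rw [hP9]; norm_num)
    have := hc.is_comm.comm (⟨a, ha⟩ : (P : Subgroup G)) ⟨b, hb⟩
    exact congrArg Subtype.val this
  have hPC : (P : Subgroup G) ≤ Subgroup.centralizer ((P : Subgroup G) : Set G) := by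
    intro a ha
    rw [Subgroup.mem_centralizer_iff]
    intro b hb
    exact hPcomm b hb a ha
  have hCN : Subgroup.centralizer ((P : Subgroup G) : Set G) ≤
      Subgroup.normalizer ((P : Subgroup G) : Set G) := Subgroup.centralizer_le_normalizer _
  have hd1 : 9 ∣ Nat.card (Subgroup.centralizer ((P : Subgroup G) : Set G)) := by
    rw [← hP9]; exact Subgroup.card_dvd_of_le hPC
  have hd2 : Nat.card (Subgroup.centralizer ((P : Subgroup G) : Set G)) ∣ 36 := by
    rw [← hN36]; exact Subgroup.card_dvd_of_le hCN
  obtain ⟨k, hk⟩ := hd1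
  have hk4 : k ∣ 4 := by
    rw [hk] at hd2
    exact Nat.dvd_of_mul_dvd_mul_left (by norm_num : 0 < 9) (by simpa using hd2)
  have hkle : k ≤ 4 := Nat.le_of_dvd (by norm_num) hk4
  have hk0 : k ≠ 0 := by rintro rfl; simp at hk4
  have hk3 : k ≠ 3 := by rintro rfl; norm_num at hk4
  -- the three cases
  rcases (by omega : k = 1 ∨ k = 4 ∨ k = 2) with rfl | rfl | rfl
  · right
    exact (Subgroup.eq_of_le_of_card_ge hPC (by rw [hk, hP9])).symm
  · exfalso
    have hCeq : Subgroup.centralizer ((P : Subgroup G) : Set G) =
        Subgroup.normalizer ((P : Subgroup G) : Set G) :=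
      Subgroup.eq_of_le_of_card_ge hCN (by rw [hk, hN36])
    exact Cfsg.Agent.Helper17.not_normalizer_le_centralizer P (by rw [hP9]; norm_num)
      (by rw [hP9, hG]; norm_num) (by rw [hCeq])
  · -- the main case `|C(P)| = 18`
    have hC18 : Nat.card (Subgroup.centralizer ((P : Subgroup G) : Set G)) = 18 := by rw [hk]
    -- an involution of `C(P)`
    obtain ⟨t0, ht0⟩ := exists_prime_orderOf_dvd_card'
      (G := Subgroup.centralizer ((P : Subgroup G) : Set G)) 2 (by rw [hC18]; norm_num)
    obtain ⟨t, htC⟩ := t0
    have ht : orderOf t = 2 := by rwa [Subgroup.orderOf_mk] at ht0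
    have htP : ∀ b ∈ (P : Subgroup G), b * t = t * b := by
      intro b hb
      exact (Subgroup.mem_centralizer_iff.1 htC) b hb
    have hidx : ((P : Subgroup G).subgroupOf
        (Subgroup.centralizer ((P : Subgroup G) : Set G))).index = 2 := by
      have h1 := ((P : Subgroup G).subgroupOf
        (Subgroup.centralizer ((P : Subgroup G) : Set G))).card_mul_index
      have h2 : Nat.card ((P : Subgroup G).subgroupOf
          (Subgroup.centralizer ((P : Subgroup G) : Set G))) = Nat.card (P : Subgroup G) :=
        Nat.card_congr (Subgroup.subgroupOfEquivOfLe hPC).toEquiv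
      rw [h2, hP9, hC18] at h1; omega
    have hnotP : ∀ s : G, orderOf s = 2 → s ∉ (P : Subgroup G) := by
      intro s hs hsP
      have h1 : orderOf (⟨s, hsP⟩ : (P : Subgroup G)) ∣ Nat.card (P : Subgroup G) :=
        orderOf_dvd_natCard _
      rw [Subgroup.orderOf_mk, hs, hP9] at h1
      omega
    have hone_of : ∀ y ∈ (P : Subgroup G), y * y = 1 → y = 1 := by
      intro y hy hyy
      have h9 : y ^ 9 = 1 := by
        have := pow_card_eq_one' (G := (P : Subgroup G)) (x := ⟨y, hy⟩)
        rw [hP9] at this
        exact congrArg Subtype.val this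
      have h2 : y ^ 2 = 1 := by rw [pow_two]; exact hyy
      calc y = y ^ 9 * ((y ^ 2) ^ 4)⁻¹ := by group
        _ = 1 := by rw [h9, h2]; simp
    have huniq : ∀ s ∈ Subgroup.centralizer ((P : Subgroup G) : Set G), orderOf s = 2 → s = t := by
      intro s hsC hs
      have hmem : (⟨s, hsC⟩ : Subgroup.centralizer ((P : Subgroup G) : Set G)) * (⟨t, htC⟩)⁻¹ ∈
          (P : Subgroup G).subgroupOf (Subgroup.centralizer ((P : Subgroup G) : Set G)) := by
        rw [Subgroup.mul_mem_iff_of_index_two hidx]
        constructor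
        · intro h
          exact absurd (Subgroup.mem_subgroupOf.1 h) (hnotP s hs)
        · intro h
          have h' := Subgroup.mem_subgroupOf.1 ((Subgroup.inv_mem_iff _).1 h)
          exact absurd h' (hnotP t ht)
      have hy : s * t⁻¹ ∈ (P : Subgroup G) := by
        have := Subgroup.mem_subgroupOf.1 hmem
        simpa using this
      have hyt : s * t⁻¹ * t = t * (s * t⁻¹) := htP _ hy
      have hst : s * t = t * s := by
        have h1 : s * t⁻¹ * t = s := by group
        rw [h1] at hyt
        calc s * t = t * (s * t⁻¹) * t := by rw [← hyt]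
          _ = t * s := by group
      have hss : s * s = 1 := by rw [← pow_two, ← hs]; exact pow_orderOf_eq_one s
      have htt : t * t = 1 := by rw [← pow_two, ← ht]; exact pow_orderOf_eq_one t
      have htinv : t⁻¹ = t := inv_eq_of_mul_eq_one_right htt
      have hyy : (s * t⁻¹) * (s * t⁻¹) = 1 := by
        rw [htinv]
        calc s * t * (s * t) = s * (t * s) * t := by group
          _ = s * (s * t) * t := by rw [hst]
          _ = (s * s) * (t * t) := by group
          _ = 1 := by rw [hss, htt, one_mul]
      have := hone_of _ hy hyy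
      calc s = s * t⁻¹ * t := by group
        _ = t := by rw [this, one_mul]
    -- `N(P) ≤ C(t)`
    have hNCt : Subgroup.normalizer ((P : Subgroup G) : Set G) ≤
        Subgroup.centralizer ({t} : Set G) := by
      intro n hn
      have hn' : n⁻¹ ∈ Subgroup.normalizer ((P : Subgroup G) : Set G) := Subgroup.inv_mem _ hn
      have hconjC : n * t * n⁻¹ ∈ Subgroup.centralizer ((P : Subgroup G) : Set G) := by
        rw [Subgroup.mem_centralizer_iff]
        intro b hb
        have hb' : n⁻¹ * b * n ∈ (P : Subgroup G) := by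
          have := (Subgroup.mem_normalizer_iff.1 hn' b).1 hb
          simpa using this
        have h1 := htP _ hb'
        calc b * (n * t * n⁻¹) = n * ((n⁻¹ * b * n) * t) * n⁻¹ := by group
          _ = n * (t * (n⁻¹ * b * n)) * n⁻¹ := by rw [h1]
          _ = n * t * n⁻¹ * b := by group
      have hord : orderOf (n * t * n⁻¹) = 2 := by
        have := MulEquiv.orderOf_eq (MulAut.conj n) t
        rw [MulAut.conj_apply] at this
        rw [this, ht]
      have := huniq _ hconjC hord
      rw [Subgroup.mem_centralizer_singleton_iff]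
      calc n * t = n * t * n⁻¹ * n := by group
        _ = t * n := by rw [this]
    have hCt_ne := h77_centralizer_ne_top hG t ht
    rcases lt_or_eq_of_le hNCt with hlt | heq
    · left
      exact ⟨_, hovg _ hlt hCt_ne⟩
    exfalso
    have hCt36 : Nat.card (Subgroup.centralizer ({t} : Set G)) = 36 := by rw [← heq, hN36]
    -- a Sylow 2-subgroup containing `t`
    have hpg : IsPGroup 2 (Subgroup.zpowers t) :=
      IsPGroup.of_card (n := 1) (by rw [Nat.card_zpowers, ht]; rfl)
    obtain ⟨S, hS⟩ := IsPGroup.exists_le_sylow hpg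
    have htS : t ∈ (S : Subgroup G) := hS (Subgroup.mem_zpowers t)
    have hS8 : Nat.card (S : Subgroup G) = 8 := by
      have := Cfsg.Agent.Helper17.sylow_card_eq S (k := 3) (m := 315) (by rw [hG]; norm_num)
        (by norm_num)
      simpa using this
    -- every Sylow 2-subgroup has order 8, none lies in `C(t)`
    have hno8 : ∀ S' : Sylow 2 G, ¬ (S' : Subgroup G) ≤ Subgroup.centralizer ({t} : Set G) := by
      intro S' hle
      have h8 : Nat.card (S' : Subgroup G) = 8 := by
        have := Cfsg.Agent.Helper17.sylow_card_eq S' (k := 3) (m := 315) (by rw [hG]; norm_num)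
          (by norm_num)
        simpa using this
      have := Subgroup.card_dvd_of_le hle
      rw [h8, hCt36] at this
      omega
    -- `t` is not central in `S`
    have hnc : ∃ s ∈ (S : Subgroup G), s * t ≠ t * s := by
      by_contra hcon
      push Not at hcon
      apply hno8 S
      intro s hs
      rw [Subgroup.mem_centralizer_singleton_iff]
      exact hcon s hs
    obtain ⟨s0, hs0, hs0t⟩ := hnc
    have hna : ¬ ∀ x y : (S : Subgroup G), x * y = y * x := by
      intro h
      exact hs0t (congrArg Subtype.val (h ⟨s0, hs0⟩ ⟨t, htS⟩))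
    -- a central involution of `S` conjugate to `t` gives a contradiction
    have hkey : ∀ g : G, (∀ s ∈ (S : Subgroup G), s * (g * t * g⁻¹) = (g * t * g⁻¹) * s) → False := by
      intro g hg
      apply hno8 (g⁻¹ • S)
      intro x hx
      rw [Sylow.coe_subgroup_smul, Subgroup.mem_pointwise_smul_iff_inv_smul_mem] at hx
      rw [← map_inv, inv_inv, MulAut.smul_def, MulAut.conj_apply] at hx
      have := hg _ hx
      rw [Subgroup.mem_centralizer_singleton_iff]
      calc x * t = g⁻¹ * ((g * x * g⁻¹) * (g * t * g⁻¹)) * g := by group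
        _ = g⁻¹ * ((g * t * g⁻¹) * (g * x * g⁻¹)) * g := by rw [this]
        _ = t * x := by group
    rcases Cfsg.Agent.Helper17.order8_dihedral_or_unique_involution hS8 hna with ⟨⟨e⟩⟩ | ⟨z, hz, hzu⟩
    · -- the dihedral case
      let Q0 : Subgroup (S : Subgroup G) := h77_rot.comap e.toMonoidHom
      let Q : Subgroup G := Q0.map (S : Subgroup G).subtype
      have hQS : Q ≤ (S : Subgroup G) := Subgroup.map_subtype_le _
      have hQi : Q.relIndex (S : Subgroup G) = 2 := by
        have h1 : Q.subgroupOf (S : Subgroup G) = Q0 :=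
          Subgroup.comap_map_eq_self_of_injective (Subgroup.subtype_injective _) Q0
        rw [Subgroup.relIndex, h1]
        have h2 := Subgroup.index_comap_of_surjective h77_rot (f := e.toMonoidHom) e.surjective
        rw [h2]; exact h77_rot_index
      -- an involution of `Q` is central in `S`
      have hQc : ∀ x ∈ Q, x * x = 1 → ∀ s ∈ (S : Subgroup G), s * x = x * s := by
        intro x hx hxx s hs
        obtain ⟨x0, hx0, rfl⟩ := hx
        have hx0' : e x0 ∈ h77_rot := hx0
        have h2 : e x0 * e x0 = 1 := by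
          rw [← map_mul]
          have : x0 * x0 = 1 := Subtype.ext hxx
          rw [this, map_one]
        have h3 := h77_rot_central (e x0) hx0' h2 (e ⟨s, hs⟩)
        rw [← map_mul, ← map_mul] at h3
        have h4 := e.injective h3
        exact (congrArg Subtype.val h4).symm
      have htt : t * t = 1 := by rw [← pow_two, ← ht]; exact pow_orderOf_eq_one t
      have htQ : t ∉ Q := by
        intro htQ
        exact hs0t (hQc t htQ htt s0 hs0)
      rcases Cfsg.Agent.S0111.result S Q hQS hQi t ht htS htQ with ⟨M, hMn, hM2, _⟩ | ⟨g, hg⟩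
      · exact h77_no_index_two hG M hMn hM2
      · apply hkey g
        intro s hs
        apply hQc _ hg _ s hs
        calc g * t * g⁻¹ * (g * t * g⁻¹) = g * (t * t) * g⁻¹ := by group
          _ = 1 := by rw [htt]; group
    · -- unique involution: `t` would be central in `S`
      have htz : (⟨t, htS⟩ : (S : Subgroup G)) = z := hzu _ (by rw [Subgroup.orderOf_mk]; exact ht)
      apply hs0t
      have hord : orderOf ((⟨s0, hs0⟩ : (S : Subgroup G)) * ⟨t, htS⟩ * (⟨s0, hs0⟩)⁻¹) = 2 := by
        have := MulEquiv.orderOf_eq (MulAut.conj (⟨s0, hs0⟩ : (S : Subgroup G))) ⟨t, htS⟩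
        rw [MulAut.conj_apply] at this
        rw [this, Subgroup.orderOf_mk]; exact ht
      have h1 := hzu _ hord
      rw [← htz] at h1
      have h2 := congrArg Subtype.val h1
      simp only [Subgroup.coe_mul, Subgroup.coe_inv] at h2
      calc s0 * t = s0 * t * s0⁻¹ * s0 := by group
        _ = t * s0 := by rw [h2]

end grp

end Cfsg.Agent.Helper77.O2520
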