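import Mathlib

/-! O459648 server (helper53, S1022): piece (B3q) `order228`. -/

set_option autoImplicit false

namespace Cfsg.Agent.Helper77.O459648

/-- order of a Sylow subgroup from a factorisation of the group order -/
theorem h77_sylow_card {G : Type*} [Group G] [Finite G] {p : ℕ} [hp : Fact p.Prime] (P : Sylow p G)
    {k m : ℕ} (hG : Nat.card G = p ^ k * m) (hm : ¬ p ∣ m) : Nat.card (P : Subgroup G) = p ^ k := by
  rw [Sylow.card_eq_multiplicity, hG]
  have hm0 : m ≠ 0 := fun h => hm (h ▸ dvd_zero p)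
  rw [Nat.factorization_mul (pow_ne_zero _ hp.out.ne_zero) hm0]
  simp [hp.out.factorization_pow, Nat.factorization_eq_zero_of_not_dvd hm]

/-- powers of a central element of order dividing 19 and of an element killed by `n` -/
theorem h77_mul_pow_central {H : Type*} [Group H] (x z : H) (hz : ∀ g : H, g * z = z * g) (n : ℕ) :
    (x * z) ^ n = x ^ n * z ^ n :=
  (show Commute x z from hz x).mul_pow n

/-- (B3q) -/
theorem order228 {H : Type*} [Group H] [Finite H] (hH : Nat.card H = 228)
    (Z : Subgroup H) (hZ : Nat.card Z = 19) (hZc : Z ≤ Subgroup.center H) :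
    (∃ W : Subgroup H, Nat.card W = 3 ∧ ∀ W' : Subgroup H, Nat.card W' = 3 → W' = W) ∨
    (∃ W : Subgroup H, Nat.card W = 4 ∧ ∀ W' : Subgroup H, Nat.card W' = 4 → W' = W) := by
  classical
  have h3 : Fact (Nat.Prime 3) := ⟨by norm_num⟩
  have h2 : Fact (Nat.Prime 2) := ⟨by norm_num⟩
  have hQcard : ∀ Q : Sylow 3 H, Nat.card (Q : Subgroup H) = 3 := by
    intro Q
    have := h77_sylow_card Q (k := 1) (m := 76) (by rw [hH]; norm_num) (by norm_num)
    simpa using this
  have hWcard : ∀ W : Sylow 2 H, Nat.card (W : Subgroup H) = 4 := by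
    intro W
    have := h77_sylow_card W (k := 2) (m := 57) (by rw [hH]; norm_num) (by norm_num)
    simpa using this
  -- central elements
  have hcomm : ∀ z ∈ Z, ∀ g : H, g * z = z * g := fun z hz g =>
    (Subgroup.mem_center_iff.mp (hZc hz)) g
  have hz19 : ∀ z ∈ Z, z ^ 19 = 1 := by
    intro z hz
    have h := pow_card_eq_one' (G := Z) (x := ⟨z, hz⟩)
    rw [hZ] at h
    exact congrArg Subtype.val h
  have hz76 : ∀ z ∈ Z, z ^ 76 = 1 := by
    intro z hz
    have : z ^ 76 = (z ^ 19) ^ 4 := by rw [← pow_mul]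
    rw [this, hz19 z hz, one_pow]
  by_cases hsub : ∀ Q Q' : Sylow 3 H, Q = Q'
  · left
    let Q : Sylow 3 H := default
    refine ⟨Q, hQcard Q, ?_⟩
    intro W' hW'
    have hp : IsPGroup 3 W' := IsPGroup.of_card (n := 1) (by rw [hW']; norm_num)
    obtain ⟨Q', hQ'⟩ := hp.exists_le_sylow
    have h1 : W' = Q' := Subgroup.eq_of_le_of_card_ge hQ' (by rw [hQcard, hW'])
    rw [h1, hsub Q' Q]
  · right
    push Not at hsub
    obtain ⟨Qa, Qb, hab⟩ := hsub
    -- at least four Sylow 3-subgroups
    have hn3 : 4 ≤ Nat.card (Sylow 3 H) := by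
      have h1 : Nat.card (Sylow 3 H) % 3 = 1 := by
        have := card_sylow_modEq_one 3 H
        exact this
      have h2 : 1 < Nat.card (Sylow 3 H) := by
        rw [Finite.one_lt_card_iff_nontrivial]
        exact ⟨⟨Qa, Qb, hab⟩⟩
      omega
    -- a nontrivial element in each Sylow 3-subgroup
    have hgen : ∀ Q : Sylow 3 H, ∃ x : H, x ∈ (Q : Subgroup H) ∧ x ≠ 1 := by
      intro Q
      by_contra hcon
      push Not at hcon
      have hbot : (Q : Subgroup H) = ⊥ := by
        rw [Subgroup.eq_bot_iff_forall]; exact hcon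
      have := hQcard Q
      rw [hbot, Subgroup.card_bot] at this
      omega
    choose gQ hgQ hgQ1 using hgen
    have hgQ3 : ∀ Q : Sylow 3 H, gQ Q ^ 3 = 1 := by
      intro Q
      have h := pow_card_eq_one' (G := (Q : Subgroup H)) (x := ⟨gQ Q, hgQ Q⟩)
      rw [hQcard] at h
      exact congrArg Subtype.val h
    have hpow76 : ∀ x : H, x ^ 3 = 1 → x ^ 76 = x := by
      intro x hx
      have : x ^ 76 = (x ^ 3) ^ 25 * x := by rw [← pow_mul, ← pow_succ]
      rw [this, hx, one_pow, one_mul]
    -- the elements `x_i = gQ ^ (i + 1)`, `i : Fin 2`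
    have hxne : ∀ (Q : Sylow 3 H) (i : Fin 2), gQ Q ^ (i.val + 1) ≠ 1 := by
      intro Q i h
      have hi := i.isLt
      rcases (by omega : i.val = 0 ∨ i.val = 1) with h0 | h0
      · rw [h0, zero_add, pow_one] at h; exact hgQ1 Q h
      · rw [h0] at h
        -- `g ^ 2 = 1` and `g ^ 3 = 1` give `g = 1`
        have h3' := hgQ3 Q
        have : gQ Q = 1 := by
          have : gQ Q ^ 3 = gQ Q ^ 2 * gQ Q := pow_succ _ _
          rw [this, h, one_mul] at h3'
          exact h3'
        exact hgQ1 Q this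
    have hx3 : ∀ (Q : Sylow 3 H) (i : Fin 2), (gQ Q ^ (i.val + 1)) ^ 3 = 1 := by
      intro Q i
      rw [← pow_mul, mul_comm, pow_mul, hgQ3, one_pow]
    -- injection into the set of elements with `h ^ 76 ≠ 1`
    let f : (Sylow 3 H × Fin 2) × Z → {h : H // h ^ 76 ≠ 1} := fun a =>
      ⟨gQ a.1.1 ^ (a.1.2.val + 1) * a.2.1, by
        rw [h77_mul_pow_central _ _ (hcomm a.2.1 a.2.2), hz76 _ a.2.2, mul_one,
          hpow76 _ (hx3 a.1.1 a.1.2)]
        exact hxne a.1.1 a.1.2⟩
    have hf : Function.Injective f := by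
      rintro ⟨⟨Q, i⟩, z⟩ ⟨⟨Q', i'⟩, z'⟩ h
      have h0 : gQ Q ^ (i.val + 1) * z.1 = gQ Q' ^ (i'.val + 1) * z'.1 := congrArg Subtype.val h
      have h1 : gQ Q ^ (i.val + 1) = gQ Q' ^ (i'.val + 1) := by
        have : (gQ Q ^ (i.val + 1) * z.1) ^ 76 = (gQ Q' ^ (i'.val + 1) * z'.1) ^ 76 := by rw [h0]
        rw [h77_mul_pow_central _ _ (hcomm z.1 z.2), h77_mul_pow_central _ _ (hcomm z'.1 z'.2),
          hz76 _ z.2, hz76 _ z'.2, mul_one, mul_one, hpow76 _ (hx3 Q i), hpow76 _ (hx3 Q' i')] at this
        exact this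
      have hQQ : Q = Q' := by
        -- the common nontrivial element forces the two subgroups of order 3 to coincide
        have hx : gQ Q ^ (i.val + 1) ∈ ((Q : Subgroup H) ⊓ (Q' : Subgroup H) : Subgroup H) := by
          refine ⟨(Q : Subgroup H).pow_mem (hgQ Q) _, ?_⟩
          rw [h1]; exact (Q' : Subgroup H).pow_mem (hgQ Q') _
        have hdvd : Nat.card ((Q : Subgroup H) ⊓ (Q' : Subgroup H) : Subgroup H) ∣ 3 := by
          have := Subgroup.card_dvd_of_le
            (inf_le_left : ((Q : Subgroup H) ⊓ (Q' : Subgroup H) : Subgroup H) ≤ Q)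
          rwa [hQcard Q] at this
        have hne1 : Nat.card ((Q : Subgroup H) ⊓ (Q' : Subgroup H) : Subgroup H) ≠ 1 := by
          intro hc
          have hb := Subgroup.card_eq_one.mp hc
          rw [hb, Subgroup.mem_bot] at hx
          exact hxne Q i hx
        have hc3 : Nat.card ((Q : Subgroup H) ⊓ (Q' : Subgroup H) : Subgroup H) = 3 := by
          rcases (Nat.dvd_prime (by norm_num : Nat.Prime 3)).mp hdvd with h | h
          · exact absurd h hne1
          · exact h
        have e1 : ((Q : Subgroup H) ⊓ (Q' : Subgroup H) : Subgroup H) = Q :=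
          Subgroup.eq_of_le_of_card_ge inf_le_left (by rw [hc3, hQcard])
        have e2 : ((Q : Subgroup H) ⊓ (Q' : Subgroup H) : Subgroup H) = Q' :=
          Subgroup.eq_of_le_of_card_ge inf_le_right (by rw [hc3, hQcard])
        exact Sylow.ext (e1.symm.trans e2)
      subst hQQ
      have hii : i = i' := by
        by_contra hne
        -- then `{i, i'} = {0, 1}` and `g = g ^ 2`
        have hi := i.isLt
        have hi' := i'.isLt
        have hne' : i.val ≠ i'.val := fun h => hne (Fin.ext h)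
        have hg : gQ Q = 1 := by
          rcases (by omega : (i.val = 0 ∧ i'.val = 1) ∨ (i.val = 1 ∧ i'.val = 0)) with ⟨ha, hb⟩ | ⟨ha, hb⟩
          · rw [ha, hb, zero_add, pow_one] at h1
            have : gQ Q * 1 = gQ Q * gQ Q := by rw [mul_one, ← pow_two]; exact h1
            exact (mul_left_cancel this).symm
          · rw [ha, hb, zero_add, pow_one] at h1
            have : gQ Q * gQ Q = gQ Q * 1 := by rw [mul_one, ← pow_two]; exact h1
            exact mul_left_cancel this
        exact hgQ1 Q hg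
      subst hii
      have hz : z = z' := by
        apply Subtype.ext
        exact mul_left_cancel h0
      rw [hz]
    have hbig : 152 ≤ Nat.card {h : H // h ^ 76 ≠ 1} := by
      have h1 := Nat.card_le_card_of_injective f hf
      rw [Nat.card_prod, Nat.card_prod, hZ, Nat.card_fin] at h1
      calc 152 = 4 * 2 * 19 := by norm_num
        _ ≤ Nat.card (Sylow 3 H) * 2 * 19 := by
            exact Nat.mul_le_mul_right _ (Nat.mul_le_mul_right _ hn3)
        _ ≤ _ := h1
    -- so at most 76 elements with `h ^ 76 = 1`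
    have hsmall : Nat.card {h : H // h ^ 76 = 1} ≤ 76 := by
      let _ : Fintype H := Fintype.ofFinite H
      have h1 : Fintype.card {h : H // h ^ 76 = 1} + Fintype.card {h : H // ¬ h ^ 76 = 1} =
          Fintype.card H := Fintype.card_subtype_or_disjoint _ _ (by
            intro p hp hq x hx; exact (hq x hx) (hp x hx)) |>.symm.trans (by
            apply Fintype.card_of_subtype; intro x; simp [em])
      rw [Nat.card_eq_fintype_card] at hbig ⊢
      rw [Nat.card_eq_fintype_card] at hH
      have : Fintype.card {h : H // h ^ 76 ≠ 1} = Fintype.card {h : H // ¬ h ^ 76 = 1} :=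
        Fintype.card_congr (Equiv.refl _)
      omega
    -- the unique subgroup of order 4
    let W0 : Sylow 2 H := default
    refine ⟨W0, hWcard W0, ?_⟩
    -- key: for subgroups `A, B` of order 4, `B ≤ A`
    have key : ∀ A B : Subgroup H, Nat.card A = 4 → Nat.card B = 4 → B ≤ A := by
      intro A B hA hB
      have hA4 : ∀ a ∈ A, a ^ 4 = 1 := by
        intro a ha
        have h := pow_card_eq_one' (G := A) (x := ⟨a, ha⟩)
        rw [hA] at h
        exact congrArg Subtype.val h
      have hB4 : ∀ b ∈ B, b ^ 4 = 1 := by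
        intro b hb
        have h := pow_card_eq_one' (G := B) (x := ⟨b, hb⟩)
        rw [hB] at h
        exact congrArg Subtype.val h
      have h76 : ∀ a : H, a ^ 4 = 1 → a ^ 76 = 1 := by
        intro a ha
        have : a ^ 76 = (a ^ 4) ^ 19 := by rw [← pow_mul]
        rw [this, ha, one_pow]
      let φ : A × Z → {h : H // h ^ 76 = 1} := fun a =>
        ⟨a.1.1 * a.2.1, by
          rw [h77_mul_pow_central _ _ (hcomm a.2.1 a.2.2), hz76 _ a.2.2, mul_one,
            h76 _ (hA4 _ a.1.2)]⟩
      have hφ : Function.Injective φ := by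
        rintro ⟨a, z⟩ ⟨a', z'⟩ h
        have h0 : a.1 * z.1 = a'.1 * z'.1 := congrArg Subtype.val h
        -- `a'⁻¹ a = z' z⁻¹` lies in `A ⊓ Z`, which is trivial
        have h1 : a'.1⁻¹ * a.1 = z'.1 * z.1⁻¹ := by
          have : a.1 = a'.1 * z'.1 * z.1⁻¹ := by rw [← h0]; group
          rw [this]; group
        have hw : (a'.1⁻¹ * a.1) ^ 4 = 1 := hA4 _ (A.mul_mem (A.inv_mem a'.2) a.2)
        have hw19 : (a'.1⁻¹ * a.1) ^ 19 = 1 := by
          rw [h1]; exact hz19 _ (Z.mul_mem z'.2 (Z.inv_mem z.2))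
        have hw1 : a'.1⁻¹ * a.1 = 1 := by
          have e : (a'.1⁻¹ * a.1) ^ 19 = ((a'.1⁻¹ * a.1) ^ 4) ^ 4 * (a'.1⁻¹ * a.1) ^ 3 := by
            rw [← pow_mul, ← pow_add]
          rw [hw, one_pow, one_mul] at e
          -- `w ^ 3 = 1` and `w ^ 4 = 1`
          have e3 : (a'.1⁻¹ * a.1) ^ 3 = 1 := by rw [← e]; exact hw19
          have : (a'.1⁻¹ * a.1) ^ 4 = (a'.1⁻¹ * a.1) ^ 3 * (a'.1⁻¹ * a.1) := pow_succ _ _
          rw [this, e3, one_mul] at hw
          exact hw
        have ha : a = a' := by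
          apply Subtype.ext
          exact (inv_mul_eq_one.mp hw1).symm
        have hz : z = z' := by
          apply Subtype.ext
          rw [ha] at h0
          exact mul_left_cancel h0
        rw [ha, hz]
      have hcardle : Nat.card {h : H // h ^ 76 = 1} ≤ Nat.card (A × Z) := by
        rw [Nat.card_prod, hA, hZ]; exact hsmall
      have hbij := hφ.bijective_of_nat_card_le hcardle
      intro b hb
      obtain ⟨⟨a, z⟩, haz⟩ := hbij.2 ⟨b, h76 b (hB4 b hb)⟩
      have h0 : a.1 * z.1 = b := congrArg Subtype.val haz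
      -- `b ^ 19 = a ^ 19 ∈ A` and `b ^ 19 = b⁻¹`
      have e1 : b ^ 19 = a.1 ^ 19 := by
        rw [← h0, h77_mul_pow_central _ _ (hcomm z.1 z.2), hz19 _ z.2, mul_one]
      have e2 : b ^ 19 = b⁻¹ := by
        have : b ^ 19 * b = 1 := by
          rw [← pow_succ]
          have : b ^ 20 = (b ^ 4) ^ 5 := by rw [← pow_mul]
          rw [this, hB4 b hb, one_pow]
        exact eq_inv_of_mul_eq_one_left this
      have : b⁻¹ ∈ A := by
        rw [← e2, e1]; exact A.pow_mem a.2 _
      exact (A.inv_mem_iff).mp this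
    intro W' hW'
    exact Subgroup.eq_of_le_of_card_ge (key _ _ (hWcard W0) hW') (by rw [hWcard, hW'])

end Cfsg.Agent.Helper77.O459648
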