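import Mathlib

/-! O459648 server (helper53, S1022): piece (B4b) `endgame_z`. -/

set_option autoImplicit false

namespace Cfsg.Agent.Helper77.O459648

/-- a subgroup of order 4 in a group of order 8 is normalised by it -/
theorem h77_conj_mem_of_four_eight {G : Type*} [Group G] [Finite G] (A B : Subgroup G)
    (hAB : A ≤ B) (hA : Nat.card A = 4) (hB : Nat.card B = 8) :
    ∀ s ∈ B, ∀ a ∈ A, s * a * s⁻¹ ∈ A := by
  have hidx : (A.subgroupOf B).index = 2 := by
    have h1 := Subgroup.card_mul_index (A.subgroupOf B)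
    have h2 : Nat.card (A.subgroupOf B) = 4 := by
      rw [← hA]
      exact Nat.card_congr (Subgroup.subgroupOfEquivOfLe hAB).toEquiv
    rw [h2, hB] at h1
    omega
  have hn : (A.subgroupOf B).Normal := Subgroup.normal_of_index_eq_two hidx
  intro s hs a ha
  have h := hn.conj_mem ⟨a, hAB ha⟩ (Subgroup.mem_subgroupOf.mpr ha) ⟨s, hs⟩
  exact Subgroup.mem_subgroupOf.mp h

/-- (B4b) -/
theorem endgame_z {G : Type*} [Group G] [Finite G]
    (N V S0 : Subgroup G) (g : G) (hV : Nat.card V = 4)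
    (hNV : Subgroup.normalizer (V : Set G) = N) (hS0 : Nat.card S0 = 8) (hVS : V ≤ S0)
    (hSN : S0 ≤ N) (hgN : g ∉ N) (hgS : g ∈ Subgroup.normalizer (S0 : Set G))
    (hgg : g * g ∈ S0) :
    ∃ z : G, z ≠ 1 ∧ z ∈ V ∧ (∀ s ∈ S0, s * z = z * s) ∧ g * z = z * g := by
  classical
  -- the conjugate `V' = g V g⁻¹`
  set V' : Subgroup G := V.map (MulAut.conj g).toMonoidHom with hV'def
  have memV' : ∀ x, x ∈ V' ↔ ∃ v ∈ V, g * v * g⁻¹ = x := by
    intro x
    rw [hV'def, Subgroup.mem_map]
    simp only [MulEquiv.coe_toMonoidHom, MulAut.conj_apply]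
  have hV'card : Nat.card V' = 4 := by
    rw [hV'def, Subgroup.card_map_of_injective (MulAut.conj g).injective, hV]
  have hV'S : V' ≤ S0 := by
    intro x hx
    obtain ⟨v, hv, rfl⟩ := (memV' x).mp hx
    exact (Subgroup.mem_normalizer_iff.mp hgS v).mp (hVS hv)
  -- `V' ≠ V`
  have hne : V' ≠ V := by
    intro h
    apply hgN
    rw [← hNV, Subgroup.mem_normalizer_iff]
    intro x
    constructor
    · intro hx
      rw [← h]
      exact (memV' _).mpr ⟨x, hx, rfl⟩
    · intro hx
      rw [← h] at hx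
      obtain ⟨v, hv, hvx⟩ := (memV' _).mp hx
      have : v = x := by
        have := congrArg (fun y => g⁻¹ * y * g) hvx
        simpa [mul_assoc] using this
      rw [← this]; exact hv
  -- normality in `S0`
  have hVn := h77_conj_mem_of_four_eight V S0 hVS hV hS0
  have hV'n := h77_conj_mem_of_four_eight V' S0 hV'S hV'card hS0
  -- the intersection is nontrivial
  have hnontriv : V ⊓ V' ≠ ⊥ := by
    intro hbot
    have hinj : Function.Injective (fun ab : V × V' => (⟨ab.1.1 * ab.2.1,
        S0.mul_mem (hVS ab.1.2) (hV'S ab.2.2)⟩ : S0)) := by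
      intro ⟨a, b⟩ ⟨a', b'⟩ h
      have h1 : a.1 * b.1 = a'.1 * b'.1 := congrArg Subtype.val h
      have h2 : a'.1⁻¹ * a.1 = b'.1 * b.1⁻¹ := by
        have : a.1 = a'.1 * b'.1 * b.1⁻¹ := by
          rw [← h1]; group
        rw [this]; group
      have h3 : a'.1⁻¹ * a.1 ∈ V ⊓ V' := by
        refine ⟨V.mul_mem (V.inv_mem a'.2) a.2, ?_⟩
        rw [h2]
        exact V'.mul_mem b'.2 (V'.inv_mem b.2)
      rw [hbot, Subgroup.mem_bot] at h3
      have ha : a = a' := by
        apply Subtype.ext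
        have := inv_mul_eq_one.mp h3
        exact this.symm
      have hb : b = b' := by
        apply Subtype.ext
        rw [ha] at h1
        exact mul_left_cancel h1
      rw [ha, hb]
    have hle := Nat.card_le_card_of_injective _ hinj
    rw [Nat.card_prod, hV, hV'card, hS0] at hle
    omega
  -- the intersection has order 2
  have hZ2 : Nat.card (V ⊓ V' : Subgroup G) = 2 := by
    have hdvd : Nat.card (V ⊓ V' : Subgroup G) ∣ 4 := by
      rw [← hV]; exact Subgroup.card_dvd_of_le inf_le_left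
    have hne1 : Nat.card (V ⊓ V' : Subgroup G) ≠ 1 := by
      intro h
      exact hnontriv (Subgroup.card_eq_one.mp h)
    have hne4 : Nat.card (V ⊓ V' : Subgroup G) ≠ 4 := by
      intro h
      -- then `V ⊓ V' = V`, so `V ≤ V'`, so `V = V'`
      have h1 : (V ⊓ V' : Subgroup G) = V :=
        Subgroup.eq_of_le_of_card_ge inf_le_left (by rw [h, hV])
      have h2 : V ≤ V' := by rw [← h1]; exact inf_le_right
      exact hne (Subgroup.eq_of_le_of_card_ge h2 (by rw [hV, hV'card])).symm
    have hle : Nat.card (V ⊓ V' : Subgroup G) ≤ 4 := Nat.le_of_dvd (by norm_num) hdvd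
    have hpos : 0 < Nat.card (V ⊓ V' : Subgroup G) := Nat.card_pos
    interval_cases h : Nat.card (V ⊓ V' : Subgroup G)
    · exact absurd rfl hne1
    · rfl
    · norm_num at hdvd
    · exact absurd rfl hne4
  obtain ⟨z0, hz0, huniq⟩ := (Nat.card_eq_two_iff' (1 : (V ⊓ V' : Subgroup G))).mp hZ2
  have hz0V : z0.1 ∈ V := z0.2.1
  have hz0V' : z0.1 ∈ V' := z0.2.2
  have hz0ne : z0.1 ≠ 1 := fun h => hz0 (Subtype.ext h)
  -- any nontrivial element of the intersection equals `z0`
  have hkey : ∀ x : G, x ∈ V → x ∈ V' → x ≠ 1 → x = z0.1 := by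
    intro x hx hx' hx1
    have := huniq ⟨x, hx, hx'⟩ (fun h => hx1 (congrArg Subtype.val h))
    exact congrArg Subtype.val this
  refine ⟨z0.1, hz0ne, hz0V, ?_, ?_⟩
  · intro s hs
    have h1 : s * z0.1 * s⁻¹ = z0.1 := by
      apply hkey _ (hVn s hs _ hz0V) (hV'n s hs _ hz0V')
      intro h
      apply hz0ne
      have := congrArg (fun y => s⁻¹ * y * s) h
      simpa [mul_assoc] using this
    calc s * z0.1 = s * z0.1 * s⁻¹ * s := by group
      _ = z0.1 * s := by rw [h1]
  · have h1 : g * z0.1 * g⁻¹ = z0.1 := by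
      apply hkey
      · -- `z0 = g v g⁻¹`, so `g z0 g⁻¹ = (g g) v (g g)⁻¹ ∈ V`
        obtain ⟨v, hv, hvz⟩ := (memV' _).mp hz0V'
        have : g * z0.1 * g⁻¹ = (g * g) * v * (g * g)⁻¹ := by
          rw [← hvz]; group
        rw [this]
        exact hVn (g * g) hgg v hv
      · exact (memV' _).mpr ⟨z0.1, hz0V, rfl⟩
      · intro h
        apply hz0ne
        have := congrArg (fun y => g⁻¹ * y * g) h
        simpa [mul_assoc] using this
    calc g * z0.1 = g * z0.1 * g⁻¹ * g := by group
      _ = z0.1 * g := by rw [h1]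

end Cfsg.Agent.Helper77.O459648
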