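import Mathlib

/-! O5760 server (helper7, S0980): piece (D7) `affine_parallel`: a 2-(16,4,1) design has unique
parallels. -/

set_option autoImplicit false

namespace Cfsg.Agent.Helper77.O5760

universe u v

/-- (D7) Pure combinatorics: a 2-(16,4,1) design is an affine plane. -/
theorem affine_parallel {X : Type v} [Finite X] (hX : Nat.card X = 16) (L : X → X → Set X)
    (h1 : ∀ a b : X, a ∈ L a b ∧ b ∈ L a b)
    (h2 : ∀ a b : X, a ≠ b → Nat.card (L a b) = 4)
    (h3 : ∀ a b c d : X, a ≠ b → c ≠ d → c ∈ L a b → d ∈ L a b → L c d = L a b)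
    (a b p : X) (hab : a ≠ b) (hp : p ∉ L a b) :
    ∃ q : X, q ≠ p ∧ Disjoint (L p q) (L a b) ∧
      ∀ q' : X, q' ≠ p → Disjoint (L p q') (L a b) → L p q' = L p q := by
  classical
  have : Fintype X := Fintype.ofFinite X
  have hXc : Fintype.card X = 16 := by rw [← Nat.card_eq_fintype_card]; exact hX
  have hLeq : ∀ r s : X, r ≠ p → s ≠ p → s ∈ L p r → L p s = L p r := by
    intro r s hr hs hsr
    exact h3 p r p s (Ne.symm hr) (Ne.symm hs) (h1 p r).1 hsr
  have hcardF : ∀ c d : X, c ≠ d → (Finset.univ.filter (fun s => s ∈ L c d)).card = 4 := by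
    intro c d hcd
    have h := h2 c d hcd
    rw [Nat.card_eq_fintype_card] at h
    rw [← h, Fintype.card_subtype]
  set S : Finset X := Finset.univ.erase p with hS
  have hScard : S.card = 15 := by
    rw [hS, Finset.card_erase_of_mem (Finset.mem_univ p), Finset.card_univ, hXc]
  have hfiber : ∀ r : X, r ≠ p → (S.filter (fun s => L p s = L p r)).card = 3 := by
    intro r hr
    have heq : S.filter (fun s => L p s = L p r) =
        (Finset.univ.filter (fun s => s ∈ L p r)).erase p := by
      ext s
      simp only [hS, Finset.mem_filter, Finset.mem_erase, Finset.mem_univ, and_true, true_and]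
      constructor
      · rintro ⟨hs, hss⟩
        refine ⟨hs, ?_⟩
        rw [← hss]
        exact (h1 p s).2
      · rintro ⟨hs, hsr⟩
        exact ⟨hs, hLeq r s hr hs hsr⟩
    rw [heq, Finset.card_erase_of_mem, hcardF p r (Ne.symm hr)]
    simp only [Finset.mem_filter, Finset.mem_univ, true_and]
    exact (h1 p r).1
  set T : Finset (Set X) := S.image (fun r => L p r) with hT
  have hTcard : T.card = 5 := by
    have h := Finset.card_eq_sum_card_image (fun r => L p r) S
    have h' : ∑ b ∈ T, (S.filter (fun s => L p s = b)).card = ∑ _b ∈ T, 3 := by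
      apply Finset.sum_congr rfl
      intro t ht
      rw [hT, Finset.mem_image] at ht
      obtain ⟨r, hr, rfl⟩ := ht
      rw [hS, Finset.mem_erase] at hr
      exact hfiber r hr.1
    rw [← hT] at h
    rw [h', Finset.sum_const, smul_eq_mul, hScard] at h
    omega
  set ℓ : Finset X := Finset.univ.filter (fun s => s ∈ L a b) with hℓ
  have hℓcard : ℓ.card = 4 := hcardF a b hab
  have hℓp : ∀ q ∈ ℓ, q ≠ p := by
    intro q hq hqp
    rw [hℓ, Finset.mem_filter] at hq
    rw [hqp] at hq
    exact hp hq.2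
  set I : Finset (Set X) := ℓ.image (fun q => L p q) with hI
  have hinj : Set.InjOn (fun q => L p q) (ℓ : Set X) := by
    intro q hq q' hq' hqq
    by_contra hne
    have hq1 : q ∈ L a b := by
      have := Finset.mem_coe.1 hq
      rw [hℓ, Finset.mem_filter] at this
      exact this.2
    have hq'1 : q' ∈ L a b := by
      have := Finset.mem_coe.1 hq'
      rw [hℓ, Finset.mem_filter] at this
      exact this.2
    have hqp : q ≠ p := hℓp q (Finset.mem_coe.1 hq)
    have e1 : L q q' = L p q := by
      apply h3 p q q q' (Ne.symm hqp) hne (h1 p q).2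
      have : L p q = L p q' := hqq
      rw [this]
      exact (h1 p q').2
    have e2 : L q q' = L a b := h3 a b q q' hab hne hq1 hq'1
    apply hp
    rw [← e2, e1]
    exact (h1 p q).1
  have hIcard : I.card = 4 := by
    rw [hI, Finset.card_image_of_injOn hinj, hℓcard]
  have hIT : I ⊆ T := by
    intro t ht
    rw [hI, Finset.mem_image] at ht
    obtain ⟨q, hq, rfl⟩ := ht
    rw [hT, Finset.mem_image]
    refine ⟨q, ?_, rfl⟩
    rw [hS, Finset.mem_erase]
    exact ⟨hℓp q hq, Finset.mem_univ q⟩
  have hdiff : (T \ I).card = 1 := by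
    rw [Finset.card_sdiff_of_subset hIT, hTcard, hIcard]
  obtain ⟨m, hm⟩ := Finset.card_eq_one.1 hdiff
  have hmT : m ∈ T \ I := by rw [hm]; exact Finset.mem_singleton_self m
  rw [Finset.mem_sdiff] at hmT
  obtain ⟨hmT1, hmI⟩ := hmT
  rw [hT, Finset.mem_image] at hmT1
  obtain ⟨r, hr, hrm⟩ := hmT1
  rw [hS, Finset.mem_erase] at hr
  have hrp : r ≠ p := hr.1
  -- a line through `p` meeting `L a b` lies in `I`
  have hmeet : ∀ q' : X, q' ≠ p → ¬ Disjoint (L p q') (L a b) → L p q' ∈ I := by
    intro q' hq'p hnd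
    rw [Set.not_disjoint_iff] at hnd
    obtain ⟨q, hq1, hq2⟩ := hnd
    have hqp : q ≠ p := by
      intro h
      rw [h] at hq2
      exact hp hq2
    rw [hI, Finset.mem_image]
    refine ⟨q, ?_, hLeq q' q hq'p hqp hq1⟩
    rw [hℓ, Finset.mem_filter]
    exact ⟨Finset.mem_univ q, hq2⟩
  refine ⟨r, hrp, ?_, ?_⟩
  · by_contra hnd
    apply hmI
    rw [← hrm]
    exact hmeet r hrp hnd
  · intro q' hq'p hdis
    have h1' : L p q' ∈ T := by
      rw [hT, Finset.mem_image]
      refine ⟨q', ?_, rfl⟩
      rw [hS, Finset.mem_erase]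
      exact ⟨hq'p, Finset.mem_univ q'⟩
    have h2' : L p q' ∉ I := by
      intro hin
      rw [hI, Finset.mem_image] at hin
      obtain ⟨q, hq, hqq⟩ := hin
      rw [hℓ, Finset.mem_filter] at hq
      have hqin : q ∈ L p q' := by
        have : L p q = L p q' := hqq
        rw [← this]
        exact (h1 p q).2
      exact (Set.disjoint_left.1 hdis) hqin hq.2
    have h3' : L p q' ∈ T \ I := Finset.mem_sdiff.2 ⟨h1', h2'⟩
    rw [hm, Finset.mem_singleton] at h3'
    rw [h3', ← hrm]

end Cfsg.Agent.Helper77.O5760
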