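import Mathlib

/-! O5760 server (helper7, S0980): piece (D8) `par_trans`: parallelism of lines is transitive. -/

set_option autoImplicit false

namespace Cfsg.Agent.Helper77.O5760

universe u v

/-- a line through `p` is `L p q'` for some `q' ≠ p` -/
theorem h77_line_through {X : Type v} (L : X → X → Set X)
    (h1 : ∀ a b : X, a ∈ L a b ∧ b ∈ L a b)
    (h3 : ∀ a b c d : X, a ≠ b → c ≠ d → c ∈ L a b → d ∈ L a b → L c d = L a b)
    (a b p : X) (hab : a ≠ b) (hp : p ∈ L a b) : ∃ q' : X, q' ≠ p ∧ L p q' = L a b := by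
  by_cases hap : a = p
  · refine ⟨b, ?_, ?_⟩
    · rw [← hap]; exact Ne.symm hab
    · rw [← hap]
  · exact ⟨a, hap, h3 a b p a hab (Ne.symm hap) hp (h1 a b).1⟩

/-- (D8) Parallelism `par l m := l = m ∨ Disjoint l m` on lines is transitive (`hpar` = D7). -/
theorem par_trans {X : Type v} (L : X → X → Set X)
    (h1 : ∀ a b : X, a ∈ L a b ∧ b ∈ L a b)
    (h3 : ∀ a b c d : X, a ≠ b → c ≠ d → c ∈ L a b → d ∈ L a b → L c d = L a b)
    (hpar : ∀ a b p : X, a ≠ b → p ∉ L a b → ∃ q : X, q ≠ p ∧ Disjoint (L p q) (L a b) ∧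
      ∀ q' : X, q' ≠ p → Disjoint (L p q') (L a b) → L p q' = L p q)
    (a b c d e f : X) (hab : a ≠ b) (hcd : c ≠ d) (hef : e ≠ f)
    (h12 : L a b = L c d ∨ Disjoint (L a b) (L c d)) (h23 : L c d = L e f ∨ Disjoint (L c d) (L e f)) :
    L a b = L e f ∨ Disjoint (L a b) (L e f) := by
  rcases h12 with h12 | h12
  · rw [h12]; exact h23
  rcases h23 with h23 | h23
  · rw [← h23]; exact Or.inr h12
  by_cases hd : Disjoint (L a b) (L e f)
  · exact Or.inr hd
  left
  rw [Set.not_disjoint_iff] at hd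
  obtain ⟨p, hp1, hp2⟩ := hd
  have hpcd : p ∉ L c d := fun h => (Set.disjoint_left.1 h12) hp1 h
  obtain ⟨q, _, _, huniq⟩ := hpar c d p hcd hpcd
  obtain ⟨a', ha'p, ha'⟩ := h77_line_through L h1 h3 a b p hab hp1
  obtain ⟨e', he'p, he'⟩ := h77_line_through L h1 h3 e f p hef hp2
  have e1 : L p a' = L p q := huniq a' ha'p (by rw [ha']; exact h12)
  have e2 : L p e' = L p q := huniq e' he'p (by rw [he']; exact h23.symm)
  rw [← ha', ← he', e1, e2]

end Cfsg.Agent.Helper77.O5760
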