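import Mathlib
import Cfsg.Agent.S1017
import Cfsg.Agent.Lib.Helper17.Sieve

/-! S0983 exercise order 4680 = 2^3 * 3^2 * 5 * 13 (helper17's sieve): no nonabelian simple group
of that order. -/

set_option autoImplicit false

namespace Cfsg.Agent.Helper77.SV

open MulAction Subgroup Cfsg.Agent.S1017

open scoped Pointwise

theorem h77_div360 : ∀ d ∈ Nat.divisors 360, d % 13 = 1 → d ≠ 1 → d = 40 := by decide +kernel

theorem no_4680.{u} : Cfsg.Agent.Helper17.Sieve.NoSimple.{u} 4680 := by
  intro G _ _ _ _ hG
  have : Fact (Nat.Prime 13) := ⟨by norm_num⟩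
  have : Fact (Nat.Prime 3) := ⟨by norm_num⟩
  obtain ⟨P⟩ : Nonempty (Sylow 13 G) := inferInstance
  have hP : Nat.card (P : Subgroup G) = 13 := by
    have := sylow_card_eq P 1 360 (by rw [hG]; norm_num) (by norm_num)
    simpa using this
  -- the number of Sylow 13-subgroups
  have hn13 : Nat.card (Sylow 13 G) = 40 := by
    have hmod := card_sylow_mod (G := G) (p := 13)
    have hne := sylow_count_ne_one P (by rw [hP]; norm_num) (by rw [hP, hG]; norm_num)
    have hdvd : Nat.card (Sylow 13 G) ∣ 360 := by
      have h := P.card_dvd_index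
      have hidx : (P : Subgroup G).index = 360 := by
        have := (P : Subgroup G).card_mul_index
        rw [hP, hG] at this
        omega
      rwa [hidx] at h
    exact h77_div360 _ (Nat.mem_divisors.2 ⟨hdvd, by norm_num⟩) hmod hne
  have hN : Nat.card (Subgroup.normalizer ((P : Subgroup G) : Set G)) = 117 := by
    have h1 := card_sylow_mul_card_normalizer P
    rw [hn13, hG] at h1
    omega
  -- the centralizer of `P` has order 39
  have hC : Nat.card (Subgroup.centralizer ((P : Subgroup G) : Set G)) = 39 := by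
    obtain ⟨k, c, hk12, hk1, hc, hkc⟩ := normalizer_structure P hP (by rw [hG]; norm_num)
    rw [hN] at hkc
    have hk : k ∣ 12 := hk12
    have h13 : 13 * (k * c) = 117 := by rw [hkc]; ring
    have hkc9 : k * c = 9 := by omega
    have hk9 : k ∣ 9 := Dvd.intro c hkc9
    have hk3 : k ∣ 3 := by
      have := Nat.dvd_gcd hk hk9
      simpa using this
    have hk3' : k = 3 := by
      rcases (Nat.dvd_prime (by norm_num : Nat.Prime 3)).1 hk3 with h | h
      · exact absurd h hk1
      · exact h
    rw [hk3'] at hkc9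
    rw [hc]
    omega
  -- an element of order 3 centralizing `P`
  obtain ⟨u', hu'⟩ := exists_prime_orderOf_dvd_card'
    (G := ↥(Subgroup.centralizer ((P : Subgroup G) : Set G))) 3 (by rw [hC]; norm_num)
  have hu3 : orderOf (u' : G) = 3 := by rw [Subgroup.orderOf_coe]; exact hu'
  have huC : (u' : G) ∈ Subgroup.centralizer ((P : Subgroup G) : Set G) := u'.2
  generalize (u' : G) = u at hu3 huC
  have hu1 : u ≠ 1 := ne_one_of_orderOf_prime u (by norm_num) hu3
  -- `u` fixes exactly one Sylow 13-subgroup
  have hf : Nat.card (fixedBy (Sylow 13 G) u) = 1 := by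
    have h13 := card_fixedBy_sylow_modEq P hP u huC
    have h3 := card_modEq_card_fixedBy (α := Sylow 13 G) u hu3
    have hle := card_fixedBy_le (α := Sylow 13 G) u
    have hne := card_fixedBy_ne (α := Sylow 13 G)
      (sylow_action_nontrivial (by rw [hn13]; norm_num)) u hu1
    rw [hn13] at h3 hle hne
    unfold Nat.ModEq at h13 h3
    omega
  have hPfix : P ∈ fixedBy (Sylow 13 G) u :=
    Sylow.smul_eq_iff_mem_normalizer.mpr (Subgroup.centralizer_le_normalizer _ huC)
  have hfix : ∀ Q : Sylow 13 G, u • Q = Q → Q = P := by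
    intro Q hQ
    have hsub : Subsingleton ↥(fixedBy (Sylow 13 G) u) :=
      (Nat.card_eq_one_iff_unique.1 hf).1
    have := Subsingleton.elim (⟨Q, hQ⟩ : ↥(fixedBy (Sylow 13 G) u)) ⟨P, hPfix⟩
    exact congrArg Subtype.val this
  -- a Sylow 3-subgroup through `u`
  obtain ⟨S, huS⟩ := exists_sylow_mem_of_orderOf u hu3
  have hS : Nat.card (S : Subgroup G) = 9 := by
    have := sylow_card_eq S 2 520 (by rw [hG]; norm_num) (by norm_num)
    simpa using this
  have hSab : ∀ a b : ↥(S : Subgroup G), a * b = b * a := by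
    have hmc : IsMulCommutative ↥(S : Subgroup G) :=
      IsPGroup.isMulCommutative_of_card_eq_prime_sq (p := 3) (by rw [hS]; norm_num)
    exact fun a b => hmc.is_comm.comm a b
  have hScomm : ∀ s ∈ (S : Subgroup G), ∀ t ∈ (S : Subgroup G), s * t = t * s := by
    intro s hs t ht
    have := hSab ⟨s, hs⟩ ⟨t, ht⟩
    exact congrArg Subtype.val this
  -- `S` normalizes `P`
  have hSN : (S : Subgroup G) ≤ Subgroup.normalizer ((P : Subgroup G) : Set G) := by
    intro s hs
    apply Sylow.smul_eq_iff_mem_normalizer.mp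
    apply hfix
    rw [smul_smul, ← hScomm s hs u huS, ← smul_smul, hPfix]
  -- the normalizer of `S` normalizes `P`
  have hNSN : Subgroup.normalizer ((S : Subgroup G) : Set G) ≤
      Subgroup.normalizer ((P : Subgroup G) : Set G) := by
    intro g hg
    apply Sylow.smul_eq_iff_mem_normalizer.mp
    have hv : g * u * g⁻¹ ∈ (S : Subgroup G) :=
      (Subgroup.mem_normalizer_iff.1 hg u).1 huS
    have hvP : (g * u * g⁻¹) • P = P :=
      Sylow.smul_eq_iff_mem_normalizer.mpr (hSN hv)
    have h1 : u • (g⁻¹ • P) = g⁻¹ • P := by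
      have h2 : g⁻¹ • ((g * u * g⁻¹) • P) = g⁻¹ • P := by rw [hvP]
      rw [smul_smul] at h2
      have h3 : g⁻¹ * (g * u * g⁻¹) = u * g⁻¹ := by group
      rw [h3, ← smul_smul] at h2
      exact h2
    have h4 := hfix _ h1
    calc g • P = g • (g⁻¹ • P) := by rw [h4]
      _ = P := by rw [smul_smul, mul_inv_cancel, one_smul]
  have hSNS : (S : Subgroup G) ≤ Subgroup.normalizer ((S : Subgroup G) : Set G) :=
    Subgroup.le_normalizer
  have hd1 : Nat.card (Subgroup.normalizer ((S : Subgroup G) : Set G)) ∣ 117 := by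
    rw [← hN]; exact Subgroup.card_dvd_of_le hNSN
  have hd2 : 9 ∣ Nat.card (Subgroup.normalizer ((S : Subgroup G) : Set G)) := by
    rw [← hS]; exact Subgroup.card_dvd_of_le hSNS
  have hcases : Nat.card (Subgroup.normalizer ((S : Subgroup G) : Set G)) = 9 ∨
      Nat.card (Subgroup.normalizer ((S : Subgroup G) : Set G)) = 117 := by
    generalize Nat.card (Subgroup.normalizer ((S : Subgroup G) : Set G)) = n at hd1 hd2
    have hn : n ≤ 117 := Nat.le_of_dvd (by norm_num) hd1
    obtain ⟨m, rfl⟩ := hd2
    have hm : m ≤ 13 := by omega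
    interval_cases m <;> simp_all
  rcases hcases with h9 | h117
  · -- `N(S) = S` is abelian: Burnside
    have hNS : Subgroup.normalizer ((S : Subgroup G) : Set G) = (S : Subgroup G) :=
      (Subgroup.eq_of_le_of_card_ge hSNS (by rw [h9, hS])).symm
    apply not_normalizer_le_centralizer S (by rw [hS]; norm_num) (by rw [hS, hG]; norm_num)
    rw [hNS]
    intro s hs
    rw [Subgroup.mem_centralizer_iff]
    intro t ht
    exact hScomm t ht s hs
  · -- `N(S) = N(P)`: then `S` centralizes `P`
    have hNeq : Subgroup.normalizer ((S : Subgroup G) : Set G) =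
        Subgroup.normalizer ((P : Subgroup G) : Set G) :=
      Subgroup.eq_of_le_of_card_ge hNSN (by rw [h117, hN])
    have hn1 : ((P : Subgroup G).subgroupOf
        (Subgroup.normalizer ((P : Subgroup G) : Set G))).Normal := Subgroup.normal_in_normalizer
    have hn2 : ((S : Subgroup G).subgroupOf
        (Subgroup.normalizer ((P : Subgroup G) : Set G))).Normal := by
      rw [← hNeq]; exact Subgroup.normal_in_normalizer
    have hdisj : Disjoint ((P : Subgroup G).subgroupOf
        (Subgroup.normalizer ((P : Subgroup G) : Set G)))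
        ((S : Subgroup G).subgroupOf (Subgroup.normalizer ((P : Subgroup G) : Set G))) := by
      rw [disjoint_iff, eq_bot_iff]
      intro x hx
      rw [Subgroup.mem_bot]
      obtain ⟨hx1, hx2⟩ := Subgroup.mem_inf.1 hx
      rw [Subgroup.mem_subgroupOf] at hx1 hx2
      have ho1 : orderOf (x : G) ∣ 13 := by
        have := orderOf_dvd_natCard (⟨(x : G), hx1⟩ : ↥(P : Subgroup G))
        rwa [Subgroup.orderOf_mk, hP] at this
      have ho2 : orderOf (x : G) ∣ 9 := by
        have := orderOf_dvd_natCard (⟨(x : G), hx2⟩ : ↥(S : Subgroup G))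
        rwa [Subgroup.orderOf_mk, hS] at this
      have ho : orderOf (x : G) = 1 := by
        have := Nat.dvd_gcd ho1 ho2
        simpa using this
      apply Subtype.ext
      rw [Subgroup.coe_one]
      exact orderOf_eq_one_iff.1 ho
    have hcomm := Subgroup.commute_of_normal_of_disjoint _ _ hn1 hn2 hdisj
    have hSC : (S : Subgroup G) ≤ Subgroup.centralizer ((P : Subgroup G) : Set G) := by
      intro s hs
      rw [Subgroup.mem_centralizer_iff]
      intro x hx
      have hxN : x ∈ Subgroup.normalizer ((P : Subgroup G) : Set G) := Subgroup.le_normalizer hx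
      have := hcomm ⟨x, hxN⟩ ⟨s, hSN hs⟩ (Subgroup.mem_subgroupOf.2 hx)
        (Subgroup.mem_subgroupOf.2 hs)
      exact congrArg Subtype.val this.eq
    have hdv := Subgroup.card_dvd_of_le hSC
    rw [hS, hC] at hdv
    omega

end Cfsg.Agent.Helper77.SV
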