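import Mathlib
import Cfsg.Agent.Lib.Helper77.SV4680

/-! O6232 server (helper17, S0983): piece N4680, wrapper of `Cfsg.Agent.Helper77.SV.no_4680`. -/

set_option autoImplicit false

namespace Cfsg.Agent.Helper77.O6232

universe u

/-- (N4680) `4680 = 2^3 * 3^2 * 5 * 13`. -/
theorem no_4680 {G : Type u} [Group G] [Finite G] [IsSimpleGroup G] : Nat.card G ≠ 4680 := by
  intro hG
  by_cases hc : IsMulCommutative G
  · -- an abelian simple group has prime order
    let inst : CommGroup G :=
      { (inferInstance : Group G) with mul_comm := fun a b => hc.is_comm.comm a b }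
    have hs : @IsSimpleGroup G inst.toGroup := ‹IsSimpleGroup G›
    have hp := @IsSimpleGroup.prime_card G inst hs
    rw [hG] at hp
    norm_num at hp
  · exact Cfsg.Agent.Helper77.SV.no_4680 G hc hG

end Cfsg.Agent.Helper77.O6232
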