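import Mathlib
import Cfsg.Prelude.Def_FusionSystem
import Cfsg.Agent.Lib.Helper87.Om7Defs

/-!
# OM7 (C4a) for helper87's S2647 server: `r_u r_v` depends only on the plane `⟨u, v⟩`
-/

set_option autoImplicit false
set_option linter.unusedSectionVars false

namespace Cfsg.Agent.Helper77.Om7

open Matrix QuadraticMap Cfsg.Agent.Helper36.QuadInv Cfsg.Agent.Helper36.OmegaTrans
  Cfsg.Agent.Helper43 Cfsg.Agent.Helper87.Om7

variable {F : Type*} [Field F] [Fintype F] [DecidableEq F] {ι : Type} [Fintype ι] [DecidableEq ι]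
variable {Q : QuadraticForm F (ι → F)} {c : F} {f : Fin 7 → ι → F}

/-- twice the orthogonal projection onto `⟨u, v⟩` (`u ⟂ v`) -/
noncomputable def c4aP (Q : QuadraticForm F (ι → F)) (u v x : ι → F) : ι → F :=
  ((Q u)⁻¹ * polar Q u x) • u + ((Q v)⁻¹ * polar Q v x) • v

theorem c4a_act {u v : ι → F} (hu : Q u ≠ 0) (hv : Q v ≠ 0) (huv : polar Q u v = 0)
    (x : ι → F) :
    actHom (⇑Q) (reflIso' Q u * reflIso' Q v) x = x - c4aP Q u v x := by
  rw [act_mul, reflIso'_of_ne Q hv, act_reflIso Q hv x, reflIso'_of_ne Q hu, act_reflIso Q hu]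
  have e : polar Q u (x - ((Q v)⁻¹ * polar Q v x) • v) = polar Q u x := by
    rw [QuadraticMap.polar_sub_right, QuadraticMap.polar_smul_right, huv, smul_zero, sub_zero]
  rw [e]
  unfold c4aP
  abel

theorem c4a_polar_left {u v : ι → F} (hu : Q u ≠ 0) (huv : polar Q u v = 0) (h2 : (2 : F) ≠ 0)
    (x : ι → F) : polar Q u (c4aP Q u v x) = 2 * polar Q u x := by
  unfold c4aP
  rw [QuadraticMap.polar_add_right, QuadraticMap.polar_smul_right, QuadraticMap.polar_smul_right,
    huv, smul_zero, add_zero, QuadraticMap.polar_self, smul_eq_mul, two_smul, ← two_mul]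
  field_simp

theorem c4a_polar_right {u v : ι → F} (hv : Q v ≠ 0) (huv : polar Q u v = 0) (h2 : (2 : F) ≠ 0)
    (x : ι → F) : polar Q v (c4aP Q u v x) = 2 * polar Q v x := by
  have hvu : polar Q v u = 0 := by rw [QuadraticMap.polar_comm]; exact huv
  unfold c4aP
  rw [QuadraticMap.polar_add_right, QuadraticMap.polar_smul_right, QuadraticMap.polar_smul_right,
    hvu, smul_zero, zero_add, QuadraticMap.polar_self, smul_eq_mul, two_smul, ← two_mul]
  field_simp

theorem c4a_polar_span {u v : ι → F} (hu : Q u ≠ 0) (hv : Q v ≠ 0) (huv : polar Q u v = 0)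
    (h2 : (2 : F) ≠ 0) (x w : ι → F) (hw : w ∈ Submodule.span F {u, v}) :
    polar Q w (c4aP Q u v x) = 2 * polar Q w x := by
  obtain ⟨a, b, rfl⟩ := Submodule.mem_span_pair.1 hw
  rw [QuadraticMap.polar_add_left, QuadraticMap.polar_smul_left, QuadraticMap.polar_smul_left,
    c4a_polar_left hu huv h2, c4a_polar_right hv huv h2, QuadraticMap.polar_add_left,
    QuadraticMap.polar_smul_left, QuadraticMap.polar_smul_left]
  simp only [smul_eq_mul]
  ring

theorem c4aP_mem (u v x : ι → F) : c4aP Q u v x ∈ Submodule.span F {u, v} := by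
  unfold c4aP
  apply Submodule.add_mem
  · exact Submodule.smul_mem _ _ (Submodule.subset_span (by simp))
  · exact Submodule.smul_mem _ _ (Submodule.subset_span (by simp))

/-- (C4a) the product of the reflections in an orthogonal basis of a plane depends only on the
plane (it is `-1` on the plane and `1` on its orthogonal complement) -/
theorem refl_pair_eq (h2 : (2 : F) ≠ 0) (hQ : (polarBilin Q).Nondegenerate) {u v u' v' : ι → F}
    (hu : Q u ≠ 0) (hv : Q v ≠ 0) (hu' : Q u' ≠ 0) (hv' : Q v' ≠ 0) (huv : polar Q u v = 0)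
    (huv' : polar Q u' v' = 0)
    (hspan : Submodule.span F {u, v} = Submodule.span F {u', v'}) :
    reflIso' Q u * reflIso' Q v = reflIso' Q u' * reflIso' Q v' := by
  apply act_ext
  intro x
  rw [c4a_act hu hv huv, c4a_act hu' hv' huv']
  congr 1
  rw [← sub_eq_zero]
  -- `z := P x - P' x ∈ ⟨u, v⟩` is orthogonal to `u` and `v`
  have hz : c4aP Q u v x - c4aP Q u' v' x ∈ Submodule.span F {u, v} := by
    apply Submodule.sub_mem
    · exact c4aP_mem u v x
    · rw [hspan]; exact c4aP_mem u' v' x
  have horth : ∀ w ∈ Submodule.span F {u, v},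
      polar Q w (c4aP Q u v x - c4aP Q u' v' x) = 0 := by
    intro w hw
    rw [QuadraticMap.polar_sub_right, c4a_polar_span hu hv huv h2 x w hw,
      c4a_polar_span hu' hv' huv' h2 x w (hspan ▸ hw), sub_self]
  obtain ⟨a, b, hab⟩ := Submodule.mem_span_pair.1 hz
  have hvu : polar Q v u = 0 := by rw [QuadraticMap.polar_comm]; exact huv
  have h1 := horth u (Submodule.subset_span (by simp))
  have h3 := horth v (Submodule.subset_span (by simp))
  rw [← hab, QuadraticMap.polar_add_right, QuadraticMap.polar_smul_right,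
    QuadraticMap.polar_smul_right, huv, smul_zero, add_zero, QuadraticMap.polar_self,
    smul_eq_mul, two_smul, ← two_mul] at h1
  rw [← hab, QuadraticMap.polar_add_right, QuadraticMap.polar_smul_right,
    QuadraticMap.polar_smul_right, hvu, smul_zero, zero_add, QuadraticMap.polar_self,
    smul_eq_mul, two_smul, ← two_mul] at h3
  have ha : a = 0 := by
    rcases mul_eq_zero.1 h1 with h | h
    · exact h
    · exact absurd h (mul_ne_zero h2 hu)
  have hb : b = 0 := by
    rcases mul_eq_zero.1 h3 with h | h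
    · exact h
    · exact absurd h (mul_ne_zero h2 hv)
  rw [← hab, ha, hb, zero_smul, zero_smul, add_zero]

end Cfsg.Agent.Helper77.Om7
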