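import Mathlib
import Cfsg.Agent.Lib.Helper87.Psl3Defs

/-!
# PSL3F (CTR) for helper87's S5318 server: the centre of `SL₃(F)` has odd order.
-/

set_option autoImplicit false

namespace Cfsg.Agent.Helper77.Psl3

open Matrix Cfsg.Agent.Helper87.Psl3

variable {F : Type*} [Field F]

local notation "SL3" => Matrix.SpecialLinearGroup (Fin 3) F
local notation "GL2" => GL (Fin 2) F

/-- every central element of `SL₃(F)` has cube one -/
theorem center_pow_three (A : SL3) (hA : A ∈ Subgroup.center SL3) : A ^ 3 = 1 := by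
  obtain ⟨r, hr, hrA⟩ := Matrix.SpecialLinearGroup.mem_center_iff.1 hA
  apply Subtype.ext
  rw [Matrix.SpecialLinearGroup.coe_pow, Matrix.SpecialLinearGroup.coe_one, ← hrA]
  have h3 : Fintype.card (Fin 3) = 3 := by simp
  rw [h3] at hr
  rw [← map_pow, hr, map_one]

theorem center_card_odd [Finite F] :
    ¬ 2 ∣ Nat.card (Subgroup.center SL3) := by
  intro h2
  have : Fact (Nat.Prime 2) := ⟨Nat.prime_two⟩
  obtain ⟨A, hA⟩ := exists_prime_orderOf_dvd_card' (G := Subgroup.center SL3) 2 h2
  have h3 : A ^ 3 = 1 := by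
    apply Subtype.ext
    rw [Subgroup.coe_pow, Subgroup.coe_one]
    exact center_pow_three (A : SL3) A.2
  have := orderOf_dvd_of_pow_eq_one h3
  rw [hA] at this
  omega

end Cfsg.Agent.Helper77.Psl3
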