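import Mathlib
import Cfsg.Prelude.Def_Classical
import Cfsg.Agent.Lib.Helper87.Psu3Defs

/-!
# PSU3F (APIU) for helper87's S5319 server: basic facts on `U2`, `S2U`, `S3U`.
-/

set_option autoImplicit false

namespace Cfsg.Agent.Helper77.Psu3

open Matrix Cfsg Cfsg.Agent.Helper87.Psl3 Cfsg.Agent.Helper87.Psu3

variable {K : Type*} [Field K] {q : ℕ}

local notation "SL3" => Matrix.SpecialLinearGroup (Fin 3) K
local notation "GL2" => GL (Fin 2) K

theorem neg_pow_odd (hodd : q % 2 = 1) (x : K) : (-x) ^ q = -x ^ q :=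
  (Nat.odd_iff.2 hodd).neg_pow x

/-- a "signed permutation-diagonal" criterion: a matrix of `SL₃` whose action is
`u ↦ (ε₀ u_{σ0}, ε₁ u_{σ1}, ε₂ u_{σ2})` with signs `εᵢ = ±1` is unitary; we only need three cases, done
by direct computation -/
theorem mem_SU_of_mulVec (g : SL3)
    (h : ∀ u v : Fin 3 → K, Cfsg.hermForm 3 K q ((g : Matrix (Fin 3) (Fin 3) K) *ᵥ u)
        ((g : Matrix (Fin 3) (Fin 3) K) *ᵥ v) = Cfsg.hermForm 3 K q u v) :
    g ∈ Cfsg.SU 3 K q := (mem_SU_iff q g).2 h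

theorem M0_mem_U2 (hodd : q % 2 = 1) : (M0 : GL2) ∈ U2 q := by
  rw [mem_U2_iff]
  apply mem_SU_of_mulVec
  intro u v
  have hdet : Matrix.GeneralLinearGroup.det (M0 : GL2) = 1 := by
    apply Units.ext
    show ((M0 : GL2) : Matrix (Fin 2) (Fin 2) K).det = 1
    rw [M0_val, rot, Matrix.det_fin_two_of]
    ring
  rw [iota_val]
  unfold iotaMat
  rw [hdet]
  simp only [Cfsg.hermForm, Fin.sum_univ_three, Matrix.mulVec, dotProduct, M0_val, rot]
  simp [neg_pow_odd hodd]
  ring

theorem tau_mem_U2 (hodd : q % 2 = 1) : (tau : GL2) ∈ U2 q := by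
  rw [mem_U2_iff]
  apply mem_SU_of_mulVec
  intro u v
  have hdet : (Matrix.GeneralLinearGroup.det (tau : GL2))⁻¹ = -1 := by
    rw [inv_eq_iff_eq_inv, inv_neg, inv_one]
    apply Units.ext
    show ((tau : GL2) : Matrix (Fin 2) (Fin 2) K).det = ((-1 : Kˣ) : K)
    rw [tau_val, Matrix.det_fin_two_of]
    simp
  rw [iota_val]
  unfold iotaMat
  rw [hdet]
  simp only [Cfsg.hermForm, Fin.sum_univ_three, Matrix.mulVec, dotProduct, tau_val]
  simp [neg_pow_odd hodd]

theorem zz_mem_SU (hodd : q % 2 = 1) : (zz : SL3) ∈ Cfsg.SU 3 K q := by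
  apply mem_SU_of_mulVec
  intro u v
  have hdet : Matrix.GeneralLinearGroup.det (sc (-1 : Kˣ) : GL2) = 1 := by
    unfold sc
    rw [Matrix.GeneralLinearGroup.det_scalar]
    simp
  unfold zz
  rw [iota_val]
  unfold iotaMat
  rw [hdet]
  simp only [Cfsg.hermForm, Fin.sum_univ_three, Matrix.mulVec, dotProduct, sc,
    Matrix.GeneralLinearGroup.coe_scalar]
  simp [neg_pow_odd hodd]

/-! ### local copies of the `GL₂` facts (any field) -/

theorem l_tau_mul_tau : (tau : GL2) * tau = 1 := by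
  apply Units.ext
  rw [Units.val_mul, tau_val, Units.val_one]
  ext i j
  fin_cases i <;> fin_cases j <;> simp [Matrix.mul_apply, Fin.sum_univ_two]

theorem l_tau_inv : (tau : GL2)⁻¹ = tau := inv_eq_of_mul_eq_one_right l_tau_mul_tau

theorem l_tau_conj_val (X : GL2) (a b : K) (h : (X : Matrix (Fin 2) (Fin 2) K) = rot a b) :
    ((tau * X * tau⁻¹ : GL2) : Matrix (Fin 2) (Fin 2) K) = rot a (-b) := by
  rw [l_tau_inv, Units.val_mul, Units.val_mul, h, tau_val]
  ext i j
  fin_cases i <;> fin_cases j <;> simp [rot, Matrix.mul_apply, Fin.sum_univ_two]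

theorem l_tau_conj_mem_P2 {X : GL2} (h : X ∈ P2) : tau * X * tau⁻¹ ∈ P2 := by
  obtain ⟨hE, m, hm⟩ := (mem_P2_iff X).1 h
  obtain ⟨a, b, hab⟩ := (mem_Eu_iff X).1 hE
  refine (mem_P2_iff _).2 ⟨(mem_Eu_iff _).2 ⟨a, -b, l_tau_conj_val X a b hab⟩, m, ?_⟩
  rw [conj_pow, hm, mul_one, mul_inv_cancel]

theorem l_tau_conj_mem_P2' {X : GL2} (h : X ∈ P2) : tau * X * tau ∈ P2 := by
  have := l_tau_conj_mem_P2 h
  rwa [l_tau_inv] at this

theorem l_mem_S2_iff (X : GL2) : X ∈ S2 ↔ X ∈ P2 ∨ X * tau ∈ P2 := by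
  constructor
  · intro hX
    -- the set `{X | X ∈ P2 ∨ X * tau ∈ P2}` is a subgroup containing `P2` and `tau`
    let T : Subgroup GL2 :=
      { carrier := {X | X ∈ P2 ∨ X * tau ∈ P2}
        one_mem' := Or.inl P2.one_mem
        mul_mem' := by
          rintro X Y (hX | hX) (hY | hY)
          · exact Or.inl (P2.mul_mem hX hY)
          · right
            rw [mul_assoc]
            exact P2.mul_mem hX hY
          · right
            have h1 := l_tau_conj_mem_P2' hY
            have h2 : X * Y * tau = (X * tau) * (tau * Y * tau) := by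
              calc X * Y * tau = X * (tau * tau) * Y * tau := by rw [l_tau_mul_tau, mul_one]
                _ = (X * tau) * (tau * Y * tau) := by group
            rw [h2]
            exact P2.mul_mem hX h1
          · left
            have h1 := l_tau_conj_mem_P2' hY
            have h2 : X * Y = (X * tau) * (tau * (Y * tau) * tau) := by
              calc X * Y = X * (tau * tau) * Y * (tau * tau) := by rw [l_tau_mul_tau, mul_one, mul_one]
                _ = (X * tau) * (tau * (Y * tau) * tau) := by group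
            rw [h2]
            exact P2.mul_mem hX h1
        inv_mem' := by
          rintro X (hX | hX)
          · exact Or.inl (P2.inv_mem hX)
          · right
            have h1 := l_tau_conj_mem_P2' (P2.inv_mem hX)
            have h2 : X⁻¹ * tau = tau * (X * tau)⁻¹ * tau := by
              calc X⁻¹ * tau = (tau * tau) * X⁻¹ * tau := by rw [l_tau_mul_tau, one_mul]
                _ = tau * (tau⁻¹)⁻¹ * X⁻¹ * tau := by rw [inv_inv]
                _ = tau * (X * tau)⁻¹ * tau := by rw [l_tau_inv]; group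
            rw [h2]
            exact h1 }
    have hle : (S2 : Subgroup GL2) ≤ T := by
      unfold S2
      rw [sup_le_iff]
      refine ⟨fun Y hY => Or.inl hY, ?_⟩
      rw [Subgroup.zpowers_le]
      right
      show tau * tau ∈ P2
      rw [l_tau_mul_tau]
      exact P2.one_mem
    exact hle hX
  · rintro (h | h)
    · exact (le_sup_left : P2 ≤ S2) h
    · have h1 : X * tau ∈ (S2 : Subgroup GL2) := (le_sup_left : P2 ≤ S2) h
      have h2 : (tau : GL2) ∈ S2 := (le_sup_right : Subgroup.zpowers tau ≤ S2) (Subgroup.mem_zpowers tau)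
      have h3 : X = (X * tau) * tau := by rw [mul_assoc, l_tau_mul_tau, mul_one]
      rw [h3]
      exact S2.mul_mem h1 h2

theorem l_isPGroup_S2 : IsPGroup 2 (S2 : Subgroup GL2) := by
  intro X
  have hX := X.2
  rcases (l_mem_S2_iff (X : GL2)).1 hX with h | h
  · obtain ⟨_, m, hm⟩ := (mem_P2_iff _).1 h
    exact ⟨m, Subtype.ext (by rw [Subgroup.coe_pow, hm]; rfl)⟩
  · -- `X = M * tau` with `M ∈ P2`; `X² = M * (tau M tau) ∈ P2`
    have h1 := l_tau_conj_mem_P2' h
    have h2 : (X : GL2) ^ 2 = ((X : GL2) * tau) * (tau * ((X : GL2) * tau) * tau) := by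
      rw [pow_two]
      calc (X : GL2) * (X : GL2) = (X : GL2) * (tau * tau) * (X : GL2) * (tau * tau) := by
            rw [l_tau_mul_tau, mul_one, mul_one]
        _ = ((X : GL2) * tau) * (tau * ((X : GL2) * tau) * tau) := by group
    have h3 : (X : GL2) ^ 2 ∈ P2 := by rw [h2]; exact P2.mul_mem h h1
    obtain ⟨_, m, hm⟩ := (mem_P2_iff _).1 h3
    refine ⟨m + 1, Subtype.ext ?_⟩
    rw [Subgroup.coe_pow, pow_succ', pow_mul, hm]
    rfl

theorem l_isPGroup_S3 : IsPGroup 2 (S3 : Subgroup SL3) := by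
  unfold S3
  exact l_isPGroup_S2.map iota

/-! ### the unitary statements -/

theorem mem_S2U_iff (hodd : q % 2 = 1) (X : GL2) :
    X ∈ S2U q ↔ X ∈ P2U q ∨ X * tau ∈ P2U q := by
  have htau : (tau : GL2) ∈ U2 q := tau_mem_U2 hodd
  have hU : X * tau ∈ U2 q ↔ X ∈ U2 q := by
    constructor
    · intro h
      have := (U2 q).mul_mem h htau
      rwa [mul_assoc, l_tau_mul_tau, mul_one] at this
    · intro h
      exact (U2 q).mul_mem h htau
  unfold S2U P2U
  rw [Subgroup.mem_inf, Subgroup.mem_inf, Subgroup.mem_inf, l_mem_S2_iff, hU]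
  tauto

theorem isPGroup_S3U : IsPGroup 2 (S3U q : Subgroup ↥(Cfsg.SU 3 K q)) := by
  unfold S3U
  exact l_isPGroup_S3.comap_subtype

theorem mem_S3U_iff' (g : ↥(Cfsg.SU 3 K q)) :
    g ∈ S3U q ↔ ∃ X : GL2, X ∈ S2U q ∧ iota X = (g : SL3) := by
  rw [mem_S3U_iff]
  unfold S3
  rw [Subgroup.mem_map]
  constructor
  · rintro ⟨X, hX, hXg⟩
    refine ⟨X, ?_, hXg⟩
    unfold S2U
    refine Subgroup.mem_inf.2 ⟨hX, ?_⟩
    rw [mem_U2_iff, hXg]
    exact g.2
  · rintro ⟨X, hX, hXg⟩
    exact ⟨X, (Subgroup.mem_inf.1 hX).1, hXg⟩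

end Cfsg.Agent.Helper77.Psu3
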