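import Mathlib
import Cfsg.Agent.Lib.Helper74.TU_LUC

/-!
# RJ project (S2279), the pure-algebra block (F): `pow_mem_L`, `Mult_closed`, `mult_path`,
`lam_mem_Mult`, `field_fill` (helper35 server, statements verbatim; `Mult` restated here since it only
lives in the stub file).
-/

set_option autoImplicit false

namespace Cfsg.Agent.Helper77.RJ

variable {F : Type*} [Field F] {m : ℕ}

/-- the multiplier set -/
def Mult (m : ℕ) (L : ℕ → AddSubgroup F) : Set F :=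
  {r | ∀ d, d ≤ m + 1 → ∀ x ∈ L d, r * x ∈ L d}

theorem h77_iter (lam : F) (L : ℕ → AddSubgroup F)
    (h2 : ∀ d, d ≤ m → ∀ x ∈ L d, lam * x ∈ L (d + 1)) (j : ℕ) :
    ∀ d, d + j ≤ m + 1 → ∀ x ∈ L d, lam ^ j * x ∈ L (d + j) := by
  induction j with
  | zero => intro d _ x hx; simpa using hx
  | succ j ih =>
    intro d hd x hx
    have h := ih d (by omega) x hx
    have h' := h2 (d + j) (by omega) _ h
    have e : lam ^ (j + 1) * x = lam * (lam ^ j * x) := by ring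
    rw [e]
    exact h'

/-- (F1) induction with `h1`, `h2`. -/
theorem pow_mem_L (lam : F) (L : ℕ → AddSubgroup F) (h1 : lam ^ 3 ∈ L 2)
    (h2 : ∀ d, d ≤ m → ∀ x ∈ L d, lam * x ∈ L (d + 1)) (d : ℕ) (hd2 : 2 ≤ d) (hd : d ≤ m + 1) :
    lam ^ (d + 1) ∈ L d := by
  revert hd
  induction d, hd2 using Nat.le_induction with
  | base => intro _; exact h1
  | succ d hd2 ih =>
    intro hd
    have h := ih (by omega)
    have h' := h2 d (by omega) _ h
    have e : lam ^ (d + 1 + 1) = lam * lam ^ (d + 1) := by ring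
    rw [e]; exact h'

/-- (F2) `Mult` is closed under `0, 1, +, -, *`, natural numbers, and inverses. -/
theorem Mult_closed [Fintype F] (L : ℕ → AddSubgroup F) :
    (1 : F) ∈ Mult m L ∧ (∀ r s, r ∈ Mult m L → s ∈ Mult m L → r + s ∈ Mult m L) ∧
    (∀ r s, r ∈ Mult m L → s ∈ Mult m L → r * s ∈ Mult m L) ∧
    (∀ r, r ∈ Mult m L → -r ∈ Mult m L) ∧ (∀ k : ℕ, (k : F) ∈ Mult m L) ∧
    (∀ r, r ∈ Mult m L → r⁻¹ ∈ Mult m L) := by
  have h1 : (1 : F) ∈ Mult m L := fun d _ x hx => by simpa using hx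
  have h0 : (0 : F) ∈ Mult m L := fun d _ x _ => by simp
  have hadd : ∀ r s, r ∈ Mult m L → s ∈ Mult m L → r + s ∈ Mult m L := by
    intro r s hr hs d hd x hx
    rw [add_mul]
    exact (L d).add_mem (hr d hd x hx) (hs d hd x hx)
  have hmul : ∀ r s, r ∈ Mult m L → s ∈ Mult m L → r * s ∈ Mult m L := by
    intro r s hr hs d hd x hx
    rw [mul_assoc]
    exact hr d hd _ (hs d hd x hx)
  have hneg : ∀ r, r ∈ Mult m L → -r ∈ Mult m L := by
    intro r hr d hd x hx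
    rw [neg_mul]
    exact (L d).neg_mem (hr d hd x hx)
  have hnat : ∀ k : ℕ, (k : F) ∈ Mult m L := by
    intro k
    induction k with
    | zero => simpa using h0
    | succ k ih => rw [Nat.cast_succ]; exact hadd _ _ ih h1
  have hpow : ∀ r, r ∈ Mult m L → ∀ k : ℕ, r ^ k ∈ Mult m L := by
    intro r hr k
    induction k with
    | zero => simpa using h1
    | succ k ih => rw [pow_succ]; exact hmul _ _ ih hr
  refine ⟨h1, hadd, hmul, hneg, hnat, ?_⟩
  intro r hr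
  by_cases h : r = 0
  · subst h; simpa using h0
  · have hq : r ^ (Fintype.card F - 1) = 1 := FiniteField.pow_card_sub_one_eq_one r h
    have hc : 2 ≤ Fintype.card F := Fintype.one_lt_card
    have e : r ^ (Fintype.card F - 2) * r = 1 := by
      rw [← pow_succ]
      have h' : Fintype.card F - 2 + 1 = Fintype.card F - 1 := by omega
      rw [h']; exact hq
    have e' : r⁻¹ = r ^ (Fintype.card F - 2) := (eq_inv_of_mul_eq_one_left e).symm
    rw [e']; exact hpow r hr _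

/-- (F3) -/
theorem mult_path (lam : F) (L : ℕ → AddSubgroup F)
    (h2 : ∀ d, d ≤ m → ∀ x ∈ L d, lam * x ∈ L (d + 1))
    (h3 : ∀ d d' r, d ≤ m + 1 → d' ≤ m + 1 → m + 2 ≤ r → r ≤ d + d' → ∀ x ∈ L d, ∀ y ∈ L d',
      (Nat.choose r (m + 2) : F) * x * y ∈ L (d + d' - r))
    (t : ℕ) (ht : t ≤ m) (y₀ : F) (hy₀ : y₀ ∈ L (m + 1)) :
    (Nat.choose (m + 2 + t) (m + 2) : F) * lam ^ (t + 1) * y₀ ∈ Mult m L := by
  intro d hd x hx
  obtain ⟨j, hj⟩ : ∃ j, j = t + 1 - d := ⟨_, rfl⟩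
  have hA : lam ^ j * x ∈ L (d + j) := h77_iter lam L h2 j d (by omega) x hx
  have hB := h3 (d + j) (m + 1) (m + 2 + t) (by omega) le_rfl (by omega) (by omega) _ hA _ hy₀
  have hidx : d + j + (m + 1) - (m + 2 + t) + (t + 1 - j) = d := by omega
  have hC := h77_iter lam L h2 (t + 1 - j) (d + j + (m + 1) - (m + 2 + t)) (by omega) _ hB
  rw [hidx] at hC
  have e : (Nat.choose (m + 2 + t) (m + 2) : F) * lam ^ (t + 1) * y₀ * x =
      lam ^ (t + 1 - j) * ((Nat.choose (m + 2 + t) (m + 2) : F) * (lam ^ j * x) * y₀) := by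
    have h' : lam ^ (t + 1) = lam ^ (t + 1 - j) * lam ^ j := by
      rw [← pow_add]; congr 1; omega
    rw [h']; ring
  rw [e]; exact hC

/-- (F5) -/
theorem lam_mem_Mult [Fintype F] (hm : 1 ≤ m) (lam : F) (hlam : lam ≠ 0) (L : ℕ → AddSubgroup F)
    (h1 : lam ^ 3 ∈ L 2) (h2 : ∀ d, d ≤ m → ∀ x ∈ L d, lam * x ∈ L (d + 1))
    (h3 : ∀ d d' r, d ≤ m + 1 → d' ≤ m + 1 → m + 2 ≤ r → r ≤ d + d' → ∀ x ∈ L d, ∀ y ∈ L d',
      (Nat.choose r (m + 2) : F) * x * y ∈ L (d + d' - r)) :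
    lam ∈ Mult m L := by
  obtain ⟨hM1, hMadd, hMmul, hMneg, hMnat, hMinv⟩ := Mult_closed (m := m) L
  have hpow : ∀ r, r ∈ Mult m L → ∀ k : ℕ, r ^ k ∈ Mult m L := by
    intro r hr k
    induction k with
    | zero => simpa using hM1
    | succ k ih => rw [pow_succ]; exact hMmul _ _ ih hr
  obtain ⟨p, hp⟩ : ∃ p, p = ringChar F := ⟨_, rfl⟩
  have : CharP F p := by rw [hp]; exact ringChar.charP F
  have hpp : p.Prime := CharP.char_is_prime F p
  have : Fact p.Prime := ⟨hpp⟩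
  have hy₀ : lam ^ (m + 2) ∈ L (m + 1) := pow_mem_L lam L h1 h2 (m + 1) (by omega) le_rfl
  have hn : lam ^ (m + 3) ∈ Mult m L := by
    have h := mult_path lam L h2 h3 0 (Nat.zero_le m) _ hy₀
    have e : ((Nat.choose (m + 2 + 0) (m + 2) : ℕ) : F) * lam ^ (0 + 1) * lam ^ (m + 2)
        = lam ^ (m + 3) := by
      rw [Nat.add_zero, Nat.choose_self, Nat.cast_one, one_mul, zero_add, pow_one, ← pow_succ']
    rw [← e]; exact h
  have hpa : ∃ a : ℕ, lam ^ (p ^ a) ∈ Mult m L := by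
    obtain ⟨a, ha | ⟨ha1, ha2⟩⟩ := Cfsg.Agent.Helper74.TU.exists_offset p (m + 3) (by omega)
    · exact ⟨a, by rw [← ha]; exact hn⟩
    · refine ⟨a, ?_⟩
      have e3 : m + 3 - 1 = m + 2 := by omega
      rw [e3] at ha2
      have hC : ((Nat.choose (m + 2 + p ^ a) (m + 2) : ℕ) : F) ≠ 0 := by
        intro h0
        exact ha2 ((CharP.cast_eq_zero_iff F p _).mp h0)
      have h := mult_path lam L h2 h3 (p ^ a) (by omega) _ hy₀
      have hCi := hMinv _ (hMnat (Nat.choose (m + 2 + p ^ a) (m + 2)))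
      have hni := hMinv _ hn
      have h' := hMmul _ _ hni (hMmul _ _ hCi h)
      have hl : lam ^ (m + 3) ≠ 0 := pow_ne_zero _ hlam
      have e : (lam ^ (m + 3))⁻¹ * (((Nat.choose (m + 2 + p ^ a) (m + 2) : ℕ) : F)⁻¹ *
          (((Nat.choose (m + 2 + p ^ a) (m + 2) : ℕ) : F) * lam ^ (p ^ a + 1) * lam ^ (m + 2)))
          = lam ^ (p ^ a) := by
        field_simp
        ring
      rw [← e]; exact h'
  obtain ⟨a, ha⟩ := hpa
  have hpq : p ∣ Fintype.card F := (CharP.cast_eq_zero_iff F p _).mp (Nat.cast_card_eq_zero F)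
  obtain ⟨k, hk⟩ := pow_dvd_pow_of_dvd hpq a
  have hfin : lam = (lam ^ (p ^ a)) ^ k := by
    rw [← pow_mul, ← hk, FiniteField.pow_card_pow]
  rw [hfin]; exact hpow _ ha k

/-- (F6) -/
theorem field_fill [Fintype F] (hm : 1 ≤ m) (lam : F) (hlam : lam ≠ 0)
    (hgen : ∀ a : F, a ≠ 0 → ∃ k : ℕ, a = lam ^ k) (L : ℕ → AddSubgroup F)
    (h1 : lam ^ 3 ∈ L 2) (h2 : ∀ d, d ≤ m → ∀ x ∈ L d, lam * x ∈ L (d + 1))
    (h3 : ∀ d d' r, d ≤ m + 1 → d' ≤ m + 1 → m + 2 ≤ r → r ≤ d + d' → ∀ x ∈ L d, ∀ y ∈ L d',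
      (Nat.choose r (m + 2) : F) * x * y ∈ L (d + d' - r)) :
    ∀ d, d ≤ m + 1 → L d = ⊤ := by
  obtain ⟨hM1, hMadd, hMmul, hMneg, hMnat, hMinv⟩ := Mult_closed (m := m) L
  have hlamM := lam_mem_Mult hm lam hlam L h1 h2 h3
  have hpow : ∀ k : ℕ, lam ^ k ∈ Mult m L := by
    intro k
    induction k with
    | zero => simpa using hM1
    | succ k ih => rw [pow_succ]; exact hMmul _ _ ih hlamM
  have hall : ∀ a : F, a ∈ Mult m L := by
    intro a
    by_cases ha : a = 0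
    · subst ha; simpa using hMnat 0
    · obtain ⟨k, rfl⟩ := hgen a ha
      exact hpow k
  have hy₀ : lam ^ (m + 2) ∈ L (m + 1) := pow_mem_L lam L h1 h2 (m + 1) (by omega) le_rfl
  -- a nonzero element in each `L d`
  have hx1 : ((Nat.choose (m + 2) (m + 2) : ℕ) : F) * lam ^ 3 * lam ^ (m + 2) ∈ L 1 := by
    have h := h3 2 (m + 1) (m + 2) (by omega) le_rfl le_rfl (by omega) _ h1 _ hy₀
    have e : 2 + (m + 1) - (m + 2) = 1 := by omega
    rw [e] at h; exact h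
  have hx0 : ((Nat.choose (m + 2) (m + 2) : ℕ) : F) *
      (((Nat.choose (m + 2) (m + 2) : ℕ) : F) * lam ^ 3 * lam ^ (m + 2)) * lam ^ (m + 2) ∈ L 0 := by
    have h := h3 1 (m + 1) (m + 2) (by omega) le_rfl le_rfl (by omega) _ hx1 _ hy₀
    have e : 1 + (m + 1) - (m + 2) = 0 := by omega
    rw [e] at h; exact h
  have hne : ∀ d, d ≤ m + 1 → ∃ x₀ : F, x₀ ≠ 0 ∧ x₀ ∈ L d := by
    intro d hd
    rcases Nat.lt_or_ge d 2 with hlt | hge
    · interval_cases d
      · refine ⟨_, ?_, hx0⟩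
        rw [Nat.choose_self, Nat.cast_one]
        simp [hlam]
      · refine ⟨_, ?_, hx1⟩
        rw [Nat.choose_self, Nat.cast_one]
        simp [hlam]
    · exact ⟨_, pow_ne_zero _ hlam, pow_mem_L lam L h1 h2 d hge hd⟩
  intro d hd
  obtain ⟨x₀, hx₀, hx₀L⟩ := hne d hd
  rw [eq_top_iff]
  intro y _
  have h := hall (y * x₀⁻¹) d hd x₀ hx₀L
  have e : y * x₀⁻¹ * x₀ = y := by field_simp
  rw [e] at h; exact h

end Cfsg.Agent.Helper77.RJ
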