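import Mathlib

/-!
# RMK (TRANS) for helper80's S4581 server: extension of a linear character by transfer
(pure Mathlib)
-/

set_option autoImplicit false

namespace Cfsg.Agent.Helper77.RMK

universe u

/-- the sum of the minimal periods over the orbits of `zpowers g` on `G ⧸ H` is the index -/
theorem h77_sum_minimalPeriod {G : Type*} [Group G] [Finite G] (H : Subgroup G) (g : G)
    [Fintype (Quotient (MulAction.orbitRel (↥(Subgroup.zpowers g)) (G ⧸ H)))] :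
    ∑ q : Quotient (MulAction.orbitRel (↥(Subgroup.zpowers g)) (G ⧸ H)),
      Function.minimalPeriod (fun x => g • x) q.out = H.index := by
  classical
  rw [Subgroup.index_eq_card,
    Nat.card_congr (MulAction.selfEquivSigmaOrbits (↥(Subgroup.zpowers g)) (G ⧸ H)),
    Nat.card_sigma]
  refine Finset.sum_congr rfl (fun q _ => ?_)
  rw [@MulAction.minimalPeriod_eq_card _ _ _ g _ q.out (Fintype.ofFinite _), Fintype.card_eq_nat_card]
  rfl

/-- (TRANS) transfer: a linear character of `P` whose restriction to `M` is `T`-invariant of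
order at most two extends from `M` to `T` when `|T : P|` is odd -/
theorem exists_hom_extending {G : Type u} [Group G] [Finite G] (M : Subgroup G) [hM : M.Normal]
    (P T : Subgroup G) (hMP : M ≤ P) (hPT : P ≤ T) (hodd : Odd (P.relIndex T))
    (μ : ↥P →* ℂˣ)
    (hinv : ∀ t ∈ T, ∀ (m : G) (hm : m ∈ M),
      μ ⟨t * m * t⁻¹, hMP (hM.conj_mem m hm t)⟩ = μ ⟨m, hMP hm⟩)
    (hsq : ∀ (m : G) (hm : m ∈ M), μ ⟨m, hMP hm⟩ ^ 2 = 1) :
    ∃ ν : ↥T →* ℂˣ, (∀ (m : G) (hm : m ∈ M), ν ⟨m, hPT (hMP hm)⟩ = μ ⟨m, hMP hm⟩) ∧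
      ((∀ x : ↥P, μ x ^ 2 = 1) → ∀ t : ↥T, ν t ^ 2 = 1) := by
  classical
  set H : Subgroup ↥T := P.subgroupOf T with hH
  have hfi : H.FiniteIndex := inferInstance
  let e : ↥H ≃* ↥P := Subgroup.subgroupOfEquivOfLe hPT
  let ϕ : ↥H →* ℂˣ := μ.comp e.toMonoidHom
  have hϕ : ∀ (x : ↥H) (hx : ((x : ↥T) : G) ∈ P), ϕ x = μ ⟨((x : ↥T) : G), hx⟩ := by
    intro x hx
    change μ (e x) = _
    congr 1
  have hindex : H.index = P.relIndex T := rfl
  refine ⟨MonoidHom.transfer ϕ, ?_, ?_⟩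
  · intro m hm
    set m' : ↥T := ⟨m, hPT (hMP hm)⟩ with hm'
    have : Fintype (Quotient (MulAction.orbitRel (↥(Subgroup.zpowers m')) (↥T ⧸ H))) :=
      Fintype.ofFinite _
    rw [MonoidHom.transfer_eq_prod_quotient_orbitRel_zpowers_quot]
    have hfac : ∀ (g₀ : ↥T) (k : ℕ) (hk : g₀⁻¹ * m' ^ k * g₀ ∈ H),
        ϕ ⟨g₀⁻¹ * m' ^ k * g₀, hk⟩ = μ ⟨m, hMP hm⟩ ^ k := by
      intro g₀ k hk
      have hxP : (((⟨g₀⁻¹ * m' ^ k * g₀, hk⟩ : ↥H) : ↥T) : G) ∈ P := hk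
      rw [hϕ _ hxP]
      have h1 := hinv ((g₀ : G)⁻¹) (T.inv_mem g₀.2) (m ^ k) (M.pow_mem hm k)
      have h2 : (⟨(((⟨g₀⁻¹ * m' ^ k * g₀, hk⟩ : ↥H) : ↥T) : G), hxP⟩ : ↥P)
          = ⟨(g₀ : G)⁻¹ * m ^ k * ((g₀ : G)⁻¹)⁻¹,
              hMP (hM.conj_mem (m ^ k) (M.pow_mem hm k) ((g₀ : G)⁻¹))⟩ := by
        apply Subtype.ext
        change ((g₀⁻¹ * m' ^ k * g₀ : ↥T) : G) = (g₀ : G)⁻¹ * m ^ k * ((g₀ : G)⁻¹)⁻¹
        rw [inv_inv]
        rfl
      rw [h2, h1]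
      have h3 : (⟨m ^ k, hMP (M.pow_mem hm k)⟩ : ↥P) = (⟨m, hMP hm⟩ : ↥P) ^ k :=
        Subtype.ext rfl
      rw [h3, map_pow]
    rw [Finset.prod_congr rfl (fun q _ => hfac _ _ _), Finset.prod_pow_eq_pow_sum,
      h77_sum_minimalPeriod, hindex]
    obtain ⟨k, hk⟩ := hodd
    rw [hk, pow_succ, pow_mul, hsq m hm, one_pow, one_mul]
  · intro hall t
    have : Fintype (Quotient (MulAction.orbitRel (↥(Subgroup.zpowers t)) (↥T ⧸ H))) :=
      Fintype.ofFinite _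
    rw [MonoidHom.transfer_eq_prod_quotient_orbitRel_zpowers_quot, ← Finset.prod_pow]
    apply Finset.prod_eq_one
    intro q _
    exact hall _

end Cfsg.Agent.Helper77.RMK
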