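import Mathlib
import Cfsg.Agent.Lib.Helper14.SPIDefs

/-!
# SPI (ADJ) for helper14's S5961 server: the Frobenius twist is the adjoint when `i` is even
-/

set_option autoImplicit false

namespace Cfsg.Agent.Helper77.SPI

open Module Polynomial Cfsg.Agent.Helper14.SPI

/-- iterated Frobenius: `g(x)^(q^j) = g(x^(q^j))` -/
theorem h77_aeval_pow_card {F V : Type*} [Field F] [Fintype F] [AddCommGroup V] [Module F V]
    (j : ℕ) (x : V →ₗ[F] V) (g : F[X]) :
    (aeval x g) ^ (Fintype.card F ^ j) = aeval (x ^ (Fintype.card F ^ j)) g := by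
  induction j generalizing x with
  | zero => simp
  | succ j ih =>
    rw [pow_succ, pow_mul, ih, ← map_pow, ← FiniteField.expand_card, expand_aeval, ← pow_mul]

/-- powers of an isometry are isometries -/
theorem h77_isIsom_pow {F V : Type*} [Field F] [AddCommGroup V] [Module F V]
    (B : LinearMap.BilinForm F V) (x : V →ₗ[F] V) (hx : IsIsom B x) (n : ℕ) :
    IsIsom B (x ^ n) := by
  induction n with
  | zero =>
    intro u w
    simp
  | succ n ih =>
    intro u w
    rw [pow_succ, Module.End.mul_apply, Module.End.mul_apply, ih, hx]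

/-- (ADJ) -/
theorem adjoint_frob {F V : Type*} [Field F] [Fintype F] [AddCommGroup V] [Module F V]
    (B : LinearMap.BilinForm F V) (x : V →ₗ[F] V) (hx : IsIsom B x) (r : ℕ) [Fact r.Prime]
    (hrq : ¬ r ∣ Fintype.card F) (hxr : x ^ r = 1)
    (hev : Even (orderOf ((Fintype.card F : ℕ) : ZMod r))) :
    ∃ s : ℕ, 0 < s ∧ ∀ (g : F[X]) (u w : V), B (((aeval x g) ^ s) u) w = B u (aeval x g w) := by
  obtain ⟨k, hk⟩ := hev
  set q := Fintype.card F with hq
  have hqpos : 0 < q := Fintype.card_pos
  set y : ZMod r := ((q : ℕ) : ZMod r) with hy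
  have hy0 : y ≠ 0 := by
    intro h0
    exact hrq ((ZMod.natCast_eq_zero_iff q r).1 h0)
  have hfin : IsOfFinOrder y := by
    rw [isOfFinOrder_iff_pow_eq_one]
    have hr1 : 1 < r := (Fact.out : r.Prime).one_lt
    exact ⟨r - 1, by omega, ZMod.pow_card_sub_one_eq_one hy0⟩
  have hipos : 0 < orderOf y := orderOf_pos_iff.2 hfin
  have hkpos : 0 < k := by omega
  -- `y ^ k = -1`
  have hyk2 : y ^ k * y ^ k = 1 := by
    rw [← pow_add, ← hk, pow_orderOf_eq_one]
  have hyk1 : y ^ k ≠ 1 := by
    intro h1
    have := Nat.le_of_dvd hkpos (orderOf_dvd_of_pow_eq_one h1)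
    omega
  have hykm : y ^ k = -1 := by
    rcases mul_self_eq_one_iff.1 hyk2 with h | h
    · exact absurd h hyk1
    · exact h
  set s := q ^ k with hs
  have hspos : 0 < s := pow_pos hqpos k
  have hdvd : r ∣ s + 1 := by
    rw [← ZMod.natCast_eq_zero_iff]
    have hscast : ((s : ℕ) : ZMod r) = y ^ k := by rw [hs, Nat.cast_pow]
    rw [Nat.cast_add, Nat.cast_one, hscast, hykm, neg_add_cancel]
  -- `x ^ (s + 1) = 1`
  have hxs : x ^ (s + 1) = 1 := by
    obtain ⟨m, hm⟩ := hdvd
    rw [hm, pow_mul, hxr, one_pow]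
  -- monomial case
  have hmono : ∀ (n : ℕ) (u w : V), B (((x ^ s) ^ n) u) w = B u ((x ^ n) w) := by
    intro n u w
    have h1 := h77_isIsom_pow B x hx n (((x ^ s) ^ n) u) w
    have h2 : (x ^ n) (((x ^ s) ^ n) u) = u := by
      rw [← Module.End.mul_apply, ← pow_mul, ← pow_add]
      have : n + s * n = (s + 1) * n := by ring
      rw [this, pow_mul, hxs, one_pow, Module.End.one_apply]
    rw [h2] at h1
    exact h1.symm
  have hmain : ∀ (g : F[X]) (u w : V), B ((aeval (x ^ s) g) u) w = B u (aeval x g w) := by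
    intro g
    induction g using Polynomial.induction_on' with
    | add p q hp hq =>
      intro u w
      rw [map_add, map_add, LinearMap.add_apply, LinearMap.add_apply, map_add,
        LinearMap.add_apply, map_add, hp, hq]
    | monomial n a =>
      intro u w
      rw [aeval_monomial, aeval_monomial, Module.End.mul_apply, Module.End.mul_apply,
        Module.algebraMap_end_apply, Module.algebraMap_end_apply, map_smul, LinearMap.smul_apply,
        map_smul, hmono]
  refine ⟨s, hspos, ?_⟩
  intro g u w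
  rw [hs, h77_aeval_pow_card k x g]
  exact hmain g u w

end Cfsg.Agent.Helper77.SPI
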