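import Mathlib
import Cfsg.Agent.Lib.Helper14.SPIDefs
import Cfsg.Agent.Lib.Helper66.SPIORTHC
import Cfsg.Agent.Lib.Helper62.SPIJOIN

/-!
# SPI (IND) core for helper14's S5961 server: block decomposition by strong induction, with the
structure theorem (ST) as a hypothesis
-/

set_option autoImplicit false

namespace Cfsg.Agent.Helper77.SPI

open Module Polynomial Cfsg.Agent.Helper14.SPI

/-- `cOf q r` is positive when `r ∤ q` -/
theorem h77_cOf_pos {q r : ℕ} [Fact r.Prime] (h : ¬ r ∣ q) : 0 < cOf q r := by
  have hy0 : ((q : ℕ) : ZMod r) ≠ 0 := by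
    intro h0
    exact h ((ZMod.natCast_eq_zero_iff q r).1 h0)
  have hfin : IsOfFinOrder ((q : ℕ) : ZMod r) := by
    rw [isOfFinOrder_iff_pow_eq_one]
    have hr1 : 1 < r := (Fact.out : r.Prime).one_lt
    exact ⟨r - 1, by omega, ZMod.pow_card_sub_one_eq_one hy0⟩
  have hipos : 0 < orderOf ((q : ℕ) : ZMod r) := orderOf_pos_iff.2 hfin
  unfold cOf
  split_ifs
  · exact hipos
  · omega

/-- reindexing an orthogonal family along an equivalence -/
theorem h77_isOrthFam_comp {F V : Type*} [Field F] [AddCommGroup V] [Module F V] {K K' : Type*}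
    (B : LinearMap.BilinForm F V) (R : Submodule F V) (W : K → Submodule F V)
    (hW : IsOrthFam B R W) (e : K' ≃ K) : IsOrthFam B R (fun k => W (e k)) where
  indep := hW.indep.comp e.injective
  sup := by
    rw [← hW.sup]
    exact Equiv.iSup_comp (g := W) e
  nondeg := fun k => hW.nondeg (e k)
  orth := fun k k' hkk' => hW.orth (e k) (e k') (fun h => hkk' (e.injective h))

/-- the one-member family -/
theorem h77_isOrthFam_single {F V : Type*} [Field F] [AddCommGroup V] [Module F V]
    (B : LinearMap.BilinForm F V) (W : Submodule F V) (hW : NondegOn B W) :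
    IsOrthFam B W (fun _ : Unit => W) where
  indep := by
    intro i
    have : (⨆ (j : Unit) (_ : j ≠ i), W) = ⊥ := by
      apply le_antisymm _ bot_le
      apply iSup_le
      intro j
      apply iSup_le
      intro hj
      exact absurd (Subsingleton.elim j i) hj
    rw [this]
    exact disjoint_bot_right
  sup := by
    apply le_antisymm
    · exact iSup_le (fun _ => le_rfl)
    · exact le_iSup (fun _ : Unit => W) ()
  nondeg := fun _ => hW
  orth := fun k k' hkk' => absurd (Subsingleton.elim k k') hkk'

/-- the empty family -/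
theorem h77_isOrthFam_empty {F V : Type*} [Field F] [AddCommGroup V] [Module F V]
    (B : LinearMap.BilinForm F V) (W : Fin 0 → Submodule F V) : IsOrthFam B ⊥ W where
  indep := fun i => i.elim0
  sup := by
    apply le_antisymm _ bot_le
    exact iSup_le (fun i => i.elim0)
  nondeg := fun i => i.elim0
  orth := fun i => i.elim0

/-- (IND) core: (ST) is the hypothesis `hST` -/
theorem h77_block_decomp_of {F V : Type*} [Field F] [Fintype F] [AddCommGroup V] [Module F V]
    [FiniteDimensional F V] (B : LinearMap.BilinForm F V) (hB : B.IsAlt)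
    (x : V →ₗ[F] V) (hx : IsIsom B x) (r : ℕ) [Fact r.Prime]
    (hrq : ¬ r ∣ Fintype.card F) (hxr : x ^ r = 1)
    (hST : ∀ R : Submodule F V, R.map x ≤ R → NondegOn B R → (∀ v ∈ R, x v = v → v = 0) →
      R ≠ ⊥ → ∃ W : Submodule F V, W ≤ R ∧ W.map x ≤ W ∧ NondegOn B W ∧
        finrank F W = cOf (Fintype.card F) r)
    (R : Submodule F V) (hRx : R.map x ≤ R) (hRnd : NondegOn B R)
    (hfpf : ∀ v ∈ R, x v = v → v = 0) :
    ∃ (m : ℕ) (W : Fin m → Submodule F V), IsOrthFam B R W ∧ (∀ k, (W k).map x ≤ W k) ∧
      (∀ k, finrank F (W k) = cOf (Fintype.card F) r) := by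
  have hcpos : 0 < cOf (Fintype.card F) r := h77_cOf_pos hrq
  have hr1 : 1 ≤ r := (Fact.out : r.Prime).one_lt.le
  induction hn : finrank F R using Nat.strong_induction_on generalizing R with
  | _ n ih =>
    by_cases hR0 : R = ⊥
    · subst hR0
      exact ⟨0, fun i => i.elim0, h77_isOrthFam_empty B _, fun i => i.elim0, fun i => i.elim0⟩
    · obtain ⟨W₀, hW₀R, hW₀x, hW₀nd, hW₀c⟩ := hST R hRx hRnd hfpf hR0
      obtain ⟨hinf, hsup, hR'nd⟩ :=
        Cfsg.Agent.Helper66.SPI.orth_compl_on B hB R W₀ hW₀R hW₀nd hRnd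
      set R' : Submodule F V := R ⊓ B.orthogonal W₀ with hR'
      -- `x` is onto `W₀`
      have hpowW : ∀ (k : ℕ), ∀ w ∈ W₀, (x ^ k) w ∈ W₀ := by
        intro k
        induction k with
        | zero =>
          intro w hw
          simpa using hw
        | succ k ihk =>
          intro w hw
          rw [pow_succ', Module.End.mul_apply]
          exact hW₀x (Submodule.mem_map_of_mem (ihk w hw))
      have hsurj : ∀ w ∈ W₀, ∃ w' ∈ W₀, x w' = w := by
        intro w hw
        refine ⟨(x ^ (r - 1)) w, hpowW (r - 1) w hw, ?_⟩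
        rw [← Module.End.mul_apply, ← pow_succ', Nat.sub_add_cancel hr1, hxr,
          Module.End.one_apply]
      have hR'x : R'.map x ≤ R' := by
        rintro _ ⟨v, hv, rfl⟩
        have hv' := Submodule.mem_inf.1 hv
        refine Submodule.mem_inf.2 ⟨hRx (Submodule.mem_map_of_mem hv'.1), ?_⟩
        rw [LinearMap.BilinForm.mem_orthogonal_iff]
        intro w hw
        obtain ⟨w', hw', rfl⟩ := hsurj w hw
        rw [hx]
        exact (LinearMap.BilinForm.mem_orthogonal_iff.1 hv'.2) w' hw'
      have hR'fpf : ∀ v ∈ R', x v = v → v = 0 :=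
        fun v hv => hfpf v (Submodule.mem_inf.1 hv).1
      have hdim : finrank F W₀ + finrank F R' = finrank F R := by
        have h1 := Submodule.finrank_sup_add_finrank_inf_eq W₀ R'
        rw [hsup, hinf, finrank_bot, add_zero] at h1
        exact h1.symm
      have hlt : finrank F R' < n := by
        rw [← hn, ← hdim, hW₀c]
        omega
      obtain ⟨m, W', hW'fam, hW'x, hW'c⟩ :=
        ih (finrank F R') hlt R' hR'x hR'nd hR'fpf rfl
      have hjoin := Cfsg.Agent.Helper62.SPI.join_fam B hB W₀ R' R hinf hsup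
        (fun u hu w hw =>
          (LinearMap.BilinForm.mem_orthogonal_iff.1 (Submodule.mem_inf.1 hw).2) u hu)
        (fun _ : Unit => W₀) W' (h77_isOrthFam_single B W₀ hW₀nd) hW'fam
      let e : Fin (m + 1) ≃ Unit ⊕ Fin m :=
        (Fintype.equivFinOfCardEq (by simp [add_comm])).symm
      refine ⟨m + 1, fun k => Sum.elim (fun _ : Unit => W₀) W' (e k),
        h77_isOrthFam_comp B R _ hjoin e, ?_, ?_⟩
      · intro k
        change Submodule.map x (Sum.elim (fun _ : Unit => W₀) W' (e k)) ≤
          Sum.elim (fun _ : Unit => W₀) W' (e k)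
        generalize e k = z
        rcases z with u | j
        · exact hW₀x
        · exact hW'x j
      · intro k
        change finrank F ↥(Sum.elim (fun _ : Unit => W₀) W' (e k)) = cOf (Fintype.card F) r
        generalize e k = z
        rcases z with u | j
        · exact hW₀c
        · exact hW'c j

end Cfsg.Agent.Helper77.SPI
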