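import Mathlib
import Cfsg.Agent.Lib.Helper2.SR0
import Cfsg.Agent.Lib.Helper79.SRC4

/-! SR server (helper2, S2281): piece (C5) `u_bf` (parallel seat; uses helper79's C2 C3 C4 helpers). -/

set_option autoImplicit false

namespace Cfsg.Agent.Helper77.SR

open Matrix Cfsg Cfsg.Agent.Helper13 Cfsg.Agent.Helper84.SpRoot Cfsg.Agent.Helper5.SpAut
open Cfsg.Agent.Helper2.SR Cfsg.Agent.Helper79.SR

section C
variable {F : Type*} [Field F] {m : ℕ}

theorem h77_jA_val : ((jA : Fin (m + 2)) : ℕ) = m := rfl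
theorem h77_jB_val : ((jB : Fin (m + 2)) : ℕ) = m + 1 := rfl

theorem h77_jA_ne_jB : (jA : Fin (m + 2)) ≠ jB := by
  intro h
  have := congrArg Fin.val h
  rw [h77_jA_val, h77_jB_val] at this
  omega

theorem h77_eq_jA (i : Fin (m + 2)) : i = jA ↔ i.val = m := by
  rw [Fin.ext_iff, h77_jA_val]

theorem h77_eq_jB (i : Fin (m + 2)) : i = jB ↔ i.val = m + 1 := by
  rw [Fin.ext_iff, h77_jB_val]

theorem h77_val_lt (i : Fin (m + 2)) (h1 : i ≠ jA) (h2 : i ≠ jB) : i.val < m := by
  have hi := i.isLt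
  have h1' : i.val ≠ m := fun h => h1 ((h77_eq_jA i).2 h)
  have h2' : i.val ≠ m + 1 := fun h => h2 ((h77_eq_jB i).2 h)
  omega

theorem h77_Pinv_jA (i : Fin (m + 2)) :
    Pinv m F jA i = (if i = jA then 1 else 0) - (if i = jB then 1 else 0) := by
  simp only [Pinv, Matrix.of_apply]
  by_cases h1 : i = jA
  · subst h1
    rw [if_pos (le_refl _), if_pos rfl, if_neg h77_jA_ne_jB]
    simp
  · by_cases h2 : i = jB
    · subst h2
      have hle : ((jA : Fin (m + 2)) : ℕ) ≤ ((jB : Fin (m + 2)) : ℕ) := by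
        rw [h77_jA_val, h77_jB_val]; omega
      have hsub : ((jB : Fin (m + 2)) : ℕ) - ((jA : Fin (m + 2)) : ℕ) = 1 := by
        rw [h77_jA_val, h77_jB_val]; omega
      rw [if_pos hle, if_neg h1, if_pos rfl, hsub]
      simp
    · have hlt := h77_val_lt i h1 h2
      have hnle : ¬ ((jA : Fin (m + 2)) : ℕ) ≤ i.val := by
        rw [h77_jA_val]; omega
      rw [if_neg hnle, if_neg h1, if_neg h2]
      simp

theorem h77_Pinv_jB (i : Fin (m + 2)) :
    Pinv m F jB i = (if i = jB then 1 else 0) := by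
  simp only [Pinv, Matrix.of_apply]
  by_cases h2 : i = jB
  · subst h2
    rw [if_pos (le_refl _), if_pos rfl]
    simp
  · have hi := i.isLt
    have h2' : i.val ≠ m + 1 := fun h => h2 ((h77_eq_jB i).2 h)
    have hnle : ¬ ((jB : Fin (m + 2)) : ℕ) ≤ i.val := by
      rw [h77_jB_val]; omega
    rw [if_neg hnle, if_neg h2]

theorem h77_Pm_jB (i : Fin (m + 2)) :
    Pm m F i jB = (if i = jB then 1 else 0) + (if i = jA then 1 else 0) := by
  rw [h79_Pm_apply]
  congr 1
  by_cases h : i = jA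
  · have : i.val + 1 = ((jB : Fin (m + 2)) : ℕ) := by
      rw [h77_jB_val, (h77_eq_jA i).1 h]
    rw [if_pos this, if_pos h]
  · have : ¬ i.val + 1 = ((jB : Fin (m + 2)) : ℕ) := by
      rw [h77_jB_val]
      intro h'
      exact h ((h77_eq_jA i).2 (by omega))
    rw [if_neg this, if_neg h]

theorem h77_Pm_jA (i : Fin (m + 2)) :
    Pm m F jA i = (if i = jA then 1 else 0) + (if i = jB then 1 else 0) := by
  rw [h79_Pm_apply]
  congr 1
  · by_cases h : i = jA
    · rw [if_pos h.symm, if_pos h]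
    · rw [if_neg (fun h' => h h'.symm), if_neg h]
  · by_cases h : i = jB
    · have : ((jA : Fin (m + 2)) : ℕ) + 1 = i.val := by
        rw [h77_jA_val, (h77_eq_jB i).1 h]
      rw [if_pos this, if_pos h]
    · have : ¬ ((jA : Fin (m + 2)) : ℕ) + 1 = i.val := by
        rw [h77_jA_val]
        intro h'
        exact h ((h77_eq_jB i).2 (by omega))
      rw [if_neg this, if_neg h]

/-- (C5) uses C2 C3 -/
theorem u_bf (s : F) :
    (uEl (m := m) s).val *ᵥ bf jA = bf jA - bf jB ∧
    (uEl (m := m) s).val *ᵥ bf jB = bf jB + s • (be jB + be jA) ∧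
    ((uEl (m := m) s)⁻¹).val *ᵥ bf jA = bf jA + bf jB - s • be jB := by
  rw [uEl_val, uEl_inv_val]
  refine ⟨?_, ?_, ?_⟩
  · funext x
    rw [h79_mulVec_bf]
    rcases x with i | i
    · rw [Pi.sub_apply, h79_bf_inl, h79_bf_inl]
      simp only [uM, Matrix.fromBlocks_apply₁₂, h79_PY_apply, if_neg h77_jA_ne_jB, sub_zero]
    · rw [Pi.sub_apply, h79_bf_inr, h79_bf_inr]
      simp only [uM, Matrix.fromBlocks_apply₂₂, Matrix.transpose_apply, h77_Pinv_jA]
  · funext x
    rw [h79_mulVec_bf]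
    rcases x with i | i
    · rw [Pi.add_apply, Pi.smul_apply, Pi.add_apply, h79_bf_inl, h79_be_inl, h79_be_inl]
      simp only [uM, Matrix.fromBlocks_apply₁₂, h79_PY_apply, if_true, h77_Pm_jB, smul_eq_mul]
      ring
    · rw [Pi.add_apply, Pi.smul_apply, Pi.add_apply, h79_bf_inr, h79_be_inr, h79_be_inr]
      simp only [uM, Matrix.fromBlocks_apply₂₂, Matrix.transpose_apply, h77_Pinv_jB, smul_eq_mul]
      ring
  · funext x
    rw [h79_mulVec_bf]
    rcases x with i | i
    · rw [Pi.sub_apply, Pi.add_apply, Pi.smul_apply, h79_bf_inl, h79_bf_inl, h79_be_inl]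
      simp only [uinvM, Matrix.fromBlocks_apply₁₂, Matrix.neg_apply, h79_YPt_apply, h77_Pm_jB,
        if_neg h77_jA_ne_jB, if_true, smul_eq_mul]
      by_cases h : i = jB
      · simp only [if_pos h]; ring
      · simp only [if_neg h]; ring
    · rw [Pi.sub_apply, Pi.add_apply, Pi.smul_apply, h79_bf_inr, h79_bf_inr, h79_be_inr]
      simp only [uinvM, Matrix.fromBlocks_apply₂₂, Matrix.transpose_apply, h77_Pm_jA, smul_eq_mul]
      ring

end C

end Cfsg.Agent.Helper77.SR
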