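import Mathlib
import Cfsg.Agent.Lib.Helper2.SR0
import Cfsg.Agent.Lib.Helper2.SRC0
import Cfsg.Agent.Lib.Helper44.SRT3
import Cfsg.Agent.Lib.Helper79.SRC2
import Cfsg.Agent.Lib.Helper10.SRC6

/-! SR server (helper2, S2281): piece (C8) `cyclic`. -/

set_option autoImplicit false

namespace Cfsg.Agent.Helper77.SR

open Matrix Cfsg Cfsg.Agent.Helper13 Cfsg.Agent.Helper84.SpRoot Cfsg.Agent.Helper5.SpAut
open Cfsg.Agent.Helper2.SR

section C
variable {F : Type*} [Field F] {m : ℕ}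

/-- the only index of level `0` is `f_0` -/
theorem h77_lvl_lt_one (b : Fin (m + 2) ⊕ Fin (m + 2)) (hb : lvl (m := m) b < 1) :
    b = Sum.inr 0 := by
  rcases b with i | j
  · exfalso
    have hi := i.isLt
    simp only [lvl] at hb
    omega
  · simp only [lvl] at hb
    congr 1
    apply Fin.ext
    simp only [Fin.val_zero]
    omega

/-- (C8) uses T3 C2 C6 C0 -/
theorem cyclic {s : F} (hs : s ≠ 0) :
    ∀ S : Submodule F (Fin (m + 2) ⊕ Fin (m + 2) → F), pV s ∈ S →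
      (∀ x ∈ S, (uEl (m := m) s).val *ᵥ x ∈ S) →
      ∀ x, Cfsg.sympForm (m + 2) F x (be 0) = 0 → x ∈ S := by
  intro S hp hS x hx
  obtain ⟨hinj, hsurj, _⟩ := Cfsg.Agent.Helper10.SR.lvl_props (m := m)
  refine Cfsg.Agent.Helper44.SR.tri_cyclic (lvl (m := m)) hinj hsurj (uM (m := m) s - 1)
    (Cfsg.Agent.Helper10.SR.uM_lower s) (Cfsg.Agent.Helper10.SR.uM_subdiag hs) S (pV s) hp
    ?_ ?_ ?_ x ?_
  · intro b hb
    rw [h77_lvl_lt_one b hb]
    simp [pV, be, bf]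
  · refine ⟨Sum.inr 1, ?_, ?_⟩
    · simp [lvl]
    · simp [pV, be, bf, hs]
  · intro y hy
    have h1 : (1 + (uM (m := m) s - 1)) = (uEl (m := m) s).val := by
      rw [Cfsg.Agent.Helper79.SR.uEl_val]; abel
    rw [h1]
    exact hS y hy
  · intro b hb
    rw [h77_lvl_lt_one b hb]
    have := (Cfsg.Agent.Helper2.SR.form_basis x (0 : Fin (m + 2))).1
    rw [← this]
    exact hx

end C

end Cfsg.Agent.Helper77.SR
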