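import Mathlib
import Cfsg.Agent.Lib.Helper2.SR0

/-! SR server (helper2, S2281): piece (T2) `tri_iter_ne`. -/

set_option autoImplicit false

namespace Cfsg.Agent.Helper77.SR

open Matrix Cfsg Cfsg.Agent.Helper13 Cfsg.Agent.Helper84.SpRoot Cfsg.Agent.Helper5.SpAut
open Cfsg.Agent.Helper2.SR

section T
variable {F : Type*} [Field F] {ι : Type*} [Fintype ι] [DecidableEq ι]

/-- (T2) -/
theorem tri_iter_ne (lv : ι → ℕ) (hinj : Function.Injective lv)
    (hsurj : ∀ a, ∀ j < lv a, ∃ b, lv b = j)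
    (T : Matrix ι ι F) (hT : ∀ a b, lv a ≤ lv b → T a b = 0)
    (hsub : ∀ a b, lv a = lv b + 1 → T a b ≠ 0) :
    ∀ (k r : ℕ) (x : ι → F), (∀ b, lv b < r → x b = 0) → (∃ b, lv b = r ∧ x b ≠ 0) →
      ∀ a, lv a = r + k → ((T ^ k) *ᵥ x) a ≠ 0 := by
  intro k
  induction k with
  | zero =>
    intro r x _ hx1 a ha
    obtain ⟨b, hb, hxb⟩ := hx1
    have hab : a = b := hinj (by rw [ha, hb]; simp)
    subst hab
    simpa using hxb
  | succ k ih =>
    intro r x hx0 hx1 a ha
    obtain ⟨b0, hb0, hxb0⟩ := hx1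
    -- an index of level `r + 1`
    have hc : ∃ c, lv c = r + 1 := by
      rcases Nat.eq_zero_or_pos k with hk | hk
      · exact ⟨a, by rw [ha, hk]⟩
      · exact hsurj a (r + 1) (by rw [ha]; omega)
    obtain ⟨c, hc⟩ := hc
    have hpow : (T ^ (k + 1)) *ᵥ x = (T ^ k) *ᵥ (T *ᵥ x) := by
      rw [pow_succ, Matrix.mulVec_mulVec]
    rw [hpow]
    refine ih (r + 1) (T *ᵥ x) ?_ ?_ a (by rw [ha]; ring)
    · intro b hb
      rw [Matrix.mulVec, dotProduct]
      refine Finset.sum_eq_zero (fun j _ => ?_)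
      by_cases hj : lv j < r
      · rw [hx0 j hj, mul_zero]
      · rw [hT b j (by omega), zero_mul]
    · refine ⟨c, hc, ?_⟩
      have hsum : (T *ᵥ x) c = T c b0 * x b0 := by
        rw [Matrix.mulVec, dotProduct]
        refine Finset.sum_eq_single b0 (fun j _ hj => ?_) (fun h => absurd (Finset.mem_univ b0) h)
        by_cases hjr : lv j < r
        · rw [hx0 j hjr, mul_zero]
        · have hne : lv j ≠ r := fun h => hj (hinj (by rw [h, hb0]))
          rw [hT c j (by omega), zero_mul]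
      rw [hsum]
      exact mul_ne_zero (hsub c b0 (by rw [hc, hb0])) hxb0

end T

end Cfsg.Agent.Helper77.SR
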