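import Mathlib
import Cfsg.Agent.Lib.Helper2.SS0
import Cfsg.Agent.Lib.Helper2.SRC0
import Cfsg.Agent.Lib.Helper12.SSY1
import Cfsg.Agent.Lib.Helper41.SSY3
import Cfsg.Agent.Lib.Helper5.SSY9a
import Cfsg.Agent.Lib.Helper77.SSY11core

/-!
# SS project (S2411), pieces (Y11a) `cyc_ge`, (Y11b) `cyc_two` and (Y9b) `orb_d`
(helper2 server; statements verbatim).
-/

set_option autoImplicit false

namespace Cfsg.Agent.Helper77.SS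

open Matrix Cfsg Cfsg.Agent.Helper13 Cfsg.Agent.Helper84.SpRoot Cfsg.Agent.Helper5.SpAut
open Cfsg.Agent.Helper2.SR Cfsg.Agent.Helper2.SS

section Y
variable {F : Type*} [Field F] {m : ℕ}

/-- (Y9b) `d = y c e_0`; uses Y2 Y3 -/
theorem orb_d {H : Subgroup (Matrix.symplecticGroup (Fin (m + 2)) F)} {α β ξ : F}
    (hc : cEl m F ∈ H) (hy : yEl α β ξ ∈ H) :
    ∀ j : ℕ, ((cEl m F) ^ j).val *ᵥ dV α β ξ ∈ Orb H (be 0) := by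
  intro j
  refine ⟨(cEl m F) ^ j * yEl α β ξ * cEl m F,
    H.mul_mem (H.mul_mem (H.pow_mem hc j) hy) hc, ?_⟩
  have h1 : (cEl m F).val *ᵥ be (F := F) (0 : Fin (m + 2)) = be 1 :=
    (Cfsg.Agent.Helper12.SS.c_act (m := m) (F := F)).1 0 1 (by simp)
  rw [mul_act, mul_act, h1, (Cfsg.Agent.Helper41.SS.y_act (m := m) α β ξ).2.1]

/-- (Y11a) -/
theorem cyc_ge (hm : 1 ≤ m) {α β ξ : F} (hαβ : α * β ≠ 0) (hβ : β ≠ 0) (hξ : ξ ≠ 0)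
    {H : Subgroup (Matrix.symplecticGroup (Fin (m + 2)) F)}
    (hc : cEl m F ∈ H) (hy : yEl α β ξ ∈ H) :
    ∀ S : Submodule F (Fin (m + 2) ⊕ Fin (m + 2) → F), pGe β ξ ∈ S →
      (∀ v ∈ Orb H (be 0), Cfsg.sympForm (m + 2) F v (be 0) = 0 →
        (∃ w ∈ S, Cfsg.sympForm (m + 2) F w v ≠ 0) → v ∈ S) →
      ∀ x, Cfsg.sympForm (m + 2) F x (be 0) = 0 → x ∈ S :=
  h77_cyc_ge_core hm hαβ hβ hξ (Cfsg.Agent.Helper5.SS.orb_basis hc) (orb_d hc hy)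
    (fun j h2 hjm a b c ha hb hc' => Cfsg.Agent.Helper5.SS.c_pow_d α β ξ j h2 hjm a b c ha hb hc')

/-- (Y11b) -/
theorem cyc_two {α β ξ : F} (hαβ : α * β ≠ 0) (hβ : β ≠ 0) (hγ : 1 - β * (ξ + α) ≠ 0)
    {H : Subgroup (Matrix.symplecticGroup (Fin (0 + 2)) F)}
    (hc : cEl 0 F ∈ H) (hy : yEl α β ξ ∈ H) :
    ∀ S : Submodule F (Fin (0 + 2) ⊕ Fin (0 + 2) → F), pTwo α β ξ ∈ S →
      (∀ v ∈ Orb H (be 0), Cfsg.sympForm (0 + 2) F v (be 0) = 0 →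
        (∃ w ∈ S, Cfsg.sympForm (0 + 2) F w v ≠ 0) → v ∈ S) →
      ∀ x, Cfsg.sympForm (0 + 2) F x (be 0) = 0 → x ∈ S :=
  h77_cyc_two_core hαβ hβ hγ (Cfsg.Agent.Helper5.SS.orb_basis hc) (orb_d hc hy)

end Y

end Cfsg.Agent.Helper77.SS
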