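import Mathlib
import Cfsg.Agent.Lib.Helper2.SS0
import Cfsg.Agent.Lib.Helper2.SRC0
import Cfsg.Agent.Lib.Helper12.SSY1
import Cfsg.Agent.Lib.Helper41.SSY3
import Cfsg.Agent.Lib.Helper41.SSY4
import Cfsg.Agent.Lib.Helper58.SSG1
import Cfsg.Agent.Lib.Helper77.SSY11core

/-!
# SS project (S2411), piece (Y12b) `seed_char_two` (helper2 server; statement verbatim).
-/

set_option autoImplicit false

namespace Cfsg.Agent.Helper77.SS

open Matrix Cfsg Cfsg.Agent.Helper13 Cfsg.Agent.Helper84.SpRoot Cfsg.Agent.Helper5.SpAut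
open Cfsg.Agent.Helper2.SR Cfsg.Agent.Helper2.SS

section Y
variable {F : Type*} [Field F] {m : ℕ}

/-- a transvection with centre in the orbit of `e_0` -/
theorem h77_sympT_orbit {H : Subgroup (Matrix.symplecticGroup (Fin (m + 2)) F)} {κ : F}
    (hκ : sympT (be (m := m) 0) κ ∈ H) (g : Matrix.symplecticGroup (Fin (m + 2)) F) (hg : g ∈ H) :
    sympT (g.val *ᵥ be (m := m) 0) κ ∈ H := by
  rw [← conj_sympT]
  exact H.mul_mem (H.mul_mem hg hκ) (H.inv_mem hg)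

/-- (Y12b) -/
theorem seed_char_two {H : Subgroup (Matrix.symplecticGroup (Fin (m + 2)) F)} {ξ : F}
    (h2 : (2 : F) = 0) (hc : cEl m F ∈ H) (hy : yEl 1 1 ξ ∈ H)
    (hκ : sympT (be (m := m) 0) 1 ∈ H) :
    ∃ w0 ∈ QQ H (be (m := m) 0), Cfsg.sympForm (m + 2) F w0 (be 1) ≠ 0 := by
  have h10 : (1 : Fin (m + 2)) ≠ 0 := by
    intro h; have := congrArg Fin.val h; simp at this
  have h01 : (0 : Fin (m + 2)) ≠ 1 := fun h => h10 h.symm
  have hce0 : (cEl m F).val *ᵥ be (F := F) (0 : Fin (m + 2)) = be 1 :=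
    (Cfsg.Agent.Helper12.SS.c_act (m := m) (F := F)).1 0 1 (by simp)
  have hye1 : (yEl (m := m) 1 1 ξ).val *ᵥ be 1 = dV 1 1 ξ :=
    (Cfsg.Agent.Helper41.SS.y_act (m := m) 1 1 ξ).2.1
  have hyd : (yEl (m := m) 1 1 ξ).val *ᵥ dV 1 1 ξ = (1 : F) • dV 1 1 ξ - be 1 + (2 - 1 : F) • be 0 :=
    Cfsg.Agent.Helper41.SS.y_d (m := m) 1 1 ξ 1 (by ring)
  -- `T_{e_1}(1) ∈ H`
  have hT1 : sympT (be (m := m) (F := F) 1) 1 ∈ H := by
    rw [← hce0]; exact h77_sympT_orbit hκ _ hc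
  -- the vector `v = d - e_1`
  have hdf : Cfsg.sympForm (m + 2) F (dV (m := m) 1 1 ξ) (be 1) = -1 := by
    rw [(form_basis _ _).1]
    simp [dV, h77_be_inr, h77_bf_inr]
  have hv : (sympT (be (m := m) (F := F) 1) 1 * yEl 1 1 ξ * cEl m F).val *ᵥ be 0 =
      dV (m := m) 1 1 ξ - be 1 := by
    rw [mul_act, mul_act, hce0, hye1, sympT_act, hdf]; module
  have hv' : (yEl (m := m) 1 1 ξ * yEl 1 1 ξ * cEl m F).val *ᵥ be 0 =
      (dV (m := m) 1 1 ξ - be 1) + (1 : F) • be 0 := by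
    rw [mul_act, mul_act, hce0, hye1, hyd]
    have : (2 - 1 : F) = 1 := by ring
    rw [this]; module
  have hg : sympT (be (m := m) (F := F) 1) 1 * yEl 1 1 ξ * cEl m F ∈ H :=
    H.mul_mem (H.mul_mem hT1 hy) hc
  have hg' : yEl (m := m) 1 1 ξ * yEl 1 1 ξ * cEl m F ∈ H := H.mul_mem (H.mul_mem hy hy) hc
  have hS1 : sympT (dV (m := m) 1 1 ξ - be 1) (1 : F) ∈ H := by
    rw [← hv]; exact h77_sympT_orbit hκ _ hg
  have hS2 : sympT ((dV (m := m) 1 1 ξ - be 1) + (1 : F) • be 0) (1 : F) ∈ H := by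
    rw [← hv']; exact h77_sympT_orbit hκ _ hg'
  have hv0 : Cfsg.sympForm (m + 2) F (dV (m := m) 1 1 ξ - be 1) (be 0) = 0 := by
    rw [(form_basis _ _).1]
    simp [dV, h77_be_inr, h77_bf_inr, h01]
  have hQ := Cfsg.Agent.Helper58.SS.seed_gen (H := H) hv0 hS2 hS1
  rw [mul_one, one_smul] at hQ
  refine ⟨_, hQ, ?_⟩
  rw [(form_basis _ _).1]
  simp [dV, h77_be_inr, h77_bf_inr]

end Y

end Cfsg.Agent.Helper77.SS
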