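import Mathlib
import Cfsg.Agent.Lib.Helper84.Sp4Defs

/-!
# PSP4F (C4) for helper84's S5320 server: elements of `SL₂(F)` with square `-1` are conjugate to
`i0` inside `SL₂(F)` (`F` finite of odd characteristic).
-/

set_option autoImplicit false

namespace Cfsg.Agent.Helper77.Sp4

open Matrix Cfsg.Agent.Helper84.Sp4

variable {F : Type*} [Field F]

/-- every element of a finite field of odd characteristic is a sum of two squares. -/
theorem c4_sum_two_sq [Finite F] (h2 : (2 : F) ≠ 0) (x : F) : ∃ α β : F, α ^ 2 + β ^ 2 = x := by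
  classical
  cases nonempty_fintype F
  have hchar : ringChar F ≠ 2 := by
    intro h
    apply h2
    have := ringChar.Nat.cast_ringChar (R := F)
    rw [h] at this
    exact_mod_cast this
  have hodd : Fintype.card F % 2 = 1 := FiniteField.odd_card_of_char_ne_two hchar
  obtain ⟨a, b, hab⟩ : ∃ a b, (Polynomial.X ^ 2 : Polynomial F).eval a +
      (Polynomial.X ^ 2 - Polynomial.C x : Polynomial F).eval b = 0 :=
    FiniteField.exists_root_sum_quadratic (Polynomial.degree_X_pow 2)
      (Polynomial.degree_X_pow_sub_C (by decide) _) hodd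
  refine ⟨a, b, ?_⟩
  rw [← sub_eq_zero]
  simpa only [Polynomial.eval_C, Polynomial.eval_X, Polynomial.eval_pow, Polynomial.eval_sub,
    ← add_sub_assoc] using hab

/-- the matrix computation behind (C4). -/
theorem c4_matrix (a b c p q α β : F) (h00 : a * a + b * c = -1)
    (hN : (α ^ 2 + β ^ 2) * (b * p ^ 2 - 2 * a * p * q - c * q ^ 2) = 1) :
    ∃ g : Matrix (Fin 2) (Fin 2) F, g.det = 1 ∧ g * !![a, b; c, -a] = rot 0 1 * g := by
  refine ⟨rot α β * !![p, q; p * a + q * c, p * b - q * a], ?_, ?_⟩
  · rw [Matrix.det_mul, rot, Matrix.det_fin_two_of, Matrix.det_fin_two_of]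
    linear_combination hN
  · have h1 : !![p, q; p * a + q * c, p * b - q * a] * !![a, b; c, -a] =
        rot 0 1 * !![p, q; p * a + q * c, p * b - q * a] := by
      ext i j
      fin_cases i <;> fin_cases j <;> simp [rot, Matrix.mul_apply, Fin.sum_univ_two]
      all_goals first | ring1 | linear_combination p * h00 | linear_combination q * h00
    have h2 : rot α β * rot 0 1 = rot 0 1 * rot α β := by
      ext i j
      fin_cases i <;> fin_cases j <;> simp [rot, Matrix.mul_apply, Fin.sum_univ_two]
    rw [Matrix.mul_assoc, h1, ← Matrix.mul_assoc, h2, Matrix.mul_assoc]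

theorem conj_i0 [Finite F] (h2 : (2 : F) ≠ 0) (X : SL2 F) (hX : X * X = -1) :
    ∃ g : SL2 F, g * X * g⁻¹ = i0 := by
  set M : Matrix (Fin 2) (Fin 2) F := (X : Matrix (Fin 2) (Fin 2) F) with hMdef
  have hM : M = !![M 0 0, M 0 1; M 1 0, M 1 1] := Matrix.eta_fin_two M
  have hdet : M 0 0 * M 1 1 - M 0 1 * M 1 0 = 1 := by
    rw [← Matrix.det_fin_two]; exact X.2
  have hsq : M * M = -1 := by
    have := congrArg (fun Y : SL2 F => (Y : Matrix (Fin 2) (Fin 2) F)) hX
    simpa using this
  have e00 : M 0 0 * M 0 0 + M 0 1 * M 1 0 = -1 := by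
    have := congrFun (congrFun hsq 0) 0
    simpa [Matrix.mul_apply, Fin.sum_univ_two] using this
  have e01 : M 0 0 * M 0 1 + M 0 1 * M 1 1 = 0 := by
    have := congrFun (congrFun hsq 0) 1
    simpa [Matrix.mul_apply, Fin.sum_univ_two] using this
  have e10 : M 1 0 * M 0 0 + M 1 1 * M 1 0 = 0 := by
    have := congrFun (congrFun hsq 1) 0
    simpa [Matrix.mul_apply, Fin.sum_univ_two] using this
  have e11 : M 1 0 * M 0 1 + M 1 1 * M 1 1 = -1 := by
    have := congrFun (congrFun hsq 1) 1
    simpa [Matrix.mul_apply, Fin.sum_univ_two] using this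
  -- trace zero
  have htr : M 1 1 = -M 0 0 := by
    by_contra hne
    have ht : M 0 0 + M 1 1 ≠ 0 := fun h => hne (by linear_combination h)
    have hb : M 0 1 = 0 := by
      have : M 0 1 * (M 0 0 + M 1 1) = 0 := by linear_combination e01
      exact (mul_eq_zero.1 this).resolve_right ht
    have hc : M 1 0 = 0 := by
      have : M 1 0 * (M 0 0 + M 1 1) = 0 := by linear_combination e10
      exact (mul_eq_zero.1 this).resolve_right ht
    have had : M 0 0 = M 1 1 := by
      have : (M 0 0 - M 1 1) * (M 0 0 + M 1 1) = 0 := by linear_combination e00 - e11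
      have := (mul_eq_zero.1 this).resolve_right ht
      linear_combination this
    apply h2
    rw [hb, hc, ← had] at hdet
    rw [hb] at e00
    linear_combination e00 - hdet
  -- a pair `(p, q)` on which the form is nonzero
  obtain ⟨p, q, hpq⟩ : ∃ p q : F, M 0 1 * p ^ 2 - 2 * M 0 0 * p * q - M 1 0 * q ^ 2 ≠ 0 := by
    by_cases hb : M 0 1 = 0
    · by_cases hc : M 1 0 = 0
      · refine ⟨1, 1, ?_⟩
        rw [hb, hc]
        have ha : M 0 0 ≠ 0 := by
          intro ha
          rw [ha, hb] at e00
          have : (0 : F) = -1 := by linear_combination e00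
          exact one_ne_zero (by linear_combination this)
        have : (2 : F) * M 0 0 ≠ 0 := mul_ne_zero h2 ha
        intro h
        apply this
        linear_combination -h
      · refine ⟨0, 1, ?_⟩
        intro h
        apply hc
        linear_combination -h
    · refine ⟨1, 0, ?_⟩
      intro h
      apply hb
      linear_combination h
  obtain ⟨α, β, hαβ⟩ := c4_sum_two_sq h2
    (M 0 1 * p ^ 2 - 2 * M 0 0 * p * q - M 1 0 * q ^ 2)⁻¹
  obtain ⟨g, hgdet, hg⟩ := c4_matrix (M 0 0) (M 0 1) (M 1 0) p q α β e00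
    (by rw [hαβ]; exact inv_mul_cancel₀ hpq)
  refine ⟨⟨g, hgdet⟩, mul_inv_eq_iff_eq_mul.2 (Subtype.ext ?_)⟩
  show g * M = rot 0 1 * g
  rw [hM, htr]
  exact hg

end Cfsg.Agent.Helper77.Sp4
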