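import Mathlib
import Cfsg.Agent.Lib.Helper84.Sp4Defs
import Cfsg.Agent.Lib.Helper42.Sp4B1
import Cfsg.Agent.Lib.Helper42.Sp4B2
import Cfsg.Agent.Lib.Helper42.Sp4B3

/-!
# PSP4F (B4) QAPI for helper84's S5320 server
-/

set_option autoImplicit false

namespace Cfsg.Agent.Helper77.Sp4

open Matrix Cfsg.Agent.Helper84.Sp4 Cfsg.Agent.Helper42.Sp4

variable {F : Type*} [Field F]

theorem qapi_Tor2_le_Tor : (Tor2 : Subgroup (SL2 F)) ≤ Tor := fun X hX =>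
  ((mem_Tor2_iff X).1 hX).1

/-- `j0 c j0⁻¹ = c⁻¹` for `c ∈ Tor2`, in the form `j0 * c = c⁻¹ * j0`. -/
theorem qapi_j0_mul [Finite F] {c : SL2 F} (hc : c ∈ (Tor2 : Subgroup (SL2 F))) :
    (j0 : SL2 F) * c = c⁻¹ * j0 := by
  have := NTor_conj (j0_mem (F := F)) (qapi_Tor2_le_Tor hc)
  rw [← this]; group

theorem qapi_j0_sq [Finite F] : (j0 : SL2 F) * j0 = -1 := NTor_mul_self j0_mem

/-- `(c j0)² = -1` -/
theorem qapi_mul_j0_sq [Finite F] {c : SL2 F} (hc : c ∈ (Tor2 : Subgroup (SL2 F))) :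
    (c * j0) * (c * j0) = -1 := by
  calc (c * j0) * (c * j0) = c * (j0 * c) * j0 := by group
    _ = c * (c⁻¹ * j0) * j0 := by rw [qapi_j0_mul hc]
    _ = j0 * j0 := by group
    _ = -1 := qapi_j0_sq

/-- the subgroup `Tor2 ∪ Tor2 j0` -/
noncomputable def qapiSub [Finite F] : Subgroup (SL2 F) where
  carrier := {X | ∃ c ∈ (Tor2 : Subgroup (SL2 F)), X = c ∨ X = c * j0}
  one_mem' := ⟨1, Subgroup.one_mem _, Or.inl rfl⟩
  mul_mem' := by
    rintro X Y ⟨c, hc, hX⟩ ⟨d, hd, hY⟩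
    rcases hX with hX | hX <;> rcases hY with hY | hY <;> rw [hX, hY]
    · exact ⟨c * d, Subgroup.mul_mem _ hc hd, Or.inl rfl⟩
    · exact ⟨c * d, Subgroup.mul_mem _ hc hd, Or.inr (by group)⟩
    · refine ⟨c * d⁻¹, Subgroup.mul_mem _ hc (Subgroup.inv_mem _ hd), Or.inr ?_⟩
      calc c * j0 * d = c * (j0 * d) := by group
        _ = c * (d⁻¹ * j0) := by rw [qapi_j0_mul hd]
        _ = c * d⁻¹ * j0 := by group
    · refine ⟨c * d⁻¹ * -1, Subgroup.mul_mem _ (Subgroup.mul_mem _ hc (Subgroup.inv_mem _ hd))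
        neg_one_mem_Tor2, Or.inl ?_⟩
      calc c * j0 * (d * j0) = c * (j0 * d) * j0 := by group
        _ = c * (d⁻¹ * j0) * j0 := by rw [qapi_j0_mul hd]
        _ = c * d⁻¹ * (j0 * j0) := by group
        _ = c * d⁻¹ * -1 := by rw [qapi_j0_sq]
  inv_mem' := by
    rintro X ⟨c, hc, hX⟩
    rcases hX with hX | hX <;> rw [hX]
    · exact ⟨c⁻¹, Subgroup.inv_mem _ hc, Or.inl rfl⟩
    · refine ⟨c * -1, Subgroup.mul_mem _ hc neg_one_mem_Tor2, Or.inr ?_⟩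
      have h1 : (c * j0) * (c * -1 * j0) = 1 := by
        calc (c * j0) * (c * -1 * j0) = -((c * j0) * (c * j0)) := by
              simp only [mul_neg, neg_mul, mul_one, mul_assoc]
          _ = 1 := by rw [qapi_mul_j0_sq hc, neg_neg]
      exact inv_eq_of_mul_eq_one_right h1

theorem mem_Q_iff [Finite F] (X : SL2 F) :
    X ∈ (Q : Subgroup (SL2 F)) ↔ ∃ c ∈ (Tor2 : Subgroup (SL2 F)), X = c ∨ X = c * j0 := by
  constructor
  · intro hX
    have hle : (Q : Subgroup (SL2 F)) ≤ qapiSub := by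
      unfold Q
      rw [sup_le_iff]
      constructor
      · intro c hc
        exact ⟨c, hc, Or.inl rfl⟩
      · rw [Subgroup.zpowers_le]
        exact ⟨1, Subgroup.one_mem _, Or.inr (one_mul _).symm⟩
    exact hle hX
  · rintro ⟨c, hc, h | h⟩ <;> rw [h]
    · exact (le_sup_left : (Tor2 : Subgroup (SL2 F)) ≤ Tor2 ⊔ Subgroup.zpowers j0) hc
    · exact Subgroup.mul_mem _
        ((le_sup_left : (Tor2 : Subgroup (SL2 F)) ≤ Tor2 ⊔ Subgroup.zpowers j0) hc)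
        ((le_sup_right : Subgroup.zpowers (j0 : SL2 F) ≤ Tor2 ⊔ Subgroup.zpowers j0)
          (Subgroup.mem_zpowers _))

theorem isPGroup_Q [Finite F] : IsPGroup 2 (Q : Subgroup (SL2 F)) := by
  intro g
  obtain ⟨c, hc, h | h⟩ := (mem_Q_iff (g : SL2 F)).1 g.2
  · obtain ⟨m, hm⟩ := ((mem_Tor2_iff c).1 hc).2
    refine ⟨m, Subtype.ext ?_⟩
    rw [Subgroup.coe_pow, h, hm, Subgroup.coe_one]
  · refine ⟨2, Subtype.ext ?_⟩
    rw [Subgroup.coe_pow, h, Subgroup.coe_one]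
    have e : (c * j0) ^ 2 ^ 2 = ((c * j0) * (c * j0)) * ((c * j0) * (c * j0)) := by
      norm_num [pow_succ, mul_assoc]
    rw [e, qapi_mul_j0_sq hc, neg_mul_neg, one_mul]

theorem Q_mul_self [Finite F] {X : SL2 F} (hX : X ∈ (Q : Subgroup (SL2 F)))
    (hX' : X ∉ (Tor2 : Subgroup (SL2 F))) : X * X = -1 := by
  obtain ⟨c, hc, h | h⟩ := (mem_Q_iff X).1 hX
  · rw [h] at hX'; exact absurd hc hX'
  · rw [h]; exact qapi_mul_j0_sq hc

theorem Q_inf_Tor [Finite F] (h2 : (2 : F) ≠ 0) {X : SL2 F} (hX : X ∈ (Q : Subgroup (SL2 F)))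
    (hT : X ∈ (Tor : Subgroup (SL2 F))) : X ∈ (Tor2 : Subgroup (SL2 F)) := by
  obtain ⟨c, hc, h | h⟩ := (mem_Q_iff X).1 hX
  · rw [h]; exact hc
  · exfalso
    rw [h] at hT
    have hj : (j0 : SL2 F) ∈ (Tor : Subgroup (SL2 F)) := by
      have := Subgroup.mul_mem _ (Subgroup.inv_mem _ (qapi_Tor2_le_Tor hc)) hT
      simpa using this
    exact not_mem_NTor_of_mem_Tor h2 hj j0_mem

theorem Tor2_le_Q : (Tor2 : Subgroup (SL2 F)) ≤ Q := le_sup_left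

theorem i0_mem_Q : (i0 : SL2 F) ∈ (Q : Subgroup (SL2 F)) := Tor2_le_Q i0_mem_Tor2

theorem j0_mem_Q : (j0 : SL2 F) ∈ (Q : Subgroup (SL2 F)) :=
  (le_sup_right : Subgroup.zpowers (j0 : SL2 F) ≤ Tor2 ⊔ Subgroup.zpowers j0)
    (Subgroup.mem_zpowers _)

theorem neg_one_mem_Q : (-1 : SL2 F) ∈ (Q : Subgroup (SL2 F)) := Tor2_le_Q neg_one_mem_Tor2

end Cfsg.Agent.Helper77.Sp4
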