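import Mathlib
import Cfsg.Agent.Lib.Helper84.Sp4Defs
import Cfsg.Agent.Lib.Helper42.Sp4B1
import Cfsg.Agent.Lib.Helper42.Sp4B2
import Cfsg.Agent.Lib.Helper42.Sp4B3
import Cfsg.Agent.Lib.Helper77.Sp4QAPI

/-!
# PSP4F (QGEN) for helper84's S5320 server
-/

set_option autoImplicit false

namespace Cfsg.Agent.Helper77.Sp4

open Matrix Cfsg.Agent.Helper84.Sp4 Cfsg.Agent.Helper42.Sp4

variable {F : Type*} [Field F]

theorem Q_gen [Finite F] (h2 : (2 : F) ≠ 0) (K : Subgroup (SL2 F))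
    (hK : ∀ a ∈ (Q : Subgroup (SL2 F)), ∀ b ∈ (Q : Subgroup (SL2 F)),
      a * a = -1 → b * b = -1 → a * b⁻¹ ∈ K) : (Q : Subgroup (SL2 F)) ≤ K := by
  -- `Tor2 ≤ K`
  have hT : ∀ c ∈ (Tor2 : Subgroup (SL2 F)), c ∈ K := by
    intro c hc
    have hcj : c * j0 ∈ (Q : Subgroup (SL2 F)) :=
      (mem_Q_iff _).2 ⟨c, hc, Or.inr rfl⟩
    have := hK (c * j0) hcj j0 j0_mem_Q (qapi_mul_j0_sq hc) qapi_j0_sq
    simpa using this
  -- `i0 * j0 ∈ K`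
  have hij : (i0 : SL2 F) * j0 ∈ K := by
    have := hK j0 j0_mem_Q i0 i0_mem_Q qapi_j0_sq i0_mul_i0
    have e : (j0 : SL2 F) * i0⁻¹ = i0 * j0 := by
      have h := qapi_j0_mul (F := F) (Subgroup.inv_mem _ i0_mem_Tor2)
      rw [h, inv_inv]
    rwa [e] at this
  intro X hX
  obtain ⟨c, hc, h | h⟩ := (mem_Q_iff X).1 hX
  · rw [h]; exact hT c hc
  · rw [h]
    have e : c * j0 = (c * i0⁻¹) * (i0 * j0) := by group
    rw [e]
    exact K.mul_mem (hT _ (Subgroup.mul_mem _ hc (Subgroup.inv_mem _ i0_mem_Tor2))) hij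

end Cfsg.Agent.Helper77.Sp4
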