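import Mathlib

/-!
# TH1 (HOM) for helper89's S3797 server: a finite abelian 2-group whose automorphism group is
transitive on involutions is homocyclic.
-/

set_option autoImplicit false

namespace Cfsg.Agent.Helper77.TH1

universe u

/-- every element of `Multiplicative (ZMod n)` is killed by any multiple of `n` -/
theorem zmod_pow_eq_one {n : ℕ} (z : Multiplicative (ZMod n)) {N : ℕ} (h : n ∣ N) : z ^ N = 1 := by
  obtain ⟨c, rfl⟩ := h
  apply Multiplicative.toAdd.injective
  rw [toAdd_pow, toAdd_one, mul_nsmul, nsmul_eq_mul, nsmul_eq_mul]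
  have : ((n : ℕ) : ZMod n) = 0 := ZMod.natCast_self n
  rw [this, zero_mul, mul_zero]

section prod

variable {ι : Type} [DecidableEq ι] (n : ι → ℕ)

/-- the standard generator of the `i`-th factor -/
def sgen (i : ι) : (j : ι) → Multiplicative (ZMod (n j)) :=
  Pi.mulSingle i (Multiplicative.ofAdd (1 : ZMod (n i)))

theorem sgen_pow_apply_self (i : ι) (N : ℕ) :
    (sgen n i ^ N) i = Multiplicative.ofAdd ((N : ℕ) : ZMod (n i)) := by
  rw [Pi.pow_apply]
  unfold sgen
  rw [Pi.mulSingle_eq_same]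
  apply Multiplicative.toAdd.injective
  rw [toAdd_pow, toAdd_ofAdd, toAdd_ofAdd, nsmul_eq_mul, mul_one]

theorem sgen_pow_apply_ne (i j : ι) (hij : j ≠ i) (N : ℕ) : (sgen n i ^ N) j = 1 := by
  rw [Pi.pow_apply]
  unfold sgen
  rw [Pi.mulSingle_eq_of_ne hij, one_pow]

theorem sgen_pow_self (i : ι) : sgen n i ^ (n i) = 1 := by
  funext j
  by_cases hij : j = i
  · subst hij
    rw [sgen_pow_apply_self, ZMod.natCast_self]
    rfl
  · rw [sgen_pow_apply_ne n i j hij]
    rfl

end prod

/-- (HOM) a finite abelian 2-group whose automorphism group is transitive on involutions is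
homocyclic -/
theorem homocyclic_of_transitive {P : Type u} [Group P] [Finite P] (hc : ∀ a b : P, a * b = b * a)
    (hP : IsPGroup 2 P)
    (htr : ∀ x y : P, x ≠ 1 → x ^ 2 = 1 → y ≠ 1 → y ^ 2 = 1 → ∃ a : MulAut P, a x = y) :
    ∃ m r : ℕ, Nonempty (P ≃* (Fin r → Multiplicative (ZMod (2 ^ m)))) := by
  classical
  let _ : CommGroup P := { ‹Group P› with mul_comm := hc }
  obtain ⟨ι, hι, n, hn1, ⟨e⟩⟩ := CommGroup.equiv_prod_multiplicative_zmod_of_finite P
  -- each `n i` is a power of two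
  have hpow : ∀ i, ∃ a : ℕ, n i = 2 ^ a := by
    intro i
    obtain ⟨k, hk⟩ := hP (e.symm (sgen n i))
    have h1 : sgen n i ^ 2 ^ k = 1 := by
      have := congrArg e hk
      rwa [map_pow, map_one, e.apply_symm_apply] at this
    have h2 := congrFun h1 i
    rw [sgen_pow_apply_self] at h2
    have h3 : ((2 ^ k : ℕ) : ZMod (n i)) = 0 := by
      have := congrArg Multiplicative.toAdd h2
      simpa using this
    have h4 : n i ∣ 2 ^ k := (ZMod.natCast_eq_zero_iff _ _).1 h3
    obtain ⟨a, _, ha⟩ := (Nat.dvd_prime_pow Nat.prime_two).1 h4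
    exact ⟨a, ha⟩
  choose a ha using hpow
  have ha1 : ∀ i, 1 ≤ a i := by
    intro i
    by_contra h
    have h0 : a i = 0 := by omega
    have := hn1 i
    rw [ha i, h0] at this
    omega
  -- the involution of the `i`-th factor
  have hhalf : ∀ i, n i / 2 = 2 ^ (a i - 1) := by
    intro i
    rw [ha i]
    obtain ⟨b, hb⟩ : ∃ b, a i = b + 1 := ⟨a i - 1, by have := ha1 i; omega⟩
    rw [hb, pow_succ, Nat.mul_div_cancel _ (by norm_num : 0 < 2), Nat.add_sub_cancel]
  have ht_ne : ∀ i, (sgen n i ^ (n i / 2)) i ≠ 1 := by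
    intro i h
    rw [sgen_pow_apply_self] at h
    have h3 : ((n i / 2 : ℕ) : ZMod (n i)) = 0 := by
      have := congrArg Multiplicative.toAdd h
      simpa using this
    have h4 : n i ∣ n i / 2 := (ZMod.natCast_eq_zero_iff _ _).1 h3
    have hpos : 0 < n i / 2 := by rw [hhalf i]; positivity
    have := Nat.le_of_dvd hpos h4
    have := hn1 i
    omega
  have ht_sq : ∀ i, (sgen n i ^ (n i / 2)) ^ 2 = 1 := by
    intro i
    rw [← pow_mul]
    have : n i / 2 * 2 = n i := by
      rw [hhalf i, ha i]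
      obtain ⟨b, hb⟩ : ∃ b, a i = b + 1 := ⟨a i - 1, by have := ha1 i; omega⟩
      rw [hb, Nat.add_sub_cancel, pow_succ]
    rw [this, sgen_pow_self]
  -- transport of transitivity: being an `N`-th power passes from one involution to any other
  have htrans : ∀ x' y' : ((i : ι) → Multiplicative (ZMod (n i))), x' ≠ 1 → x' ^ 2 = 1 → y' ≠ 1 →
      y' ^ 2 = 1 → ∀ (N : ℕ) (g : (i : ι) → Multiplicative (ZMod (n i))), x' = g ^ N →
      ∃ g' : (i : ι) → Multiplicative (ZMod (n i)), y' = g' ^ N := by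
    intro x' y' hx1 hx2 hy1 hy2 N g hg
    have hx1' : e.symm x' ≠ 1 := by
      intro h
      apply hx1
      have := congrArg e h
      rwa [e.apply_symm_apply, map_one] at this
    have hy1' : e.symm y' ≠ 1 := by
      intro h
      apply hy1
      have := congrArg e h
      rwa [e.apply_symm_apply, map_one] at this
    have hx2' : (e.symm x') ^ 2 = 1 := by rw [← map_pow, hx2, map_one]
    have hy2' : (e.symm y') ^ 2 = 1 := by rw [← map_pow, hy2, map_one]
    obtain ⟨α, hα⟩ := htr (e.symm x') (e.symm y') hx1' hx2' hy1' hy2'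
    refine ⟨e (α (e.symm g)), ?_⟩
    rw [← map_pow, ← map_pow, ← map_pow, ← hg, hα, e.apply_symm_apply]
  -- comparison of exponents
  have hcmp : ∀ i j, a i ≤ a j := by
    intro i j
    by_contra hlt
    have hlt' : a j ≤ a i - 1 := by omega
    have hdvd : n j ∣ n i / 2 := by
      rw [hhalf i, ha j]
      exact pow_dvd_pow 2 hlt'
    obtain ⟨g', hg'⟩ := htrans (sgen n i ^ (n i / 2)) (sgen n j ^ (n j / 2))
      (fun h => ht_ne i (by rw [h]; rfl)) (ht_sq i) (fun h => ht_ne j (by rw [h]; rfl)) (ht_sq j)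
      (n i / 2) (sgen n i) rfl
    have h1 : (sgen n j ^ (n j / 2)) j = (g' ^ (n i / 2)) j := congrFun hg' j
    have h2 : (g' ^ (n i / 2)) j = 1 := by
      rw [Pi.pow_apply]
      exact zmod_pow_eq_one (g' j) hdvd
    exact ht_ne j (h1.trans h2)
  have hconst : ∃ m, ∀ i, n i = 2 ^ m := by
    by_cases hne : Nonempty ι
    · obtain ⟨i₀⟩ := hne
      exact ⟨a i₀, fun i => by rw [ha i, le_antisymm (hcmp i i₀) (hcmp i₀ i)]⟩
    · exact ⟨0, fun i => absurd ⟨i⟩ hne⟩
  obtain ⟨m, hm⟩ := hconst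
  have hnm : n = fun _ => 2 ^ m := funext hm
  subst hnm
  exact ⟨m, Fintype.card ι, ⟨e.trans (MulEquiv.arrowCongr (Fintype.equivFin ι) (MulEquiv.refl _))⟩⟩

end Cfsg.Agent.Helper77.TH1
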