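import Mathlib
import Cfsg.Prelude.Def_Local
import Cfsg.Agent.Lib.Helper89.TH1Defs
import Cfsg.Agent.Lib.Helper52.Coprime
import Cfsg.Agent.Lib.Helper24.Averaging

/-!
# TH1 (YM2) for helper89's S3797 server: a minimal `N,K`-invariant `Y ≤ O_2(G)` with `[Y,K₁] ≠ 1`
gives the `Core` configuration.
-/

set_option autoImplicit false

namespace Cfsg.Agent.Helper77.TH1

open Cfsg Subgroup Cfsg.Agent.Helper89.TH1
open scoped commutatorElement

universe u

variable {G : Type u} [Group G]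

/-- the subgroup generated by the squares of the elements of `Y` -/
def sqClosure (Y : Subgroup G) : Subgroup G := closure {g | ∃ y ∈ Y, y ^ 2 = g}

theorem sqClosure_le (Y : Subgroup G) : sqClosure Y ≤ Y := by
  unfold sqClosure
  rw [closure_le]
  rintro _ ⟨y, hy, rfl⟩
  exact Y.pow_mem hy 2

theorem sq_mem_sqClosure {Y : Subgroup G} {y : G} (hy : y ∈ Y) : y ^ 2 ∈ sqClosure Y :=
  subset_closure ⟨y, hy, rfl⟩

theorem comm_mem_sqClosure {Y : Subgroup G} {x y : G} (hx : x ∈ Y) (hy : y ∈ Y) :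
    ⁅x, y⁆ ∈ sqClosure Y := by
  have h : ⁅x, y⁆ = x ^ 2 * (x⁻¹ * y) ^ 2 * (y⁻¹) ^ 2 := by
    rw [commutatorElement_def, pow_two, pow_two, pow_two]; group
  rw [h]
  exact (sqClosure Y).mul_mem ((sqClosure Y).mul_mem (sq_mem_sqClosure hx)
    (sq_mem_sqClosure (Y.mul_mem (Y.inv_mem hx) hy))) (sq_mem_sqClosure (Y.inv_mem hy))

theorem nzes_sqClosure {X Y : Subgroup G} (h : Nzes X Y) : Nzes X (sqClosure Y) := by
  intro g hg b hb
  unfold sqClosure at hb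
  induction hb using Subgroup.closure_induction with
  | mem z hz =>
    obtain ⟨y, hy, rfl⟩ := hz
    rw [← conj_pow]
    exact sq_mem_sqClosure (h g hg y hy)
  | one => rw [mul_one, mul_inv_cancel]; exact (sqClosure Y).one_mem
  | mul a b _ _ iha ihb =>
    have : g * (a * b) * g⁻¹ = (g * a * g⁻¹) * (g * b * g⁻¹) := by group
    rw [this]; exact (sqClosure Y).mul_mem iha ihb
  | inv a _ iha =>
    have : g * a⁻¹ * g⁻¹ = (g * a * g⁻¹)⁻¹ := by group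
    rw [this]; exact (sqClosure Y).inv_mem iha

theorem nzes_self (Y : Subgroup G) : Nzes Y Y :=
  fun g hg y hy => Y.mul_mem (Y.mul_mem hg hy) (Y.inv_mem hg)

theorem le_normalizer_of_nzes {X Y : Subgroup G} (h : Nzes X Y) : X ≤ normalizer (Y : Set G) := by
  intro g hg
  rw [mem_normalizer_iff]
  intro y
  constructor
  · exact h g hg y
  · intro hy
    have := h g⁻¹ (X.inv_mem hg) _ hy
    have e : g⁻¹ * (g * y * g⁻¹) * g⁻¹⁻¹ = y := by group
    rwa [e] at this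

theorem nzes_commutator {X Y A : Subgroup G} (hY : Nzes X Y) (hA : Nzes X A) : Nzes X ⁅Y, A⁆ := by
  intro g hg c hc
  have h1 : (⁅Y, A⁆).map (MulAut.conj g).toMonoidHom ≤ ⁅Y, A⁆ := by
    rw [map_commutator]
    apply commutator_mono
    · rintro _ ⟨y, hy, rfl⟩
      exact hY g hg y hy
    · rintro _ ⟨a, ha, rfl⟩
      exact hA g hg a ha
  exact h1 ⟨c, hc, rfl⟩

/-- a nontrivial finite 2-subgroup contains an involution -/
theorem exists_involution [Finite G] {H : Subgroup G} (h2 : IsPGroup 2 H) (hne : H ≠ ⊥) :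
    ∃ t ∈ H, t ≠ 1 ∧ t ^ 2 = 1 := by
  have : Fact (Nat.Prime 2) := ⟨Nat.prime_two⟩
  obtain ⟨n, hn⟩ := IsPGroup.iff_card.1 h2
  have hn0 : n ≠ 0 := by
    rintro rfl
    rw [pow_zero] at hn
    exact hne (Subgroup.card_eq_one.1 hn)
  have hdvd : 2 ∣ Nat.card H := by
    rw [hn]; exact dvd_pow_self 2 hn0
  obtain ⟨t, ht⟩ := exists_prime_orderOf_dvd_card' (G := ↥H) 2 hdvd
  refine ⟨(t : G), t.2, ?_, ?_⟩
  · intro h1
    have : t = 1 := Subtype.ext h1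
    rw [this, orderOf_one] at ht
    omega
  · have := pow_orderOf_eq_one t
    rw [ht] at this
    have h3 := congrArg (fun x : ↥H => (x : G)) this
    simpa using h3

/-- a nontrivial finite 2-group is not generated by squares -/
theorem sqClosure_lt [Finite G] {Y : Subgroup G} (h2 : IsPGroup 2 Y) (hne : Y ≠ ⊥) :
    sqClosure Y < Y := by
  have : Fact (Nat.Prime 2) := ⟨Nat.prime_two⟩
  refine lt_of_le_of_ne (sqClosure_le Y) ?_
  intro heq
  obtain ⟨n, hn⟩ := IsPGroup.iff_card.1 h2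
  have hn0 : n ≠ 0 := by
    rintro rfl
    rw [pow_zero] at hn
    exact hne (Subgroup.card_eq_one.1 hn)
  obtain ⟨m, rfl⟩ : ∃ m, n = m + 1 := ⟨n - 1, by omega⟩
  obtain ⟨M, hM⟩ := Sylow.exists_subgroup_card_pow_prime (G := ↥Y) 2 (n := m)
    (by rw [hn]; exact pow_dvd_pow 2 (Nat.le_succ m))
  have hidx : M.index = 2 := by
    have := M.card_mul_index
    rw [hM, hn, pow_succ] at this
    exact Nat.eq_of_mul_eq_mul_left (by positivity) this
  have hle : sqClosure Y ≤ M.map Y.subtype := by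
    unfold sqClosure
    rw [closure_le]
    rintro _ ⟨y, hy, rfl⟩
    exact ⟨⟨y, hy⟩ ^ 2, Subgroup.sq_mem_of_index_two hidx _, by simp⟩
  have hcard : Nat.card (M.map Y.subtype) = 2 ^ m := by
    rw [Subgroup.card_map_of_injective Y.subtype_injective, hM]
  have := Subgroup.card_le_of_le hle
  rw [heq, hn, hcard, pow_succ] at this
  have : 0 < 2 ^ m := by positivity
  omega

/-- elements of two subgroups with trivial commutator commute -/
theorem commute_of_commutator_eq_bot {H A : Subgroup G} (h : ⁅H, A⁆ = ⊥) {x a : G} (hx : x ∈ H)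
    (ha : a ∈ A) : a * x = x * a := by
  have h1 : ⁅x, a⁆ ∈ ⁅H, A⁆ := commutator_mem_commutator hx ha
  rw [h, mem_bot, commutatorElement_def] at h1
  calc a * x = (x * a * x⁻¹ * a⁻¹)⁻¹ * (x * a) := by group
    _ = x * a := by rw [h1, inv_one, one_mul]

/-- (YM2) -/
theorem core_of_minimal [Finite G] {W K N E K₁ Q₀ Y : Subgroup G} (hB : Base G W) (hK : KData G K)
    (hKW : ∀ w ∈ W, ∀ k ∈ K, k * w = w * k) (hH : HData G W K N E K₁ Q₀)
    (hYQ : Y ≤ pCore 2 G) (hNY : Nzes N Y) (hKY : Nzes K Y) (hYK : ⁅Y, K₁⁆ ≠ ⊥)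
    (hmin : ∀ Z : Subgroup G, Z < Y → Nzes N Z → Nzes K Z → ⁅Z, K₁⁆ = ⊥) :
    Core G W Y K₁ E Q₀ N := by
  have : Fact (Nat.Prime 2) := ⟨Nat.prime_two⟩
  have hsolvG := hB.solv
  have hQ2 : IsPGroup 2 (pCore 2 G) := Sylow.sSup_of_normal _ (fun _ h => h.2) (fun _ h => h.1)
  have hY2 : IsPGroup 2 Y := hQ2.to_le hYQ
  have hK₁K : K₁ ≤ K := hH.K₁_le
  have hK₁Y : Nzes K₁ Y := fun g hg => hKY g (hK₁K hg)
  have hK₁nY : K₁ ≤ normalizer (Y : Set G) := le_normalizer_of_nzes hK₁Y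
  have hK₁odd : Odd (Nat.card K₁) := Odd.of_dvd_nat hK.K_odd (Subgroup.card_dvd_of_le hK₁K)
  have hcop : (Nat.card K₁).Coprime (Nat.card Y) := by
    obtain ⟨n, hn⟩ := IsPGroup.iff_card.1 hY2
    rw [hn]
    exact Nat.Coprime.pow_right n (Nat.coprime_two_right.mpr hK₁odd)
  have hsolvK₁ : Group.IsSolvable ↥K₁ := Group.isSolvable_of_isSolvable_injective K₁.subtype_injective
  have hYne : Y ≠ ⊥ := by
    rintro rfl
    exact hYK (commutator_bot_left _)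
  -- (b0) `W ≤ Y`
  have hWY : W ≤ Y := by
    obtain ⟨t, htY, ht1, ht2⟩ := exists_involution hY2 hYne
    have htW : t ∈ W := hB.inv_mem t ht2
    intro w hw
    by_cases hw1 : w = 1
    · rw [hw1]; exact Y.one_mem
    · obtain ⟨g, hg, hgw⟩ := hH.N_trans t htW w hw ht1 hw1
      rw [← hgw]
      exact hNY g hg t htY
  -- (b1) `[Y, K₁] = Y`
  have hb1 : ⁅Y, K₁⁆ = Y := by
    have hle : ⁅Y, K₁⁆ ≤ Y := Cfsg.Agent.Helper24.commutator_le_of_le_normalizer Y K₁ hK₁nY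
    by_contra hne
    have hlt : ⁅Y, K₁⁆ < Y := lt_of_le_of_ne hle hne
    have h1 := hmin ⁅Y, K₁⁆ hlt (nzes_commutator hNY hH.N_K₁) (nzes_commutator hKY hH.K_K₁)
    rw [Cfsg.Agent.Helper52.commutator_commutator_eq Y K₁ hK₁nY hcop (Or.inl hsolvK₁)] at h1
    exact hYK h1
  -- (b2) `B`
  have hBlt : sqClosure Y < Y := sqClosure_lt hY2 hYne
  have hBK₁ : ⁅sqClosure Y, K₁⁆ = ⊥ := hmin _ hBlt (nzes_sqClosure hNY) (nzes_sqClosure hKY)
  have hBcentK : ∀ b ∈ sqClosure Y, ∀ k ∈ K₁, k * b = b * k :=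
    fun b hb k hk => commute_of_commutator_eq_bot hBK₁ hb hk
  have hK₁nB : K₁ ≤ normalizer ((sqClosure Y : Subgroup G) : Set G) :=
    le_normalizer_of_nzes (nzes_sqClosure hK₁Y)
  have hcommB : ⁅Y, Y⁆ ≤ sqClosure Y := by
    rw [commutator_le]
    intro x hx y hy
    exact comm_mem_sqClosure hx hy
  -- (b3)
  have hb3 : ∀ y ∈ Y, (∀ k ∈ K₁, ⁅y, k⁆ ∈ sqClosure Y) → y ∈ sqClosure Y := by
    intro y hy hyk
    obtain ⟨n, hn, c, hc, rfl⟩ := Cfsg.Agent.Helper52.exists_mul_centralizer_of_comm_mem Y (sqClosure Y)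
      K₁ hBlt.le hK₁nY hK₁nB hcop (Or.inr hsolvK₁) y hy
      (fun a ha => by have := hyk a ha; rwa [commutatorElement_def] at this)
    have hc' : c ∈ Y ⊓ centralizer (K₁ : Set G) ⊓ ⁅Y, K₁⁆ := by
      refine ⟨hc, ?_⟩
      rw [hb1]; exact hc.1
    have hc2 := Cfsg.Agent.Helper24.inf_centralizer_inf_commutator_le Y K₁ hK₁nY hcop.symm hc'
    exact (sqClosure Y).mul_mem hn (hcommB hc2)
  -- (b4) `W ≤ B`
  have hWB : W ≤ sqClosure Y := by
    intro w hw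
    apply hb3 w (hWY hw)
    intro k hk
    have h1 : k * w = w * k := hKW w hw k (hK₁K hk)
    have h2 : ⁅w, k⁆ = 1 := by
      rw [commutatorElement_def, ← h1]; group
    rw [h2]; exact (sqClosure Y).one_mem
  -- (b5) `B` is central in `Y`
  have hb5 : ∀ b ∈ sqClosure Y, ∀ y ∈ Y, b * y = y * b := by
    have h1 : ⁅⁅Y, sqClosure Y⁆, K₁⁆ = ⊥ := by
      rw [eq_bot_iff, ← hBK₁]
      apply commutator_mono _ le_rfl
      rw [commutator_le]
      intro y hy b hb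
      have h2 : y * b * y⁻¹ ∈ sqClosure Y := nzes_sqClosure (nzes_self Y) y hy b hb
      rw [commutatorElement_def]
      exact (sqClosure Y).mul_mem h2 ((sqClosure Y).inv_mem hb)
    have h2 : ⁅⁅sqClosure Y, K₁⁆, Y⁆ = ⊥ := by rw [hBK₁, commutator_bot_left]
    have h3 := commutator_commutator_eq_bot_of_rotate h1 h2
    rw [commutator_comm K₁ Y, hb1] at h3
    intro b hb y hy
    exact commute_of_commutator_eq_bot h3 hy hb
  -- (b6) commutators lie in `W`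
  have hb6 : ∀ x ∈ Y, ∀ y ∈ Y, ⁅x, y⁆ ∈ W := by
    intro x hx y hy
    apply hB.inv_mem
    have hc : ⁅x, y⁆ ∈ sqClosure Y := comm_mem_sqClosure hx hy
    have hcx : ⁅x, y⁆ * x = x * ⁅x, y⁆ := hb5 _ hc x hx
    have hsq : x ^ 2 * y = y * x ^ 2 := hb5 _ (sq_mem_sqClosure hx) y hy
    rw [commutatorElement_def] at hcx ⊢
    rw [pow_two] at hsq ⊢
    calc (x * y * x⁻¹ * y⁻¹) * (x * y * x⁻¹ * y⁻¹)
        = ((x * y * x⁻¹ * y⁻¹) * x) * (y * x⁻¹ * y⁻¹) := by group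
      _ = (x * (x * y * x⁻¹ * y⁻¹)) * (y * x⁻¹ * y⁻¹) := by rw [hcx]
      _ = (x * x * y) * x⁻¹ * x⁻¹ * y⁻¹ := by group
      _ = (y * (x * x)) * x⁻¹ * x⁻¹ * y⁻¹ := by rw [hsq]
      _ = 1 := by group
  -- (b7) `B` has exponent two
  have hBcomm : ∀ b ∈ sqClosure Y, ∀ b' ∈ sqClosure Y, b * b' = b' * b :=
    fun b hb b' hb' => hb5 b hb b' (hBlt.le hb')
  let B2 : Subgroup G :=
    { carrier := {g | ∃ b ∈ sqClosure Y, b ^ 2 = g}
      one_mem' := ⟨1, (sqClosure Y).one_mem, one_pow 2⟩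
      mul_mem' := by
        rintro _ _ ⟨b, hb, rfl⟩ ⟨b', hb', rfl⟩
        exact ⟨b * b', (sqClosure Y).mul_mem hb hb', (Commute.mul_pow (hBcomm b hb b' hb') 2)⟩
      inv_mem' := by
        rintro _ ⟨b, hb, rfl⟩
        exact ⟨b⁻¹, (sqClosure Y).inv_mem hb, inv_pow b 2⟩ }
  have hB2mem : ∀ g, g ∈ B2 ↔ ∃ b ∈ sqClosure Y, b ^ 2 = g := fun g => Iff.rfl
  have hB2Y : B2 ≤ Y := by
    rintro _ ⟨b, hb, rfl⟩
    exact Y.pow_mem (hBlt.le hb) 2
  have hB2N : ∀ g ∈ N, ∀ c ∈ B2, g * c * g⁻¹ ∈ B2 := by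
    rintro g hg _ ⟨b, hb, rfl⟩
    exact ⟨g * b * g⁻¹, nzes_sqClosure hNY g hg b hb, conj_pow⟩
  have hclaim : ¬ ∀ x ∈ Y, ∀ y ∈ Y, ⁅x, y⁆ ∈ B2 := by
    intro hall
    have hYB : Y ≤ sqClosure Y := by
      intro x hx
      apply hb3 x hx
      intro k hk
      -- `v = [x,k] = x * u⁻¹`, `u = k x k⁻¹`
      have hu : k * x * k⁻¹ ∈ Y := hK₁Y k hk x hx
      have hui : (k * x * k⁻¹)⁻¹ ∈ Y := Y.inv_mem hu
      have hv : ⁅x, k⁆ = x * (k * x * k⁻¹)⁻¹ := by rw [commutatorElement_def]; group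
      have hvY : ⁅x, k⁆ ∈ Y := by rw [hv]; exact Y.mul_mem hx hui
      have hu2 : (k * x * k⁻¹) ^ 2 = x ^ 2 := by
        rw [conj_pow]
        have := hBcentK (x ^ 2) (sq_mem_sqClosure hx) k hk
        calc k * x ^ 2 * k⁻¹ = x ^ 2 * k * k⁻¹ := by rw [this]
          _ = x ^ 2 := by group
      -- `v² = [u⁻¹, x]`
      have hcc : ⁅(k * x * k⁻¹)⁻¹, x⁆ ∈ sqClosure Y := comm_mem_sqClosure hui hx
      have hccx : ⁅(k * x * k⁻¹)⁻¹, x⁆ * x = x * ⁅(k * x * k⁻¹)⁻¹, x⁆ := hb5 _ hcc x hx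
      have hv2 : ⁅x, k⁆ ^ 2 = ⁅(k * x * k⁻¹)⁻¹, x⁆ := by
        rw [hv]
        set u := k * x * k⁻¹ with hudef
        have e1 : (x * u⁻¹) ^ 2 = x * (u⁻¹ * x) * u⁻¹ := by rw [pow_two]; group
        have e2 : u⁻¹ * x = ⁅u⁻¹, x⁆ * x * u⁻¹ := by rw [commutatorElement_def]; group
        have e3 : u⁻¹ * u⁻¹ = (x ^ 2)⁻¹ := by rw [← hu2, pow_two]; group
        rw [e1, e2]
        calc x * (⁅u⁻¹, x⁆ * x * u⁻¹) * u⁻¹ = (x * ⁅u⁻¹, x⁆) * x * (u⁻¹ * u⁻¹) := by group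
          _ = (⁅u⁻¹, x⁆ * x) * x * (x ^ 2)⁻¹ := by rw [← hccx, e3]
          _ = ⁅u⁻¹, x⁆ := by rw [pow_two]; group
      obtain ⟨b, hb, hb2⟩ := hall _ hui x hx
      -- `(v b⁻¹)² = 1`
      have hvb : (⁅x, k⁆ * b⁻¹) ^ 2 = 1 := by
        have hcomm : Commute ⁅x, k⁆ b⁻¹ := by
          have := hb5 b⁻¹ ((sqClosure Y).inv_mem hb) _ hvY
          exact this.symm
        rw [hcomm.mul_pow, hv2, ← hb2, inv_pow, mul_inv_cancel]
      have h1 : ⁅x, k⁆ * b⁻¹ ∈ sqClosure Y := hWB (hB.inv_mem _ hvb)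
      have h2 := (sqClosure Y).mul_mem h1 hb
      rwa [inv_mul_cancel_right] at h2
    exact absurd (le_antisymm hBlt.le hYB) (ne_of_lt hBlt)
  have hWB2 : ∀ w ∈ W, w ∈ B2 → w = 1 := by
    intro w hw hwB2
    by_contra hw1
    apply hclaim
    intro x hx y hy
    have hc := hb6 x hx y hy
    by_cases hc1 : ⁅x, y⁆ = 1
    · rw [hc1]; exact B2.one_mem
    · obtain ⟨g, hg, hgw⟩ := hH.N_trans w hw _ hc hw1 hc1
      rw [← hgw]
      exact hB2N g hg w hwB2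
  have hB2bot : B2 = ⊥ := by
    by_contra hne
    obtain ⟨t, ht, ht1, ht2⟩ := exists_involution (hY2.to_le hB2Y) hne
    exact ht1 (hWB2 t (hB.inv_mem t ht2) ht)
  have hb7 : ∀ b ∈ sqClosure Y, b ^ 2 = 1 := by
    intro b hb
    have : b ^ 2 ∈ B2 := ⟨b, hb, rfl⟩
    rwa [hB2bot, mem_bot] at this
  have hBW : sqClosure Y = W := le_antisymm (fun b hb => hB.inv_mem b (hb7 b hb)) hWB
  rw [hBW] at hBlt hb3
  exact
    { inv_mem := hB.inv_mem
      W_exp := hB.W_exp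
      W_card := hB.W_card
      W_lt_Y := hBlt
      Y_two := hY2
      W_central := fun w hw y hy => hB.W_central w hw y (hYQ hy)
      sq_mem := fun y hy => by rw [← hBW]; exact sq_mem_sqClosure hy
      comm_mem := hb6
      N_W := fun g _ w hw => hB.W_normal.conj_mem w hw g
      N_Y := hNY
      N_K := hH.N_K₁
      N_E := hH.N_E
      N_trans := hH.N_trans
      K_odd := hK₁odd
      K_Y := hK₁Y
      K_W := fun k hk w hw => hKW w hw k (hK₁K hk)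
      K_fpf := hb3
      E_two := hH.E_two
      E_le_N := hH.E_le_N
      E_W := hH.E_W
      K_comm := hH.K_comm
      Q₀_le := hH.Q₀_le
      Q₀_K := fun q hq k hk => hH.Q₀_K q hq k (hK₁K hk)
      E_sq := hH.E_sq
      E_comm := hH.E_comm }

end Cfsg.Agent.Helper77.TH1
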