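import Mathlib
import Cfsg.Agent.Lib.Helper43.Tri.Rel

/-!
# TRI (TAU) for helper43's S0817 server: the triality homomorphism on `PΩ⁺₈`
-/

set_option autoImplicit false
set_option linter.unusedSectionVars false

namespace Cfsg.Agent.Helper77.Tri

open Matrix QuadraticMap Cfsg.Agent.Helper13 Cfsg.Agent.Helper43 Cfsg.Agent.Helper5.OAut Module
open Cfsg.Agent.Helper43.Tri Cfsg.Agent.Helper43.OGam

variable {F : Type*} [Field F]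

/-- two elements of `Ω` differing by a scalar have the same image in `PΩ` -/
theorem tau_prj_eq_of_scalar {a b : ↥(Cfsg.Omega F ⇑(stdPlus F 4))} (c : F)
    (h : ∀ x : OV F, (b : O8 F) • x = c • ((a : O8 F) • x)) :
    prj (stdPlus F 4) a = prj (stdPlus F 4) b := by
  rw [prj_eq_iff, Subgroup.mem_center_iff]
  have hz : ∀ x : OV F, ((a : O8 F)⁻¹ * (b : O8 F)) • x = c • x := by
    intro x
    calc ((a : O8 F)⁻¹ * (b : O8 F)) • x = (a : O8 F)⁻¹ • ((b : O8 F) • x) := mul_smul _ _ _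
      _ = (a : O8 F)⁻¹ • (c • ((a : O8 F) • x)) := by rw [h x]
      _ = c • ((a : O8 F)⁻¹ • ((a : O8 F) • x)) :=
          O_smul_smul_comm (stdPlus F 4) (a : O8 F)⁻¹ c ((a : O8 F) • x)
      _ = c • x := by rw [inv_smul_smul]
  intro g
  apply Subtype.ext
  refine O_ext _ (fun x => ?_)
  show ((g : O8 F) * ((a : O8 F)⁻¹ * (b : O8 F))) • x =
    (((a : O8 F)⁻¹ * (b : O8 F)) * (g : O8 F)) • x
  calc ((g : O8 F) * ((a : O8 F)⁻¹ * (b : O8 F))) • x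
      = (g : O8 F) • (((a : O8 F)⁻¹ * (b : O8 F)) • x) := mul_smul _ _ _
    _ = (g : O8 F) • (c • x) := by rw [hz]
    _ = c • ((g : O8 F) • x) := O_smul_smul_comm (stdPlus F 4) (g : O8 F) c x
    _ = ((a : O8 F)⁻¹ * (b : O8 F)) • ((g : O8 F) • x) := (hz _).symm
    _ = (((a : O8 F)⁻¹ * (b : O8 F)) * (g : O8 F)) • x := (mul_smul _ _ _).symm

/-- (TAU) the triality homomorphism. -/
theorem exists_tau (C : Ctx (stdPlus F 4))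
    (hex : ∀ g₀ ∈ Cfsg.Omega F ⇑(stdPlus F 4), ∃ g₁ ∈ Cfsg.Omega F ⇑(stdPlus F 4),
      ∃ g₂ : O8 F, Rel g₀ g₁ g₂)
    (huniq : ∀ {g₀ g₁ g₂ g₁' g₂' : O8 F}, Rel g₀ g₁ g₂ → Rel g₀ g₁' g₂' →
      ∃ c : F, ∀ x : OV F, g₁' • x = c • (g₁ • x)) :
    ∃ τ : Cfsg.POmega F ⇑(stdPlus F 4) →* Cfsg.POmega F ⇑(stdPlus F 4),
      ∀ (g₀ g₁ : ↥(Cfsg.Omega F ⇑(stdPlus F 4))) (g₂ : O8 F),
        Rel (g₀ : O8 F) (g₁ : O8 F) g₂ → τ (prj (stdPlus F 4) g₀) = prj (stdPlus F 4) g₁ := by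
  classical
  have hex' : ∀ g₀ : ↥(Cfsg.Omega F ⇑(stdPlus F 4)),
      ∃ g₁ : ↥(Cfsg.Omega F ⇑(stdPlus F 4)), ∃ g₂ : O8 F, Rel (g₀ : O8 F) (g₁ : O8 F) g₂ := by
    intro g₀
    obtain ⟨g₁, hg₁, g₂, hrel⟩ := hex g₀ g₀.2
    exact ⟨⟨g₁, hg₁⟩, g₂, hrel⟩
  choose s hs using hex'
  have hprop : ∀ (g₀ g₁ : ↥(Cfsg.Omega F ⇑(stdPlus F 4))) (g₂ : O8 F),
      Rel (g₀ : O8 F) (g₁ : O8 F) g₂ → prj (stdPlus F 4) (s g₀) = prj (stdPlus F 4) g₁ := by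
    intro g₀ g₁ g₂ hrel
    obtain ⟨k₂, hk⟩ := hs g₀
    obtain ⟨c, hc⟩ := huniq hk hrel
    exact tau_prj_eq_of_scalar c hc
  let τ₀ : ↥(Cfsg.Omega F ⇑(stdPlus F 4)) →* Cfsg.POmega F ⇑(stdPlus F 4) :=
    MonoidHom.mk' (fun g₀ => prj (stdPlus F 4) (s g₀)) (by
      intro a b
      obtain ⟨a₂, ha⟩ := hs a
      obtain ⟨b₂, hb⟩ := hs b
      have hab : Rel ((a * b : ↥(Cfsg.Omega F ⇑(stdPlus F 4))) : O8 F)
          ((s a * s b : ↥(Cfsg.Omega F ⇑(stdPlus F 4))) : O8 F) (a₂ * b₂) := ha.mul hb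
      show prj (stdPlus F 4) (s (a * b)) = prj (stdPlus F 4) (s a) * prj (stdPlus F 4) (s b)
      rw [hprop (a * b) (s a * s b) (a₂ * b₂) hab, map_mul])
  have hτ₀ : ∀ g₀, τ₀ g₀ = prj (stdPlus F 4) (s g₀) := fun _ => rfl
  have hker : Subgroup.center ↥(Cfsg.Omega F ⇑(stdPlus F 4)) ≤ τ₀.ker := by
    intro z hz
    rw [MonoidHom.mem_ker, hτ₀]
    obtain ⟨c₀, hc₀⟩ := C.hcen z hz
    have hrel : Rel (z : O8 F) ((1 : ↥(Cfsg.Omega F ⇑(stdPlus F 4))) : O8 F) (z : O8 F) := by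
      intro x y
      show (z : O8 F) • omul x y = omul ((1 : O8 F) • x) ((z : O8 F) • y)
      rw [one_smul]
      have h1 : (z : O8 F) • omul x y = c₀ • omul x y := hc₀ _
      have h2 : (z : O8 F) • y = c₀ • y := hc₀ _
      rw [h1, h2, omul_smul_right]
    rw [hprop z 1 z hrel, map_one]
  refine ⟨QuotientGroup.lift (Subgroup.center ↥(Cfsg.Omega F ⇑(stdPlus F 4))) τ₀ hker, ?_⟩
  intro g₀ g₁ g₂ hrel
  have e : prj (stdPlus F 4) g₀ =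
      (QuotientGroup.mk g₀ :
        ↥(Cfsg.Omega F ⇑(stdPlus F 4)) ⧸ Subgroup.center ↥(Cfsg.Omega F ⇑(stdPlus F 4))) := rfl
  rw [e, QuotientGroup.lift_mk, hτ₀]
  exact hprop g₀ g₁ g₂ hrel

end Cfsg.Agent.Helper77.Tri
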