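import Mathlib
import Cfsg.Agent.Lib.Helper73.W44Defs
import Cfsg.Agent.Lib.Helper97.FXDefs2

/-! W44 server (helper73, S4414): piece (DC) `fixS_baseRep_eq_bot` + `fixS_baseRep_invariant`. -/

set_option autoImplicit false

namespace Cfsg.Agent.Helper77.W44

open Cfsg.Agent.Helper73.W44

open scoped TensorProduct

section descent
open Cfsg.Agent.Helper97.FX
variable {k : Type*} [Field k] {L : Type*} [Field L] [Algebra k L] {G : Type*} [Group G]
variable {E : Type*} [AddCommGroup E] [Module k E]

/-- **(DC1)** (from the conclusion of DA as a hypothesis) -/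
theorem fixS_baseRep_eq_bot (ρ : G →* Module.End k E) (P : Subgroup G)
    (hDA : fixS (baseRep L ρ) P ≤
      Submodule.span L ((fun e : E => (1 : L) ⊗ₜ[k] e) '' (fixS ρ P : Set E)))
    (h0 : fixS ρ P = ⊥) : fixS (baseRep L ρ) P = ⊥ := by
  rw [eq_bot_iff]
  refine hDA.trans ?_
  rw [Submodule.span_le]
  rintro _ ⟨e, he, rfl⟩
  rw [h0] at he
  have he0 : e = 0 := by simpa using he
  subst he0
  simp

/-- **(DC2)** (from the conclusion of DA as a hypothesis) invariance of the fixed space under an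
element descends -/
theorem fixS_baseRep_invariant (ρ : G →* Module.End k E) (P : Subgroup G)
    (hDA : fixS (baseRep L ρ) P ≤
      Submodule.span L ((fun e : E => (1 : L) ⊗ₜ[k] e) '' (fixS ρ P : Set E)))
    (x : G) (hx : ∀ e ∈ fixS ρ P, ρ x e ∈ fixS ρ P) :
    ∀ v ∈ fixS (baseRep L ρ) P, baseRep L ρ x v ∈ fixS (baseRep L ρ) P := by
  intro v hv
  have hv' := hDA hv
  have hle : Submodule.span L ((fun e : E => (1 : L) ⊗ₜ[k] e) '' (fixS ρ P : Set E)) ≤
      (fixS (baseRep L ρ) P).comap (baseRep L ρ x) := by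
    rw [Submodule.span_le]
    rintro _ ⟨e, he, rfl⟩
    show baseRep L ρ x ((1 : L) ⊗ₜ[k] e) ∈ fixS (baseRep L ρ) P
    rw [baseRep_apply, LinearMap.baseChange_tmul, mem_fixS]
    intro s hs
    rw [baseRep_apply, LinearMap.baseChange_tmul]
    have := hx e he
    rw [mem_fixS] at this
    rw [this s hs]
  exact hle hv'

end descent

end Cfsg.Agent.Helper77.W44
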