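import Mathlib
import Cfsg.Agent.Lib.Helper73.W44Defs

/-! W44 server (helper73, S4414): piece (WM) `map_wt`. -/

set_option autoImplicit false

namespace Cfsg.Agent.Helper77.W44

open Cfsg.Agent.Helper73.W44

section weights
variable {k : Type*} [Field k] {G : Type*} [Group G] {V : Type*} [AddCommGroup V] [Module k V]

/-- **(WM)** `ρ g` maps the weight space of `χ` onto that of `g • χ` -/
theorem map_wt (ρ : G →* Module.End k V) (K : Subgroup G) [K.Normal] (g : G) (χ : Wt K k) :
    (wt ρ K χ).map (ρ g) = wt ρ K (g • χ) := by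
  ext w
  rw [Submodule.mem_map, mem_wt]
  constructor
  · rintro ⟨v, hv, rfl⟩ n
    rw [mem_wt] at hv
    have h1 := hv (MulAut.conjNormal g⁻¹ n)
    have e : (n : G) * g = g * ((MulAut.conjNormal g⁻¹ n : K) : G) := by
      rw [MulAut.conjNormal_apply]; group
    rw [← Module.End.mul_apply, ← map_mul, e, map_mul, Module.End.mul_apply, h1, map_smul,
      Wt.smul_apply]
  · intro hw
    refine ⟨ρ g⁻¹ w, ?_, ?_⟩
    · rw [mem_wt]
      intro n
      have h1 := hw (MulAut.conjNormal g n)
      have e1 : (g • χ) (MulAut.conjNormal g n) = χ n := by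
        rw [Wt.smul_apply]
        congr 1
        apply Subtype.ext
        rw [MulAut.conjNormal_apply, MulAut.conjNormal_apply]
        group
      rw [e1] at h1
      have e : (n : G) * g⁻¹ = g⁻¹ * ((MulAut.conjNormal g n : K) : G) := by
        rw [MulAut.conjNormal_apply]; group
      rw [← Module.End.mul_apply, ← map_mul, e, map_mul, Module.End.mul_apply, h1, map_smul]
    · rw [← Module.End.mul_apply, ← map_mul, mul_inv_cancel, map_one, Module.End.one_apply]

end weights

end Cfsg.Agent.Helper77.W44
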