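import Mathlib
import Cfsg.Prelude.Def_OddOrderLocal
import Cfsg.Agent.Lib.Helper98.TIHDefs

/-!
# ZTI (B4a) for helper98's S4151 server
-/

set_option autoImplicit false

namespace Cfsg.Agent.Helper77.ZTI

universe u

/-- (B4a) `⁅k, q⁆ = k q k⁻¹ q⁻¹` centralizes `P`, so `K = ⁅K, Q⁆ ≤ centralizer P`. -/
theorem le_centralizer_of_normal_of_comm {G : Type u} [Group G] (K Q P : Subgroup G)
    (hKP : K ≤ Subgroup.normalizer (P : Set G)) (hPQ : P ≤ Subgroup.centralizer (Q : Set G))
    (hKQ : ⁅K, Q⁆ = K) : K ≤ Subgroup.centralizer (P : Set G) := by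
  have key : ⁅K, Q⁆ ≤ Subgroup.centralizer (P : Set G) := by
    rw [Subgroup.commutator_le]
    intro k hk q hq
    rw [Subgroup.mem_centralizer_iff]
    intro y hy
    have hy' : k⁻¹ * y * k ∈ P := by
      have hk' : k⁻¹ ∈ Subgroup.normalizer (P : Set G) := inv_mem (hKP hk)
      have := (Subgroup.mem_normalizer_iff.1 hk' y).1 hy
      simpa using this
    have h1 : Commute q y := by
      have := Subgroup.mem_centralizer_iff.1 (hPQ hy) q hq
      exact this
    have h2 : Commute q (k⁻¹ * y * k) := by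
      have := Subgroup.mem_centralizer_iff.1 (hPQ hy') q hq
      exact this
    have h3 : Commute q⁻¹ y := h1.inv_left
    rw [commutatorElement_def]
    calc y * (k * q * k⁻¹ * q⁻¹) = k * ((k⁻¹ * y * k) * q) * k⁻¹ * q⁻¹ := by group
      _ = k * (q * (k⁻¹ * y * k)) * k⁻¹ * q⁻¹ := by rw [h2.eq]
      _ = k * q * k⁻¹ * (y * q⁻¹) := by group
      _ = k * q * k⁻¹ * (q⁻¹ * y) := by rw [h3.eq]
      _ = k * q * k⁻¹ * q⁻¹ * y := by group
  rw [hKQ] at key
  exact key

end Cfsg.Agent.Helper77.ZTI
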