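import Mathlib
import Cfsg.Prelude.Def_OddOrderLocal
import Cfsg.Agent.Lib.Helper98.TIHDefs

/-!
# ZTI (C1) for helper98's S4151 server
-/

set_option autoImplicit false

namespace Cfsg.Agent.Helper77.ZTI

universe u

/-- (C1) `|A ⊔ B|` divides `|A| |B|` when `B` normalizes `A`. -/
theorem card_sup_dvd_mul {G : Type u} [Group G] [Finite G] (A B : Subgroup G)
    (hB : B ≤ Subgroup.normalizer (A : Set G)) :
    Nat.card (A ⊔ B : Subgroup G) ∣ Nat.card A * Nat.card B := by
  classical
  set N : Subgroup G := Subgroup.normalizer (A : Set G) with hN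
  have hAN : A ≤ N := Subgroup.le_normalizer
  have hsupN : A ⊔ B ≤ N := sup_le hAN hB
  let A' : Subgroup N := A.subgroupOf N
  let B' : Subgroup N := B.subgroupOf N
  have hnorm : A'.Normal := Subgroup.normal_in_normalizer
  have h1 : A'.relIndex (A' ⊔ B') = A'.relIndex B' := Subgroup.relIndex_sup_left B' A'
  have h2 : A'.relIndex B' ∣ Nat.card B' := Subgroup.relIndex_dvd_card A' B'
  have h3 : (⊥ : Subgroup N).relIndex A' * A'.relIndex (A' ⊔ B') =
      (⊥ : Subgroup N).relIndex (A' ⊔ B') :=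
    Subgroup.relIndex_mul_relIndex ⊥ A' (A' ⊔ B') bot_le le_sup_left
  rw [Subgroup.relIndex_bot_left, Subgroup.relIndex_bot_left] at h3
  have hcA : Nat.card A' = Nat.card A := Nat.card_congr (Subgroup.subgroupOfEquivOfLe hAN).toEquiv
  have hcB : Nat.card B' = Nat.card B := Nat.card_congr (Subgroup.subgroupOfEquivOfLe hB).toEquiv
  have hsup : A' ⊔ B' = (A ⊔ B).subgroupOf N := by
    rw [Subgroup.subgroupOf_sup hAN hB]
  have hcS : Nat.card (A' ⊔ B' : Subgroup N) = Nat.card (A ⊔ B : Subgroup G) := by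
    rw [hsup]
    exact Nat.card_congr (Subgroup.subgroupOfEquivOfLe hsupN).toEquiv
  rw [← hcS, ← h3, h1, hcA]
  exact Nat.mul_dvd_mul_left _ (hcB ▸ h2)

end Cfsg.Agent.Helper77.ZTI
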